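import Mathlib.RingTheory.Smooth.Fiber
import Mathlib.RingTheory.Unramified.LocalRing
import Mathlib.RingTheory.Etale.Locus
import Mathlib.RingTheory.Flat.Localization
import Mathlib.RingTheory.Smooth.Flat
import Mathlib.RingTheory.FinitePresentation

/-!
Etaleness at a prime from unramifiedness and flatness of the local map.
-/

set_option autoImplicit false
universe u

open TensorProduct

namespace Groth.Agent.Hens22

variable {A B : Type u} [CommRing A] [CommRing B] [Algebra A B]
  (p : Ideal A) [p.IsPrime] (q : Ideal B) [q.IsPrime] [q.LiesOver p]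
  [Algebra (Localization.AtPrime p) (Localization.AtPrime q)]
  [Localization.AtPrime.IsLiesOverAlgebra p q]

attribute [local instance] Algebra.FormallyEtale.of_formallyUnramified_of_field in
/-- Unramified at `q` with flat local map implies etale at `q`. -/
theorem isEtaleAt_of_isUnramifiedAt_of_flat_localization [Algebra.FinitePresentation A B]
    [Algebra.IsUnramifiedAt A q] [Module.Flat (Localization.AtPrime p) (Localization.AtPrime q)] :
    Algebra.IsEtaleAt A q := by
  let Rp := Localization.AtPrime p
  let Sp := Localization (Algebra.algebraMapSubmonoid B p.primeCompl)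
  let Sq := Localization.AtPrime q
  let f : Sp →ₐ[B] Sq := IsLocalization.liftAlgHom (M := Algebra.algebraMapSubmonoid B p.primeCompl)
        (f := Algebra.ofId _ _) (by
      rintro ⟨_, x, hx, rfl⟩
      simpa using! IsLocalization.map_units (M := q.primeCompl) Sq ⟨algebraMap _ _ x,
        by simp_all [q.over_def p]⟩)
  algebraize [f.toRingHom]
  have : IsScalarTower A Sp Sq := .to₁₃₄ _ B _ _
  have : IsScalarTower Rp Sp Sq := .of_algebraMap_eq' <| by
    apply IsLocalization.ringHom_ext p.primeCompl
    simp only [RingHom.comp_assoc, ← IsScalarTower.algebraMap_eq]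
  have : IsLocalization (Algebra.algebraMapSubmonoid Sp q.primeCompl) Sq :=
    .isLocalization_of_submonoid_le _ _ (Algebra.algebraMapSubmonoid B p.primeCompl) _
    (by rintro _ ⟨x, hx, rfl⟩; simp_all [q.over_def p])
  have : Algebra.FinitePresentation Rp Sp := by
    have : Algebra.IsPushout A Rp B Sp :=
      .symm <| Algebra.isPushout_of_isLocalization p.primeCompl _ _ _
    exact .equiv (Algebra.IsPushout.equiv A Rp B Sp)
  have hu : Algebra.FormallyUnramified Rp Sq := Algebra.FormallyUnramified.of_restrictScalars A _ _
  have : Algebra.EssFiniteType Rp Sq := .of_comp A _ _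
  have : IsLocalHom (algebraMap Rp Sq) := by
    rw [Localization.AtPrime.IsLiesOverAlgebra.algebraMap_eq]
    exact Localization.isLocalHom_localRingHom _ _ _ _
  let k := IsLocalRing.ResidueField Rp
  have : Algebra.FormallyUnramified k (k ⊗[Rp] Sq) := inferInstance
  have : Algebra.EssFiniteType k (k ⊗[Rp] Sq) := inferInstance
  have : Algebra.FormallyEtale k (k ⊗[Rp] Sq) := inferInstance
  have hs : Algebra.FormallySmooth Rp Sq :=
    Algebra.FormallySmooth.of_formallySmooth_residueField_tensor (R := Rp) (S := Sq) (P := Sp)
      (Algebra.algebraMapSubmonoid Sp q.primeCompl)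
  have : Algebra.FormallySmooth A Rp := .of_isLocalization p.primeCompl
  have : Algebra.FormallySmooth A Sq := .comp A Rp Sq
  exact Algebra.FormallyEtale.of_formallyUnramified_and_formallySmooth

/-- An algebra etale at `q` has flat local map. -/
theorem flat_of_isEtaleAt [IsNoetherianRing A] [Algebra.FinitePresentation A B]
    [Algebra.IsEtaleAt A q] : Module.Flat (Localization.AtPrime p) (Localization.AtPrime q) := by
  obtain ⟨f, hf, hfe⟩ := Algebra.exists_etale_of_isEtaleAt (R := A) q
  have : Module.Flat A (Localization.Away f) := Algebra.Smooth.flat_of_isNoetherianRing A _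
  let g : Localization.Away f →ₐ[B] Localization.AtPrime q :=
    IsLocalization.liftAlgHom (M := Submonoid.powers f) (f := Algebra.ofId _ _) (by
      rintro ⟨_, n, rfl⟩
      exact IsLocalization.map_units (Localization.AtPrime q)
        (⟨f ^ n, fun h => hf (‹q.IsPrime›.mem_of_pow_mem n h)⟩ : q.primeCompl))
  algebraize [g.toRingHom]
  have : IsScalarTower A (Localization.Away f) (Localization.AtPrime q) := .to₁₃₄ _ B _ _
  have : IsLocalization (Algebra.algebraMapSubmonoid (Localization.Away f) q.primeCompl)
      (Localization.AtPrime q) :=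
    .isLocalization_of_submonoid_le _ _ (Submonoid.powers f) _
      (by rintro _ ⟨n, rfl⟩; exact fun h => hf (‹q.IsPrime›.mem_of_pow_mem n h))
  have : Module.Flat (Localization.Away f) (Localization.AtPrime q) :=
    IsLocalization.flat _ (Algebra.algebraMapSubmonoid (Localization.Away f) q.primeCompl)
  have : Module.Flat A (Localization.AtPrime q) := Module.Flat.trans A (Localization.Away f) _
  rw [Module.flat_iff_of_isLocalization (Localization.AtPrime p) p.primeCompl]
  exact this

/-- The local criterion for etaleness. -/
theorem isEtaleAt_iff [IsNoetherianRing A] [Algebra.FiniteType A B] :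
    Algebra.IsEtaleAt A q ↔
      Module.Flat (Localization.AtPrime p) (Localization.AtPrime q) ∧
        p.map (algebraMap A (Localization.AtPrime q)) = IsLocalRing.maximalIdeal (Localization.AtPrime q) ∧
        Module.Finite p.ResidueField q.ResidueField ∧
        Algebra.IsSeparable p.ResidueField q.ResidueField := by
  have : Algebra.FinitePresentation A B :=
    Algebra.FinitePresentation.of_finiteType.1 inferInstance
  constructor
  · intro h
    have : Algebra.IsUnramifiedAt A q := inferInstanceAs (Algebra.FormallyUnramified A _)
    obtain ⟨h1, h2⟩ := (Algebra.isUnramifiedAt_iff_map_eq A p q).1 this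
    exact ⟨flat_of_isEtaleAt p q, h2, inferInstance, h1⟩
  · rintro ⟨hflat, hmap, -, hsep⟩
    have : Algebra.IsUnramifiedAt A q := (Algebra.isUnramifiedAt_iff_map_eq A p q).2 ⟨hsep, hmap⟩
    exact isEtaleAt_of_isUnramifiedAt_of_flat_localization p q

end Groth.Agent.Hens22
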