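import Groth.Agent.Hens22.EtaleAt
import Mathlib.AlgebraicGeometry.Morphisms.Etale
import Mathlib.AlgebraicGeometry.Morphisms.Flat
import Mathlib.RingTheory.RingHom.EssFiniteType

/-!
Unramified and etale morphisms near a point, in terms of the local homomorphism.
-/

set_option autoImplicit false
universe u

open CategoryTheory AlgebraicGeometry

noncomputable section

namespace Groth.Agent.Hens22

variable {X Y : Scheme.{u}} (f : X ⟶ Y) (x : X)

/-- The condition on the local homomorphism. -/
theorem formallyUnramified_stalkMap_iff [LocallyOfFiniteType f] :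
    (f.stalkMap x).hom.FormallyUnramified ↔
      ((IsLocalRing.maximalIdeal (Y.presheaf.stalk (f.base x))).map (f.stalkMap x).hom =
          IsLocalRing.maximalIdeal (X.presheaf.stalk x) ∧
        letI := (f.residueFieldMap x).hom.toAlgebra
        Module.Finite (Y.residueField (f.base x)) (X.residueField x) ∧
          Algebra.IsSeparable (Y.residueField (f.base x)) (X.residueField x)) := by
  let R := Y.presheaf.stalk (f.base x)
  let S := X.presheaf.stalk x
  let _ : Algebra R S := (f.stalkMap x).hom.toAlgebra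
  have : IsLocalHom (algebraMap R S) := inferInstanceAs (IsLocalHom (f.stalkMap x).hom)
  have : Algebra.EssFiniteType R S := by
    rw [← RingHom.essFiniteType_algebraMap, RingHom.algebraMap_toAlgebra]
    exact LocallyOfFiniteType.stalkMap f x
  have halg : (IsLocalRing.ResidueField.map (algebraMap R S)).toAlgebra =
      (IsLocalRing.ResidueField.instAlgebra : Algebra (IsLocalRing.ResidueField R) (IsLocalRing.ResidueField S)) := by
    refine Algebra.algebra_ext _ _ fun z => ?_
    obtain ⟨z, rfl⟩ := IsLocalRing.residue_surjective z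
    rfl
  show (algebraMap R S).FormallyUnramified ↔ _
  rw [RingHom.formallyUnramified_algebraMap]
  constructor
  · intro h
    obtain ⟨h1, h2⟩ := Algebra.FormallyUnramified.iff_map_maximalIdeal_eq.1 h
    refine ⟨h2, ?_⟩
    show @Module.Finite (IsLocalRing.ResidueField R) (IsLocalRing.ResidueField S) _ _
        (IsLocalRing.ResidueField.map (algebraMap R S)).toAlgebra.toModule ∧
      @Algebra.IsSeparable (IsLocalRing.ResidueField R) (IsLocalRing.ResidueField S) _ _
        (IsLocalRing.ResidueField.map (algebraMap R S)).toAlgebra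
    rw [halg]
    exact ⟨inferInstance, h1⟩
  · rintro ⟨h2, h3⟩
    have h4 : @Module.Finite (IsLocalRing.ResidueField R) (IsLocalRing.ResidueField S) _ _
        (IsLocalRing.ResidueField.map (algebraMap R S)).toAlgebra.toModule ∧
      @Algebra.IsSeparable (IsLocalRing.ResidueField R) (IsLocalRing.ResidueField S) _ _
        (IsLocalRing.ResidueField.map (algebraMap R S)).toAlgebra := h3
    rw [halg] at h4
    exact Algebra.FormallyUnramified.iff_map_maximalIdeal_eq.2 ⟨h4.2, h2⟩

/-- Restriction to an open does not change the stalk map. -/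
theorem stalkMap_of_restrict {Q : ∀ {R S : Type u} [CommRing R] [CommRing S], (R →+* S) → Prop}
    (hQ : RingHom.RespectsIso Q) (U : X.Opens) (z : U.toScheme)
    (h : Q ((U.ι ≫ f).stalkMap z).hom) : Q (f.stalkMap (U.ι z)).hom := by
  simp only [Scheme.Hom.stalkMap_comp] at h
  exact (hQ.cancel_right_isIso _ _).1 h

/-- An affine neighbourhood on which the ring map has a property. -/
theorem exists_restrict_of_appLE {P : MorphismProperty Scheme.{u}}
    {Q : ∀ {R S : Type u} [CommRing R] [CommRing S], (R →+* S) → Prop} [HasRingHomProperty P Q]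
    [P.IsMultiplicative] (hopen : ∀ {Z W : Scheme.{u}} (i : Z ⟶ W) [IsOpenImmersion i], P i)
    {V : Y.Opens} (hV : IsAffineOpen V) {D : X.Opens} (hD : IsAffineOpen D) (e : D ≤ f ⁻¹ᵁ V)
    (h : Q (f.appLE V D e).hom) : P (D.ι ≫ f) := by
  rw [← Scheme.Hom.resLE_comp_ι f e]
  refine P.comp_mem _ _ ?_ (hopen _)
  have : IsAffine D.toScheme := hD
  have : IsAffine V.toScheme := hV
  rw [HasRingHomProperty.iff_of_isAffine (P := P)]
  have : (RingHom.toMorphismProperty Q).RespectsIso :=
    RingHom.toMorphismProperty_respectsIso_iff.mp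
      (HasRingHomProperty.isLocal_ringHomProperty P).respectsIso
  exact (MorphismProperty.arrow_mk_iso_iff (RingHom.toMorphismProperty Q)
    (arrowResLEAppIso f V D e)).mpr h

/-- Common chart data. -/
theorem exists_chart [LocallyOfFiniteType f] : ∃ (V : Y.Opens) (_ : IsAffineOpen V) (W : X.Opens)
    (_ : IsAffineOpen W) (e : W ≤ f ⁻¹ᵁ V) (hx : x ∈ W),
    (f.appLE V W e).hom.FiniteType ∧
      (X.presheaf.germ W x hx).hom.comp (f.appLE V W e).hom =
        (f.stalkMap x).hom.comp (Y.presheaf.germ V (f.base x) (e hx)).hom := by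
  obtain ⟨_, ⟨V, hV, rfl⟩, hfx, -⟩ := Y.isBasis_affineOpens.exists_subset_of_mem_open
    (Set.mem_univ (f.base x)) isOpen_univ
  obtain ⟨_, ⟨W, hW, rfl⟩, hx, e⟩ := X.isBasis_affineOpens.exists_subset_of_mem_open
    (show x ∈ f ⁻¹ᵁ V from hfx) (f ⁻¹ᵁ V).2
  refine ⟨V, hV, W, hW, e, hx, HasRingHomProperty.appLE @LocallyOfFiniteType f inferInstance
    ⟨V, hV⟩ ⟨W, hW⟩ e, RingHom.ext fun a => ?_⟩
  show X.presheaf.germ W x hx (f.appLE V W e a) = f.stalkMap x (Y.presheaf.germ V (f.base x) (e hx) a)
  erw [Scheme.Hom.germ_stalkMap_apply]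
  exact TopCat.Presheaf.germ_res_apply X.presheaf (homOfLE e) x hx (f.app V a)

/-- Unramified near `x` from the stalk. -/
theorem exists_formallyUnramified_of_stalkMap [LocallyOfFiniteType f]
    (h : (f.stalkMap x).hom.FormallyUnramified) :
    ∃ U : X.Opens, x ∈ U ∧ FormallyUnramified (U.ι ≫ f) := by
  obtain ⟨V, hV, W, hW, e, hx, hft, hcomm⟩ := exists_chart f x
  let A := Γ(Y, V)
  let B := Γ(X, W)
  let _ : Algebra A B := (f.appLE V W e).hom.toAlgebra
  have : Algebra.FiniteType A B := hft
  let q := (hW.primeIdealOf ⟨x, hx⟩).asIdeal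
  let _ : Algebra B (X.presheaf.stalk x) := TopCat.Presheaf.algebra_section_stalk X.presheaf ⟨x, hx⟩
  have : IsLocalization.AtPrime (X.presheaf.stalk x) q := hW.isLocalization_stalk ⟨x, hx⟩
  let _ : Algebra A (X.presheaf.stalk x) := ((algebraMap B _).comp (algebraMap A B)).toAlgebra
  have : IsScalarTower A B (X.presheaf.stalk x) := IsScalarTower.of_algebraMap_eq fun _ => rfl
  let _ : Algebra A (Y.presheaf.stalk (f.base x)) :=
    TopCat.Presheaf.algebra_section_stalk Y.presheaf ⟨f.base x, e hx⟩
  have : IsLocalization.AtPrime (Y.presheaf.stalk (f.base x)) (hV.primeIdealOf ⟨f.base x, e hx⟩).asIdeal :=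
    hV.isLocalization_stalk ⟨f.base x, e hx⟩
  let _ : Algebra (Y.presheaf.stalk (f.base x)) (X.presheaf.stalk x) := (f.stalkMap x).hom.toAlgebra
  have : IsScalarTower A (Y.presheaf.stalk (f.base x)) (X.presheaf.stalk x) :=
    IsScalarTower.of_algebraMap_eq fun a => RingHom.congr_fun hcomm a
  have : Algebra.FormallyUnramified A (Y.presheaf.stalk (f.base x)) :=
    .of_isLocalization (hV.primeIdealOf ⟨f.base x, e hx⟩).asIdeal.primeCompl
  have : Algebra.FormallyUnramified (Y.presheaf.stalk (f.base x)) (X.presheaf.stalk x) := h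
  have : Algebra.FormallyUnramified A (X.presheaf.stalk x) :=
    .comp A (Y.presheaf.stalk (f.base x)) _
  have : Algebra.IsUnramifiedAt A q := Algebra.FormallyUnramified.of_equiv
    ((IsLocalization.algEquiv q.primeCompl (X.presheaf.stalk x) (Localization.AtPrime q)).restrictScalars A)
  obtain ⟨g, hg, hgu⟩ := Algebra.exists_formallyUnramified_of_isUnramifiedAt (R := A) q
  have hgD : x ∈ X.basicOpen g := by
    rw [Scheme.mem_basicOpen _ _ _ hx]
    exact IsLocalization.map_units (X.presheaf.stalk x) (⟨g, hg⟩ : q.primeCompl)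
  have hDW : X.basicOpen g ≤ W := X.basicOpen_le g
  refine ⟨X.basicOpen g, hgD, exists_restrict_of_appLE (P := @FormallyUnramified) f
    (fun i _ => inferInstance) hV (hW.basicOpen g) (hDW.trans e) ?_⟩
  have := hW.isLocalization_basicOpen g
  let _ : Algebra A Γ(X, X.basicOpen g) := ((algebraMap B _).comp (algebraMap A B)).toAlgebra
  have : IsScalarTower A B Γ(X, X.basicOpen g) := IsScalarTower.of_algebraMap_eq fun _ => rfl
  have hD : Algebra.FormallyUnramified A Γ(X, X.basicOpen g) := Algebra.FormallyUnramified.of_equiv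
    ((IsLocalization.algEquiv (Submonoid.powers g) (Localization.Away g) Γ(X, X.basicOpen g)).restrictScalars A)
  rw [← f.appLE_map e (homOfLE hDW).op]
  exact (RingHom.formallyUnramified_algebraMap (R := A) (S := Γ(X, X.basicOpen g))).2 hD

/-- Etale near `x` from the stalk. -/
theorem exists_etale_of_stalkMap [LocallyOfFiniteType f] [IsLocallyNoetherian Y]
    (h : (f.stalkMap x).hom.FormallyUnramified) (hflat : (f.stalkMap x).hom.Flat) :
    ∃ U : X.Opens, x ∈ U ∧ Etale (U.ι ≫ f) := by
  obtain ⟨V, hV, W, hW, e, hx, hft, hcomm⟩ := exists_chart f x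
  let A := Γ(Y, V)
  let B := Γ(X, W)
  have : IsNoetherianRing A := IsLocallyNoetherian.component_noetherian ⟨V, hV⟩
  let _ : Algebra A B := (f.appLE V W e).hom.toAlgebra
  have : Algebra.FiniteType A B := hft
  have : Algebra.FinitePresentation A B := Algebra.FinitePresentation.of_finiteType.1 inferInstance
  let q := (hW.primeIdealOf ⟨x, hx⟩).asIdeal
  let _ : Algebra B (X.presheaf.stalk x) := TopCat.Presheaf.algebra_section_stalk X.presheaf ⟨x, hx⟩
  have : IsLocalization.AtPrime (X.presheaf.stalk x) q := hW.isLocalization_stalk ⟨x, hx⟩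
  let _ : Algebra A (X.presheaf.stalk x) := ((algebraMap B _).comp (algebraMap A B)).toAlgebra
  have : IsScalarTower A B (X.presheaf.stalk x) := IsScalarTower.of_algebraMap_eq fun _ => rfl
  let _ : Algebra A (Y.presheaf.stalk (f.base x)) :=
    TopCat.Presheaf.algebra_section_stalk Y.presheaf ⟨f.base x, e hx⟩
  have : IsLocalization.AtPrime (Y.presheaf.stalk (f.base x)) (hV.primeIdealOf ⟨f.base x, e hx⟩).asIdeal :=
    hV.isLocalization_stalk ⟨f.base x, e hx⟩
  let _ : Algebra (Y.presheaf.stalk (f.base x)) (X.presheaf.stalk x) := (f.stalkMap x).hom.toAlgebra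
  have : IsScalarTower A (Y.presheaf.stalk (f.base x)) (X.presheaf.stalk x) :=
    IsScalarTower.of_algebraMap_eq fun a => RingHom.congr_fun hcomm a
  have : Algebra.FormallyUnramified A (Y.presheaf.stalk (f.base x)) :=
    .of_isLocalization (hV.primeIdealOf ⟨f.base x, e hx⟩).asIdeal.primeCompl
  have : Algebra.FormallyUnramified (Y.presheaf.stalk (f.base x)) (X.presheaf.stalk x) := h
  have : Algebra.FormallyUnramified A (X.presheaf.stalk x) :=
    .comp A (Y.presheaf.stalk (f.base x)) _
  let eq := (IsLocalization.algEquiv q.primeCompl (X.presheaf.stalk x) (Localization.AtPrime q)).restrictScalars A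
  have : Algebra.IsUnramifiedAt A q := Algebra.FormallyUnramified.of_equiv eq
  have : Module.Flat A (Y.presheaf.stalk (f.base x)) :=
    IsLocalization.flat _ (hV.primeIdealOf ⟨f.base x, e hx⟩).asIdeal.primeCompl
  have : Module.Flat (Y.presheaf.stalk (f.base x)) (X.presheaf.stalk x) := hflat
  have : Module.Flat A (X.presheaf.stalk x) := Module.Flat.trans A (Y.presheaf.stalk (f.base x)) _
  have : Module.Flat A (Localization.AtPrime q) := Module.Flat.of_linearEquiv eq.symm.toLinearEquiv
  let p := q.under A
  let _ := Localization.AtPrime.algebraOfLiesOver p q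
  have : Module.Flat (Localization.AtPrime p) (Localization.AtPrime q) := by
    rw [Module.flat_iff_of_isLocalization (Localization.AtPrime p) p.primeCompl]
    infer_instance
  have : Algebra.IsEtaleAt A q := isEtaleAt_of_isUnramifiedAt_of_flat_localization p q
  obtain ⟨g, hg, hge⟩ := Algebra.exists_etale_of_isEtaleAt (R := A) q
  have hgD : x ∈ X.basicOpen g := by
    rw [Scheme.mem_basicOpen _ _ _ hx]
    exact IsLocalization.map_units (X.presheaf.stalk x) (⟨g, hg⟩ : q.primeCompl)
  have hDW : X.basicOpen g ≤ W := X.basicOpen_le g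
  refine ⟨X.basicOpen g, hgD, exists_restrict_of_appLE (P := @Etale) f
    (fun i _ => inferInstance) hV (hW.basicOpen g) (hDW.trans e) ?_⟩
  have := hW.isLocalization_basicOpen g
  let _ : Algebra A Γ(X, X.basicOpen g) := ((algebraMap B _).comp (algebraMap A B)).toAlgebra
  have : IsScalarTower A B Γ(X, X.basicOpen g) := IsScalarTower.of_algebraMap_eq fun _ => rfl
  have hD : Algebra.Etale A Γ(X, X.basicOpen g) := Algebra.Etale.of_equiv
    ((IsLocalization.algEquiv (Submonoid.powers g) (Localization.Away g) Γ(X, X.basicOpen g)).restrictScalars A)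
  rw [← f.appLE_map e (homOfLE hDW).op]
  exact (RingHom.etale_algebraMap (R := A) (S := Γ(X, X.basicOpen g))).2 hD

end Groth.Agent.Hens22
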