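import Groth.Agent.Hens22.FactorLift
import Mathlib.RingTheory.Ideal.GoingUp
import Mathlib.RingTheory.Idempotents
import Mathlib.RingTheory.Adjoin.FG
import Mathlib.RingTheory.IntegralClosure.IsIntegral.Basic
import Mathlib.LinearAlgebra.Matrix.Charpoly.LinearMap

/-!
In a henselian pair idempotents lift uniquely for integral algebras.
-/

set_option autoImplicit false
universe u

open Polynomial

namespace Groth.Agent.Hens22

variable {A : Type u} [CommRing A]

/-- The radical condition passes to integral algebras. -/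
theorem map_le_jacobson_of_isIntegral {I : Ideal A} (hI : I ≤ Ideal.jacobson ⊥) (B : Type*)
    [CommRing B] [Algebra A B] [Algebra.IsIntegral A B] :
    I.map (algebraMap A B) ≤ Ideal.jacobson ⊥ := by
  refine le_sInf ?_
  rintro m ⟨-, hm⟩
  rw [Ideal.map_le_iff_le_comap]
  exact hI.trans (sInf_le ⟨bot_le, Ideal.isMaximal_comap_of_isIntegral_of_isMaximal (I := m)⟩)

/-- Idempotents congruent modulo an ideal in the radical are equal. -/
theorem eq_of_idempotent_of_sub_mem_jacobson {B : Type*} [CommRing B] {e e' : B}
    (he : IsIdempotentElem e) (he' : IsIdempotentElem e')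
    (h : e - e' ∈ Ideal.jacobson (⊥ : Ideal B)) : e = e' := by
  have h3 : (e - e') * (1 - (e - e') * (e - e')) = 0 := by
    have h1 : e * e = e := he
    have h2 : e' * e' = e' := he'
    linear_combination (-(e + 1) + 3 * e') * h1 + ((e' + 1) - 3 * e) * h2
  have hu : IsUnit (1 - (e - e') * (e - e')) := by
    have := Ideal.mem_jacobson_bot.1 h (-(e - e'))
    convert this using 1
    ring
  exact sub_eq_zero.1 ((hu.mul_left_eq_zero).1 h3)

/-- Idempotents lift along a henselian ideal in integral algebras. -/
theorem exists_idempotent_lift (I : Ideal A) [HenselianRing A I] {B : Type*} [CommRing B]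
    [Algebra A B] [Algebra.IsIntegral A B] {e : B} (he : e * e - e ∈ I.map (algebraMap A B)) :
    ∃ ε : B, IsIdempotentElem ε ∧ ε - e ∈ I.map (algebraMap A B) := by
  classical
  obtain ⟨c, hc⟩ := Finsupp.mem_ideal_span_range_iff_exists_finsupp.1
    (show e * e - e ∈ Ideal.span (Set.range fun a : I => algebraMap A B a) by
      have h : (Set.range fun a : I => algebraMap A B a) = algebraMap A B '' (I : Set A) := by
        ext x; simp
      rw [h]
      exact he)
  let S : Subalgebra A B := Algebra.adjoin A (insert e (c.support.image c : Set B))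
  have hSfin : Module.Finite A S :=
    ⟨(Submodule.fg_top _).2 (fg_adjoin_of_finite ((Finset.finite_toSet _).insert e)
      (fun x _ => Algebra.IsIntegral.isIntegral x))⟩
  have hSint : Algebra.IsIntegral A S := Algebra.IsIntegral.of_finite A S
  let e' : S := ⟨e, Algebra.subset_adjoin (Set.mem_insert _ _)⟩
  have hy : e' * e' - e' ∈ I.map (algebraMap A S) := by
    have : e' * e' - e' = ∑ i ∈ c.support.attach,
        (⟨c i, Algebra.subset_adjoin (Set.mem_insert_of_mem _ (Finset.mem_coe.2
          (Finset.mem_image_of_mem c i.2)))⟩ : S) * algebraMap A S ((i : I) : A) := by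
      apply Subtype.ext
      push_cast
      rw [Finset.sum_attach c.support (fun i => c i * algebraMap A B (i : A))]
      exact hc.symm
    rw [this]
    exact Ideal.sum_mem _ fun i _ => Ideal.mul_mem_left _ _ (Ideal.mem_map_of_mem _ i.1.2)
  obtain ⟨q, hq, hqd, hqI, hq0⟩ :=
    LinearMap.exists_monic_and_natDegree_eq_and_coeff_mem_pow_and_aeval_eq_zero A
      (Algebra.lmul A S (e' * e' - e')) I (by
        rintro _ ⟨x, rfl⟩
        rw [Ideal.smul_top_eq_map, Submodule.restrictScalars_mem]
        exact Ideal.mul_mem_right _ _ hy)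
  set d := q.natDegree
  have hqd' : q.map (Ideal.Quotient.mk I) = X ^ d := by
    ext i
    rw [coeff_map, coeff_X_pow]
    rcases lt_trichotomy i d with h | h | h
    · rw [if_neg h.ne, Ideal.Quotient.eq_zero_iff_mem]
      refine Ideal.pow_le_self ?_ (hqI i)
      omega
    · rw [if_pos h, h, hq.coeff_natDegree, map_one]
    · rw [if_neg h.ne', coeff_eq_zero_of_natDegree_lt h, map_zero]
  have hq0' : aeval (e' * e' - e') q = 0 := by
    have := DFunLike.congr_fun hq0 (1 : S)
    rw [Polynomial.aeval_algHom_apply] at this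
    simpa using this
  set F : A[X] := q.comp (X ^ 2 - X)
  have hF : F.Monic := by
    rcases subsingleton_or_nontrivial A with _ | _
    · exact Subsingleton.elim _ _
    refine hq.comp (monic_X_pow_sub (by simp)) ?_
    rw [natDegree_sub_eq_left_of_natDegree_lt (by simp), natDegree_X_pow]
    omega
  have hFe : aeval e' F = 0 := by
    simp only [F, aeval_comp, aeval_X_pow, map_sub, aeval_X]
    rw [pow_two]; exact hq0'
  have hcop₀ : IsCoprime ((X - C 1 : A[X]) ^ d) (X ^ d) := by
    refine IsCoprime.pow (⟨-1, 1, ?_⟩)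
    simp
  obtain ⟨g, h, hg, hh, hgh, hgI, hhI, a, b, hab⟩ := exists_factor I (g₀ := (X - C 1) ^ d)
    (h₀ := X ^ d) hF ((monic_X_sub_C 1).pow d) (monic_X_pow d) (by
      rw [Polynomial.map_comp, hqd', ← mul_pow]
      simp only [pow_comp, X_comp, Polynomial.map_sub, Polynomial.map_pow, Polynomial.map_mul,
        map_X, map_one, Polynomial.map_one]
      ring)
    (hcop₀.map (mapRingHom (Ideal.Quotient.mk I)))
  let ε : S := aeval e' (b * h)
  have hsum : aeval e' a * aeval e' g + ε = 1 := by
    have := congrArg (aeval e') hab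
    simpa [ε] using this
  have hzero : aeval e' g * aeval e' h = 0 := by
    rw [← map_mul, ← hgh, hFe]
  have hεid : ε * ε = ε := by
    have h1 : ε = aeval e' b * aeval e' h := map_mul _ _ _
    linear_combination ε * hsum - aeval e' a * aeval e' g * h1
      - aeval e' a * aeval e' b * hzero
  refine ⟨(ε : S).1, congrArg Subtype.val hεid, ?_⟩
  suffices h : ε - e' ∈ I.map (algebraMap A S) by
    have := Ideal.mem_map_of_mem S.val.toRingHom h
    rw [Ideal.map_map] at this
    have hcomp : S.val.toRingHom.comp (algebraMap A S) = algebraMap A B := RingHom.ext fun _ => rfl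
    rwa [hcomp] at this
  rw [← Ideal.Quotient.eq]
  let ψ : (A ⧸ I) →+* S ⧸ I.map (algebraMap A S) :=
    Ideal.quotientMap _ (algebraMap A S) Ideal.le_comap_map
  set ē := Ideal.Quotient.mk (I.map (algebraMap A S)) e'
  have hev : ∀ p : A[X], Ideal.Quotient.mk (I.map (algebraMap A S)) (aeval e' p) =
      (p.map (Ideal.Quotient.mk I)).eval₂ ψ ē := by
    intro p
    rw [aeval_def, hom_eval₂, eval₂_map]
    rfl
  have hid : ē * ē = ē := by
    rw [← map_mul, Ideal.Quotient.eq]
    exact hy
  have hid' : (ē - 1) * (ē - 1) = -(ē - 1) := by linear_combination hid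
  have he1 : Ideal.Quotient.mk (I.map (algebraMap A S)) (aeval e' h) = ē ^ d := by
    rw [hev, hhI, Polynomial.map_pow, map_X, eval₂_X_pow]
  have he2 : Ideal.Quotient.mk (I.map (algebraMap A S)) (aeval e' g) = (ē - 1) ^ d := by
    rw [hev, hgI]
    simp [eval₂_pow]
  have h4 : Ideal.Quotient.mk (I.map (algebraMap A S)) (aeval e' a) * (ē - 1) ^ d +
      Ideal.Quotient.mk (I.map (algebraMap A S)) ε = 1 := by
    rw [← he2, ← map_mul, ← map_add, hsum, map_one]
  have h5 : Ideal.Quotient.mk (I.map (algebraMap A S)) ε =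
      Ideal.Quotient.mk (I.map (algebraMap A S)) (aeval e' b) * ē ^ d := by
    rw [← he1, ← map_mul]
    simp [ε]
  rcases Nat.eq_zero_or_pos d with hd | hd
  · have : Subsingleton S := by
      refine subsingleton_of_zero_eq_one ?_
      have h1 : q = 1 := hq.natDegree_eq_zero.1 hd
      rw [h1, map_one] at hq0'
      exact hq0'.symm
    rw [Subsingleton.elim ε e']
  obtain ⟨k, hk⟩ := Nat.exists_eq_add_of_le hd
  have hpow : ∀ m, ē * ē ^ m = ē := by
    intro m
    induction m with
    | zero => simp
    | succ m ih => rw [pow_succ, ← mul_assoc, ih, hid]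
  have hpd : ē ^ d = ē := by rw [hk, Nat.one_add, pow_succ']; exact hpow k
  have hz : (ē - 1) ^ d * ē = 0 := by
    rw [hk, Nat.one_add, pow_succ']
    linear_combination (ē - 1) ^ k * hid
  rw [hpd] at h5
  have h6 : Ideal.Quotient.mk (I.map (algebraMap A S)) (aeval e' b) * ē * ē =
      Ideal.Quotient.mk (I.map (algebraMap A S)) ε := by rw [mul_assoc, hid, h5]
  calc Ideal.Quotient.mk (I.map (algebraMap A S)) ε
      = Ideal.Quotient.mk (I.map (algebraMap A S)) ε * ē := by rw [h5, mul_assoc, hid]
    _ = ē := by linear_combination ē * h4 - Ideal.Quotient.mk (I.map (algebraMap A S)) (aeval e' a) * hz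

/-- Idempotents lift uniquely along a henselian ideal in integral algebras. -/
theorem existsUnique_idempotent_lift (I : Ideal A) [HenselianRing A I] {B : Type*} [CommRing B]
    [Algebra A B] [Algebra.IsIntegral A B] {e : B} (he : e * e - e ∈ I.map (algebraMap A B)) :
    ∃! ε : B, IsIdempotentElem ε ∧ ε - e ∈ I.map (algebraMap A B) := by
  obtain ⟨ε, h1, h2⟩ := exists_idempotent_lift I he
  refine ⟨ε, ⟨h1, h2⟩, fun y hy => eq_of_idempotent_of_sub_mem_jacobson hy.1 h1 ?_⟩
  refine map_le_jacobson_of_isIntegral (HenselianRing.jac (I := I)) B ?_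
  have : y - ε = (y - e) - (ε - e) := by ring
  rw [this]
  exact sub_mem hy.2 h2

end Groth.Agent.Hens22
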