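import Groth.Agent.Hens22.Stability
import Mathlib.RingTheory.Ideal.Pure
import Mathlib.RingTheory.AdjoinRoot
import Mathlib.RingTheory.Flat.Basic

/-!
Henselian pairs are stable under integral extensions, quotients and changes within the radical.
-/

set_option autoImplicit false
universe u

open Polynomial

namespace Groth.Agent.Hens22

variable {A : Type u} [CommRing A]

/-- A finite flat algebra of finite presentation trivial modulo an ideal in the radical is trivial. -/
theorem algebraMap_bijective_of_mod {B C : Type u} [CommRing B] [CommRing C] [Algebra B C]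
    (J : Ideal B) (hJ : J ≤ Ideal.jacobson ⊥) [Module.Finite B C] [Module.Flat B C]
    [Algebra.FinitePresentation B C]
    (hsurj : ∀ c : C, ∃ b, c - algebraMap B C b ∈ J.map (algebraMap B C))
    (hker : ∀ b : B, algebraMap B C b = 0 → b ∈ J) : Function.Bijective (algebraMap B C) := by
  have hs : Function.Surjective (algebraMap B C) := by
    have htop : (⊤ : Submodule B C) ≤ LinearMap.range (Algebra.linearMap B C) ⊔ J • ⊤ := by
      rintro z -
      obtain ⟨b, hb⟩ := hsurj z
      refine Submodule.mem_sup.2 ⟨algebraMap B C b, ⟨b, rfl⟩, z - algebraMap B C b, ?_, by ring⟩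
      rwa [Ideal.smul_top_eq_map, Submodule.restrictScalars_mem]
    intro z
    obtain ⟨a, ha⟩ := Submodule.le_of_le_smul_of_le_jacobson_bot Module.Finite.fg_top hJ htop
      (Submodule.mem_top (x := z))
    exact ⟨a, ha⟩
  set K := RingHom.ker (algebraMap B C)
  have hfg : K.FG := Algebra.FinitePresentation.ker_fG_of_surjective (Algebra.ofId B C) hs
  have : K.Pure := Module.Flat.of_linearEquiv
    (Ideal.quotientKerAlgEquivOfSurjective (f := Algebra.ofId B C) hs).toLinearEquiv
  have hbot : K = ⊥ := Submodule.eq_bot_of_le_smul_of_le_jacobson_bot _ _ hfg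
    (by rw [smul_eq_mul, (Ideal.isIdempotentElem_of_pure K).eq])
    (le_trans (show K ≤ J from fun b hb => hker b hb) hJ)
  exact ⟨(RingHom.injective_iff_ker_eq_bot _).2 hbot, hs⟩

/-- The factor cut out by an idempotent, when it is trivial modulo an ideal in the radical. -/
theorem algebraMap_bijective_of_idempotent {B C : Type u} [CommRing B] [CommRing C] [Algebra B C]
    (J : Ideal B) (hJ : J ≤ Ideal.jacobson ⊥) [Module.Finite B C] [Module.Projective B C]
    [Algebra.FinitePresentation B C] {ε : C} (hε : IsIdempotentElem ε)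
    (hsurj : ∀ c : C, ∃ b, ε * (c - algebraMap B C b) ∈ J.map (algebraMap B C))
    (hker : ∀ b : B, ε * algebraMap B C b = 0 → b ∈ J) :
    Function.Bijective (algebraMap B (C ⧸ Ideal.span {1 - ε})) := by
  set π : C →ₐ[B] C ⧸ Ideal.span {1 - ε} := Ideal.Quotient.mkₐ B _ with hπ
  have hπ1 : π (1 - ε) = 0 := Ideal.Quotient.eq_zero_iff_mem.2 (Ideal.mem_span_singleton_self _)
  have hπε : π ε = 1 := by rw [map_sub, map_one, sub_eq_zero] at hπ1; exact hπ1.symm
  have : Module.Finite B (C ⧸ Ideal.span {1 - ε}) :=
    Module.Finite.of_surjective π.toLinearMap Ideal.Quotient.mk_surjective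
  let M := LinearMap.range (LinearMap.mulLeft B ε)
  have hM : Module.Projective B M := by
    refine Module.Projective.of_split M.subtype (LinearMap.mulLeft B ε).rangeRestrict ?_
    refine LinearMap.ext fun z => Subtype.ext ?_
    obtain ⟨z, c, rfl⟩ := z
    show ε * (ε * c) = ε * c
    rw [← mul_assoc, hε.eq]
  have hbij : Function.Bijective (π.toLinearMap.comp M.subtype) := by
    refine ⟨(injective_iff_map_eq_zero _).2 ?_, fun z => ?_⟩
    · rintro ⟨z, c, rfl⟩ hz
      obtain ⟨t, ht⟩ := Ideal.mem_span_singleton'.1 (Ideal.Quotient.eq_zero_iff_mem.1 hz)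
      have ht' : t * (1 - ε) = ε * c := ht
      refine Subtype.ext ?_
      show ε * c = 0
      linear_combination (-ε) * ht' + (-t - c) * hε.eq
    · obtain ⟨c, rfl⟩ := Ideal.Quotient.mk_surjective z
      refine ⟨⟨ε * c, c, rfl⟩, ?_⟩
      show π (ε * c) = π c
      rw [map_mul, hπε, one_mul]
  have hproj : Module.Projective B (C ⧸ Ideal.span {1 - ε}) :=
    Module.Projective.of_equiv (LinearEquiv.ofBijective _ hbij)
  have : Algebra.FinitePresentation B (C ⧸ Ideal.span {1 - ε}) :=
    Algebra.FinitePresentation.quotient ⟨{1 - ε}, by simp⟩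
  refine algebraMap_bijective_of_mod J hJ (fun z => ?_) (fun b hb => hker b ?_)
  · obtain ⟨c, rfl⟩ := Ideal.Quotient.mk_surjective z
    obtain ⟨b, hb⟩ := hsurj c
    refine ⟨b, ?_⟩
    have := Ideal.mem_map_of_mem π.toRingHom hb
    rw [Ideal.map_map, show π.toRingHom.comp (algebraMap B C) = algebraMap B _ from π.comp_algebraMap]
      at this
    have h2 : π (ε * (c - algebraMap B C b)) = π c - algebraMap B _ b := by
      rw [map_mul, hπε, one_mul, map_sub, AlgHom.commutes]
    exact h2 ▸ this
  · rw [IsScalarTower.algebraMap_apply B C (C ⧸ _), Ideal.Quotient.algebraMap_eq,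
      Ideal.Quotient.eq_zero_iff_mem, Ideal.mem_span_singleton'] at hb
    obtain ⟨t, ht⟩ := hb
    rw [← ht]; linear_combination (-t) * hε.eq

/-- Henselian pairs extend along integral algebras. -/
theorem henselianRing_of_isIntegral (I : Ideal A) [HenselianRing A I] (B : Type u) [CommRing B]
    [Algebra A B] [Algebra.IsIntegral A B] : HenselianRing B (I.map (algebraMap A B)) where
  jac := map_le_jacobson_of_isIntegral HenselianRing.jac B
  is_henselian p hp a₀ h₁ h₂ := by
    classical
    set IB := I.map (algebraMap A B)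
    have hjac : IB ≤ Ideal.jacobson ⊥ := map_le_jacobson_of_isIntegral HenselianRing.jac B
    obtain ⟨d₀, hd₀⟩ := (isUnit_of_map_isUnit hjac h₂).exists_left_inv
    let C := AdjoinRoot p
    have : Module.Finite B C := hp.finite_adjoinRoot
    have : Module.Free B C := hp.free_adjoinRoot
    have : Algebra.IsIntegral B C := Algebra.IsIntegral.of_finite B C
    have : Algebra.IsIntegral A C := Algebra.IsIntegral.trans B
    -- `p = (X - a₀) q + p(a₀)`
    set q := p /ₘ (X - Polynomial.C a₀)
    have hpq : p = Polynomial.C (p.eval a₀) + (X - Polynomial.C a₀) * q := by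
      conv_lhs => rw [← modByMonic_add_div p (X - Polynomial.C a₀)]
      rw [modByMonic_X_sub_C_eq_C_eval]
    have hq0 : q.eval a₀ = p.derivative.eval a₀ := by
      conv_rhs => rw [hpq]
      simp
    let x : C := AdjoinRoot.mk p (X - Polynomial.C a₀)
    let y : C := AdjoinRoot.mk p q
    have hxy : x * y ∈ IB.map (algebraMap B C) := by
      have h0 : AdjoinRoot.mk p (Polynomial.C (p.eval a₀) + (X - Polynomial.C a₀) * q) = 0 :=
        (congrArg (AdjoinRoot.mk p) hpq).symm.trans AdjoinRoot.mk_self
      rw [map_add, map_mul, AdjoinRoot.mk_C] at h0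
      have : x * y = - algebraMap B C (p.eval a₀) := by
        rw [AdjoinRoot.algebraMap_eq]; linear_combination h0
      rw [this]
      exact neg_mem (Ideal.mem_map_of_mem _ h₁)
    obtain ⟨w, hw⟩ : (X - Polynomial.C a₀) ∣ q - Polynomial.C (q.eval a₀) :=
      X_sub_C_dvd_sub_C_eval
    let e₀ : C := algebraMap B C d₀ * y
    have he₁ : e₀ = 1 + x * AdjoinRoot.mk p (Polynomial.C d₀ * w) := by
      have h' : q = Polynomial.C (q.eval a₀) + (X - Polynomial.C a₀) * w := by
        linear_combination hw
      show algebraMap B C d₀ * AdjoinRoot.mk p q = _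
      conv_lhs => rw [h']
      rw [map_add, map_mul, map_mul, AdjoinRoot.mk_C, AdjoinRoot.mk_C, AdjoinRoot.algebraMap_eq,
        hq0, mul_add, ← map_mul, hd₀, map_one]
      ring
    have hmapC : I.map (algebraMap A C) = IB.map (algebraMap B C) := by
      rw [Ideal.map_map, ← IsScalarTower.algebraMap_eq]
    have hxe : e₀ * x ∈ IB.map (algebraMap B C) := by
      rw [show e₀ * x = algebraMap B C d₀ * (x * y) by ring]
      exact Ideal.mul_mem_left _ _ hxy
    have he₀ : e₀ * e₀ - e₀ ∈ I.map (algebraMap A C) := by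
      rw [hmapC, show e₀ * e₀ - e₀ = AdjoinRoot.mk p (Polynomial.C d₀ * w) * (e₀ * x) by
        linear_combination e₀ * he₁]
      exact Ideal.mul_mem_left _ _ hxe
    obtain ⟨ε, hε, hεe⟩ := exists_idempotent_lift I he₀
    rw [hmapC] at hεe
    have hεx : ε * x ∈ IB.map (algebraMap B C) := by
      rw [show ε * x = (ε - e₀) * x + e₀ * x by ring]
      exact add_mem (Ideal.mul_mem_right _ _ hεe) hxe
    let ψ : C →ₐ[B] B ⧸ IB := AdjoinRoot.liftAlgHom p (Algebra.ofId B (B ⧸ IB))
      (Ideal.Quotient.mk IB a₀) (by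
        show eval₂ (Ideal.Quotient.mk IB) (Ideal.Quotient.mk IB a₀) p = 0
        rw [eval₂_at_apply]; exact Ideal.Quotient.eq_zero_iff_mem.2 h₁)
    have hψIB : IB.map (algebraMap B C) ≤ RingHom.ker ψ := Ideal.map_le_iff_le_comap.2
      fun z hz => by
        show ψ (algebraMap B C z) = 0
        rw [AlgHom.commutes, Ideal.Quotient.algebraMap_eq, Ideal.Quotient.eq_zero_iff_mem]
        exact hz
    have hψx : ψ x = 0 := by
      show ψ (AdjoinRoot.mk p (X - Polynomial.C a₀)) = 0
      rw [map_sub, map_sub, AdjoinRoot.mk_X, AdjoinRoot.mk_C, ← AdjoinRoot.algebraMap_eq,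
        AlgHom.commutes]
      rw [show ψ (AdjoinRoot.root p) = Ideal.Quotient.mk IB a₀ from AdjoinRoot.liftAlgHom_root ..,
        Ideal.Quotient.algebraMap_eq, sub_self]
    have hψε : ψ ε = 1 := by
      have h := hψIB hεe
      rw [RingHom.mem_ker, map_sub, sub_eq_zero, he₁, map_add, map_one, map_mul, hψx,
        zero_mul, add_zero] at h
      exact h
    obtain ⟨hinjD, hsurjD'⟩ := algebraMap_bijective_of_idempotent IB hjac hε
      (fun c => by
        obtain ⟨g, rfl⟩ := AdjoinRoot.mk_surjective c
        obtain ⟨k, hk⟩ : (X - Polynomial.C a₀) ∣ g - Polynomial.C (g.eval a₀) :=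
          X_sub_C_dvd_sub_C_eval
        refine ⟨g.eval a₀, ?_⟩
        have := congrArg (AdjoinRoot.mk p) hk
        rw [map_sub, map_mul, AdjoinRoot.mk_C, ← AdjoinRoot.algebraMap_eq] at this
        rw [this, ← mul_assoc]
        exact Ideal.mul_mem_right _ _ hεx)
      (fun b hb => by
        have := congrArg ψ hb
        rwa [map_mul, hψε, one_mul, AlgHom.commutes, map_zero, Ideal.Quotient.algebraMap_eq,
          Ideal.Quotient.eq_zero_iff_mem] at this)
    let π : C →ₐ[B] C ⧸ Ideal.span {1 - ε} := Ideal.Quotient.mkₐ B _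
    have hπ1 : π (1 - ε) = 0 :=
      Ideal.Quotient.eq_zero_iff_mem.2 (Ideal.mem_span_singleton_self _)
    have hπε : π ε = 1 := by rw [map_sub, map_one, sub_eq_zero] at hπ1; exact hπ1.symm
    have hπx : π x ∈ IB.map (algebraMap B (C ⧸ Ideal.span {1 - ε})) := by
      have := Ideal.mem_map_of_mem π.toRingHom hεx
      rw [Ideal.map_map, show π.toRingHom.comp (algebraMap B C) = algebraMap B _ from π.comp_algebraMap]
        at this
      simpa [hπε] using this
    obtain ⟨a, ha⟩ := hsurjD' (π (AdjoinRoot.root p))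
    refine ⟨a, ?_, ?_⟩
    · apply hinjD
      rw [map_zero, ← aeval_algebraMap_apply_eq_algebraMap_eval, ha, aeval_algHom_apply,
        AdjoinRoot.aeval_eq, AdjoinRoot.mk_self, map_zero]
    · have hxa : algebraMap B (C ⧸ Ideal.span {1 - ε}) (a - a₀) = π x := by
        rw [map_sub, ha]
        show _ = π (AdjoinRoot.mk p (X - Polynomial.C a₀))
        rw [map_sub, map_sub, AdjoinRoot.mk_X, AdjoinRoot.mk_C, ← AdjoinRoot.algebraMap_eq,
          AlgHom.commutes]
      rw [← hxa] at hπx
      obtain ⟨z, hz, hze⟩ := (Ideal.mem_map_iff_of_surjective _ hsurjD').1 hπx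
      exact hinjD hze ▸ hz

/-- Quotients of henselian pairs are henselian. -/
theorem henselianRing_quotient (I : Ideal A) [HenselianRing A I] (K : Ideal A) :
    HenselianRing (A ⧸ K) (I.map (Ideal.Quotient.mk K)) := by
  rw [← Ideal.Quotient.algebraMap_eq]
  exact henselianRing_of_isIntegral I (A ⧸ K)

/-- A surjective image of a henselian pair is henselian. -/
theorem henselianRing_of_surjective (I : Ideal A) [HenselianRing A I] {B : Type u} [CommRing B]
    (f : A →+* B) (hf : Function.Surjective f) : HenselianRing B (I.map f) := by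
  let _ : Algebra A B := f.toAlgebra
  have : Module.Finite A B := Module.Finite.of_surjective (Algebra.linearMap A B) hf
  have : Algebra.IsIntegral A B := Algebra.IsIntegral.of_finite A B
  exact henselianRing_of_isIntegral I B

/-- Sub-ideals of henselian ideals are henselian. -/
theorem henselianRing_of_le {I J : Ideal A} [HenselianRing A J] (h : I ≤ J) : HenselianRing A I where
  jac := h.trans HenselianRing.jac
  is_henselian p hp a₀ h₁ h₂ := by
    have hu : IsUnit (p.derivative.eval a₀) :=
      isUnit_of_map_isUnit (h.trans HenselianRing.jac) h₂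
    obtain ⟨a, ha, ha'⟩ := HenselianRing.is_henselian (I := J) p hp a₀ (h h₁) (hu.map _)
    refine ⟨a, ha, ?_⟩
    obtain ⟨c, hc⟩ := exists_mul_sq_add_linear_part_eq_eval_add p a₀ (a - a₀)
    rw [add_sub_cancel, ha.eq_zero] at hc
    have hu2 : IsUnit (p.derivative.eval a₀ + c * (a - a₀)) := by
      refine isUnit_of_map_isUnit (I := J) HenselianRing.jac ?_
      rw [map_add, map_mul, Ideal.Quotient.eq_zero_iff_mem.2 ha', mul_zero, add_zero]
      exact hu.map _
    refine (Ideal.mul_unit_mem_iff_mem I hu2).1 ?_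
    have e : (a - a₀) * (p.derivative.eval a₀ + c * (a - a₀)) = - p.eval a₀ := by
      linear_combination hc
    rw [e]; exact neg_mem h₁

/-- The radical of a henselian ideal is henselian. -/
theorem henselianRing_radical (I : Ideal A) [HenselianRing A I] : HenselianRing A I.radical where
  jac := le_jacobson_radical HenselianRing.jac
  is_henselian _ hp a₀ h₁ h₂ := exists_root_radical I hp a₀ h₁
    (isUnit_of_map_isUnit (le_jacobson_radical HenselianRing.jac) h₂)

end Groth.Agent.Hens22
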