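import Groth.Agent.Hens22.PairHens
import Groth.Agent.Hens22.Integral
import Mathlib.RingTheory.Finiteness.Ideal

/-!
Operations on henselizations of pairs: quotients, etale neighbourhoods, finite stages.
-/

set_option autoImplicit false
universe u

noncomputable section

namespace Groth.Agent.Hens22

open Henz21 CategoryTheory

variable {R : Type u} [CommRing R] {J : Ideal R} {B : Type u} [CommRing B] [Algebra R B]

theorem pairHens_ringHom_ext (hB : Hens2.IsPairHenselization R J B) {C : Type u} [CommRing C]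
    (L : Ideal C) [hC : HenselianRing C L] (f g : B →+* C)
    (hfg : f.comp (algebraMap R B) = g.comp (algebraMap R B))
    (hJ : J.map (f.comp (algebraMap R B)) ≤ L) : f = g :=
  (hB.2 C L (f.comp (algebraMap R B)) hC hJ).unique rfl hfg.symm

/-- The henselization of a quotient of a pair is the quotient of the henselization. -/
theorem isPairHenselization_quotient (hB : Hens2.IsPairHenselization R J B) (K : Ideal R)
    {R₁ B₁ : Type u} [CommRing R₁] [CommRing B₁] [Algebra R₁ B₁] (p : R →+* R₁) (π : B →+* B₁)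
    (hp : Function.Surjective p) (hpK : RingHom.ker p = K) (hπ : Function.Surjective π)
    (hπK : RingHom.ker π = K.map (algebraMap R B))
    (hcomm : π.comp (algebraMap R B) = (algebraMap R₁ B₁).comp p) :
    Hens2.IsPairHenselization R₁ (J.map p) B₁ := by
  refine ⟨?_, fun C _ L f hC hJ => ?_⟩
  · have := hB.1
    have h := henselianRing_of_surjective (J.map (algebraMap R B)) π hπ
    rwa [Ideal.map_map, hcomm, ← Ideal.map_map] at h
  · rw [Ideal.map_map] at hJ
    obtain ⟨g, hg, hgu⟩ := hB.2 C L (f.comp p) hC hJ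
    have hker : RingHom.ker π ≤ RingHom.ker g := by
      rw [hπK, Ideal.map_le_iff_le_comap]
      intro k hk
      show g (algebraMap R B k) = 0
      have := RingHom.congr_fun hg k
      rw [RingHom.comp_apply] at this
      rw [this, RingHom.comp_apply, show p k = 0 from RingHom.mem_ker.1 (hpK.symm ▸ hk), map_zero]
    refine ⟨RingHom.liftOfSurjective π hπ ⟨g, hker⟩, ?_, fun h hh => ?_⟩
    · refine RingHom.ext fun x => ?_
      obtain ⟨x, rfl⟩ := hp x
      rw [RingHom.comp_apply, ← RingHom.comp_apply (algebraMap R₁ B₁) p, ← hcomm,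
        RingHom.comp_apply, RingHom.liftOfRightInverse_comp_apply]
      exact RingHom.congr_fun hg x
    · refine RingHom.ext fun x => ?_
      obtain ⟨x, rfl⟩ := hπ x
      rw [RingHom.liftOfRightInverse_comp_apply]
      refine RingHom.congr_fun (hgu (h.comp π) ?_) x
      show (h.comp π).comp (algebraMap R B) = f.comp p
      rw [RingHom.comp_assoc, hcomm, ← RingHom.comp_assoc, hh]

/-- The quotient of a henselization by an extended ideal. -/
theorem isPairHenselization_quotient_map (hB : Hens2.IsPairHenselization R J B) (K : Ideal R)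
    [Algebra (R ⧸ K) (B ⧸ K.map (algebraMap R B))]
    (hcomm : ∀ r : R, algebraMap (R ⧸ K) (B ⧸ K.map (algebraMap R B)) (Ideal.Quotient.mk K r) =
      Ideal.Quotient.mk _ (algebraMap R B r)) :
    Hens2.IsPairHenselization (R ⧸ K) (J.map (Ideal.Quotient.mk K)) (B ⧸ K.map (algebraMap R B)) :=
  isPairHenselization_quotient hB K (Ideal.Quotient.mk K) (Ideal.Quotient.mk _)
    Ideal.Quotient.mk_surjective Ideal.mk_ker Ideal.Quotient.mk_surjective Ideal.mk_ker
    (RingHom.ext fun r => (hcomm r).symm)

/-- A trivial etale neighbourhood maps uniquely to the henselization. -/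
theorem existsUnique_algHom_of_bijective (hB : Hens2.IsPairHenselization R J B) (R' : Type u)
    [CommRing R'] [Algebra R R'] [Algebra.Etale R R']
    (h : Function.Bijective
      (Ideal.quotientMap (J.map (algebraMap R R')) (algebraMap R R') Ideal.le_comap_map)) :
    ∃! _f : R' →ₐ[R] B, True := by
  obtain ⟨σ, -⟩ := exists_pt_of_bijective J R' h
  have := hB.1
  let L := J.map (algebraMap R B)
  let r : R ⧸ J →ₐ[R] B ⧸ L := Ideal.Quotient.liftₐ J (Algebra.ofId R (B ⧸ L))
    (fun a ha => Ideal.Quotient.eq_zero_iff_mem.2 (Ideal.mem_map_of_mem _ ha))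
  obtain ⟨f, hf, hu⟩ := existsUnique_lift L R' (r.comp σ)
  refine ⟨f, trivial, fun g _ => hu g (pt_unique J R' h.2 ?_ _ _)⟩
  rw [show algebraMap R (B ⧸ L) = (Ideal.Quotient.mk L).comp (algebraMap R B) from rfl,
    ← Ideal.map_map, Ideal.map_quotient_self]

/-- Maps out of a trivial etale neighbourhood into a henselian pair agree. -/
theorem ringHom_ext_of_bijective {R' : Type u} [CommRing R'] [Algebra R R'] [Algebra.Etale R R']
    (h : Function.Surjective
      (Ideal.quotientMap (J.map (algebraMap R R')) (algebraMap R R') Ideal.le_comap_map))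
    {C : Type u} [CommRing C] (L : Ideal C) [HenselianRing C L] (f g : R' →+* C)
    (hfg : f.comp (algebraMap R R') = g.comp (algebraMap R R'))
    (hJ : J.map (f.comp (algebraMap R R')) ≤ L) : f = g := by
  let _ : Algebra R C := (f.comp (algebraMap R R')).toAlgebra
  let f' : R' →ₐ[R] C := { f with commutes' := fun r => rfl }
  let g' : R' →ₐ[R] C := { g with commutes' := fun r => (RingHom.congr_fun hfg r).symm }
  refine congrArg AlgHom.toRingHom (algHom_ext_of_sub_mem_jacobson R' f' g' fun s => ?_)
  refine (HenselianRing.jac (I := L)) (Ideal.Quotient.eq.1 ?_)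
  refine DFunLike.congr_fun (pt_unique J R' h ?_ ((Ideal.Quotient.mkₐ R L).comp f')
    ((Ideal.Quotient.mkₐ R L).comp g')) s
  rw [show algebraMap R (C ⧸ L) = (Ideal.Quotient.mk L).comp (f.comp (algebraMap R R')) from rfl,
    ← Ideal.map_map]
  exact (Ideal.map_eq_bot_iff_le_ker _).2 (hJ.trans_eq Ideal.mk_ker.symm)

/-- The henselization does not change along trivial etale neighbourhoods. -/
theorem isPairHenselization_of_bijective (hB : Hens2.IsPairHenselization R J B) (R' : Type u)
    [CommRing R'] [Algebra R R'] [Algebra.Etale R R'] [Algebra R' B] [IsScalarTower R R' B]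
    (h : Function.Bijective
      (Ideal.quotientMap (J.map (algebraMap R R')) (algebraMap R R') Ideal.le_comap_map)) :
    Hens2.IsPairHenselization R' (J.map (algebraMap R R')) B := by
  have hmap : (J.map (algebraMap R R')).map (algebraMap R' B) = J.map (algebraMap R B) := by
    rw [Ideal.map_map, ← IsScalarTower.algebraMap_eq]
  refine ⟨hmap ▸ hB.1, fun C _ L f hC hJ => ?_⟩
  rw [Ideal.map_map] at hJ
  obtain ⟨g, hg, hgu⟩ := hB.2 C L (f.comp (algebraMap R R')) hC hJ
  refine ⟨g, ?_, fun k hk => hgu k ?_⟩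
  · refine ringHom_ext_of_bijective h.2 L _ _ ?_ ?_
    · rw [RingHom.comp_assoc, ← IsScalarTower.algebraMap_eq, hg]
    · rw [RingHom.comp_assoc, ← IsScalarTower.algebraMap_eq, hg]; exact hJ
  · show k.comp (algebraMap R B) = f.comp (algebraMap R R')
    rw [IsScalarTower.algebraMap_eq R R' B, ← RingHom.comp_assoc, hk]

/-- Finitely many elements of the henselization come from one trivial etale neighbourhood. -/
theorem exists_stage (hB : Hens2.IsPairHenselization R J B) {n : ℕ} (x : Fin n → B) :
    ∃ (R' : Type u) (_ : CommRing R') (_ : Algebra R R') (_ : Algebra.Etale R R'),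
      Function.Bijective
        (Ideal.quotientMap (J.map (algebraMap R R')) (algebraMap R R') Ideal.le_comap_map) ∧
      ∃ (φ : R' →ₐ[R] B) (s : Fin n → R'), ∀ i, φ (s i) = x i := by
  classical
  let e := equivH hB
  choose i s hs using fun k => H.exists_rep (e.symm (x k))
  obtain ⟨k, hk⟩ := IsFiltered.sup_objs_exists (insert (H.base R (R ⧸ J)) (Finset.univ.image i))
  let f : ∀ l, i l ⟶ k := fun l =>
    (hk (Finset.mem_insert_of_mem (Finset.mem_image_of_mem i (Finset.mem_univ l)))).some
  obtain ⟨S, hc, ha, he, g, σ, hg, hS⟩ := exists_trivial_refinement J k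
  obtain ⟨F, -, hF⟩ := H.exists_algHom_of_stage k S σ g hg
  refine ⟨S, hc, ha, he, hS, e.toAlgHom.comp F, fun l => g ((f l).φ (s l)), fun l => ?_⟩
  show e (F (g ((f l).φ (s l)))) = x l
  rw [show F (g ((f l).φ (s l))) = H.incl k ((f l).φ (s l)) from DFunLike.congr_fun hF _,
    H.incl_φ, hs, AlgEquiv.apply_symm_apply]

/-- Finitely many elements dying in the henselization die in a trivial etale neighbourhood. -/
theorem exists_stage_zero (hB : Hens2.IsPairHenselization R J B) (R' : Type u) [CommRing R']
    [Algebra R R'] [Algebra.Etale R R']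
    (h : Function.Bijective
      (Ideal.quotientMap (J.map (algebraMap R R')) (algebraMap R R') Ideal.le_comap_map))
    (φ : R' →ₐ[R] B) {n : ℕ} (s : Fin n → R') (hs : ∀ i, φ (s i) = 0) :
    ∃ (R'' : Type u) (_ : CommRing R'') (_ : Algebra R R'') (_ : Algebra.Etale R R''),
      Function.Bijective
        (Ideal.quotientMap (J.map (algebraMap R R'')) (algebraMap R R'') Ideal.le_comap_map) ∧
      ∃ (ψ : R' →ₐ[R] R'') (φ' : R'' →ₐ[R] B), φ'.comp ψ = φ ∧ ∀ i, ψ (s i) = 0 := by
  classical
  let E := equivH hB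
  obtain ⟨σ, -⟩ := exists_pt_of_bijective J R' h
  obtain ⟨i, e, he⟩ := Pt.exists_equiv R' σ
  have huniq : ∀ F : R' →ₐ[R] B, F = φ := fun F =>
    (existsUnique_algHom_of_bijective hB R' h).unique trivial trivial
  have h0 : ∀ l, H.incl i (e (s l)) = H.incl i 0 := fun l => by
    rw [map_zero]
    have h1 : E (H.incl i (e (s l))) = φ (s l) :=
      DFunLike.congr_fun (huniq (E.toAlgHom.comp ((H.incl i).comp e.toAlgHom))) (s l)
    exact E.injective (by rw [h1, hs, map_zero])
  choose k f g hfg using fun l => (H.incl_eq_iff _ _).1 (h0 l)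
  let O : Finset (Pt R (R ⧸ J)) := insert i (Finset.univ.image k)
  have hi : i ∈ O := Finset.mem_insert_self _ _
  have hk : ∀ l, k l ∈ O := fun l =>
    Finset.mem_insert_of_mem (Finset.mem_image_of_mem k (Finset.mem_univ l))
  obtain ⟨m, T, hT⟩ := IsFiltered.sup_exists O
    (Finset.univ.image (fun l => (⟨i, k l, hi, hk l, f l⟩ :
      Σ' (X Y : Pt R (R ⧸ J)) (_ : X ∈ O) (_ : Y ∈ O), X ⟶ Y)))
  obtain ⟨S, hc, ha, he', ψ, σ', hψ, hS⟩ := exists_trivial_refinement J m
  obtain ⟨F, -, hF⟩ := H.exists_algHom_of_stage m S σ' ψ hψ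
  refine ⟨S, hc, ha, he', hS, (ψ.comp (T hi).φ).comp e.toAlgHom, E.toAlgHom.comp F,
    huniq _, fun l => ?_⟩
  have h1 : f l ≫ T (hk l) = T hi :=
    hT hi (hk l) (Finset.mem_image.2 ⟨l, Finset.mem_univ _, rfl⟩)
  show ψ ((T hi).φ (e (s l))) = 0
  rw [← h1]
  simp only [Pt.comp_φ, AlgHom.comp_apply]
  rw [hfg l, map_zero, map_zero, map_zero]

/-- A ring henselian along `J` is its own henselization. -/
theorem isPairHenselization_self (J : Ideal R) [HenselianRing R J] :
    Hens2.IsPairHenselization R J R := by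
  refine ⟨by rw [Algebra.algebraMap_self, Ideal.map_id]; infer_instance,
    fun C _ L f _ _ => ⟨f, f.comp_id, fun g hg => by rwa [Algebra.algebraMap_self, RingHom.comp_id] at hg⟩⟩

end Groth.Agent.Hens22
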