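import Groth.Agent.Ind91.Criterion
import Groth.Agent.CAlg1.EtaleShrink
import Groth.Agent.CAlg1.Pop.Field
import Groth.Agent.CAlg1.Andre.GRingCompletion
import Groth.Agent.EGA4H10.CompleteGRing
import Groth.Agent.EGA4H10.FTGRingDescent

/-!
Approximation by etale neighbourhoods for functors of algebras.
-/

set_option autoImplicit false
universe u

open CategoryTheory CategoryTheory.Limits

noncomputable section

namespace Groth.Agent.Hens22

/-- An element of a functor preserving filtered colimits comes from a finitely presented algebra. -/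
theorem exists_fp_element {A : Type u} [CommRing A] (F : CommAlgCat.{u} A ⥤ Type u)
    [PreservesFilteredColimits F] (B : Type u) [CommRing B] [Algebra A B] (ξ : F.obj (CommAlgCat.of A B)) :
    ∃ (D : Type u) (_ : CommRing D) (_ : Algebra A D) (_ : Algebra.FinitePresentation A D)
      (v : D →ₐ[A] B) (y : F.obj (CommAlgCat.of A D)), F.map (CommAlgCat.ofHom v) y = ξ := by
  let P : ∀ (W : Type u) [CommRing W] [Algebra A W], Prop :=
    fun W _ _ => Algebra.FinitePresentation A W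
  have hB : Ind91.Factors A P B := fun D _ _ hD g => ⟨D, _, _, hD, AlgHom.id A D, g, AlgHom.comp_id g⟩
  obtain ⟨J, _, _, D, c, hc, hP, ⟨e⟩⟩ := Ind91.Factors.isInd (fun W _ _ h => h)
    (fun W W' _ _ _ _ f h => by
      haveI : Algebra.FinitePresentation A W := h
      exact Algebra.FinitePresentation.equiv f) hB
  let inv := (commAlgCatEquivUnder (CommRingCat.of A)).inverse
  haveI : PreservesColimitsOfShape J (inv ⋙ F) := inferInstance
  let U : CommAlgCat.{u} A := inv.obj (Under.mk (CommRingCat.ofHom (algebraMap A B)))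
  let eU : B ≃ₐ[A] U := { toRingEquiv := RingEquiv.refl B, commutes' := fun _ => rfl }
  let ι₀ : CommAlgCat.of A B ≅ U := CommAlgCat.isoMk eU
  obtain ⟨j, y, hy⟩ := Types.jointly_surjective_of_isColimit (isColimitOfPreserves (inv ⋙ F) hc)
    ((inv ⋙ F).map e.inv (F.map ι₀.hom ξ))
  letI := (D.obj j).hom.hom.toAlgebra
  let v : (D.obj j).right →ₐ[A] B :=
    { (c.ι.app j ≫ e.hom).right.hom with
      commutes' := fun a => congr($(Under.w (c.ι.app j ≫ e.hom)) a) }
  refine ⟨(D.obj j).right, inferInstance, inferInstance, hP j, v, y, ?_⟩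
  have h1 : CommAlgCat.ofHom v = inv.map (c.ι.app j ≫ e.hom) ≫ ι₀.inv := by
    refine CommAlgCat.hom_ext (AlgHom.ext fun x => ?_)
    show (c.ι.app j ≫ e.hom).right x = eU.symm ((c.ι.app j ≫ e.hom).right x)
    exact (eU.symm_apply_apply _).symm
  refine (congrArg (fun g => F.map g y) h1).trans ((FunctorToTypes.map_comp_apply F (inv.map (c.ι.app j ≫ e.hom)) ι₀.inv y).trans ?_)
  show F.map ι₀.inv ((inv ⋙ F).map (c.ι.app j ≫ e.hom) y) = ξ
  rw [FunctorToTypes.map_comp_apply (inv ⋙ F), show (inv ⋙ F).map (c.ι.app j) y = (inv ⋙ F).map e.inv (F.map ι₀.hom ξ) from hy,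
    ← FunctorToTypes.map_comp_apply (inv ⋙ F), e.inv_hom_id, FunctorToTypes.map_id_apply,
    ← FunctorToTypes.map_comp_apply, ι₀.hom_inv_id, FunctorToTypes.map_id_apply]

/-- Approximation in an etale algebra. -/
theorem artin_etale {A : Type u} [CommRing A] (I m : Ideal A) (Λ : Type u) [CommRing Λ] [Algebra A Λ]
    (hPT : Smoothing.IndSmooth A Λ) (ev : Λ →ₐ[A] A ⧸ I)
    (F : CommAlgCat.{u} A ⥤ Type u) [PreservesFilteredColimits F] (ξ : F.obj (CommAlgCat.of A Λ)) :
    ∃ (A' : Type u) (_ : CommRing A') (_ : Algebra A A') (_ : Algebra.Etale A A')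
      (ψ : A' →ₐ[A] (A ⧸ I)) (_ : Function.Surjective ψ) (ξ' : F.obj (CommAlgCat.of A A')),
      F.map (CommAlgCat.ofHom ψ) ξ' = F.map (CommAlgCat.ofHom ev) ξ := by
  obtain ⟨D, _, _, hD, v, y, hy⟩ := exists_fp_element F Λ ξ
  obtain ⟨B, _, _, hB, g, h, hhg⟩ := hPT D hD v
  haveI := hB
  obtain ⟨A', _, _, hA', hbij, τ, hτ⟩ := CAlg1.exists_etale_lift_section I (ev.comp h)
  let J := I.map (algebraMap A A')
  let e : (A ⧸ I) ≃ₐ[A] A' ⧸ J :=
    AlgEquiv.ofBijective (IsScalarTower.toAlgHom A (A ⧸ I) (A' ⧸ J)) hbij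
  let ψ : A' →ₐ[A] A ⧸ I := e.symm.toAlgHom.comp (Ideal.Quotient.mkₐ A J)
  have hψτ : (ψ.comp τ).comp g = ev.comp v := AlgHom.ext fun x => by
    show e.symm (Ideal.Quotient.mk J (τ (g x))) = ev (v x)
    rw [hτ, ← hhg]
    exact e.symm_apply_apply (ev (h (g x)))
  refine ⟨A', inferInstance, inferInstance, hA', ψ,
    e.symm.surjective.comp Ideal.Quotient.mk_surjective, F.map (CommAlgCat.ofHom (τ.comp g)) y, ?_⟩
  rw [← hy, ← FunctorToTypes.map_comp_apply, ← FunctorToTypes.map_comp_apply, ← CommAlgCat.ofHom_comp,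
    ← CommAlgCat.ofHom_comp, ← AlgHom.comp_assoc, hψτ]

end Groth.Agent.Hens22
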