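import Groth.Agent.Hens22.CompletionUnr
import Groth.Agent.Cohen12.Completion

/-!
Unramified and etale local homomorphisms and adic completions.
-/

set_option autoImplicit false
universe u

open IsLocalRing

noncomputable section

namespace Groth.Agent.Hens22

variable (A B : Type u) [CommRing A] [CommRing B] [IsLocalRing A] [IsLocalRing B]
  [IsNoetherianRing A] [IsNoetherianRing B]

theorem isCompl'_adic : IsCompl' A (AdicCompletion (maximalIdeal A) A) where
  flat := AdicCompletion.flat_of_isNoetherian _
  noetherian := Cohen12.isNoetherianRing_completion A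
  complete := Cohen12.isAdicComplete_completion A
  map_eq := (AdicCompletion.maximalIdeal_eq_map).symm
  mem_pow_iff := Cohen12.algebraMap_mem_pow_iff A
  exists_sub_mem := Cohen12.exists_sub_mem_pow A

variable [Algebra A B] [IsLocalHom (algebraMap A B)] [Algebra.EssFiniteType A B]
  (ψ : AdicCompletion (maximalIdeal A) A →+* AdicCompletion (maximalIdeal B) B)
  (hψ : ψ.comp (algebraMap A (AdicCompletion (maximalIdeal A) A)) =
      (algebraMap B (AdicCompletion (maximalIdeal B) B)).comp (algebraMap A B))

include hψ

/-- The unramified criterion, with finiteness. -/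
theorem completion_unramified :
    (((maximalIdeal A).map (algebraMap A B) = maximalIdeal B ∧
        Module.Finite (ResidueField A) (ResidueField B) ∧
        Algebra.IsSeparable (ResidueField A) (ResidueField B)) →
      ψ.Finite ∧ ψ.FormallyUnramified) ∧
    (ψ.FiniteType ∧ ψ.FormallyUnramified →
      ((maximalIdeal A).map (algebraMap A B) = maximalIdeal B ∧
        Module.Finite (ResidueField A) (ResidueField B) ∧
        Algebra.IsSeparable (ResidueField A) (ResidueField B))) := by
  let _ : Algebra (AdicCompletion (maximalIdeal A) A) (AdicCompletion (maximalIdeal B) B) := ψ.toAlgebra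
  have : IsScalarTower A B (AdicCompletion (maximalIdeal B) B) := IsScalarTower.of_algebraMap_eq fun _ => rfl
  have : IsScalarTower A (AdicCompletion (maximalIdeal A) A) (AdicCompletion (maximalIdeal B) B) :=
    IsScalarTower.of_algebraMap_eq fun a => (RingHom.congr_fun hψ a).symm
  have hC := isCompl'_adic A
  have hD := isCompl'_adic B
  have : IsLocalHom (algebraMap (AdicCompletion (maximalIdeal A) A) (AdicCompletion (maximalIdeal B) B)) :=
    isLocalHom_completed (B := B) hC hD
  constructor
  · rintro ⟨h1, h2, h3⟩
    obtain ⟨h2', h3'⟩ := (residue_iff hC hD).1 ⟨h2, h3⟩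
    have h1' := (map_max_iff hC hD).1 h1
    have hfin := finite_completed hC hD h1'
    exact ⟨hfin, (Algebra.FormallyUnramified.iff_map_maximalIdeal_eq).2 ⟨h3', h1'⟩⟩
  · rintro ⟨hft, hu⟩
    have : Algebra.FiniteType (AdicCompletion (maximalIdeal A) A) (AdicCompletion (maximalIdeal B) B) := hft
    have : Algebra.FormallyUnramified (AdicCompletion (maximalIdeal A) A) (AdicCompletion (maximalIdeal B) B) := hu
    obtain ⟨h3, h1⟩ := Algebra.FormallyUnramified.iff_map_maximalIdeal_eq.1 this
    obtain ⟨h2, h3'⟩ := (residue_iff hC hD).2 ⟨inferInstance, h3⟩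
    exact ⟨(map_max_iff hC hD).2 h1, h2, h3'⟩

/-- The etale criterion. -/
theorem completion_etale :
    ((Module.Flat A B ∧ (maximalIdeal A).map (algebraMap A B) = maximalIdeal B ∧
        Module.Finite (ResidueField A) (ResidueField B) ∧
        Algebra.IsSeparable (ResidueField A) (ResidueField B)) ↔ ψ.Etale) ∧
      (ψ.Etale →
        letI := ψ.toAlgebra
        ∃ n : ℕ, 0 < n ∧
          Nonempty ((Fin n → AdicCompletion (maximalIdeal A) A) ≃ₗ[AdicCompletion (maximalIdeal A) A]
            AdicCompletion (maximalIdeal B) B)) := by
  obtain ⟨hmp, hmpr⟩ := completion_unramified A B ψ hψ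
  let _ : Algebra (AdicCompletion (maximalIdeal A) A) (AdicCompletion (maximalIdeal B) B) := ψ.toAlgebra
  have : IsScalarTower A B (AdicCompletion (maximalIdeal B) B) := IsScalarTower.of_algebraMap_eq fun _ => rfl
  have : IsScalarTower A (AdicCompletion (maximalIdeal A) A) (AdicCompletion (maximalIdeal B) B) :=
    IsScalarTower.of_algebraMap_eq fun a => (RingHom.congr_fun hψ a).symm
  have hC := isCompl'_adic A
  have hD := isCompl'_adic B
  have : IsLocalHom (algebraMap (AdicCompletion (maximalIdeal A) A) (AdicCompletion (maximalIdeal B) B)) :=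
    isLocalHom_completed (B := B) hC hD
  have := hC.noetherian
  have hback : ψ.Etale → (Module.Flat A B ∧ (maximalIdeal A).map (algebraMap A B) = maximalIdeal B ∧
      Module.Finite (ResidueField A) (ResidueField B) ∧
      Algebra.IsSeparable (ResidueField A) (ResidueField B)) := by
    intro he
    have : Algebra.Etale (AdicCompletion (maximalIdeal A) A) (AdicCompletion (maximalIdeal B) B) := he
    have := hC.flat
    exact ⟨flat_of_completed (A := A) (C := AdicCompletion (maximalIdeal A) A) hD,
      hmpr ⟨RingHom.finiteType_algebraMap.2 inferInstance, RingHom.formallyUnramified_algebraMap.2 inferInstance⟩⟩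
  refine ⟨⟨fun ⟨hflat, h⟩ => ?_, hback⟩, fun he => ?_⟩
  · obtain ⟨hfin, hu⟩ := hmp h
    have : Module.Finite (AdicCompletion (maximalIdeal A) A) (AdicCompletion (maximalIdeal B) B) := hfin
    have : Algebra.FormallyUnramified (AdicCompletion (maximalIdeal A) A) (AdicCompletion (maximalIdeal B) B) := hu
    have : Algebra.FinitePresentation (AdicCompletion (maximalIdeal A) A) (AdicCompletion (maximalIdeal B) B) :=
      Algebra.FinitePresentation.of_finiteType.1 inferInstance
    have := flat_completed (A := A) (B := B) hC hD
    show Algebra.Etale _ _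
    exact Algebra.Etale.of_formallyUnramified_of_flat
  · obtain ⟨hfin, -⟩ := hmp (hback he).2
    have : Module.Finite (AdicCompletion (maximalIdeal A) A) (AdicCompletion (maximalIdeal B) B) := hfin
    have : Algebra.Etale (AdicCompletion (maximalIdeal A) A) (AdicCompletion (maximalIdeal B) B) := he
    have : Module.Free (AdicCompletion (maximalIdeal A) A) (AdicCompletion (maximalIdeal B) B) :=
      Module.free_of_flat_of_isLocalRing
    exact ⟨Module.finrank (AdicCompletion (maximalIdeal A) A) (AdicCompletion (maximalIdeal B) B),
      (Module.finrank_pos_iff_of_free _ _).2 inferInstance, ⟨(Module.finBasis _ _).equivFun.symm⟩⟩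

end Groth.Agent.Hens22
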