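import Groth.Agent.Hens22.Idempotents
import Mathlib.RingTheory.Artinian.Ring
import Mathlib.RingTheory.Localization.AtPrime.Basic
import Mathlib.RingTheory.LocalRing.MaximalIdeal.Basic
import Mathlib.RingTheory.HopkinsLevitzki
import Mathlib.RingTheory.LocalProperties.Basic
import Mathlib.RingTheory.Ideal.Quotient.Operations

/-!
Finite products of local rings.
-/

set_option autoImplicit false
universe u

noncomputable section

namespace Groth.Agent.Hens22

variable {B : Type u} [CommRing B] {ι : Type u} [Fintype ι] {C : ι → Type u} [∀ j, CommRing (C j)]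

open scoped Classical in
/-- In a finite product of local rings an element is determined locally. -/
theorem bijective_pi_atPrime_of_equiv (hC : ∀ j, IsLocalRing (C j)) (e : B ≃+* (∀ j, C j)) :
    Function.Bijective
      (RingHom.pi (fun n : MaximalSpectrum B => algebraMap B (Localization.AtPrime n.asIdeal))) := by
  classical
  let π : ∀ j, B →+* C j := fun j => (Pi.evalRingHom C j).comp e.toRingHom
  have hπ : ∀ j, Function.Surjective (π j) := fun j =>
    (Function.surjective_eval j).comp e.surjective
  let ε : ι → B := fun j => e.symm (Pi.single j 1)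
  have hεj : ∀ j, π j (ε j) = 1 := fun j => by simp [π, ε]
  have hsum : ∑ j, ε j = 1 := by
    apply e.injective
    rw [map_sum, map_one]
    simp only [ε, RingEquiv.apply_symm_apply]
    exact Finset.univ_sum_single (1 : ∀ j, C j)
  have hkill : ∀ j x, π j x = 0 → x * ε j = 0 := fun j x hx => by
    apply e.injective
    rw [map_mul, map_zero, show e (ε j) = Pi.single j 1 from e.apply_symm_apply _]
    ext i
    rcases eq_or_ne i j with rfl | hij
    · simpa [π] using hx
    · simp [hij]
  have hloc : ∀ n : MaximalSpectrum B, ∃ j, ε j ∉ n.asIdeal ∧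
      n.asIdeal = (IsLocalRing.maximalIdeal (C j)).comap (π j) := fun n => by
    obtain ⟨j, hj⟩ : ∃ j, ε j ∉ n.asIdeal := by
      by_contra! hall
      exact n.isMaximal.ne_top ((Ideal.eq_top_iff_one _).2 (hsum ▸ n.asIdeal.sum_mem fun j _ => hall j))
    have hker : RingHom.ker (π j) ≤ n.asIdeal := fun x hx =>
      ((n.isMaximal.isPrime.mem_or_mem (hkill j x hx ▸ n.asIdeal.zero_mem)).resolve_right hj)
    have := n.isMaximal
    have hmax := Ideal.IsMaximal.map_of_surjective_of_ker_le (hπ j) hker
    refine ⟨j, hj, ?_⟩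
    rw [← IsLocalRing.eq_maximalIdeal hmax, Ideal.comap_map_of_surjective _ (hπ j)]
    exact (sup_eq_left.2 hker).symm
  choose j hj hjn using hloc
  have hsep : ∀ n n', j n = j n' → n = n' := fun n n' h =>
    MaximalSpectrum.ext ((hjn n).trans (h ▸ (hjn n').symm))
  have hcongr : ∀ (n : MaximalSpectrum B) (a b : B), π (j n) a = π (j n) b →
      algebraMap B (Localization.AtPrime n.asIdeal) a = algebraMap B _ b := fun n a b h =>
    IsLocalization.eq_iff_exists n.asIdeal.primeCompl _ |>.2 ⟨⟨ε (j n), hj n⟩, by
      have := hkill (j n) (a - b) (by rw [map_sub, h, sub_self])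
      show ε (j n) * a = ε (j n) * b
      linear_combination this⟩
  have hsurj : ∀ (n : MaximalSpectrum B) (z : Localization.AtPrime n.asIdeal),
      ∃ c : B, algebraMap B _ c = z := fun n z => by
    obtain ⟨⟨b, s⟩, hz⟩ := IsLocalization.surj n.asIdeal.primeCompl z
    have hu : IsUnit (π (j n) s) := by
      rw [← not_not (a := IsUnit _), ← mem_nonunits_iff, ← IsLocalRing.mem_maximalIdeal]
      exact fun h => s.2 ((SetLike.ext_iff.1 (hjn n) (s : B)).2 h)
    obtain ⟨c, hc⟩ := hπ (j n) (π (j n) b * ↑hu.unit⁻¹)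
    refine ⟨c, ?_⟩
    refine (IsLocalization.map_units (Localization.AtPrime n.asIdeal) s).mul_left_injective ?_
    show algebraMap B _ c * algebraMap B _ (s : B) = z * algebraMap B _ (s : B)
    rw [hz, ← map_mul]
    refine hcongr n _ _ ?_
    rw [map_mul, hc, mul_assoc, IsUnit.val_inv_mul, mul_one]
  refine ⟨fun a b h => ?_, fun z => ?_⟩
  · exact sub_eq_zero.1 (eq_zero_of_localization _ fun m _ => by
      rw [map_sub, sub_eq_zero]; exact congrFun h ⟨m, ‹_›⟩)
  · choose c hc using fun n => hsurj n (z n)
    let y : ∀ i, C i := fun i => if hi : ∃ n, j n = i then π i (c hi.choose) else 0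
    refine ⟨e.symm y, funext fun n => ?_⟩
    show algebraMap B _ (e.symm y) = z n
    rw [← hc n]
    refine hcongr n _ _ ?_
    have hi : ∃ n', j n' = j n := ⟨n, rfl⟩
    show e (e.symm y) (j n) = _
    rw [e.apply_symm_apply]
    show (if hi : ∃ n', j n' = j n then π (j n) (c hi.choose) else 0) = _
    rw [dif_pos hi, hsep _ _ hi.choose_spec]

omit [Fintype ι] in
/-- Idempotents lift from quotients of finite products of local rings by ideals in the radical. -/
theorem surjOn_idempotents_of_equiv (hC : ∀ j, IsLocalRing (C j)) (e : B ≃+* (∀ j, C j))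
    (J : Ideal B) :
    Set.SurjOn (Ideal.Quotient.mk J) {x : B | IsIdempotentElem x} {x | IsIdempotentElem x} := by
  classical
  intro x hx
  obtain ⟨b, rfl⟩ := Ideal.Quotient.mk_surjective x
  have hb : b * b - b ∈ J := Ideal.Quotient.eq.1 (by rw [map_mul]; exact hx)
  let y : ∀ j, C j := fun j => if IsUnit (e b j) then 1 else 0
  have hy : IsIdempotentElem y := funext fun j => by
    show y j * y j = y j
    simp only [y]; split <;> simp
  refine ⟨e.symm y, by simpa [IsIdempotentElem, ← map_mul] using congrArg e.symm hy.eq, Ideal.Quotient.eq.2 ?_⟩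
  -- componentwise, the difference is a multiple of `b * b - b`
  have hcomp : ∀ j, ∃ c : C j, y j - e b j = c * e (b * b - b) j := fun j => by
    have hv : e (b * b - b) j = e b j * (e b j - 1) := by
      simp only [map_sub, map_mul, Pi.sub_apply, Pi.mul_apply]; ring
    rw [hv]
    simp only [y]
    split_ifs with hu
    · refine ⟨-↑hu.unit⁻¹, ?_⟩
      linear_combination (e b j - 1) * hu.val_inv_mul
    · have hu' : IsUnit (1 - e b j) := (IsLocalRing.isUnit_or_isUnit_one_sub_self _).resolve_left hu
      refine ⟨↑hu'.unit⁻¹, ?_⟩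
      linear_combination (e b j) * hu'.val_inv_mul
  choose c hc using hcomp
  have : e.symm y - b = e.symm c * (b * b - b) := by
    apply e.injective
    rw [map_mul, map_sub, e.apply_symm_apply, e.apply_symm_apply]
    exact funext hc
  rw [this]
  exact Ideal.mul_mem_left _ _ hb

/-- Finite algebras over local rings have finitely many maximal ideals. -/
theorem finite_maximalSpectrum {A : Type u} [CommRing A] [IsLocalRing A] (B : Type u) [CommRing B]
    [Algebra A B] [Module.Finite A B] : Finite (MaximalSpectrum B) := by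
  let m := IsLocalRing.maximalIdeal A
  let Q := B ⧸ m.map (algebraMap A B)
  have hJ : m.map (algebraMap A B) ≤ Ideal.jacobson ⊥ :=
    map_le_jacobson_of_isIntegral (IsLocalRing.maximalIdeal_le_jacobson ⊥) B
  have : IsArtinianRing (A ⧸ m) := inferInstanceAs (IsArtinianRing (IsLocalRing.ResidueField A))
  have : Module.Finite (A ⧸ m) Q := Module.Finite.of_restrictScalars_finite A (A ⧸ m) Q
  have : IsArtinianRing Q := isArtinian_of_tower (A ⧸ m) inferInstance
  have hle : ∀ n : MaximalSpectrum B, RingHom.ker (Ideal.Quotient.mk (m.map (algebraMap A B))) ≤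
      n.asIdeal := fun n => by
    rw [Ideal.mk_ker]
    exact hJ.trans (sInf_le ⟨bot_le, n.isMaximal⟩)
  refine Finite.of_injective (β := MaximalSpectrum Q) (fun n =>
    ⟨n.asIdeal.map (Ideal.Quotient.mk _),
      have := n.isMaximal
      Ideal.IsMaximal.map_of_surjective_of_ker_le Ideal.Quotient.mk_surjective (hle n)⟩) fun n n' h => MaximalSpectrum.ext ?_
  have h' := congrArg (fun q : MaximalSpectrum Q => q.asIdeal.comap (Ideal.Quotient.mk _)) h
  simp only [Ideal.comap_map_of_surjective' _ Ideal.Quotient.mk_surjective] at h'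
  rwa [sup_eq_left.2 (hle n), sup_eq_left.2 (hle n')] at h'

/-- Bijectivity on localisations from idempotent lifting. -/
theorem bijective_pi_atPrime_of_surjOn {A : Type u} [CommRing A] [IsLocalRing A] (B : Type u)
    [CommRing B] [Algebra A B] [Module.Finite A B]
    (h : Set.SurjOn (Ideal.Quotient.mk (Ideal.map (algebraMap A B) (IsLocalRing.maximalIdeal A)))
      {e : B | IsIdempotentElem e} {e | IsIdempotentElem e}) :
    Function.Bijective
      (RingHom.pi (fun n : MaximalSpectrum B => algebraMap B (Localization.AtPrime n.asIdeal))) := by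
  classical
  have := finite_maximalSpectrum (A := A) B
  have := Fintype.ofFinite (MaximalSpectrum B)
  let m := IsLocalRing.maximalIdeal A
  let Q := B ⧸ m.map (algebraMap A B)
  let mk := Ideal.Quotient.mk (m.map (algebraMap A B))
  have hJ : m.map (algebraMap A B) ≤ Ideal.jacobson ⊥ :=
    map_le_jacobson_of_isIntegral (IsLocalRing.maximalIdeal_le_jacobson ⊥) B
  have hmn : ∀ n : MaximalSpectrum B, m.map (algebraMap A B) ≤ n.asIdeal := fun n =>
    hJ.trans (sInf_le ⟨bot_le, n.isMaximal⟩)
  have : IsArtinianRing (A ⧸ m) := inferInstanceAs (IsArtinianRing (IsLocalRing.ResidueField A))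
  have : Module.Finite (A ⧸ m) Q := Module.Finite.of_restrictScalars_finite A (A ⧸ m) Q
  have : IsArtinianRing Q := isArtinian_of_tower (A ⧸ m) inferInstance
  have hex : ∀ n : MaximalSpectrum B, ∃ ε : B, IsIdempotentElem ε ∧ ε ∉ n.asIdeal ∧
      ∀ n' : MaximalSpectrum B, n' ≠ n → ε ∈ n'.asIdeal := fun n => by
    obtain ⟨x, hx⟩ := Ideal.exists_forall_sub_mem_ideal
      (I := fun n' : MaximalSpectrum B => n'.asIdeal)
      (fun a b hab => (Ideal.isCoprime_iff_sup_eq.2
        (a.isMaximal.coprime_of_ne b.isMaximal fun h => hab (MaximalSpectrum.ext h))))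
      (fun n' => if n' = n then 1 else 0)
    have hxx : ∀ n' : MaximalSpectrum B, x * x - x ∈ n'.asIdeal := fun n' => by
      have h0 := hx n'
      split_ifs at h0
      · have := n'.asIdeal.mul_mem_left x h0
        convert this using 1; ring
      · rw [sub_zero] at h0
        exact sub_mem (n'.asIdeal.mul_mem_left x h0) h0
    have hnil : mk (x * x - x) ∈ nilradical Q := by
      refine mem_nilradical.2 (nilpotent_iff_mem_prime.2 fun q hq => ?_)
      have := IsArtinianRing.isMaximal_of_isPrime q
      exact hxx ⟨q.comap mk, Ideal.comap_isMaximal_of_surjective _ Ideal.Quotient.mk_surjective⟩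
    obtain ⟨e₁, he₁, he₁x⟩ := exists_isIdempotentElem_eq_of_ker_isNilpotent
      (Ideal.Quotient.mk (nilradical Q)) (fun z hz => by rwa [Ideal.mk_ker, mem_nilradical] at hz)
      (Ideal.Quotient.mk (nilradical Q) (mk x)) ⟨mk x, rfl⟩ (by
        rw [IsIdempotentElem, ← map_mul, ← map_mul, Ideal.Quotient.eq, ← map_sub]
        exact hnil)
    obtain ⟨ε, hε, hεe⟩ := h (show e₁ ∈ {e | IsIdempotentElem e} from he₁)
    have hclose : ∀ n' : MaximalSpectrum B, ε - x ∈ n'.asIdeal := fun n' => by
      have hh : mk (ε - x) ∈ nilradical Q := by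
        rw [← Ideal.Quotient.eq_zero_iff_mem, map_sub, map_sub, show mk ε = e₁ from hεe, he₁x, sub_self]
      obtain ⟨k, hk⟩ := mem_nilradical.1 hh
      rw [← map_pow, Ideal.Quotient.eq_zero_iff_mem] at hk
      exact n'.isMaximal.isPrime.mem_of_pow_mem k (hmn n' hk)
    refine ⟨ε, hε, fun hmem => ?_, fun n' hne => ?_⟩
    · have h1 := hx n
      rw [if_pos rfl] at h1
      refine n.isMaximal.ne_top ((Ideal.eq_top_iff_one _).2 ?_)
      convert n.asIdeal.sub_mem hmem (n.asIdeal.add_mem (hclose n) h1) using 1
      ring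
    · have h1 := hx n'
      rw [if_neg hne, sub_zero] at h1
      simpa using n'.asIdeal.add_mem (hclose n') h1
  choose ε hε hεn hεo using hex
  refine ⟨fun a b h => ?_, fun z => ?_⟩
  · exact sub_eq_zero.1 (eq_zero_of_localization _ fun q _ => by
      rw [map_sub, sub_eq_zero]; exact congrFun h ⟨q, ‹_›⟩)
  have hone : ∀ n : MaximalSpectrum B, algebraMap B (Localization.AtPrime n.asIdeal) (ε n) = 1 :=
    fun n => (IsUnit.mul_eq_left (IsLocalization.map_units _ (⟨ε n, hεn n⟩ : n.asIdeal.primeCompl))).1
      (by rw [← map_mul, (hε n).eq])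
  have hzero : ∀ n n' : MaximalSpectrum B, n' ≠ n →
      algebraMap B (Localization.AtPrime n.asIdeal) (ε n') = 0 := fun n n' hne => by
    have hu := IsLocalization.map_units (Localization.AtPrime n.asIdeal)
      (⟨1 - ε n', fun hmem => n.isMaximal.ne_top ((Ideal.eq_top_iff_one _).2
        (by simpa using n.asIdeal.add_mem hmem (hεo n' n hne.symm)))⟩ : n.asIdeal.primeCompl)
    refine (hu.mul_right_eq_zero).1 ?_
    show algebraMap B _ (1 - ε n') * _ = 0
    rw [← map_mul, sub_mul, one_mul, (hε n').eq, sub_self, map_zero]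
  have hsurj : ∀ (n : MaximalSpectrum B) (w : Localization.AtPrime n.asIdeal),
      ∃ c : B, algebraMap B _ c = w := fun n w => by
    obtain ⟨⟨b, s⟩, hw⟩ := IsLocalization.surj n.asIdeal.primeCompl w
    let t := (s : B) * ε n + (1 - ε n)
    have ht : IsUnit t := by
      by_contra hnu
      obtain ⟨q, hq, htq⟩ := exists_max_ideal_of_mem_nonunits (mem_nonunits_iff.2 hnu)
      rcases eq_or_ne (⟨q, hq⟩ : MaximalSpectrum B) n with heq | hne
      · subst heq
        have h1 : (s : B) * ε ⟨q, hq⟩ * ε ⟨q, hq⟩ ∈ q := by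
          have := q.mul_mem_right (ε ⟨q, hq⟩) htq
          simpa [t, add_mul, sub_mul, (hε _).eq] using this
        rw [mul_assoc, (hε _).eq] at h1
        rcases hq.isPrime.mem_or_mem h1 with h2 | h2
        exacts [s.2 h2, hεn ⟨q, hq⟩ h2]
      · refine hq.ne_top ((Ideal.eq_top_iff_one _).2 ?_)
        have := q.sub_mem htq (q.sub_mem (q.mul_mem_left (s : B) (hεo n ⟨q, hq⟩ hne))
          (hεo n ⟨q, hq⟩ hne))
        convert this using 1
        simp only [t]; ring
    refine ⟨b * ↑ht.unit⁻¹, ?_⟩
    refine (IsLocalization.map_units (Localization.AtPrime n.asIdeal) s).mul_left_injective ?_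
    show algebraMap B _ _ * algebraMap B _ (s : B) = w * algebraMap B _ (s : B)
    have hts : algebraMap B (Localization.AtPrime n.asIdeal) t = algebraMap B _ (s : B) := by
      simp only [t, map_add, map_sub, map_mul, hone, map_one]; ring
    rw [hw, ← hts, ← map_mul, mul_assoc, IsUnit.val_inv_mul, mul_one]
  choose c hc using fun n => hsurj n (z n)
  refine ⟨∑ n, c n * ε n, funext fun n => ?_⟩
  refine (map_sum (algebraMap B (Localization.AtPrime n.asIdeal)) _ _).trans ?_
  rw [Finset.sum_eq_single n (fun n' _ hne => by rw [map_mul, hzero n n' hne, mul_zero])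
    (fun h => absurd (Finset.mem_univ n) h), map_mul, hone, mul_one, hc]

end Groth.Agent.Hens22

namespace Groth.Agent.Hens22

theorem exists_equiv_of_bijective {A : Type u} [CommRing A] [IsLocalRing A] (B : Type u)
    [CommRing B] [Algebra A B] [Module.Finite A B]
    (h : Function.Bijective
      (RingHom.pi (fun n : MaximalSpectrum B => algebraMap B (Localization.AtPrime n.asIdeal)))) :
    ∃ (ι : Type u) (_ : Fintype ι) (C : ι → Type u) (_ : ∀ j, CommRing (C j)),
      (∀ j, IsLocalRing (C j)) ∧ Nonempty (B ≃+* (∀ j, C j)) := by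
  have := finite_maximalSpectrum (A := A) B
  exact ⟨MaximalSpectrum B, Fintype.ofFinite _, fun n => Localization.AtPrime n.asIdeal,
    fun _ => inferInstance, fun _ => inferInstance, ⟨RingEquiv.ofBijective _ h⟩⟩

end Groth.Agent.Hens22
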