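import Groth.Agent.Hens22.Stability
import Groth.Agent.Henz21.Flat
import Groth.Agent.Henz21.Henselian
import Groth.Prelude.Def_Hens2

/-!
The henselization of an arbitrary pair, and its first properties.
-/

set_option autoImplicit false
universe u

open TensorProduct CategoryTheory

noncomputable section

namespace Groth.Agent.Hens22

open Henz21

variable {A : Type u} [CommRing A] (I : Ideal A)

/-- A pair-trivial etale neighbourhood refining a small model. -/
theorem exists_nbhd_stage (i : Pt A (A ⧸ I)) :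
    ∃ u : i.S, i.pt u = 1 ∧ ∀ t, i.pt t = 0 → u * t ∈ I.map (algebraMap A i.S) :=
  exists_etale_nbhd I i.S i.pt

/-- The map from a pair-trivial etale algebra to `A ⧸ I`. -/
theorem exists_pt_of_bijective (S : Type u) [CommRing S] [Algebra A S]
    (h : Function.Bijective
      (Ideal.quotientMap (I.map (algebraMap A S)) (algebraMap A S) Ideal.le_comap_map)) :
    ∃ σ : S →ₐ[A] A ⧸ I, ∀ s, σ s = 0 ↔ s ∈ I.map (algebraMap A S) := by
  let e := (RingEquiv.ofBijective _ h).symm
  have hc : ∀ a : A, e (Ideal.Quotient.mk _ (algebraMap A S a)) = Ideal.Quotient.mk I a := by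
    intro a
    rw [RingEquiv.symm_apply_eq]
    rfl
  refine ⟨{ e.toRingHom.comp (Ideal.Quotient.mk _) with commutes' := hc }, fun s => ?_⟩
  show e (Ideal.Quotient.mk _ s) = 0 ↔ _
  rw [EmbeddingLike.map_eq_zero_iff, Ideal.Quotient.eq_zero_iff_mem]

/-- Maps to `A ⧸ I` from a pair-trivial algebra are unique. -/
theorem pt_unique (S : Type u) [CommRing S] [Algebra A S]
    (h : Function.Surjective
      (Ideal.quotientMap (I.map (algebraMap A S)) (algebraMap A S) Ideal.le_comap_map))
    {K : Type u} [CommRing K] [Algebra A K] (hK : I.map (algebraMap A K) = ⊥)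
    (f g : S →ₐ[A] K) : f = g := by
  ext s
  obtain ⟨x, hx⟩ := h (Ideal.Quotient.mk _ s)
  obtain ⟨a, rfl⟩ := Ideal.Quotient.mk_surjective x
  rw [Ideal.quotientMap_mk, Ideal.Quotient.eq] at hx
  have key : ∀ f : S →ₐ[A] K, f s = algebraMap A K a := by
    intro f
    have h1 : f (algebraMap A S a - s) ∈ (⊥ : Ideal K) := by
      rw [← hK, show algebraMap A K = (f : S →+* K).comp (algebraMap A S) from f.comp_algebraMap.symm,
        ← Ideal.map_map]
      exact Ideal.mem_map_of_mem _ hx
    rw [Ideal.mem_bot, map_sub, AlgHom.commutes, sub_eq_zero] at h1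
    exact h1.symm
  rw [key f, key g]

/-- Every small model is dominated by a pair-trivial one. -/
theorem exists_trivial_refinement (i : Pt A (A ⧸ I)) :
    ∃ (S : Type u) (_ : CommRing S) (_ : Algebra A S) (_ : Algebra.Etale A S)
      (g : i.S →ₐ[A] S) (σ : S →ₐ[A] A ⧸ I), σ.comp g = i.pt ∧
      Function.Bijective
        (Ideal.quotientMap (I.map (algebraMap A S)) (algebraMap A S) Ideal.le_comap_map) := by
  obtain ⟨u, hu, hsep⟩ := exists_nbhd_stage I i
  let C := Localization.Away u
  have : Algebra.Etale i.S C := Algebra.Etale.of_isLocalizationAway u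
  have : Algebra.Etale A C := Algebra.Etale.comp A i.S C
  have huC : IsUnit (algebraMap i.S C u) := IsLocalization.Away.algebraMap_isUnit u
  let σ : C →ₐ[A] A ⧸ I := IsLocalization.liftAlgHom (M := Submonoid.powers u) (f := i.pt)
    (by rintro ⟨_, n, rfl⟩; simp [hu])
  have hσ : σ.comp (IsScalarTower.toAlgHom A i.S C) = i.pt := by ext s; simp [σ]
  refine ⟨C, inferInstance, inferInstance, inferInstance, IsScalarTower.toAlgHom A i.S C, σ, hσ, ?_⟩
  have hle : I.map (algebraMap A C) ≤ RingHom.ker σ := Ideal.map_le_iff_le_comap.2 fun a ha => by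
    show σ (algebraMap A C a) = 0
    rw [AlgHom.commutes, Ideal.Quotient.algebraMap_eq, Ideal.Quotient.eq_zero_iff_mem]
    exact ha
  refine ⟨?_, fun z => ?_⟩
  · rw [injective_iff_map_eq_zero]
    intro x hx
    obtain ⟨a, rfl⟩ := Ideal.Quotient.mk_surjective x
    rw [Ideal.quotientMap_mk, Ideal.Quotient.eq_zero_iff_mem] at hx
    have h2 : σ (algebraMap A C a) = 0 := hle hx
    rwa [AlgHom.commutes, Ideal.Quotient.algebraMap_eq] at h2
  · obtain ⟨c, rfl⟩ := Ideal.Quotient.mk_surjective z
    obtain ⟨t, ⟨_, n, rfl⟩, hc⟩ := IsLocalization.exists_mk'_eq (Submonoid.powers u) c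
    obtain ⟨a, ha⟩ := Ideal.Quotient.mk_surjective (i.pt t)
    refine ⟨Ideal.Quotient.mk I a, ?_⟩
    rw [Ideal.quotientMap_mk, Ideal.Quotient.eq]
    have h0 : i.pt (algebraMap A i.S a * u ^ n - t) = 0 := by
      rw [map_sub, map_mul, map_pow, hu, one_pow, mul_one, AlgHom.commutes,
        Ideal.Quotient.algebraMap_eq, ha, sub_self]
    have h4 := Ideal.mem_map_of_mem (algebraMap i.S C) (hsep _ h0)
    rw [Ideal.map_map, ← IsScalarTower.algebraMap_eq, map_mul, map_sub, map_mul, map_pow] at h4
    obtain ⟨v, hv⟩ := isUnit_iff_exists_inv'.1 (huC.pow (n + 1))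
    have h5 := Ideal.mul_mem_left _ v h4
    have hcu : c * algebraMap i.S C u ^ n = algebraMap i.S C t := by
      rw [← hc, ← map_pow]
      exact IsLocalization.mk'_spec C t (⟨u ^ n, n, rfl⟩ : Submonoid.powers u)
    convert h5 using 1
    rw [IsScalarTower.algebraMap_apply A i.S C]
    rw [← hcu]
    rw [pow_succ] at hv
    linear_combination -(algebraMap i.S C (algebraMap A i.S a) - c) * hv

/-- The kernel of the projection is generated by `I`. -/
theorem ker_proj_eq : RingHom.ker (H.proj A (A ⧸ I)) = I.map (algebraMap A (H A (A ⧸ I))) := by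
  apply le_antisymm
  · intro x hx
    obtain ⟨i, s, rfl⟩ := H.exists_rep x
    rw [RingHom.mem_ker, H.proj_incl] at hx
    obtain ⟨u, hu, hsep⟩ := exists_nbhd_stage I i
    have h1 := Ideal.mem_map_of_mem (H.incl i).toRingHom (hsep s hx)
    rw [Ideal.map_map, show (H.incl i).toRingHom.comp (algebraMap A i.S) =
      algebraMap A (H A (A ⧸ I)) from (H.incl i).comp_algebraMap] at h1
    have hunit : IsUnit (H.incl i u) := H.isUnit_of_isUnit_proj (by simp [hu])
    have h2 : H.incl i u * H.incl i s ∈ I.map (algebraMap A (H A (A ⧸ I))) := by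
      rw [← map_mul]; exact h1
    exact (Ideal.unit_mul_mem_iff_mem _ hunit).1 h2
  · refine Ideal.map_le_iff_le_comap.2 fun a ha => ?_
    show H.proj A (A ⧸ I) (algebraMap A _ a) = 0
    rw [AlgHom.commutes, Ideal.Quotient.algebraMap_eq, Ideal.Quotient.eq_zero_iff_mem]
    exact ha

theorem proj_surjective : Function.Surjective (H.proj A (A ⧸ I)) := fun z => by
  obtain ⟨a, rfl⟩ := Ideal.Quotient.mk_surjective z
  exact ⟨algebraMap A _ a, AlgHom.commutes _ a⟩

/-- The colimit of etale neighbourhoods is a henselization of the pair. -/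
theorem isPairHenselization_H : Hens2.IsPairHenselization A I (H A (A ⧸ I)) := by
  refine ⟨ker_proj_eq I ▸ H.henselianRing_ker (proj_surjective I), fun C _ J f hC hJ => ?_⟩
  let _ : Algebra A C := f.toAlgebra
  let fbar : A ⧸ I →ₐ[A] C ⧸ J :=
    Ideal.Quotient.liftₐ I ((Ideal.Quotient.mkₐ A J).comp (Algebra.ofId A C))
      (fun a ha => Ideal.Quotient.eq_zero_iff_mem.2 (hJ (Ideal.mem_map_of_mem f ha)))
  have hfbar : ∀ a : A, fbar (Ideal.Quotient.mk I a) = Ideal.Quotient.mk J (f a) := fun a => rfl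
  choose φ hφ hφu using fun i : Pt A (A ⧸ I) => existsUnique_lift J i.S (fbar.comp i.pt)
  have hcompat : ∀ (i j : Pt A (A ⧸ I)) (g : i ⟶ j), (φ j).comp g.φ = φ i := fun i j g =>
    hφu i _ (show (Ideal.Quotient.mkₐ A J).comp ((φ j).comp g.φ) = fbar.comp i.pt by
      rw [← AlgHom.comp_assoc, hφ j, AlgHom.comp_assoc, g.comp])
  refine ⟨(H.lift φ hcompat).toRingHom, (H.lift φ hcompat).comp_algebraMap, fun g hg => ?_⟩
  let g' : H A (A ⧸ I) →ₐ[A] C := { g with commutes' := fun a => RingHom.congr_fun hg a }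
  refine congrArg AlgHom.toRingHom (show g' = H.lift φ hcompat from ?_)
  refine H.algHom_ext fun i s => ?_
  rw [H.lift_incl]
  refine DFunLike.congr_fun (hφu i (g'.comp (H.incl i)) ?_) s
  ext t
  obtain ⟨a, ha⟩ := Ideal.Quotient.mk_surjective (i.pt t)
  have h1 : H.incl i t - algebraMap A _ a ∈ I.map (algebraMap A (H A (A ⧸ I))) := by
    rw [← ker_proj_eq, RingHom.mem_ker, map_sub, H.proj_incl, AlgHom.commutes,
      Ideal.Quotient.algebraMap_eq, ha, sub_self]
  have h2 := Ideal.mem_map_of_mem g h1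
  rw [Ideal.map_map, hg] at h2
  have h3 : g (H.incl i t - algebraMap A _ a) ∈ J := hJ h2
  rw [map_sub, show g (algebraMap A _ a) = f a from RingHom.congr_fun hg a,
    ← Ideal.Quotient.eq] at h3
  show Ideal.Quotient.mk J (g (H.incl i t)) = fbar (i.pt t)
  rw [h3, ← ha, hfbar]

/-- Every pair has a henselization, flat over the ring. -/
theorem exists_isPairHenselization :
    ∃ (B : Type u) (_ : CommRing B) (_ : Algebra A B),
      Hens2.IsPairHenselization A I B ∧ Module.Flat A B :=
  ⟨H A (A ⧸ I), inferInstance, inferInstance, isPairHenselization_H I, inferInstance⟩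

variable {I} {B : Type u} [CommRing B] [Algebra A B]

theorem pairHens_algHom_ext (hB : Hens2.IsPairHenselization A I B) {C : Type u} [CommRing C]
    [Algebra A C] (J : Ideal C) [hC : HenselianRing C J] (hJ : I.map (algebraMap A C) ≤ J)
    (f g : B →ₐ[A] C) : f = g :=
  AlgHom.ext (RingHom.congr_fun ((hB.2 C J (algebraMap A C) hC hJ).unique
    f.comp_algebraMap g.comp_algebraMap))

theorem pairHens_exists_algHom (hB : Hens2.IsPairHenselization A I B) {C : Type u} [CommRing C]
    [Algebra A C] (J : Ideal C) [hC : HenselianRing C J] (hJ : I.map (algebraMap A C) ≤ J) :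
    Nonempty (B →ₐ[A] C) :=
  let ⟨g, hg, _⟩ := hB.2 C J (algebraMap A C) hC hJ
  ⟨{ g with commutes' := fun a => RingHom.congr_fun hg a }⟩

/-- Henselizations of a pair are uniquely isomorphic. -/
theorem exists_algEquiv (hB : Hens2.IsPairHenselization A I B) {B' : Type u} [CommRing B']
    [Algebra A B'] (hB' : Hens2.IsPairHenselization A I B') : Nonempty (B ≃ₐ[A] B') := by
  have := hB.1
  have := hB'.1
  obtain ⟨f⟩ := pairHens_exists_algHom hB (I.map (algebraMap A B')) le_rfl
  obtain ⟨g⟩ := pairHens_exists_algHom hB' (I.map (algebraMap A B)) le_rfl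
  exact ⟨AlgEquiv.ofAlgHom f g (pairHens_algHom_ext hB' (I.map (algebraMap A B')) le_rfl _ _)
    (pairHens_algHom_ext hB (I.map (algebraMap A B)) le_rfl _ _)⟩

/-- The comparison with the colimit model. -/
def equivH (hB : Hens2.IsPairHenselization A I B) : H A (A ⧸ I) ≃ₐ[A] B :=
  (exists_algEquiv (isPairHenselization_H I) hB).some

theorem pairHens_flat (hB : Hens2.IsPairHenselization A I B) : Module.Flat A B :=
  Module.Flat.of_linearEquiv (equivH hB).symm.toLinearEquiv

/-- The map `A ⧸ I^n → B ⧸ I^n B` is surjective. -/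
theorem exists_sub_mem_pow (hB : Hens2.IsPairHenselization A I B) (n : ℕ) (x : B) :
    ∃ a : A, x - algebraMap A B a ∈ (I ^ n).map (algebraMap A B) := by
  have h1 : ∀ y : B, ∃ a : A, y - algebraMap A B a ∈ I.map (algebraMap A B) := by
    intro y
    obtain ⟨a, ha⟩ := Ideal.Quotient.mk_surjective (H.proj A (A ⧸ I) ((equivH hB).symm y))
    refine ⟨a, ?_⟩
    have h2 : (equivH hB).symm y - algebraMap A _ a ∈ I.map (algebraMap A (H A (A ⧸ I))) := by
      rw [← ker_proj_eq, RingHom.mem_ker, map_sub, AlgHom.commutes,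
        Ideal.Quotient.algebraMap_eq, ha, sub_self]
    have h3 := Ideal.mem_map_of_mem (equivH hB).toAlgHom.toRingHom h2
    rw [Ideal.map_map, show (equivH hB).toAlgHom.toRingHom.comp (algebraMap A _) =
      algebraMap A B from (equivH hB).toAlgHom.comp_algebraMap] at h3
    simpa using h3
  induction n generalizing x with
  | zero => exact ⟨0, by rw [pow_zero, Ideal.one_eq_top, Ideal.map_top]; trivial⟩
  | succ n ih =>
    obtain ⟨a, ha⟩ := ih x
    have h2 : ∀ z ∈ (I ^ n).map (algebraMap A B),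
        ∃ b : A, z - algebraMap A B b ∈ (I ^ (n + 1)).map (algebraMap A B) := by
      intro z hz
      induction hz using Submodule.span_induction with
      | mem w hw => obtain ⟨b, -, rfl⟩ := hw; exact ⟨b, by simp⟩
      | zero => exact ⟨0, by simp⟩
      | add v w _ _ hv hw =>
        obtain ⟨b, hb⟩ := hv
        obtain ⟨c, hc⟩ := hw
        refine ⟨b + c, ?_⟩
        convert add_mem hb hc using 1
        rw [map_add]; ring
      | smul r w hw' hw =>
        obtain ⟨b, hb⟩ := hw
        obtain ⟨c, hc⟩ := h1 r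
        refine ⟨c * b, ?_⟩
        have h4 : (r - algebraMap A B c) * w ∈ (I ^ (n + 1)).map (algebraMap A B) := by
          rw [pow_succ', Ideal.map_mul]
          exact Ideal.mul_mem_mul hc hw'
        convert add_mem h4 (Ideal.mul_mem_left _ (algebraMap A B c) hb) using 1
        rw [map_mul, smul_eq_mul]; ring
    obtain ⟨b, hb⟩ := h2 _ ha
    exact ⟨a + b, by rwa [map_add, ← sub_sub]⟩

/-- `A ⧸ I^n → B ⧸ I^n B` is bijective. -/
theorem quotientMap_pow_bijective (hB : Hens2.IsPairHenselization A I B) (n : ℕ) :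
    Function.Bijective
      (Ideal.quotientMap ((I ^ n).map (algebraMap A B)) (algebraMap A B) Ideal.le_comap_map) := by
  refine ⟨?_, fun z => ?_⟩
  · rw [injective_iff_map_eq_zero]
    intro x hx
    obtain ⟨a, rfl⟩ := Ideal.Quotient.mk_surjective x
    rw [Ideal.quotientMap_mk, Ideal.Quotient.eq_zero_iff_mem] at hx
    let J : Ideal (A ⧸ I ^ n) := I.map (Ideal.Quotient.mk (I ^ n))
    have hJ : J ≤ nilradical _ := Ideal.map_le_iff_le_comap.2 fun b hb =>
      ⟨n, by rw [← map_pow]; exact Ideal.Quotient.eq_zero_iff_mem.2 (Ideal.pow_mem_pow hb n)⟩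
    have := henselianRing_of_le_nilradical J hJ
    obtain ⟨g⟩ := pairHens_exists_algHom hB J (by rw [Ideal.Quotient.algebraMap_eq])
    have hle : (I ^ n).map (algebraMap A B) ≤ RingHom.ker g := Ideal.map_le_iff_le_comap.2
      fun b hb => by
        show g (algebraMap A B b) = 0
        rw [AlgHom.commutes, Ideal.Quotient.algebraMap_eq, Ideal.Quotient.eq_zero_iff_mem]
        exact hb
    have h2 : g (algebraMap A B a) = 0 := hle hx
    rwa [AlgHom.commutes, Ideal.Quotient.algebraMap_eq] at h2
  · obtain ⟨x, rfl⟩ := Ideal.Quotient.mk_surjective z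
    obtain ⟨a, ha⟩ := exists_sub_mem_pow hB n x
    exact ⟨Ideal.Quotient.mk _ a, by rw [Ideal.quotientMap_mk]; exact (Ideal.Quotient.eq.2 ha).symm⟩

theorem quotientMap_bijective (hB : Hens2.IsPairHenselization A I B) :
    Function.Bijective
      (Ideal.quotientMap (I.map (algebraMap A B)) (algebraMap A B) Ideal.le_comap_map) := by
  refine ⟨?_, fun z => ?_⟩
  · have h1 := (quotientMap_pow_bijective hB 1).1
    rw [injective_iff_map_eq_zero] at h1 ⊢
    intro x hx
    obtain ⟨a, rfl⟩ := Ideal.Quotient.mk_surjective x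
    have := h1 (Ideal.Quotient.mk (I ^ 1) a) (by
      rw [Ideal.quotientMap_mk, Ideal.Quotient.eq_zero_iff_mem] at hx ⊢
      rwa [pow_one])
    rw [Ideal.Quotient.eq_zero_iff_mem] at this ⊢
    simpa using this
  · obtain ⟨x, rfl⟩ := Ideal.Quotient.mk_surjective z
    obtain ⟨a, ha⟩ := exists_sub_mem_pow hB 1 x
    rw [pow_one] at ha
    exact ⟨Ideal.Quotient.mk _ a, by rw [Ideal.quotientMap_mk]; exact (Ideal.Quotient.eq.2 ha).symm⟩

end Groth.Agent.Hens22
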