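import Groth.Agent.Hens22.Idempotents
import Mathlib.RingTheory.ZariskisMainTheorem
import Mathlib.RingTheory.Etale.Basic
import Mathlib.RingTheory.Unramified.Finite
import Mathlib.RingTheory.RingHom.FiniteType
import Mathlib.RingTheory.Ideal.IdempotentFG

/-!
Unique lifting of etale algebras along henselian pairs.
-/

set_option autoImplicit false
universe u v

open TensorProduct

namespace Groth.Agent.Hens22

variable {A : Type u} [CommRing A]

theorem quasiFinite_of_unramified (S : Type*) [CommRing S] [Algebra A S]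
    [Algebra.EssFiniteType A S] [Algebra.FormallyUnramified A S] : Algebra.QuasiFinite A S :=
  ⟨fun _ _ => Algebra.FormallyUnramified.finite_of_free _ _⟩

/-- Along the zero locus of `I` a finite type quasi-finite algebra, trivial modulo `I`, splits off
a factor on which it is finite. -/
theorem exists_finite_away (I : Ideal A) [HenselianRing A I] (A' : Type u) [CommRing A']
    [Algebra A A'] [Algebra.FiniteType A A'] [Algebra.QuasiFinite A A']
    (hsurj : Function.Surjective
      (Ideal.quotientMap (I.map (algebraMap A A')) (algebraMap A A') Ideal.le_comap_map)) :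
    ∃ ε : A', ε - 1 ∈ I.map (algebraMap A A') ∧ IsIntegral A ε ∧
      ∀ y, IsIntegral A (ε * y) ∧ IsIdempotentElem ε := by
  classical
  let B := integralClosure A A'
  have hint : Algebra.IsIntegral A B := integralClosure.AlgebraIsIntegral
  set I' := I.map (algebraMap A A')
  set K : Ideal B := I'.comap B.val.toRingHom
  have hres : ∀ y : A', ∃ a : A, y - algebraMap A A' a ∈ I' := by
    intro y
    obtain ⟨z, hz⟩ := hsurj (Ideal.Quotient.mk I' y)
    obtain ⟨a, rfl⟩ := Ideal.Quotient.mk_surjective z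
    exact ⟨a, by rw [← Ideal.Quotient.eq]; exact hz.symm⟩
  -- denominators
  set D : Ideal A' := Ideal.span
    {r : A' | IsIntegral A r ∧ ∀ x, ∃ m, IsIntegral A (r ^ m * x)}
  have hD : D ⊔ I' = ⊤ := by
    by_contra h
    obtain ⟨P, hP, hle⟩ := Ideal.exists_le_maximal _ h
    obtain ⟨r, hr, hr1, hr2⟩ := Algebra.zariskisMainProperty_iff.1
      (Algebra.ZariskisMainProperty.of_finiteType (R := A) P)
    exact hr (hle (Ideal.mem_sup_left (Ideal.subset_span ⟨hr1, hr2⟩)))
  let DB : Ideal B := Ideal.span {r : B | ∀ x, ∃ m, IsIntegral A ((r : A') ^ m * x)}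
  have hDB : DB ⊔ K = ⊤ := by
    rw [Ideal.eq_top_iff_one]
    have h1 : (1 : A') ∈ D ⊔ I' := hD ▸ Submodule.mem_top
    have h2 : ∀ d ∈ D, ∃ b ∈ DB, d - (b : A') ∈ I' := by
      intro d hd
      induction hd using Submodule.span_induction with
      | mem x hx => exact ⟨⟨x, hx.1⟩, Ideal.subset_span hx.2, by simp⟩
      | zero => exact ⟨0, zero_mem _, by simp⟩
      | add x y _ _ hx hy =>
        obtain ⟨b, hb, hb'⟩ := hx
        obtain ⟨c, hc, hc'⟩ := hy
        refine ⟨b + c, add_mem hb hc, ?_⟩
        have := add_mem hb' hc'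
        convert this using 1
        push_cast; ring
      | smul r x _ hx =>
        obtain ⟨b, hb, hb'⟩ := hx
        obtain ⟨a, ha⟩ := hres r
        refine ⟨algebraMap A B a * b, Ideal.mul_mem_left _ _ hb, ?_⟩
        have := add_mem (Ideal.mul_mem_right x _ ha) (Ideal.mul_mem_left _ (algebraMap A A' a) hb')
        convert this using 1
        push_cast
        rw [smul_eq_mul]; ring
    obtain ⟨d, hd, i, hi, hdi⟩ := Submodule.mem_sup.1 h1
    obtain ⟨b, hb, hb'⟩ := h2 d hd
    refine Submodule.mem_sup.2 ⟨b, hb, 1 - b, ?_, by ring⟩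
    show ((1 - b : B) : A') ∈ I'
    have := add_mem hb' hi
    convert this using 1
    push_cast
    linear_combination -hdi
  -- elements of K are killed modulo IB by powers of the denominators
  have hK : ∀ r : B, (∀ x, ∃ m, IsIntegral A ((r : A') ^ m * x)) → ∀ x ∈ K,
      ∃ m, r ^ m * x ∈ I.map (algebraMap A B) := by
    intro r hr x hx
    suffices ∀ y ∈ I', ∃ m, ∃ h : IsIntegral A ((r : A') ^ m * y),
        (⟨_, h⟩ : B) ∈ I.map (algebraMap A B) by
      obtain ⟨m, h, hm⟩ := this _ hx
      refine ⟨m, ?_⟩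
      have hx' : r ^ m * x = (⟨_, h⟩ : B) := Subtype.ext (by simp)
      rw [hx']; exact hm
    intro y hy
    induction hy using Submodule.span_induction with
    | mem z hz =>
      obtain ⟨a, ha, rfl⟩ := hz
      refine ⟨0, by simpa using isIntegral_algebraMap, ?_⟩
      convert Ideal.mem_map_of_mem (algebraMap A B) ha using 1
      apply Subtype.ext
      simp
    | zero =>
      refine ⟨0, by simp [isIntegral_zero], ?_⟩
      have h0 : (⟨(r : A') ^ 0 * 0, by simp [isIntegral_zero]⟩ : B) = 0 := Subtype.ext (by simp)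
      rw [h0]; exact zero_mem _
    | add z w _ _ hz hw =>
      obtain ⟨m, h, hm⟩ := hz
      obtain ⟨n, h', hn⟩ := hw
      have := add_mem (Ideal.mul_mem_left _ (r ^ n) hm) (Ideal.mul_mem_left _ (r ^ m) hn)
      have heq : ((r ^ n * ⟨_, h⟩ + r ^ m * ⟨_, h'⟩ : B) : A') = (r : A') ^ (m + n) * (z + w) := by
        push_cast; ring
      refine ⟨m + n, by rw [← heq]; exact (mem_integralClosure_iff A A').1 (SetLike.coe_mem _), ?_⟩
      convert this using 1
      exact Subtype.ext heq.symm
    | smul c z _ hz =>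
      obtain ⟨m, h, hm⟩ := hz
      obtain ⟨n, hn⟩ := hr c
      have := Ideal.mul_mem_left _ (⟨_, hn⟩ : B) hm
      have heq : ((⟨_, hn⟩ * ⟨_, h⟩ : B) : A') = (r : A') ^ (m + n) * (c • z) := by
        push_cast; rw [smul_eq_mul]; ring
      refine ⟨m + n, by rw [← heq]; exact (mem_integralClosure_iff A A').1 (SetLike.coe_mem _), ?_⟩
      convert this using 1
      exact Subtype.ext heq.symm
  let ann : B → Ideal B := fun x =>
    { carrier := {b | b * x ∈ I.map (algebraMap A B)}
      zero_mem' := by simp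
      add_mem' := fun {a b} ha hb => by
        simp only [Set.mem_ofPred_eq] at ha hb ⊢
        rw [add_mul]; exact add_mem ha hb
      smul_mem' := fun c {b} hb => by
        simp only [Set.mem_ofPred_eq] at hb ⊢
        rw [smul_eq_mul, mul_assoc]; exact Ideal.mul_mem_left _ c hb }
  have hann : ∀ x ∈ K, DB ≤ (ann x).radical := fun x hx =>
    Ideal.span_le.2 fun r hr => hK r hr x hx
  obtain ⟨b, hb, k, hk, hbk⟩ := Submodule.mem_sup.1 (hDB ▸ Submodule.mem_top (x := (1 : B)))
  obtain ⟨M, hM⟩ := hann k hk hb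
  set e := b ^ M
  have hek : ∃ w, e = 1 + k * w := by
    have hbk' : b = 1 - k := eq_sub_of_add_eq hbk
    obtain ⟨w, hw⟩ := sub_one_dvd_pow_sub_one b M
    exact ⟨-w, by linear_combination hw + w * hbk⟩
  obtain ⟨w, hw⟩ := hek
  have he : e * e - e ∈ I.map (algebraMap A B) := by
    have : e * e - e = w * (e * k) := by linear_combination e * hw
    rw [this]
    exact Ideal.mul_mem_left _ _ hM
  obtain ⟨ε, hε, hεe⟩ := exists_idempotent_lift I he
  have hεK : ∀ x ∈ K, ε * x ∈ I.map (algebraMap A B) := by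
    intro x hx
    obtain ⟨m, hm⟩ := hann x hx hb
    have hm' : b ^ m * x ∈ I.map (algebraMap A B) := hm
    have h1 : ∀ j, (e ^ (j + 1) - e) * x ∈ I.map (algebraMap A B) := by
      intro j
      induction j with
      | zero => simp
      | succ j ih =>
        have : (e ^ (j + 1 + 1) - e) * x = e * ((e ^ (j + 1) - e) * x) + (e * e - e) * x := by ring
        rw [this]
        exact add_mem (Ideal.mul_mem_left _ _ ih) (Ideal.mul_mem_right _ _ he)
    have h2 : b ^ (M * (m + 1)) * x ∈ I.map (algebraMap A B) := by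
      rcases Nat.eq_zero_or_pos M with hM0 | hM0
      · have hek0 : k ∈ I.map (algebraMap A B) := by simpa [hM0] using (hM : b ^ M * k ∈ _)
        have hb1 : 1 - b ^ m ∈ I.map (algebraMap A B) := by
          obtain ⟨c, hc⟩ := sub_one_dvd_pow_sub_one b m
          have : 1 - b ^ m = k * c := by linear_combination -hc - c * hbk
          rw [this]
          exact Ideal.mul_mem_right _ _ hek0
        rw [hM0, zero_mul, pow_zero, one_mul]
        have : x = b ^ m * x + (1 - b ^ m) * x := by ring
        rw [this]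
        exact add_mem hm' (Ideal.mul_mem_right _ _ hb1)
      · have hle : m ≤ M * (m + 1) := le_trans (Nat.le_succ m) (Nat.le_mul_of_pos_left _ hM0)
        obtain ⟨j, hj⟩ := Nat.exists_eq_add_of_le hle
        rw [hj, pow_add, mul_comm (b ^ m), mul_assoc]
        exact Ideal.mul_mem_left _ _ hm'
    have h3 : ε * x = (ε - e) * x + (e ^ (m + 1) * x - (e ^ (m + 1) - e) * x) := by ring
    rw [h3]
    refine add_mem (Ideal.mul_mem_right _ _ hεe) (sub_mem ?_ (h1 m))
    rw [← pow_mul]; exact h2
  have hεI : ((ε : B) : A') - 1 ∈ I' := by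
    have h1 : ((ε - e : B) : A') ∈ I' := by
      have := Ideal.mem_map_of_mem B.val.toRingHom hεe
      rw [Ideal.map_map, show B.val.toRingHom.comp (algebraMap A B) = algebraMap A A' from
        RingHom.ext fun _ => rfl] at this
      exact this
    have hk' : (k : A') ∈ I' := hk
    have h2 := add_mem h1 (I'.mul_mem_right (w : A') hk')
    convert h2 using 1
    have := congrArg (Subtype.val : B → A') hw
    push_cast at this ⊢
    linear_combination this
  refine ⟨ε, hεI, ε.2, fun y => ⟨?_, by exact congrArg Subtype.val hε⟩⟩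
  let N : Ideal B :=
    { carrier := {c | IsIntegral A ((c : A') * (ε : A') * y)}
      zero_mem' := by simpa using isIntegral_zero
      add_mem' := fun {c d} hc hd => by
        simp only [Set.mem_ofPred_eq] at hc hd ⊢
        have := hc.add hd
        convert this using 1
        push_cast; ring
      smul_mem' := fun c {d} hd => by
        simp only [Set.mem_ofPred_eq] at hd ⊢
        have := IsIntegral.mul c.2 hd
        convert this using 1
        push_cast [smul_eq_mul]; ring }
  suffices hN : N = ⊤ by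
    have : (1 : B) ∈ N := hN ▸ Submodule.mem_top
    simpa [N] using this
  by_contra hN
  obtain ⟨Q, hQ, hNQ⟩ := Ideal.exists_le_maximal _ hN
  have h1ε : 1 - ε ∈ Q := hNQ (by
    show IsIntegral A (((1 - ε : B) : A') * (ε : A') * y)
    have := congrArg (Subtype.val : B → A') hε.eq
    push_cast at this ⊢
    rw [show (1 - (ε : A')) * ε * y = 0 by linear_combination (-y) * this]
    exact isIntegral_zero)
  have hεQ : ε ∉ Q := fun h => hQ.ne_top (Q.eq_top_iff_one.2 (by simpa using add_mem h1ε h))
  have hIQ : I.map (algebraMap A B) ≤ Q :=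
    (map_le_jacobson_of_isIntegral HenselianRing.jac B).trans (sInf_le ⟨bot_le, hQ⟩)
  have hKQ : K ≤ Q := fun x hx => (hQ.isPrime.mem_or_mem (hIQ (hεK x hx))).resolve_left hεQ
  have hDQ : DB ≤ Q := Ideal.span_le.2 fun r hr => by
    obtain ⟨m, hm⟩ := hr ((ε : A') * y)
    have : r ^ m ∈ N := by
      show IsIntegral A (((r ^ m : B) : A') * (ε : A') * y)
      push_cast; rw [mul_assoc]; exact hm
    exact hQ.isPrime.mem_of_pow_mem m (hNQ this)
  exact hQ.ne_top (top_le_iff.1 (hDB ▸ sup_le hDQ hKQ))

/-- An etale algebra, trivial modulo a henselian ideal, has a retraction. -/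
theorem exists_retraction (I : Ideal A) [HenselianRing A I] (A' : Type u) [CommRing A']
    [Algebra A A'] [Algebra.Etale A A']
    (h : Function.Bijective
      (Ideal.quotientMap (I.map (algebraMap A A')) (algebraMap A A') Ideal.le_comap_map)) :
    Nonempty (A' →ₐ[A] A) := by
  have : Algebra.QuasiFinite A A' := quasiFinite_of_unramified A'
  obtain ⟨ε, hεI, -, hε⟩ := exists_finite_away I A' h.2
  have hid : IsIdempotentElem ε := (hε 0).2
  set I' := I.map (algebraMap A A')
  let C := Localization.Away ε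
  let q : A' →ₐ[A] C := IsScalarTower.toAlgHom A A' C
  have hqε : q ε = 1 := by
    have hu : IsUnit (q ε) := IsLocalization.Away.algebraMap_isUnit ε
    exact (IsIdempotentElem.iff_eq_one_of_isUnit hu).1 (hid.map q)
  have hq : Function.Surjective q := by
    intro z
    obtain ⟨x, ⟨_, n, rfl⟩, rfl⟩ := IsLocalization.exists_mk'_eq (Submonoid.powers ε) z
    refine ⟨x, (IsLocalization.eq_mk'_iff_mul_eq.2 ?_)⟩
    show algebraMap A' C x * algebraMap A' C (ε ^ n) = _
    rw [map_pow, show algebraMap A' C ε = 1 from hqε, one_pow, mul_one]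
  have : Algebra.IsIntegral A C := ⟨fun z => by
    obtain ⟨x, rfl⟩ := hq z
    have := (hε x).1.map q
    rwa [map_mul, hqε, one_mul] at this⟩
  have : Algebra.FiniteType A C := Algebra.FiniteType.of_surjective q hq
  have : Module.Finite A C := Algebra.IsIntegral.finite
  have : Algebra.Etale A' C := Algebra.Etale.of_isLocalizationAway ε
  have : Algebra.Etale A C := Algebra.Etale.comp A A' C
  have hIC : I.map (algebraMap A C) = I'.map q.toRingHom := by
    rw [Ideal.map_map, show q.toRingHom.comp (algebraMap A A') = algebraMap A C from q.comp_algebraMap]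
  have hsurj : Function.Surjective (algebraMap A C) := by
    have htop : (⊤ : Submodule A C) ≤
        (LinearMap.range (Algebra.linearMap A C)) ⊔ I • ⊤ := by
      rintro z -
      obtain ⟨x, rfl⟩ := hq z
      obtain ⟨a, ha⟩ := h.2 (Ideal.Quotient.mk I' x)
      obtain ⟨a, rfl⟩ := Ideal.Quotient.mk_surjective a
      have hx : x - algebraMap A A' a ∈ I' := Ideal.Quotient.eq.1 ha.symm
      refine Submodule.mem_sup.2 ⟨algebraMap A C a, ⟨a, rfl⟩, q (x - algebraMap A A' a), ?_, ?_⟩
      · rw [Ideal.smul_top_eq_map, Submodule.restrictScalars_mem, hIC]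
        exact Ideal.mem_map_of_mem q.toRingHom hx
      · rw [map_sub, AlgHom.commutes]; ring
    intro z
    obtain ⟨a, ha⟩ := Submodule.le_of_le_smul_of_le_jacobson_bot Module.Finite.fg_top
      HenselianRing.jac htop (Submodule.mem_top (x := z))
    exact ⟨a, ha⟩
  have hker : RingHom.ker (algebraMap A C) ≤ I := by
    intro a ha
    have h1 : q (algebraMap A A' a) = 0 := by rw [AlgHom.commutes]; exact ha
    obtain ⟨⟨_, n, rfl⟩, hm⟩ := (IsLocalization.map_eq_zero_iff (Submonoid.powers ε) C _).1 h1
    have hεn : 1 - ε ^ n ∈ I' := by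
      obtain ⟨c, hc⟩ := sub_one_dvd_pow_sub_one ε n
      have : 1 - ε ^ n = (ε - 1) * -c := by linear_combination -hc
      rw [this]; exact Ideal.mul_mem_right _ _ hεI
    have h2 : algebraMap A A' a ∈ I' := by
      have hm' : ε ^ n * algebraMap A A' a = 0 := hm
      rw [show algebraMap A A' a = (1 - ε ^ n) * algebraMap A A' a by linear_combination hm']
      exact Ideal.mul_mem_right _ _ hεn
    have := h.1 (a₁ := Ideal.Quotient.mk I a) (a₂ := 0) (by
      rw [map_zero, Ideal.quotientMap_mk, Ideal.Quotient.eq_zero_iff_mem]; exact h2)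
    rwa [Ideal.Quotient.eq_zero_iff_mem] at this
  have hfg : (RingHom.ker (algebraMap A C)).FG :=
    Algebra.FinitePresentation.ker_fG_of_surjective (Algebra.ofId A C) hsurj
  have hidem : IsIdempotentElem (RingHom.ker (algebraMap A C)) :=
    (Algebra.FormallyEtale.iff_of_surjective hsurj).1 inferInstance
  have hbot : RingHom.ker (algebraMap A C) = ⊥ :=
    Submodule.eq_bot_of_le_smul_of_le_jacobson_bot _ _ hfg (by rw [smul_eq_mul, hidem.eq])
      (hker.trans HenselianRing.jac)
  have hbij : Function.Bijective (Algebra.ofId A C) :=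
    ⟨(RingHom.injective_iff_ker_eq_bot _).2 hbot, hsurj⟩
  exact ⟨(AlgEquiv.ofBijective _ hbij).symm.toAlgHom.comp q⟩

/-- Maps out of a formally unramified algebra agreeing modulo an ideal in the radical are equal. -/
theorem algHom_ext_of_sub_mem_jacobson (S : Type*) [CommRing S] [Algebra A S]
    [Algebra.EssFiniteType A S] [Algebra.FormallyUnramified A S] {T : Type*} [CommRing T]
    [Algebra A T] (f g : S →ₐ[A] T) (h : ∀ s, f s - g s ∈ Ideal.jacobson (⊥ : Ideal T)) :
    f = g := by
  obtain ⟨t, ht, ht1⟩ := Algebra.FormallyUnramified.iff_exists_tensorProduct.1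
    (inferInstance : Algebra.FormallyUnramified A S)
  set Φ := Algebra.TensorProduct.lift f g fun _ _ => Commute.all _ _
  have hone : Φ t - 1 ∈ Ideal.jacobson (⊥ : Ideal T) := by
    have hgen : ∀ x : S ⊗[A] S,
        Φ x - f (Algebra.TensorProduct.lmul' A x) ∈ Ideal.jacobson (⊥ : Ideal T) := by
      intro x
      induction x with
      | zero => simp
      | tmul a b =>
        simp only [Φ, Algebra.TensorProduct.lift_tmul, Algebra.TensorProduct.lmul'_apply_tmul,
          map_mul, ← mul_sub]
        refine Ideal.mul_mem_left _ _ ?_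
        rw [← neg_sub]; exact neg_mem (h b)
      | add x y hx hy =>
        have := add_mem hx hy
        convert this using 1
        simp only [map_add]; ring
    simpa [ht1] using hgen t
  have hu : IsUnit (Φ t) := by
    have := Ideal.mem_jacobson_bot.1 hone 1
    simpa using this
  ext s
  have := congrArg Φ (ht s)
  rw [map_mul, map_zero, hu.mul_left_eq_zero, map_sub] at this
  simp only [Φ, Algebra.TensorProduct.lift_tmul, map_one, one_mul, mul_one, sub_eq_zero] at this
  exact this.symm

/-- An etale algebra with a point in `A ⧸ I` has a neighbourhood of it that is trivial modulo `I`. -/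
theorem exists_etale_nbhd {B : Type u} [CommRing B] (J : Ideal B) (T : Type u) [CommRing T]
    [Algebra B T] [Algebra.Etale B T] (τ : T →ₐ[B] B ⧸ J) :
    ∃ u : T, τ u = 1 ∧ ∀ t, τ t = 0 → u * t ∈ J.map (algebraMap B T) := by
  classical
  let τ' : (B ⧸ J) ⊗[B] T →ₐ[B ⧸ J] B ⧸ J :=
    Algebra.TensorProduct.lift (Algebra.ofId _ _) τ fun _ _ => Commute.all _ _
  let _ : Algebra ((B ⧸ J) ⊗[B] T) (B ⧸ J) := τ'.toRingHom.toAlgebra
  have : IsScalarTower (B ⧸ J) ((B ⧸ J) ⊗[B] T) (B ⧸ J) :=
    IsScalarTower.of_algebraMap_eq fun x => (τ'.commutes x).symm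
  have : Algebra.Etale ((B ⧸ J) ⊗[B] T) (B ⧸ J) :=
    Algebra.Etale.of_restrictScalars (B ⧸ J) _ _
  have hs' : Function.Surjective (algebraMap ((B ⧸ J) ⊗[B] T) (B ⧸ J)) :=
    fun z => ⟨algebraMap (B ⧸ J) _ z, τ'.commutes z⟩
  obtain ⟨e, he, he'⟩ := (Ideal.isIdempotentElem_iff_of_fg _
    (Algebra.FinitePresentation.ker_fG_of_surjective
      (Algebra.ofId ((B ⧸ J) ⊗[B] T) (B ⧸ J)) hs')).1
    ((Algebra.FormallyEtale.iff_of_surjective hs').1 inferInstance)
  replace he' : RingHom.ker (algebraMap ((B ⧸ J) ⊗[B] T) (B ⧸ J)) = Ideal.span {e} := he'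
  obtain ⟨u, hu⟩ : ∃ u : T, (1 : B ⧸ J) ⊗ₜ[B] u = 1 - e := by
    induction (1 - e) with
    | zero => exact ⟨0, tmul_zero _ _⟩
    | tmul a t =>
      obtain ⟨b, rfl⟩ := Ideal.Quotient.mk_surjective a
      refine ⟨b • t, ?_⟩
      rw [← smul_tmul]
      congr 1
      rw [Algebra.smul_def, mul_one]; rfl
    | add x y hx hy =>
      obtain ⟨a, ha⟩ := hx
      obtain ⟨b, hb⟩ := hy
      exact ⟨a + b, by rw [tmul_add, ha, hb]⟩
  have hτ' : ∀ t : T, τ' (1 ⊗ₜ t) = τ t := fun t => by
    simp [τ', Algebra.TensorProduct.lift_tmul]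
  have hτe : τ' e = 0 := by
    have hmem : e ∈ RingHom.ker (algebraMap ((B ⧸ J) ⊗[B] T) (B ⧸ J)) :=
      he' ▸ Ideal.mem_span_singleton_self e
    exact hmem
  refine ⟨u, by rw [← hτ', hu, map_sub, map_one, hτe, sub_zero], fun t ht => ?_⟩
  have hk : (1 : B ⧸ J) ⊗ₜ[B] t ∈ RingHom.ker (algebraMap ((B ⧸ J) ⊗[B] T) (B ⧸ J)) := by
    show τ' ((1 : B ⧸ J) ⊗ₜ[B] t) = 0
    rw [hτ', ht]
  rw [he'] at hk
  obtain ⟨c, hc⟩ := Ideal.mem_span_singleton'.1 hk
  have h0 : (1 : B ⧸ J) ⊗ₜ[B] (u * t) = 0 := by
    have hmul : (1 : B ⧸ J) ⊗ₜ[B] (u * t) = ((1 : B ⧸ J) ⊗ₜ[B] u) * ((1 : B ⧸ J) ⊗ₜ[B] t) := by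
      rw [Algebra.TensorProduct.tmul_mul_tmul, one_mul]
    rw [hmul, hu, ← hc]
    linear_combination (-c) * he.eq
  have h3 : Submodule.Quotient.mk (p := J • (⊤ : Submodule B T)) (u * t) = 0 := by
    rw [← TensorProduct.quotTensorEquivQuotSMul_mk_one_tmul, h0, map_zero]
  rw [Submodule.Quotient.mk_eq_zero, Ideal.smul_top_eq_map, Submodule.restrictScalars_mem] at h3
  exact h3

/-- A map from an etale algebra into the quotient of a henselian pair lifts. -/
theorem exists_lift {B : Type u} [CommRing B] (J : Ideal B) [HenselianRing B J] [Algebra A B]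
    (S : Type u) [CommRing S] [Algebra A S] [Algebra.Etale A S] (σ : S →ₐ[A] B ⧸ J) :
    ∃ f : S →ₐ[A] B, (Ideal.Quotient.mkₐ A J).comp f = σ := by
  classical
  let T := B ⊗[A] S
  let τ : T →ₐ[B] B ⧸ J :=
    Algebra.TensorProduct.lift (Algebra.ofId B (B ⧸ J)) σ fun _ _ => Commute.all _ _
  obtain ⟨u, hτu, hsep⟩ := exists_etale_nbhd J T τ
  let C := Localization.Away u
  have : Algebra.Etale B C := Algebra.Etale.comp B T C
  have huC : IsUnit (algebraMap T C u) := IsLocalization.Away.algebraMap_isUnit u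
  let τC : C →ₐ[B] B ⧸ J := IsLocalization.liftAlgHom (M := Submonoid.powers u) (f := τ)
    (by rintro ⟨_, n, rfl⟩; simp [hτu])
  have hker : ∀ t : T, τ t = 0 → algebraMap T C t ∈ J.map (algebraMap B C) := by
    intro t ht
    have h4 := Ideal.mem_map_of_mem (algebraMap T C) (hsep t ht)
    rw [Ideal.map_map, ← IsScalarTower.algebraMap_eq, map_mul] at h4
    obtain ⟨v, hv⟩ := isUnit_iff_exists_inv'.1 huC
    have h5 := Ideal.mul_mem_left _ v h4
    rwa [← mul_assoc, hv, one_mul] at h5
  have hbij : Function.Bijective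
      (Ideal.quotientMap (J.map (algebraMap B C)) (algebraMap B C) Ideal.le_comap_map) := by
    refine ⟨?_, fun z => ?_⟩
    · rw [injective_iff_map_eq_zero]
      intro x hx
      obtain ⟨b, rfl⟩ := Ideal.Quotient.mk_surjective x
      rw [Ideal.quotientMap_mk, Ideal.Quotient.eq_zero_iff_mem] at hx
      have hle : J.map (algebraMap B C) ≤ RingHom.ker τC :=
        Ideal.map_le_iff_le_comap.2 fun b hb => by
          show τC (algebraMap B C b) = 0
          rw [AlgHom.commutes, Ideal.Quotient.algebraMap_eq, Ideal.Quotient.eq_zero_iff_mem]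
          exact hb
      have h2 : τC (algebraMap B C b) = 0 := hle hx
      rwa [AlgHom.commutes, Ideal.Quotient.algebraMap_eq] at h2
    · obtain ⟨c, rfl⟩ := Ideal.Quotient.mk_surjective z
      obtain ⟨t, ⟨_, n, rfl⟩, rfl⟩ := IsLocalization.exists_mk'_eq (Submonoid.powers u) c
      obtain ⟨b, hb⟩ := Ideal.Quotient.mk_surjective (τ t)
      refine ⟨Ideal.Quotient.mk J b, ?_⟩
      rw [Ideal.quotientMap_mk, Ideal.Quotient.eq]
      have h0 : τ (algebraMap B T b * u ^ n - t) = 0 := by
        rw [map_sub, map_mul, map_pow, hτu, one_pow, mul_one, AlgHom.commutes,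
          Ideal.Quotient.algebraMap_eq, hb, sub_self]
      have h1 := hker _ h0
      obtain ⟨v, hv⟩ := isUnit_iff_exists_inv'.1 (huC.pow n)
      have := Ideal.mul_mem_left _ v h1
      convert this using 1
      have hmk : IsLocalization.mk' C t (⟨u ^ n, n, rfl⟩ : Submonoid.powers u) = v * algebraMap T C t := by
        rw [IsLocalization.mk'_eq_iff_eq_mul]
        show algebraMap T C t = v * algebraMap T C t * algebraMap T C (u ^ n)
        rw [map_pow]
        linear_combination (-algebraMap T C t) * hv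
      rw [map_sub, map_mul, map_pow, mul_sub]
      rw [IsScalarTower.algebraMap_apply B T C]
      rw [show (IsLocalization.mk' C t (⟨u ^ n, n, rfl⟩ : Submonoid.powers u)) = _ from hmk]
      linear_combination (-algebraMap T C (algebraMap B T b)) * hv
  obtain ⟨r⟩ := exists_retraction J C hbij
  refine ⟨((r.comp (IsScalarTower.toAlgHom B T C)).restrictScalars A).comp
    (Algebra.TensorProduct.includeRight : S →ₐ[A] T), ?_⟩
  ext s
  have hfac : ∀ c : C, Ideal.Quotient.mk J (r c) = τC c := by
    intro c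
    obtain ⟨x, hx⟩ := hbij.2 (Ideal.Quotient.mk _ c)
    obtain ⟨b, rfl⟩ := Ideal.Quotient.mk_surjective x
    rw [Ideal.quotientMap_mk, Ideal.Quotient.eq] at hx
    have hr : J.map (algebraMap B C) ≤ Ideal.comap r J :=
      Ideal.map_le_iff_le_comap.2 fun b hb => by
        show r (algebraMap B C b) ∈ J
        rw [AlgHom.commutes]; exact hb
    have hτl : J.map (algebraMap B C) ≤ RingHom.ker τC :=
      Ideal.map_le_iff_le_comap.2 fun b hb => by
        show τC (algebraMap B C b) = 0
        rw [AlgHom.commutes, Ideal.Quotient.algebraMap_eq, Ideal.Quotient.eq_zero_iff_mem]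
        exact hb
    have h1 : r (algebraMap B C b - c) ∈ J := hr hx
    have h2 : τC (algebraMap B C b - c) = 0 := hτl hx
    rw [map_sub, AlgHom.commutes, Algebra.algebraMap_self_apply, ← Ideal.Quotient.eq] at h1
    rw [map_sub, AlgHom.commutes, sub_eq_zero] at h2
    rw [← h1, ← h2]; rfl
  show Ideal.Quotient.mk J (r (algebraMap T C (Algebra.TensorProduct.includeRight s))) = σ s
  rw [hfac]
  simp only [τC, IsLocalization.coe_liftAlgHom, IsLocalization.lift_eq]
  show (Algebra.TensorProduct.lift (Algebra.ofId B (B ⧸ J)) σ fun _ _ => Commute.all _ _) ((1 : B) ⊗ₜ[A] s) = σ s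
  rw [Algebra.TensorProduct.lift_tmul, map_one, one_mul]

/-- Etale algebras map uniquely into henselian pairs. -/
theorem existsUnique_lift {B : Type u} [CommRing B] (J : Ideal B) [HenselianRing B J] [Algebra A B]
    (S : Type u) [CommRing S] [Algebra A S] [Algebra.Etale A S] (σ : S →ₐ[A] B ⧸ J) :
    ∃! f : S →ₐ[A] B, (Ideal.Quotient.mkₐ A J).comp f = σ := by
  obtain ⟨f, hf⟩ := exists_lift J S σ
  refine ⟨f, hf, fun g hg => algHom_ext_of_sub_mem_jacobson S g f fun s => ?_⟩
  refine (HenselianRing.jac (I := J)) (Ideal.Quotient.eq.1 ?_)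
  exact DFunLike.congr_fun (hg.trans hf.symm) s

end Groth.Agent.Hens22
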