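import Groth.Agent.Approx60.ProperDesc
import Groth.Agent.Approx60.Absolute
import Groth.Agent.Approx60.ImmStage
import Groth.Agent.LimTop61.FgSubalgLimit
import Groth.Agent.ConsProp93.Approx

/-!
Noetherian models of proper schemes of finite presentation, and descent of clopen subsets.
-/

set_option autoImplicit false
set_option backward.isDefEq.respectTransparency false
set_option backward.defeqAttrib.useBackward true
universe u

noncomputable section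

open CategoryTheory CategoryTheory.Limits AlgebraicGeometry Opposite TopologicalSpace

namespace Groth.Agent.Hens22.ProperModel

theorem exists_proper_model (A : Type u) [CommRing A] {X : Scheme.{u}}
    (f : X ⟶ Spec (CommRingCat.of A)) [IsProper f] [LocallyOfFinitePresentation f] :
    ∃ (A₁ : Type u) (_ : CommRing A₁) (_ : IsNoetherianRing A₁) (_ : Algebra A₁ A) (X₁ : Scheme.{u})
      (f₁ : X₁ ⟶ Spec (CommRingCat.of A₁)) (_ : IsProper f₁) (g : X ⟶ X₁),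
      IsPullback g f f₁ (Spec.map (CommRingCat.ofHom (algebraMap A₁ A))) := by
  obtain ⟨J, _, _, D, π, hD, ⟨hc⟩⟩ := Approx60.exists_approximation (Spec (CommRingCat.of A))
  haveI := hD.aff
  haveI := hD.compact
  haveI hln : ∀ i, IsLocallyNoetherian (D.obj i) := fun i =>
    @Approx60.isLocallyNoetherian_of_lft_toZ _ (hD.lft i)
  obtain ⟨i, Xi, ui, e, hl, hqc, hqs, he⟩ := Approx60.S0591 D _ hc X f
  haveI := hl
  haveI := hqc
  haveI := hqs
  have hlim : IsProper (pullback.snd ui ((Cone.mk _ π).π.app i)) :=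
    (LimDesc62.prop_iff_of_isPullback (P := @IsProper) he).mp ‹IsProper f›
  obtain ⟨j, φ, hj⟩ := Approx60.descProp_isProper.desc D (Cone.mk _ π) hc i ui
    (inferInstance : LocallyOfFiniteType ui) hlim
  obtain ⟨e₁, -, hX₁⟩ := ConsProp93.exists_isPullback_of_fac he (IsPullback.of_hasPullback ui (D.map φ))
    (π.app j) ((Cone.mk _ π).w φ)
  obtain ⟨k, ψ, hk⟩ : ∃ (k : J) (_ : k ⟶ j), IsAffine (D.obj k) := by
    haveI : IsAffine (Cone.mk _ π).pt := inferInstanceAs (IsAffine (Spec _))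
    obtain ⟨k, hk⟩ := Scheme.exists_isAffine_of_isLimit D (Cone.mk _ π) hc
    obtain ⟨l, a, b, -⟩ := IsCofilteredOrEmpty.cone_objs k j
    exact ⟨l, b, isAffine_of_isAffineHom (D.map a)⟩
  let a₁ := pullback.snd ui (D.map φ)
  haveI : IsProper a₁ := hj
  obtain ⟨e₂, -, hX₂⟩ := ConsProp93.exists_isPullback_of_fac hX₁ (IsPullback.of_hasPullback a₁ (D.map ψ))
    (π.app k) ((Cone.mk _ π).w ψ)
  haveI : IsNoetherianRing Γ(D.obj k, ⊤) :=
    IsLocallyNoetherian.component_noetherian ⟨⊤, isAffineOpen_top _⟩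
  let t : Spec (CommRingCat.of A) ⟶ Spec Γ(D.obj k, ⊤) := π.app k ≫ (D.obj k).isoSpec.hom
  letI : Algebra Γ(D.obj k, ⊤) A := (Spec.preimage t).hom.toAlgebra
  haveI : IsProper (pullback.snd a₁ (D.map ψ) ≫ (D.obj k).isoSpec.hom) := inferInstance
  refine ⟨Γ(D.obj k, ⊤), inferInstance, inferInstance, inferInstance, _,
    pullback.snd a₁ (D.map ψ) ≫ (D.obj k).isoSpec.hom, inferInstance, e₂, ?_⟩
  have ht : Spec.map (CommRingCat.ofHom (algebraMap Γ(D.obj k, ⊤) A)) = t := Spec.map_preimage t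
  rw [ht]
  exact hX₂.of_iso (Iso.refl _) (Iso.refl _) (Iso.refl _) (D.obj k).isoSpec
    (by simp) (by simp) (by simp [a₁]) (by simp [t])

/-- Clopen subsets of a base change descend to a finitely generated subalgebra. -/
theorem exists_clopen_stage {A₁ B : CommRingCat.{u}} [Algebra A₁ B] {X₁ : Scheme.{u}}
    (f₁ : X₁ ⟶ Spec A₁) [QuasiCompact f₁] [QuasiSeparated f₁] {P : Scheme.{u}} (q : P ⟶ X₁)
    (p : P ⟶ Spec B) (hP : IsPullback q p f₁ (Spec.map (CommRingCat.ofHom (algebraMap A₁ B))))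
    (V : Set P) (hV : IsClopen V) :
    ∃ (Q : Subalgebra A₁ B) (_ : Q.FG) (PQ : Scheme.{u}) (qQ : PQ ⟶ X₁)
      (pQ : PQ ⟶ Spec (CommRingCat.of Q))
      (_ : IsPullback qQ pQ f₁ (Spec.map (CommRingCat.ofHom (algebraMap A₁ Q))))
      (m : P ⟶ PQ) (W : Set PQ), m ≫ qQ = q ∧ m ≫ pQ = p ≫ Spec.map (CommRingCat.ofHom Q.val.toRingHom) ∧
        IsClopen W ∧ m.base ⁻¹' W = V := by
  let D := LimTop61.subalgSpec A₁ B
  let cS := LimTop61.subalgCone A₁ B
  let j₀ : (LimTop61.FgSubalg A₁ B)ᵒᵖ := op ⟨⊥, Subalgebra.fg_bot⟩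
  let tS (j : (LimTop61.FgSubalg A₁ B)ᵒᵖ) : D.obj j ⟶ Spec A₁ :=
    Spec.map (CommRingCat.ofHom (algebraMap A₁ j.unop.1))
  have htS {j k : (LimTop61.FgSubalg A₁ B)ᵒᵖ} (h : j ⟶ k) : D.map h ≫ tS k = tS j := by
    simp only [D, tS, LimTop61.subalgSpec, Functor.comp_map, Functor.op_map, Scheme.Spec_map,
      Quiver.Hom.unop_op]
    rw [← Spec.map_comp]
    rfl
  have hπ (j : (LimTop61.FgSubalg A₁ B)ᵒᵖ) :
      cS.π.app j ≫ tS j = Spec.map (CommRingCat.ofHom (algebraMap A₁ B)) := by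
    simp only [cS, tS, LimTop61.subalgCone, Functor.mapCone_π_app]
    erw [← Spec.map_comp]
    rfl
  let T := pullback f₁ (tS j₀)
  let a : T ⟶ D.obj j₀ := pullback.snd f₁ (tS j₀)
  let qT : P ⟶ T := pullback.lift q (p ≫ cS.π.app j₀) (by rw [Category.assoc, hπ]; exact hP.w)
  have hT : IsPullback qT p a (cS.π.app j₀) := by
    refine IsPullback.of_right ?_ (pullback.lift_snd _ _ _) (IsPullback.of_hasPullback f₁ (tS j₀))
    rw [pullback.lift_fst, hπ]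
    exact hP
  let E := LimTop61.bcDiagram D a
  let c := LimTop61.bcCone D cS a qT p hT.w
  have hc : IsLimit c := LimTop61.isLimitBcCone D cS (LimTop61.isLimitSubalgCone _ _) a qT p hT
  haveI : CompactSpace T := QuasiCompact.compactSpace_of_compactSpace a
  haveI : QuasiSeparatedSpace T := quasiSeparatedSpace_of_quasiSeparated a
  haveI : ∀ j, CompactSpace (E.obj j) := fun j =>
    QuasiCompact.compactSpace_of_compactSpace (pullback.snd a (D.map j.hom))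
  haveI : ∀ j, QuasiSeparatedSpace (E.obj j) := fun j =>
    quasiSeparatedSpace_of_quasiSeparated (pullback.snd a (D.map j.hom))
  haveI : CompactSpace P := Scheme.compactSpace_of_isLimit E c hc
  obtain ⟨j₁, O₁, hO₁, h₁⟩ := exists_preimage_eq E c hc ⟨V, hV.2⟩ (hV.1.isCompact)
  obtain ⟨j₂, O₂, hO₂, h₂⟩ := exists_preimage_eq E c hc ⟨Vᶜ, hV.1.isOpen_compl⟩ (hV.2.isClosed_compl.isCompact)
  obtain ⟨j, a₁, a₂, -⟩ := IsCofilteredOrEmpty.cone_objs j₁ j₂
  let U₁ := E.map a₁ ⁻¹ᵁ O₁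
  let U₂ := E.map a₂ ⁻¹ᵁ O₂
  have hU₁ : IsCompact (U₁ : Set (E.obj j)) := (E.map a₁).isCompact_preimage hO₁
  have hU₂ : IsCompact (U₂ : Set (E.obj j)) := (E.map a₂).isCompact_preimage hO₂
  have e₁ : c.π.app j ⁻¹ᵁ U₁ = ⟨V, hV.2⟩ := by
    rw [← h₁, ← c.w a₁]; rfl
  have e₂ : c.π.app j ⁻¹ᵁ U₂ = ⟨Vᶜ, hV.1.isOpen_compl⟩ := by
    rw [← h₂, ← c.w a₂]; rfl
  have hi : c.π.app j ⁻¹ᵁ (U₁ ⊓ U₂) = c.π.app j ⁻¹ᵁ ⊥ := by
    rw [Scheme.Hom.preimage_inf, e₁, e₂, Scheme.Hom.preimage_bot]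
    refine Opens.ext ?_
    simp
  have hu : c.π.app j ⁻¹ᵁ (U₁ ⊔ U₂) = c.π.app j ⁻¹ᵁ ⊤ := by
    rw [Scheme.Hom.preimage_sup, e₁, e₂, Scheme.Hom.preimage_top]
    refine Opens.ext ?_
    simp
  obtain ⟨k₁, b₁, hb₁⟩ := exists_map_preimage_eq_map_preimage E c hc
    (QuasiSeparatedSpace.inter_isCompact _ _ U₁.2 hU₁ U₂.2 hU₂) isCompact_empty hi
  obtain ⟨k₂, b₂, hb₂⟩ := exists_map_preimage_eq_map_preimage E c hc
    (hU₁.union hU₂) isCompact_univ hu
  obtain ⟨k, d₁, d₂, hd⟩ := IsCofiltered.cospan b₁ b₂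
  let b := d₁ ≫ b₁
  have hinf : E.map b ⁻¹ᵁ U₁ ⊓ E.map b ⁻¹ᵁ U₂ = ⊥ := by
    rw [← Scheme.Hom.preimage_inf]
    show E.map (d₁ ≫ b₁) ⁻¹ᵁ _ = _
    rw [E.map_comp, Scheme.Hom.comp_preimage, hb₁]
    rfl
  have hsup : E.map b ⁻¹ᵁ U₁ ⊔ E.map b ⁻¹ᵁ U₂ = ⊤ := by
    rw [← Scheme.Hom.preimage_sup]
    show E.map (d₁ ≫ b₁) ⁻¹ᵁ _ = _
    rw [hd, E.map_comp, Scheme.Hom.comp_preimage, hb₂]
    rfl
  let W := E.map b ⁻¹ᵁ U₁
  have hW : IsClopen (W : Set (E.obj k)) := by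
    refine ⟨isOpen_compl_iff.1 ?_, W.2⟩
    have : (W : Set (E.obj k))ᶜ = (E.map b ⁻¹ᵁ U₂ : (E.obj k).Opens) := by
      refine (IsCompl.compl_eq ?_)
      refine ⟨?_, ?_⟩
      · rw [Set.disjoint_iff_inter_eq_empty, ← Opens.coe_inf, hinf]; rfl
      · rw [codisjoint_iff]
        exact (Opens.coe_sup _ _).symm.trans ((congrArg _ hsup).trans Opens.coe_top)
    rw [this]
    exact (E.map b ⁻¹ᵁ U₂).2
  refine ⟨k.left.unop.1, k.left.unop.2, E.obj k, pullback.fst a (D.map k.hom) ≫ pullback.fst f₁ (tS j₀),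
    pullback.snd a (D.map k.hom), ?_, c.π.app k, W, ?_, ?_, hW, ?_⟩
  · have := (IsPullback.of_hasPullback a (D.map k.hom)).paste_horiz (IsPullback.of_hasPullback f₁ (tS j₀))
    rw [htS] at this
    exact this
  · show c.π.app k ≫ _ = q
    simp [c, qT, LimTop61.bcCone]
  · show c.π.app k ≫ _ = _
    simp [c, LimTop61.bcCone, cS, LimTop61.subalgCone]
    rfl
  · show (c.π.app k).base ⁻¹' ((E.map b).base ⁻¹' (U₁ : Set (E.obj j))) = V
    rw [← Set.preimage_comp]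
    have := congrArg (fun O : P.Opens => (O : Set P)) e₁
    rw [← c.w b] at this
    exact this

end Groth.Agent.Hens22.ProperModel
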