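import Groth.Agent.Hens22.HensN
import Mathlib.Algebra.Polynomial.Lifts

/-!
The Henselian pairs at the stalks of a Henselian scheme, and maps out of the stalks of affine
Henselian spectra.
-/

set_option autoImplicit false
universe u

open CategoryTheory Opposite TopologicalSpace AlgebraicGeometry HensSch TopCat Polynomial

noncomputable section

namespace Groth.Agent.Hens22.HensN

variable {Z : LocallyRingedSpace.{u}}

/-- Finitely many germs come from one open. -/
theorem exists_common {ι : Type*} [Fintype ι] {z : Z} (x : ι → Z.presheaf.stalk z) :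
    ∃ (W : Opens Z.toTopCat) (hz : z ∈ W) (s : ι → Z.presheaf.obj (op W)),
      ∀ i, Z.presheaf.germ W z hz (s i) = x i := by
  classical
  choose V hV t ht using fun i => Z.presheaf.exists_germ_eq (x i)
  let W : Opens Z.toTopCat := Finset.univ.inf V
  have hz : z ∈ W := by
    show z ∈ ((Finset.univ.inf V : Opens Z.toTopCat) : Set Z)
    rw [Opens.coe_finset_inf, Finset.inf_set_eq_iInter]
    simpa using hV
  exact ⟨W, hz, fun i => Z.presheaf.map (homOfLE (Finset.inf_le (Finset.mem_univ i))).op (t i),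
    fun i => (Z.presheaf.germ_res_apply _ _ _ _).trans (ht i)⟩

/-- Germs of sections vanishing everywhere near the point. -/
def Nz (z : Z) : Ideal (Z.presheaf.stalk z : Type u) where
  carrier := {x | ∃ (W : Opens Z.toTopCat) (hz : z ∈ W) (s : Z.presheaf.obj (op W)),
    s ∈ N Z W ∧ Z.presheaf.germ W z hz s = x}
  zero_mem' := ⟨⊤, trivial, 0, (N Z ⊤).zero_mem, map_zero _⟩
  add_mem' := by
    rintro _ _ ⟨W, hW, s, hs, rfl⟩ ⟨W', hW', s', hs', rfl⟩
    have hWW : z ∈ W ⊓ W' := ⟨hW, hW'⟩
    refine ⟨W ⊓ W', hWW, Z.presheaf.map (homOfLE inf_le_left).op s +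
      Z.presheaf.map (homOfLE inf_le_right).op s',
      add_mem (N_res inf_le_left hs) (N_res inf_le_right hs'), ?_⟩
    rw [map_add, Z.presheaf.germ_res_apply, Z.presheaf.germ_res_apply]
  smul_mem' := by
    rintro c _ ⟨W, hW, s, hs, rfl⟩
    obtain ⟨W', hW', c', rfl⟩ := Z.presheaf.exists_germ_eq c
    have hWW : z ∈ W ⊓ W' := ⟨hW, hW'⟩
    refine ⟨W ⊓ W', hWW, Z.presheaf.map (homOfLE inf_le_right).op c' *
      Z.presheaf.map (homOfLE inf_le_left).op s, Ideal.mul_mem_left _ _ (N_res inf_le_left hs), ?_⟩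
    rw [map_mul, Z.presheaf.germ_res_apply, Z.presheaf.germ_res_apply, smul_eq_mul]

theorem germ_mem_Nz {W : Opens Z.toTopCat} {z : Z} (hz : z ∈ W) {s : Z.presheaf.obj (op W)}
    (hs : s ∈ N Z W) : Z.presheaf.germ W z hz s ∈ Nz z :=
  ⟨W, hz, s, hs, rfl⟩

theorem Nz_le_maximalIdeal (z : Z) : Nz z ≤ IsLocalRing.maximalIdeal _ := by
  rintro _ ⟨W, hW, s, hs, rfl⟩
  exact (IsLocalRing.mem_maximalIdeal _).2 (mem_N.1 hs z hW)

theorem henselianRing_stalk_of_hasRoots (hZ : ∀ W : Opens Z.toTopCat, HasRoots W) (z : Z) :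
    HenselianRing (Z.presheaf.stalk z : Type u) (Nz z) where
  jac := (Nz_le_maximalIdeal z).trans
    (IsLocalRing.jacobson_eq_maximalIdeal (⊥ : Ideal (Z.presheaf.stalk z : Type u)) bot_ne_top).ge
  is_henselian p hp a₀ h₁ h₂ := by
    obtain ⟨W₁, hW₁, n, hn, hpn⟩ := h₁
    have h₂' : IsUnit (p.derivative.eval a₀) := isUnit_of_map_isUnit
      ((Nz_le_maximalIdeal z).trans
        (IsLocalRing.jacobson_eq_maximalIdeal (⊥ : Ideal (Z.presheaf.stalk z : Type u)) bot_ne_top).ge) h₂
    obtain ⟨W₀, hW₀, c, hc⟩ := exists_common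
      (Option.elim · a₀ fun k : Fin (p.natDegree + 1) => p.coeff k)
    let g₀ : (Z.presheaf.obj (op W₀) : Type u) →+* (Z.presheaf.stalk z : Type u) :=
      (Z.presheaf.germ W₀ z hW₀).hom
    have hlift : p ∈ Polynomial.lifts g₀ := by
      refine (Polynomial.lifts_iff_coeff_lifts p).2 fun k => ?_
      by_cases hk : k ≤ p.natDegree
      · exact ⟨c (some ⟨k, Nat.lt_succ_of_le hk⟩), hc (some ⟨k, Nat.lt_succ_of_le hk⟩)⟩
      · exact ⟨0, by rw [map_zero, Polynomial.coeff_eq_zero_of_natDegree_lt (not_le.1 hk)]⟩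
    obtain ⟨q, hq, -, hqm⟩ := Polynomial.lifts_and_natDegree_eq_and_monic hlift hp
    have hc₀ : g₀ (c none) = a₀ := hc none
    have he : g₀ (q.eval (c none)) = p.eval a₀ := by
      rw [← Polynomial.eval_map_apply, hq, hc₀]
    obtain ⟨W₂, hW₂, i₀, i₁, e⟩ := Z.presheaf.germ_eq z hW₀ hW₁ (q.eval (c none)) n (he.trans hpn.symm)
    have hde : g₀ (q.derivative.eval (c none)) = p.derivative.eval a₀ := by
      rw [← Polynomial.eval_map_apply, ← Polynomial.derivative_map, hq, hc₀]
    let D := Z.toRingedSpace.basicOpen (q.derivative.eval (c none))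
    let W := W₂ ⊓ D
    have hzW : z ∈ W := ⟨hW₂, hW₀, by
      show IsUnit (g₀ (q.derivative.eval (c none)))
      rw [hde]; exact h₂'⟩
    have hle : W ≤ W₀ := inf_le_left.trans i₀.le
    let r : (Z.presheaf.obj (op W₀) : Type u) →+* (Z.presheaf.obj (op W) : Type u) :=
      (Z.presheaf.map (homOfLE hle).op).hom
    have hN : (q.map r).eval (r (c none)) ∈ N Z W := by
      rw [Polynomial.eval_map_apply]
      have h3 : Z.presheaf.map i₀.op (q.eval (c none)) ∈ N Z W₂ := by
        rw [e]
        exact N_res i₁.le hn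
      have h4 := N_res (inf_le_left : W ≤ W₂) h3
      rw [← CommRingCat.comp_apply, ← Z.presheaf.map_comp] at h4
      exact h4
    have hu : IsUnit ((q.map r).derivative.eval (r (c none))) := by
      rw [Polynomial.derivative_map, Polynomial.eval_map_apply, isUnit_iff_germ]
      intro y hy
      obtain ⟨hy₀, hu⟩ := hy.2
      show IsUnit (Z.presheaf.germ W y hy (Z.presheaf.map (homOfLE hle).op _))
      rwa [Z.presheaf.germ_res_apply]
    obtain ⟨a, ha, haN⟩ := hZ W (q.map r) (r (c none)) (hqm.map _) hN hu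
    let gW : (Z.presheaf.obj (op W) : Type u) →+* (Z.presheaf.stalk z : Type u) :=
      (Z.presheaf.germ W z hzW).hom
    have hgr : gW.comp r = g₀ := RingHom.ext fun s => Z.presheaf.germ_res_apply _ z hzW s
    refine ⟨gW a, ?_, ?_⟩
    · show p.eval (gW a) = 0
      rw [← hq, ← hgr, ← Polynomial.map_map, Polynomial.eval_map_apply, ha, map_zero]
    · have h5 : gW (a - r (c none)) ∈ Nz z := germ_mem_Nz hzW haN
      rw [map_sub, ← RingHom.comp_apply, hgr, hc₀] at h5
      exact h5

theorem henselianRing_stalk (hZ : IsHensScheme Z) (z : Z) :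
    HenselianRing (Z.presheaf.stalk z : Type u) (Nz z) :=
  henselianRing_stalk_of_hasRoots (hasRoots_of_isHensScheme hZ) z

variable {A : Type u} [CommRing A] {I : Ideal A} {U : LocallyRingedSpace.{u}} {π : U ⟶ specLRS A}

/-- An affine Henselian spectrum has roots on every open. -/
theorem hasRoots_of_isSph (hU : IsSph A I U π) (W : Opens U.toTopCat) : HasRoots W :=
  hasRoots_of_cover fun z hz => by
    obtain ⟨f, hf, hle⟩ := Sph.exists_dOpen hU hz
    exact ⟨_, hle, hf, hasRoots_dOpen hU f⟩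

/-- Maps out of the stalk of an affine Henselian spectrum. -/
theorem existsUnique_fromStalk (hU : IsSph A I U π) (w : U) {C : Type u} [CommRing C] (J : Ideal C)
    [hC : HenselianRing C J] (g : A →+* C) (hgI : I.map g ≤ J)
    (hgu : ∀ f, w ∈ dOpen π f → IsUnit (g f)) :
    ∃! τ : (U.presheaf.stalk w : Type u) →+* C, τ.comp (Sph.stk π w) = g := by
  classical
  let k : ∀ f, w ∈ dOpen π f → (Sph.O π f →+* C) := fun f hf =>
    ((hU.2.2 f).2.2 C J g hC hgI (hgu f hf)).choose
  have hk : ∀ f hf, (k f hf).comp (secMap π (PrimeSpectrum.basicOpen f)) = g := fun f hf =>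
    ((hU.2.2 f).2.2 C J g hC hgI (hgu f hf)).choose_spec.1
  have hkuniq : ∀ f hf (k' : Sph.O π f →+* C),
      k'.comp (secMap π (PrimeSpectrum.basicOpen f)) = g → k' = k f hf := fun f hf =>
    ((hU.2.2 f).2.2 C J g hC hgI (hgu f hf)).choose_spec.2
  choose F hF S hS using fun x : (U.presheaf.stalk w : Type u) => Sph.exists_germ hU x
  let τ : ↥(U.presheaf.stalk w) → C := fun x => k (F x) (hF x) (S x)
  have hres : ∀ (f f' : A) (hf : w ∈ dOpen π f) (hf' : w ∈ dOpen π f') (h : dOpen π f' ≤ dOpen π f)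
      (s : Sph.O π f), k f' hf' (U.presheaf.map (homOfLE h).op s) = k f hf s := by
    intro f f' hf hf' h s
    refine RingHom.congr_fun (hkuniq f hf ((k f' hf').comp (U.presheaf.map (homOfLE h).op).hom) ?_) s
    refine RingHom.ext fun a => ?_
    show k f' hf' (U.presheaf.map (homOfLE h).op (secMap π _ a)) = g a
    rw [Sph.secMap_res π h a]
    exact RingHom.congr_fun (hk f' hf') a
  have hτ : ∀ (f : A) (hf : w ∈ dOpen π f) (s : Sph.O π f),
      τ (U.presheaf.germ _ w hf s) = k f hf s := by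
    intro f hf s
    obtain ⟨W, hwW, i₁, i₂, e⟩ := U.presheaf.germ_eq w (hF _) hf _ _ (hS (U.presheaf.germ _ w hf s))
    obtain ⟨f', hf', hle⟩ := Sph.exists_dOpen hU hwW
    show k (F (U.presheaf.germ _ w hf s)) (hF _) (S (U.presheaf.germ _ w hf s)) = _
    rw [← hres (F (U.presheaf.germ _ w hf s)) f' (hF _) hf' (hle.trans i₁.le), ← hres f f' hf hf' (hle.trans i₂.le)]
    refine congrArg (k f' hf') ?_
    have := congrArg (U.presheaf.map (homOfLE hle).op) e
    rw [← CommRingCat.comp_apply, ← CommRingCat.comp_apply, ← U.presheaf.map_comp,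
      ← U.presheaf.map_comp] at this
    exact this
  have hrep2 : ∀ x y : U.presheaf.stalk w, ∃ (f : A) (hf : w ∈ dOpen π f) (s t : Sph.O π f),
      U.presheaf.germ _ w hf s = x ∧ U.presheaf.germ _ w hf t = y := by
    intro x y
    obtain ⟨W, hW, s, hs⟩ := exists_common (fun b : Bool => if b then x else y)
    obtain ⟨f, hf, hle⟩ := Sph.exists_dOpen hU hW
    refine ⟨f, hf, U.presheaf.map (homOfLE hle).op (s true), U.presheaf.map (homOfLE hle).op (s false), ?_, ?_⟩
    · rw [U.presheaf.germ_res_apply]; exact hs true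
    · rw [U.presheaf.germ_res_apply]; exact hs false
  refine ⟨
    { toFun := τ
      map_one' := by
        have h := hτ 1 (by rw [← Sph.isUnit_stk_iff, map_one]; exact isUnit_one) 1
        rwa [map_one, map_one] at h
      map_zero' := by
        have h := hτ 1 (by rw [← Sph.isUnit_stk_iff, map_one]; exact isUnit_one) 0
        rwa [map_zero, map_zero] at h
      map_mul' := fun x y => by
        obtain ⟨f, hf, s, t, rfl, rfl⟩ := hrep2 x y
        rw [← map_mul, hτ, hτ, hτ, map_mul]
      map_add' := fun x y => by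
        obtain ⟨f, hf, s, t, rfl, rfl⟩ := hrep2 x y
        rw [← map_add, hτ, hτ, hτ, map_add] }, ?_, fun τ' hτ' => ?_⟩
  · refine RingHom.ext fun a => ?_
    have h1 : w ∈ dOpen π (1 : A) := by rw [← Sph.isUnit_stk_iff, map_one]; exact isUnit_one
    show τ (Sph.stk π w a) = g a
    rw [← Sph.germ_secMap π h1 a, hτ]
    exact RingHom.congr_fun (hk 1 h1) a
  · refine RingHom.ext fun x => ?_
    obtain ⟨f, hf, s, rfl⟩ := Sph.exists_germ hU x
    show _ = τ _
    rw [hτ]
    refine RingHom.congr_fun (hkuniq f hf (τ'.comp (U.presheaf.germ _ w hf).hom) ?_) s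
    refine RingHom.ext fun a => ?_
    show τ' (U.presheaf.germ _ w hf (secMap π _ a)) = g a
    rw [Sph.germ_secMap]
    exact RingHom.congr_fun hτ' a

end Groth.Agent.Hens22.HensN
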