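import Groth.Agent.QC70.Stalk
import Groth.Agent.QC70.Loc
import Groth.Prelude.Def_HensSch
import Mathlib.Algebra.Category.ModuleCat.Stalk
import Mathlib.Topology.Sheaves.SheafOfFunctions
import Mathlib.Algebra.Module.CharacterModule
import Mathlib.RingTheory.Flat.FaithfullyFlat.Algebra
import Mathlib.Algebra.Category.ModuleCat.Presheaf.EpiMono
import Mathlib.RingTheory.RingHom.Flat

/-!
Exactness of the inverse image along a morphism to a scheme with flat stalk maps
(adapted from `Groth.Agent.An92.Mod.Exact`).
-/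

set_option autoImplicit false
set_option backward.isDefEq.respectTransparency.types false
universe u

noncomputable section

open AlgebraicGeometry CategoryTheory TopologicalSpace Opposite TensorProduct HensSch
open Groth.Agent.QC70 (germM germM_res germM_exist germM_smul stalkMapM stalkMapM_germ stalkLinear)

namespace Groth.Agent.Hens22.PullFlat

variable {X : Scheme.{u}} {Z : LocallyRingedSpace.{u}}

/-- The image point. -/
abbrev pt (γ : Z ⟶ X.toLocallyRingedSpace) (x : Z) : X := γ.base x

/-- The stalk. -/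
abbrev anStalk (x : Z) : CommRingCat.{u} := Z.presheaf.stalk x

/-- The germ. -/
abbrev anGerm (x : Z) (U : Opens Z) (hx : x ∈ U) : Z.presheaf.obj (op U) →+* anStalk x :=
  (Z.presheaf.germ U x hx).hom

variable (x : Z) (N : Type u) [AddCommGroup N] [Module (anStalk x) N]

/-- Sections of the skyscraper. -/
abbrev SkySec (U : Opens Z) : Type u := ∀ y : U, PLift ((y.1 : Z) = x) → N

/-- The skyscraper presheaf of abelian groups. -/
def skyAb : (Opens Z)ᵒᵖ ⥤ AddCommGrpCat.{u} where
  obj U := AddCommGrpCat.of (SkySec x N U.unop)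
  map {U V} i := AddCommGrpCat.ofHom
    { toFun := fun f y h => f ⟨y.1, i.unop.le y.2⟩ h
      map_zero' := rfl
      map_add' := fun _ _ => rfl }
  map_id _ := rfl
  map_comp _ _ := rfl

/-- The action of holomorphic functions on the sections of a skyscraper. -/
instance skyModule (U : (Opens Z)ᵒᵖ) : Module ((ModSite.ringSh Z.sheaf).obj.obj U) ((skyAb x N).obj U) where
  smul r f := fun y h => anGerm x U.unop (h.down ▸ y.2) r • f y h
  one_smul f := funext fun y => funext fun h => by
    exact (congrArg (· • f y h) (map_one (anGerm x U.unop (h.down ▸ y.2)))).trans (one_smul _ _)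
  mul_smul r s f := funext fun y => funext fun h => by
    exact (congrArg (· • f y h) (map_mul (anGerm x U.unop (h.down ▸ y.2)) r s)).trans (mul_smul _ _ _)
  smul_zero r := funext fun y => funext fun h => smul_zero _
  smul_add r f g := funext fun y => funext fun h => smul_add _ _ _
  add_smul r s f := funext fun y => funext fun h => by
    exact (congrArg (· • f y h) (map_add (anGerm x U.unop (h.down ▸ y.2)) r s)).trans (add_smul _ _ _)
  zero_smul f := funext fun y => funext fun h => by
    exact (congrArg (· • f y h) (map_zero (anGerm x U.unop (h.down ▸ y.2)))).trans (zero_smul _ _)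

/-- The skyscraper module. -/
def sky : ModSite.Mod Z.sheaf where
  val := PresheafOfModules.ofPresheaf (R := (ModSite.ringSh Z.sheaf).obj) (skyAb x N) fun {U V} i r f =>
    funext fun y => funext fun h => by
      show anGerm x U.unop (h.down ▸ i.unop.le y.2) r • f ⟨y.1, i.unop.le y.2⟩ h =
        anGerm x V.unop (h.down ▸ y.2) (Z.presheaf.map i r) • f ⟨y.1, i.unop.le y.2⟩ h
      exact congrArg (· • f ⟨y.1, i.unop.le y.2⟩ h)
        (Z.presheaf.germ_res_apply i.unop x (h.down ▸ y.2) r).symm
  isSheaf := by
    rw [Presheaf.isSheaf_iff_isSheaf_forget _ _ (forget AddCommGrpCat.{u})]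
    exact TopCat.Presheaf.toTypes_isSheaf Z.toTopCat fun y => (PLift ((y : Z) = x) → N)

theorem sky_smul (U : Opens Z) (r : Z.presheaf.obj (op U)) (f : SkySec x N U) (y : U)
    (h : PLift ((y.1 : Z) = x)) :
    (HSMul.hSMul (α := (ModSite.ringSh Z.sheaf).obj.obj (op U)) (β := (sky x N).val.obj (op U)) r f :
      SkySec x N U) y h = anGerm x U (h.down ▸ y.2) r • f y h := rfl


variable {γ : Z ⟶ X.toLocallyRingedSpace}

/-- The local ring of the source as an algebra over the local ring of the target. -/
instance anAlgebra (x : Z) : Algebra (X.presheaf.stalk (pt γ x)) (anStalk x) := (γ.stalkMap x).hom.toAlgebra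

theorem anGerm_toHolApp (x : Z) (W : X.Opens) (hx : pt γ x ∈ W) (r : Γ(X, W)) :
    anGerm x ((Opens.map γ.base).obj W) hx (γ.c.app (op W) r) = γ.stalkMap x (X.presheaf.germ W (pt γ x) hx r) :=
  (PresheafedSpace.stalkMap_germ_apply γ.toHom W x hx r).symm

variable (x : Z) {N : Type u} [AddCommGroup N] [Module (anStalk x) N] [Module (X.presheaf.stalk (pt γ x)) N]
  [IsScalarTower (X.presheaf.stalk (pt γ x)) (anStalk x) N]

theorem smul_eq_map_smul (r : X.presheaf.stalk (pt γ x)) (a : N) : r • a = γ.stalkMap x r • a :=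
  (algebraMap_smul (anStalk x) r a).symm

/-- The value at `x` of a morphism to a skyscraper. -/
def skyVal {M : X.Modules} (g : M ⟶ (pushMod γ).obj (sky x N)) (W : X.Opens) (hx : (pt γ x) ∈ W)
    (s : Γ(M, W)) : N :=
  (show SkySec x N ((Opens.map γ.base).obj W) from g.app W s) ⟨x, hx⟩ ⟨rfl⟩

theorem skyVal_res {M : X.Modules} (g : M ⟶ (pushMod γ).obj (sky x N)) {W W' : X.Opens} (h : W' ≤ W)
    (hx : (pt γ x) ∈ W') (s : Γ(M, W)) :
    skyVal x g W' hx (QC70.res M h s) = skyVal x g W (h hx) s := by
  unfold skyVal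
  rw [QC70.app_res]
  rfl

theorem skyVal_congr {M : X.Modules} (g : M ⟶ (pushMod γ).obj (sky x N)) {W W' : X.Opens}
    (hx : (pt γ x) ∈ W) (hx' : (pt γ x) ∈ W') (s : Γ(M, W)) (t : Γ(M, W'))
    (h : germM M W (pt γ x) hx s = germM M W' (pt γ x) hx' t) : skyVal x g W hx s = skyVal x g W' hx' t := by
  obtain ⟨V, hxV, i₁, i₂, e⟩ := TopCat.Presheaf.germ_eq M.presheaf (pt γ x) hx hx' s t h
  rw [← skyVal_res x g i₁.le hxV s, ← skyVal_res x g i₂.le hxV t]
  exact congrArg _ e

theorem skyVal_add {M : X.Modules} (g : M ⟶ (pushMod γ).obj (sky x N)) (W : X.Opens) (hx : (pt γ x) ∈ W)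
    (s t : Γ(M, W)) : skyVal x g W hx (s + t) = skyVal x g W hx s + skyVal x g W hx t := by
  unfold skyVal
  rw [map_add]
  rfl

theorem skyVal_smul {M : X.Modules} (g : M ⟶ (pushMod γ).obj (sky x N)) (W : X.Opens) (hx : (pt γ x) ∈ W)
    (r : Γ(X, W)) (s : Γ(M, W)) :
    skyVal x g W hx (r • s) = X.presheaf.germ W (pt γ x) hx r • skyVal x g W hx s := by
  rw [smul_eq_map_smul, ← anGerm_toHolApp x W hx r]
  unfold skyVal
  rw [Scheme.Modules.Hom.app_smul]
  rfl

theorem exists_fromPush {M : X.Modules} (g : M ⟶ (pushMod γ).obj (sky x N)) :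
    ∃ ψ : M.presheaf.stalk (pt γ x) →ₗ[X.presheaf.stalk (pt γ x)] N,
      ∀ (W : X.Opens) (hx : (pt γ x) ∈ W) (s : Γ(M, W)), ψ (germM M W (pt γ x) hx s) = skyVal x g W hx s := by
  classical
  choose W hxW s hs using fun e : M.presheaf.stalk (pt γ x) => germM_exist e
  let f : M.presheaf.stalk (pt γ x) → N := fun e => skyVal x g (W e) (hxW e) (s e)
  have hf : ∀ (V : X.Opens) (hx : (pt γ x) ∈ V) (t : Γ(M, V)),
      f (germM M V (pt γ x) hx t) = skyVal x g V hx t :=
    fun V hx t => skyVal_congr x g _ hx _ t (hs _)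
  refine ⟨{ toFun := f, map_add' := fun e e' => ?_, map_smul' := fun r e => ?_ }, hf⟩
  · obtain ⟨V, hV, a, rfl⟩ := germM_exist e
    obtain ⟨V', hV', b, rfl⟩ := germM_exist e'
    have h : (pt γ x) ∈ V ⊓ V' := ⟨hV, hV'⟩
    rw [← germM_res (inf_le_left : V ⊓ V' ≤ V) h a, ← germM_res (inf_le_right : V ⊓ V' ≤ V') h b,
      ← QC70.germM_add, hf, hf, hf, skyVal_add]
  · obtain ⟨V, hV, a, rfl⟩ := germM_exist e
    obtain ⟨V', hV', c, rfl⟩ := TopCat.Presheaf.exists_germ_eq X.presheaf r
    have h : (pt γ x) ∈ V ⊓ V' := ⟨hV, hV'⟩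
    rw [← germM_res (inf_le_left : V ⊓ V' ≤ V) h a, ← QC70.germ_resO (inf_le_right : V ⊓ V' ≤ V') h c,
      RingHom.id_apply, ← germM_smul, hf, hf, skyVal_smul]

theorem exists_toPush {M : X.Modules} (ψ : M.presheaf.stalk (pt γ x) →ₗ[X.presheaf.stalk (pt γ x)] N) :
    ∃ g : M ⟶ (pushMod γ).obj (sky x N),
      ∀ (W : X.Opens) (hx : (pt γ x) ∈ W) (s : Γ(M, W)), skyVal x g W hx s = ψ (germM M W (pt γ x) hx s) := by
  let F : ∀ W : X.Opens, Γ(M, W) → SkySec x N ((Opens.map γ.base).obj W) := fun W s y h =>
    ψ (germM M W (pt γ x) (h.down ▸ y.2 : x ∈ (Opens.map γ.base).obj W) s)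
  refine ⟨⟨PresheafOfModules.homMk
    { app := fun W => AddCommGrpCat.ofHom
        { toFun := fun s => F W.unop s
          map_zero' := funext fun y => funext fun h => by
            exact (congrArg ψ (QC70.germM_zero _)).trans (map_zero ψ)
          map_add' := fun s t => funext fun y => funext fun h => by
            exact (congrArg ψ (QC70.germM_add _ s t)).trans (map_add ψ _ _) }
      naturality := fun {V W} i => by
        refine AddCommGrpCat.hom_ext (AddMonoidHom.ext fun s => ?_)
        refine funext fun y => funext fun h => ?_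
        exact congrArg ψ (germM_res i.unop.le (h.down ▸ y.2 : x ∈ (Opens.map γ.base).obj W.unop) s) }
    (fun W r s => funext fun y => funext fun h => by
      show ψ (germM M W.unop (pt γ x) _ ((show Γ(X, W.unop) from r) • (show Γ(M, W.unop) from s))) = _
      rw [germM_smul, map_smul, smul_eq_map_smul,
        ← anGerm_toHolApp x W.unop (h.down ▸ y.2 : x ∈ (Opens.map γ.base).obj W.unop) r]
      rfl)⟩, fun W hx s => rfl⟩

/-- The presheaf of modules over the holomorphic functions underlying an analytic module. -/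
abbrev anPom (P : ModSite.Mod Z.sheaf) : PresheafOfModules (Z.presheaf ⋙ forget₂ CommRingCat RingCat) := P.val

/-- The underlying presheaf of groups. -/
abbrev anPsh (P : ModSite.Mod Z.sheaf) : TopCat.Presheaf AddCommGrpCat.{u} Z.toTopCat := (anPom P).presheaf

/-- The stalk module, with the point taken in the topological space. -/
@[reducible] def anStalkModuleAux (P : ModSite.Mod Z.sheaf) (x : Z) :
    Module (Z.presheaf.stalk x) ((anPsh P).stalk x) :=
  inferInstanceAs (Module (Z.presheaf.stalk x)
    (TopCat.Presheaf.stalk (C := AddCommGrpCat.{u}) (anPom P).presheaf x))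

instance anStalkModule (P : ModSite.Mod Z.sheaf) : Module (anStalk x) ((anPsh P).stalk x) :=
  anStalkModuleAux P x

/-- Character values of a module over the analytic ring. -/
def charVal {P : ModSite.Mod Z.sheaf} (χ : CharacterModule ((anPsh P).stalk x))
    (U : Opens Z) (hx : x ∈ U) (s : P.val.obj (op U)) : CharacterModule (anStalk x) :=
  χ.comp (LinearMap.toSpanSingleton (anStalk x) ((anPsh P).stalk x)
    ((anPsh P).germ U x hx s)).toAddMonoidHom

/-- The morphism to a skyscraper given by a character of the stalk. -/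
theorem exists_toSky {P : ModSite.Mod Z.sheaf} (χ : CharacterModule ((anPsh P).stalk x)) :
    ∃ g : P ⟶ sky x (CharacterModule (anStalk x)), ∀ (U : Opens Z) (hx : x ∈ U) (s : P.val.obj (op U)),
      (show SkySec x (CharacterModule (anStalk x)) U from g.val.app (op U) s) ⟨x, hx⟩ ⟨rfl⟩ =
        charVal x χ U hx s := by
  refine ⟨⟨PresheafOfModules.homMk
    { app := fun U => AddCommGrpCat.ofHom
        { toFun := fun s y h => charVal x χ U.unop (h.down ▸ y.2) s
          map_zero' := funext fun y => funext fun h => DFunLike.ext _ _ fun b => by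
            exact (congrArg χ ((congrArg (b • ·) (map_zero ((anPsh P).germ U.unop x (h.down ▸ y.2)).hom)).trans
              (smul_zero b))).trans (map_zero χ)
          map_add' := fun s t => funext fun y => funext fun h => DFunLike.ext _ _ fun b => by
            exact (congrArg χ ((congrArg (b • ·) (map_add ((anPsh P).germ U.unop x (h.down ▸ y.2)).hom s t)).trans
              (smul_add b _ _))).trans (map_add χ _ _) }
      naturality := fun {V W} i => by
        refine AddCommGrpCat.hom_ext (AddMonoidHom.ext fun s => ?_)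
        refine funext fun y => funext fun h => DFunLike.ext _ _ fun b => ?_
        exact congrArg (fun e => χ (b • e))
          ((anPsh P).germ_res_apply i.unop x (h.down ▸ y.2) s) }
    (fun U r s => funext fun y => funext fun h => DFunLike.ext _ _ fun b => by
      refine (congrArg (fun e => χ (b • e)) (PresheafOfModules.germ_smul (R := Z.presheaf)
        (anPom P) x U.unop
        (h.down ▸ y.2) r s)).trans ?_
      exact congrArg χ ((smul_smul b (anGerm x U.unop (h.down ▸ y.2) r) _).trans
        (congrArg (· • _) (mul_comm b _))))⟩, fun U hx s => rfl⟩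

instance charTower : IsScalarTower (X.presheaf.stalk (pt γ x)) (anStalk x) (CharacterModule (anStalk x)) :=
  ⟨fun r b c => DFunLike.ext _ _ fun t => congrArg c (show (r • b) • t = b • r • t by
    rw [smul_assoc, smul_comm])⟩

instance anPush_additive : (pushMod γ).Additive where
  map_add := rfl

instance analytify_additive : (pullMod γ).Additive := (pullPushAdj γ).left_adjoint_additive

variable (hflat : ∀ z : Z, (γ.stalkMap z).hom.Flat)
include hflat

theorem flat_anStalk : Module.Flat (X.presheaf.stalk (pt γ x)) (anStalk x) := hflat x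

theorem faithfullyFlat_anStalk : Module.FaithfullyFlat (X.presheaf.stalk (pt γ x)) (anStalk x) := by
  have : IsLocalHom (algebraMap (X.presheaf.stalk (pt γ x)) (anStalk x)) :=
    LocallyRingedSpace.isLocalHomStalkMap γ x
  have := flat_anStalk x hflat
  exact Module.FaithfullyFlat.of_flat_of_isLocalHom

/-- Skyscrapers of characters are injective relative to monomorphisms of `O_X`-modules. -/
theorem exists_extend {M M' : X.Modules} (f : M ⟶ M') [Mono f]
    (g : M ⟶ (pushMod γ).obj (sky x (CharacterModule (anStalk x)))) :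
    ∃ g' : M' ⟶ (pushMod γ).obj (sky x (CharacterModule (anStalk x))), f ≫ g' = g := by
  have := flat_anStalk x hflat
  obtain ⟨ψ, hψ⟩ := exists_fromPush x g
  let fx := stalkLinear f (pt γ x)
  have hinj : Function.Injective (fx.rTensor (anStalk x)) :=
    Module.Flat.rTensor_preserves_injective_linearMap fx (QC70.injective_stalkMapM_of_mono f (pt γ x))
  obtain ⟨c, hc⟩ := CharacterModule.dual_surjective_of_injective _ hinj (CharacterModule.uncurry ψ)
  obtain ⟨g', hg'⟩ := exists_toPush x (N := CharacterModule (anStalk x)) (CharacterModule.curry c)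
  refine ⟨g', Scheme.Modules.hom_ext _ _ fun W => ?_⟩
  refine AddCommGrpCat.hom_ext (AddMonoidHom.ext fun s => ?_)
  show (show SkySec x (CharacterModule (anStalk x)) ((Opens.map γ.base).obj W) from g'.app W (f.app W s)) =
    (show SkySec x (CharacterModule (anStalk x)) ((Opens.map γ.base).obj W) from g.app W s)
  refine funext fun y => funext fun h => ?_
  obtain ⟨y, hy⟩ := y
  obtain ⟨rfl : y = x⟩ := h
  show skyVal y g' W hy (f.app W s) = skyVal y g W hy s
  rw [hg', ← hψ, ← stalkMapM_germ]
  refine DFunLike.ext _ _ fun b => ?_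
  exact DFunLike.congr_fun hc (germM M W (pt γ y) hy s ⊗ₜ b)

theorem mono_map {M M' : X.Modules} (f : M ⟶ M') [Mono f] : Mono ((pullMod γ).map f) := by
  refine (SheafOfModules.forget (ModSite.ringSh Z.sheaf)).mono_of_mono_map ?_
  refine PresheafOfModules.mono_of_injective fun {U} => ?_
  refine (injective_iff_map_eq_zero ((((pullMod γ).map f).val).app U).hom).2 fun s hs => ?_
  let P := (pullMod γ).obj M
  refine TopCat.Presheaf.section_ext (⟨anPsh P, P.isSheaf⟩ : TopCat.Sheaf AddCommGrpCat.{u} Z.toTopCat)
    U.unop _ _ fun x hx => ?_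
  refine Eq.trans ?_ (map_zero _).symm
  by_contra hne
  obtain ⟨χ, hχ⟩ := CharacterModule.exists_character_apply_ne_zero_of_ne_zero hne
  obtain ⟨g, hg⟩ := exists_toSky x χ
  obtain ⟨g', hg'⟩ := exists_extend x hflat f ((pullPushAdj γ).homEquiv _ _ g)
  refine hχ ?_
  have hgeq : (pullMod γ).map f ≫ ((pullPushAdj γ).homEquiv _ _).symm g' = g := by
    refine (((pullPushAdj γ).homEquiv_naturality_left_symm f g').symm).trans ?_
    exact (congrArg _ hg').trans (Equiv.symm_apply_apply _ _)
  have h1 := hg U.unop hx s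
  rw [← hgeq] at h1
  have h0 : ((pullMod γ).map f ≫ ((pullPushAdj γ).homEquiv _ _).symm g').val.app (op U.unop) s = 0 := by
    show (((pullPushAdj γ).homEquiv _ _).symm g').val.app U (((pullMod γ).map f).val.app U s) = 0
    erw [hs]
    exact map_zero _
  rw [h0] at h1
  have h2 := DFunLike.congr_fun h1.symm (1 : anStalk x)
  rw [show charVal x χ U.unop hx s 1 = χ ((1 : anStalk x) • _) from rfl, one_smul] at h2
  exact h2

theorem eq_zero_of_map_eq_zero {M M' : X.Modules} [M.IsQuasicoherent] (f : M ⟶ M')
    (hspec : ∀ p : X, ∃ z, p ⤳ pt γ z) (h : (pullMod γ).map f = 0) : f = 0 := by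
  have hpt : ∀ (y : Z) (e : M.presheaf.stalk (pt γ y)), stalkMapM f (pt γ y) e = 0 := by
    intro y e
    obtain ⟨W, hyW, s, rfl⟩ := germM_exist e
    have := faithfullyFlat_anStalk y hflat
    refine (injective_iff_map_eq_zero (TensorProduct.mk (X.presheaf.stalk (pt γ y)) (anStalk y)
      (M'.presheaf.stalk (pt γ y)) 1)).1 (Module.FaithfullyFlat.tensorProduct_mk_injective _) _ ?_
    refine (TensorProduct.comm (X.presheaf.stalk (pt γ y)) (anStalk y) (M'.presheaf.stalk (pt γ y))).injective ?_
    rw [map_zero, TensorProduct.mk_apply, TensorProduct.comm_tmul]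
    refine CharacterModule.eq_zero_of_character_apply fun c => ?_
    obtain ⟨g, hg⟩ := exists_toPush y (N := CharacterModule (anStalk y))
      (CharacterModule.curry c : M'.presheaf.stalk (pt γ y) →ₗ[X.presheaf.stalk (pt γ y)] CharacterModule (anStalk y))
    have h0 : f ≫ g = 0 := by
      apply ((pullPushAdj γ).homEquiv _ _).symm.injective
      refine ((pullPushAdj γ).homEquiv_naturality_left_symm f g).trans ?_
      rw [h, Limits.zero_comp]
      exact ((pullPushAdj γ).homAddEquiv _ _).symm.map_zero.symm
    have h1 : skyVal y g W hyW (f.app W s) = 0 := by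
      show skyVal y (f ≫ g) W hyW s = 0
      rw [h0]
      rfl
    rw [hg, ← stalkMapM_germ] at h1
    exact DFunLike.congr_fun h1 (1 : anStalk y)
  refine Scheme.Modules.hom_ext _ _ fun W => ?_
  refine AddCommGrpCat.hom_ext (AddMonoidHom.ext fun s => ?_)
  refine QC70.section_ext M' _ _ fun p hp => ?_
  obtain ⟨y, hy⟩ := hspec p
  obtain ⟨V, hV, hyV, -⟩ := exists_isAffineOpen_mem_and_subset (x := pt γ y) (U := ⊤) trivial
  have hpV : p ∈ V := hy.mem_open V.2 hyV
  have key : ∀ e : M.presheaf.stalk p, stalkMapM f p e = 0 := fun e => by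
    obtain ⟨a, t, ha, he⟩ := QC70.stalk_exists_smul (QC70.isLocAt_of_isQuasicoherent (M := M) (U := V) hV) hV hpV e
    have hz : germM M' V (pt γ y) hyV (f.app V t) = 0 := (stalkMapM_germ f hyV t).symm.trans (hpt y _)
    obtain ⟨W', hW', hyW', h0⟩ := QC70.germM_eq_zero hz
    have hpW' : p ∈ W' := hy.mem_open W'.2 hyW'
    have h1 : stalkLinear f p (germM M V p hpV t) = 0 := by
      show stalkMapM f p (germM M V p hpV t) = 0
      rw [stalkMapM_germ, ← germM_res hW' hpW', h0]
      exact QC70.germM_zero _
    rw [← he, map_smul] at h1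
    exact ((QC70.isUnit_germ ha).smul_eq_zero).1 h1
  have hz : germM M' W p hp (f.app W s) = 0 := (stalkMapM_germ f hp s).symm.trans (key _)
  obtain ⟨W', hW', hpW', h0⟩ := QC70.germM_eq_zero hz
  refine ⟨W', hW', hpW', ?_⟩
  show QC70.res M' hW' (f.app W s) = QC70.res M' hW' 0
  rw [h0, QC70.res_zero]

theorem preservesFiniteLimits_pullMod : Limits.PreservesFiniteLimits (pullMod γ) := by
  have hl : Limits.PreservesColimitsOfSize.{0, 0} (pullMod γ) :=
    (pullPushAdj γ).leftAdjoint_preservesColimits
  have hr : Limits.PreservesFiniteColimits (pullMod γ) :=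
    Limits.PreservesColimitsOfSize.preservesFiniteColimits _
  refine (Functor.preservesFiniteLimits_iff_forall_exact_map_and_mono _).2 fun S hS => ?_
  haveI hm : Mono S.f := hS.mono_f
  exact ⟨((Functor.preservesFiniteColimits_iff_forall_exact_map_and_epi (pullMod γ)).1 hr S hS).1,
    @mono_map _ _ _ hflat _ _ S.f hm⟩

end Groth.Agent.Hens22.PullFlat
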