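import Groth.Agent.Hens22.SphFlat
import Groth.Agent.Hens22.PullFlat
import Groth.Agent.Hens22.HensStalk
import Mathlib.LinearAlgebra.TensorProduct.Vanishing
import Mathlib.AlgebraicGeometry.Modules.Tilde

/-!
Sections of `M~` on an affine Henselian spectrum.
-/

set_option autoImplicit false
set_option backward.isDefEq.respectTransparency.types false
set_option linter.style.haveILetI false
set_option linter.unusedSectionVars false
universe u

open CategoryTheory Opposite TopologicalSpace AlgebraicGeometry HensSch TopCat TensorProduct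

noncomputable section

namespace Groth.Agent.Hens22.Sph

variable {A : Type u} [CommRing A] {X : LocallyRingedSpace.{u}} (π : X ⟶ specLRS A)
  (M : ModuleCat.{u} A)

/-- The sections of a module. -/
abbrev Sec (G : ModSite.Mod X.sheaf) (U : Opens X.toTopCat) : Type u := G.val.obj (op U)

/-- The scalars. -/
abbrev RU (U : Opens X.toTopCat) : Type u := (ModSite.ringSh X.sheaf).obj.obj (op U)

/-- The canonical map to the global sections. -/
def theta (m : M) : Sec (sphTilde π M) ⊤ :=
  (((HensSch.pullPushAdj π).unit.app (tilde M)).val.app (op ⊤)).hom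
    (((tilde.adjunction (R := CommRingCat.of A)).unit.app M).hom m)

theorem theta_add (m m' : M) : theta π M (m + m') = theta π M m + theta π M m' := by
  unfold theta
  rw [map_add]
  exact map_add _ _ _

theorem theta_smul (a : A) (m : M) :
    theta π M (a • m) = HSMul.hSMul (α := RU (X := X) ⊤) (glob π a) (theta π M m) := by
  unfold theta
  rw [map_smul]
  refine (map_smul (((HensSch.pullPushAdj π).unit.app (tilde M)).val.app (op ⊤)).hom _ _).trans ?_
  rfl

/-- Restriction of sections. -/
def resS (G : ModSite.Mod X.sheaf) {U V : Opens X.toTopCat} (h : V ≤ U) (s : Sec G U) : Sec G V :=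
  (G.val.map (homOfLE h).op).hom s

theorem resS_smul (G : ModSite.Mod X.sheaf) {U V : Opens X.toTopCat} (h : V ≤ U) (r : RU U) (s : Sec G U) :
    resS G h (r • s) = HSMul.hSMul (α := RU V) (X.presheaf.map (homOfLE h).op r) (resS G h s) :=
  G.val.map_smul _ _ _

/-- Two maps agreeing on the canonical sections are equal. -/
theorem hom_ext_theta {G : ModSite.Mod X.sheaf} (g g' : sphTilde π M ⟶ G)
    (h : ∀ m, (g.val.app (op ⊤)).hom (theta π M m) = (g'.val.app (op ⊤)).hom (theta π M m)) : g = g' := by
  apply ((HensSch.pullPushAdj π).homEquiv _ _).injective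
  apply ((tilde.adjunction (R := CommRingCat.of A)).homEquiv _ _).injective
  refine ModuleCat.hom_ext (LinearMap.ext fun m => ?_)
  exact h m

/-- A linear map to the global sections extends to the module. -/
theorem exists_desc {G : ModSite.Mod X.sheaf} (ψ : M →+ Sec G ⊤)
    (hψ : ∀ (a : A) (m : M), ψ (a • m) = HSMul.hSMul (α := RU (X := X) ⊤) (glob π a) (ψ m)) :
    ∃ g : sphTilde π M ⟶ G, ∀ m, (g.val.app (op ⊤)).hom (theta π M m) = ψ m := by
  let G' : (Spec (CommRingCat.of A)).Modules := (pushMod π).obj G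
  let T : ModuleCat.{u} A := (moduleSpecΓFunctor (R := CommRingCat.of A)).obj G'
  let ψl : M →ₗ[A] T :=
    { toFun := fun m => ψ m
      map_add' := map_add ψ
      map_smul' := fun a m => by
        refine (hψ a m).trans ?_
        show _ = HSMul.hSMul (α := RU (X := X) ⊤)
          (π.c.app (op ⊤) (((Spec (CommRingCat.of A)).presheaf.map (⊤ : (Spec (CommRingCat.of A)).Opens).leTop.op)
            ((Scheme.ΓSpecIso (CommRingCat.of A)).inv a))) (ψ m)
        rw [show (⊤ : (Spec (CommRingCat.of A)).Opens).leTop = 𝟙 _ from rfl, op_id, CategoryTheory.Functor.map_id]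
        rfl }
  let ψ' : M ⟶ T := ConcreteCategory.ofHom (C := ModuleCat.{u} A) (X := M) (Y := T) ψl
  let g₁ := ((tilde.adjunction (R := CommRingCat.of A)).homEquiv M ((pushMod π).obj G)).symm ψ'
  let g := ((HensSch.pullPushAdj π).homEquiv (tilde M) G).symm g₁
  refine ⟨g, fun m => ?_⟩
  have h1 : ((HensSch.pullPushAdj π).homEquiv (tilde M) G) g = g₁ := Equiv.apply_symm_apply _ _
  have h2 : ((tilde.adjunction (R := CommRingCat.of A)).homEquiv M ((pushMod π).obj G)) g₁ = ψ' :=
    Equiv.apply_symm_apply _ _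
  rw [← h1] at h2
  exact LinearMap.congr_fun (congrArg ModuleCat.Hom.hom h2) m

theorem theta_zero : theta π M 0 = 0 := by
  unfold theta
  rw [map_zero]
  exact map_zero _

/-- The canonical sections on an open. -/
def thetaU (U : Opens X.toTopCat) (m : M) : Sec (sphTilde π M) U := resS _ le_top (theta π M m)

theorem thetaU_smul (U : Opens X.toTopCat) (a : A) (m : M) :
    thetaU π M U (a • m) =
      HSMul.hSMul (α := RU U) (X.presheaf.map (homOfLE le_top).op (glob π a)) (thetaU π M U m) := by
  rw [thetaU, theta_smul, resS_smul]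
  rfl

theorem resS_thetaU {U V : Opens X.toTopCat} (h : V ≤ U) (m : M) :
    resS _ h (thetaU π M U m) = thetaU π M V m := by
  unfold thetaU resS
  exact (LinearMap.congr_fun (congrArg ModuleCat.Hom.hom
    ((sphTilde π M).val.map_comp (homOfLE (le_top : U ≤ ⊤)).op (homOfLE h).op)) _).symm

/-- The stalk algebra. -/
abbrev stkAlg (x : X) : Algebra A (X.presheaf.stalk x : Type u) := (stk π x).toAlgebra

/-- A relation among the sections holds in the stalk of the base change. -/
theorem stalk_injective (x : X) {W : Opens X.toTopCat} (hx : x ∈ W) {n : ℕ} (s : Fin n → RU (X := X) W)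
    (m : Fin n → M) (h : ∑ k, s k • thetaU π M W (m k) = 0) :
    letI := stkAlg π x
    ∑ k, (X.presheaf.germ W x hx (s k)) ⊗ₜ[A] m k = (0 : (X.presheaf.stalk x : Type u) ⊗[A] M) := by
  letI := stkAlg π x
  refine CharacterModule.eq_zero_of_character_apply fun c => ?_
  let Ox : Type u := X.presheaf.stalk x
  let N := CharacterModule Ox
  let cur : M →+ N :=
    { toFun := fun m => c.comp
        ((TensorProduct.mk A Ox M).flip m).toAddMonoidHom
      map_zero' := DFunLike.ext _ _ fun b => by
        show c (b ⊗ₜ[A] (0 : M)) = 0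
        rw [tmul_zero, map_zero]
      map_add' := fun p q => DFunLike.ext _ _ fun b => by
        show c (b ⊗ₜ[A] (p + q)) = c (b ⊗ₜ[A] p) + c (b ⊗ₜ[A] q)
        rw [tmul_add, map_add] }
  let ψ : M →+ Sec (PullFlat.sky (Z := X) x N) ⊤ :=
    { toFun := fun m => fun y _ => cur m
      map_zero' := funext fun y => funext fun _ => map_zero cur
      map_add' := fun p q => funext fun y => funext fun _ => map_add cur p q }
  obtain ⟨g, hg⟩ := exists_desc π M ψ (fun a p => funext fun y => funext fun hy => by
    refine Eq.trans ?_ (PullFlat.sky_smul x N ⊤ (glob π a) (ψ p) y hy).symm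
    refine DFunLike.ext _ _ fun b => ?_
    show c (b ⊗ₜ[A] (a • p)) = c ((stk π x a * b) ⊗ₜ[A] p)
    rw [← smul_tmul]
    rfl)
  have h1 := congrArg (fun t => (show PullFlat.SkySec x N W from (g.val.app (op W)).hom t) ⟨x, hx⟩ ⟨rfl⟩) h
  have hθ : ∀ k, (g.val.app (op W)).hom (thetaU π M W (m k)) =
      resS (PullFlat.sky (Z := X) x N) le_top (ψ (m k)) := fun k => by
    rw [← hg]
    exact PresheafOfModules.naturality_apply g.val (homOfLE (le_top : W ≤ ⊤)).op (theta π M (m k))
  simp only [map_sum, map_smul, map_zero] at h1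
  simp only [hθ] at h1
  replace h1 : ∑ k, X.presheaf.germ W x hx (s k) • cur (m k) = 0 := by
    refine Eq.trans ?_ h1
    erw [Finset.sum_apply, Finset.sum_apply]
    exact Finset.sum_congr rfl fun k _ =>
      (PullFlat.sky_smul x N W (s k) (resS (PullFlat.sky (Z := X) x N) le_top (ψ (m k))) ⟨x, hx⟩ ⟨rfl⟩).symm
  have h2 := DFunLike.congr_fun h1 (1 : Ox)
  rw [map_sum]
  refine Eq.trans ?_ h2
  erw [AddMonoidHom.finsetSum_apply]
  refine Finset.sum_congr rfl fun k _ => ?_
  show _ = ((X.presheaf.germ W x hx (s k) • cur (m k) : N)) (1 : Ox)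
  rw [CharacterModule.smul_apply, smul_eq_mul, mul_one]
  rfl

variable {M}

/-- The germ of a section. -/
abbrev gS (G : ModSite.Mod X.sheaf) (U : Opens X.toTopCat) (x : X) (hx : x ∈ U) (s : Sec G U) :
    (PullFlat.anPsh G).stalk x :=
  (PullFlat.anPsh G).germ U x hx s

theorem gS_resS (G : ModSite.Mod X.sheaf) {U V : Opens X.toTopCat} (h : V ≤ U) (x : X) (hx : x ∈ V)
    (s : Sec G U) : gS G V x hx (resS G h s) = gS G U x (h hx) s :=
  (PullFlat.anPsh G).germ_res_apply (homOfLE h) x hx s

theorem gS_smul (G : ModSite.Mod X.sheaf) {U : Opens X.toTopCat} (x : X) (hx : x ∈ U) (r : RU U)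
    (s : Sec G U) : gS G U x hx (r • s) = X.presheaf.germ U x hx r • gS G U x hx s :=
  PresheafOfModules.germ_smul (R := X.presheaf) (PullFlat.anPom G) x U hx r s

/-- Every germ is a combination of canonical sections. -/
theorem stalk_surjective {U : Opens X.toTopCat} (x : X) (hxU : x ∈ U) (t : Sec (sphTilde π M) U) :
    ∃ (W : Opens X.toTopCat) (hx : x ∈ W) (ι : Type u) (_ : Fintype ι) (s : ι → RU (X := X) W) (m : ι → M),
      gS _ W x hx (∑ k, s k • thetaU π M W (m k)) = gS _ U x hxU t := by
  classical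
  let F := sphTilde π M
  let St := (PullFlat.anPsh F).stalk x
  let S : Submodule (PullFlat.anStalk x) St :=
    Submodule.span _ (Set.range fun m : M => gS F ⊤ x trivial (theta π M m))
  have hmem : gS F U x hxU t ∈ S := by
    by_contra hne
    obtain ⟨c, hc⟩ := CharacterModule.exists_character_apply_ne_zero_of_ne_zero
      (a := Submodule.mkQ S (gS F U x hxU t)) (fun h => hne ((Submodule.Quotient.mk_eq_zero S).1 h))
    let χ : CharacterModule St := c.comp S.mkQ.toAddMonoidHom
    obtain ⟨g, hg⟩ := PullFlat.exists_toSky x (P := F) χ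
    have hg0 : g = 0 := hom_ext_theta π M g 0 fun m => funext fun y => funext fun hy => by
      obtain ⟨y, hyt⟩ := y
      obtain rfl : y = x := hy.down
      refine (hg ⊤ trivial (theta π M m)).trans (DFunLike.ext _ _ fun b => ?_)
      show c (S.mkQ (b • gS F ⊤ y trivial (theta π M m))) = 0
      rw [Submodule.mkQ_apply, (Submodule.Quotient.mk_eq_zero S).2
        (S.smul_mem b (Submodule.subset_span ⟨m, rfl⟩)), map_zero]
    have h1 := hg U hxU t
    rw [hg0] at h1
    have h2 := DFunLike.congr_fun h1.symm (1 : PullFlat.anStalk x)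
    refine hc ?_
    refine Eq.trans ?_ h2
    show c (S.mkQ (gS F U x hxU t)) = c (S.mkQ ((1 : PullFlat.anStalk x) • gS F U x hxU t))
    rw [one_smul]
  obtain ⟨b, hb⟩ := (Finsupp.mem_span_range_iff_exists_finsupp).1 hmem
  obtain ⟨W, hx, s, hs⟩ := HensN.exists_common (fun k : b.support => b k)
  refine ⟨W, hx, b.support, inferInstance, s, fun k => k.1, ?_⟩
  rw [← hb, Finsupp.sum, ← Finset.sum_coe_sort b.support]
  refine (map_sum ((PullFlat.anPsh F).germ W x hx).hom (fun k => s k • thetaU π M W k.1) Finset.univ).trans ?_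
  refine Finset.sum_congr rfl fun k _ => ?_
  refine (gS_smul F x hx (s k) _).trans ?_
  rw [thetaU, gS_resS]
  exact congrArg (· • gS F ⊤ x trivial (theta π M k.1)) (hs k)

/-- The `A`-algebra of sections. -/
abbrev secAlg (U : Opens X.toTopCat) : Algebra A (X.presheaf.obj (op U) : Type u) :=
  ((X.presheaf.map (homOfLE (le_top : U ≤ ⊤)).op).hom.comp (glob π)).toAlgebra

theorem map_map_apply {U V W : Opens X.toTopCat} (h : V ≤ U) (h' : W ≤ V) (r : X.presheaf.obj (op U)) :
    X.presheaf.map (homOfLE h').op (X.presheaf.map (homOfLE h).op r) =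
      X.presheaf.map (homOfLE (h'.trans h)).op r := by
  rw [← CommRingCat.comp_apply, ← X.presheaf.map_comp]
  rfl

/-- Restriction as an algebra map. -/
def rho {U V : Opens X.toTopCat} (h : V ≤ U) :
    letI := secAlg π U
    letI := secAlg π V
    (X.presheaf.obj (op U) : Type u) →ₐ[A] (X.presheaf.obj (op V) : Type u) :=
  letI := secAlg π U
  letI := secAlg π V
  { (X.presheaf.map (homOfLE h).op).hom with commutes' := fun a => map_map_apply le_top h (glob π a) }

/-- The comparison map. -/
def Lam (U : Opens X.toTopCat) :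
    letI := secAlg π U
    ((X.presheaf.obj (op U) : Type u) ⊗[A] M) →+ Sec (sphTilde π M) U :=
  letI := secAlg π U
  TensorProduct.liftAddHom
    { toFun := fun r =>
        { toFun := fun m => (show RU (X := X) U from r) • thetaU π M U m
          map_zero' := by
            have h0 : thetaU π M U (0 : M) = 0 := by
              rw [thetaU, theta_zero]
              exact map_zero _
            exact (congrArg (fun z => (show RU (X := X) U from r) • z) h0).trans (smul_zero _)
          map_add' := fun p q => by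
            have h0 : thetaU π M U (p + q) = thetaU π M U p + thetaU π M U q := by
              rw [thetaU, theta_add]
              exact map_add _ _ _
            exact (congrArg (fun z => (show RU (X := X) U from r) • z) h0).trans (smul_add _ _ _) }
      map_zero' := AddMonoidHom.ext fun m => zero_smul (RU (X := X) U) _
      map_add' := fun p q => AddMonoidHom.ext fun m => add_smul (R := RU (X := X) U) p q _ }
    (fun a r m => by
      show HSMul.hSMul (α := RU (X := X) U) (algebraMap A (X.presheaf.obj (op U) : Type u) a * r)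
          (thetaU π M U m) =
        HSMul.hSMul (α := RU (X := X) U) r (thetaU π M U (a • m))
      rw [thetaU_smul, smul_smul]
      exact congrArg (fun z : RU (X := X) U => z • thetaU π M U m)
        (mul_comm (algebraMap A (X.presheaf.obj (op U) : Type u) a) r))

theorem Lam_tmul (U : Opens X.toTopCat) (r : X.presheaf.obj (op U)) (m : M) :
    letI := secAlg π U
    Lam π U (r ⊗ₜ[A] m) = (show RU (X := X) U from r) • thetaU π M U m := rfl

theorem Lam_res {U V : Opens X.toTopCat} (h : V ≤ U) :
    letI := secAlg π U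
    letI := secAlg π V
    ∀ e : (X.presheaf.obj (op U) : Type u) ⊗[A] M,
      resS _ h (Lam π U e) = Lam π V (Glue.push M (rho π h) e) := by
  letI := secAlg π U
  letI := secAlg π V
  intro e
  induction e using TensorProduct.induction_on with
  | zero =>
    rw [map_zero (Lam π U), map_zero (Glue.push M (rho π h)), map_zero (Lam π V), resS]
    exact map_zero _
  | tmul r m =>
    show resS _ h ((show RU (X := X) U from r) • thetaU π M U m) = _
    rw [resS_smul, resS_thetaU]
    rfl
  | add p q hp hq =>
    rw [map_add (Lam π U), map_add (Glue.push M (rho π h)), map_add (Lam π V), ← hp, ← hq, resS]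
    exact map_add _ _ _

variable {I : Ideal A} {π}

/-- Sections over smaller distinguished opens. -/
theorem away_away (hX : IsSph A I X π) (f g : A) (h : dOpen π g ≤ dOpen π f) :
    letI := ((X.presheaf.map (homOfLE h).op).hom).toAlgebra
    IsHensAway (O π f) (I.map (secMap π (PrimeSpectrum.basicOpen f))) (secMap π (PrimeSpectrum.basicOpen f) g)
      (O π g) (algebraMap (O π f) (O π g)) := by
  let ρ : O π f →+* O π g := (X.presheaf.map (homOfLE h).op).hom
  have hρ : ρ.comp (secMap π (PrimeSpectrum.basicOpen f)) = secMap π (PrimeSpectrum.basicOpen g) :=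
    RingHom.ext (secMap_res π h)
  show IsHensAway (O π f) _ _ (O π g) ρ
  refine ⟨?_, ?_, fun C _ J φ hC hJ hu => ?_⟩
  · rw [← RingHom.comp_apply, hρ]
    exact (hX.2.2 g).1
  · rw [Ideal.map_map, hρ]
    exact (hX.2.2 g).2.1
  · rw [Ideal.map_map] at hJ
    obtain ⟨k, hk, hku⟩ := (hX.2.2 g).2.2 C J (φ.comp (secMap π (PrimeSpectrum.basicOpen f))) hC hJ hu
    refine ⟨k, ?_, fun k' hk' => hku k' (by
      show k'.comp _ = _
      rw [← hρ, ← RingHom.comp_assoc, hk'])⟩
    exact ((hX.2.2 f).2.2 C J (φ.comp (secMap π (PrimeSpectrum.basicOpen f))) hC hJ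
      ((hX.2.2 f).1.map φ)).unique (by rw [RingHom.comp_assoc, hρ, hk]) rfl

/-- A pointwise cover is a cover modulo `I`. -/
theorem cover_top (hX : IsSph A I X π) (f : A) {κ : Type u} (g : κ → A)
    (h : ∀ x ∈ dOpen π f, ∃ i, x ∈ dOpen π (g i)) :
    I.map (secMap π (PrimeSpectrum.basicOpen f)) ⊔
      Ideal.span (Set.range fun i => secMap π (PrimeSpectrum.basicOpen f) (g i)) = ⊤ := by
  by_contra hne
  obtain ⟨m, hm, hle⟩ := Ideal.exists_le_maximal _ hne
  let φ := secMap π (PrimeSpectrum.basicOpen f)
  let p : PrimeSpectrum A := ⟨m.comap φ, Ideal.comap_isPrime _ _⟩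
  have hpV : p ∈ PrimeSpectrum.zeroLocus (I : Set A) := fun a ha =>
    hle (Ideal.mem_sup_left (Ideal.mem_map_of_mem φ ha))
  obtain ⟨x, hx⟩ : p ∈ Set.range π.base := hX.2.1 ▸ hpV
  have hxf : x ∈ dOpen π f := by
    show π.base x ∈ PrimeSpectrum.basicOpen f
    rw [hx]
    exact fun hf => hm.ne_top (m.eq_top_of_isUnit_mem hf (hX.2.2 f).1)
  obtain ⟨i, hi⟩ := h x hxf
  have hi' : π.base x ∈ PrimeSpectrum.basicOpen (g i) := hi
  rw [hx] at hi'
  exact hi' (hle (Ideal.mem_sup_right (Ideal.subset_span ⟨i, rfl⟩)))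

/-- A cover modulo `I` is a pointwise cover. -/
theorem exists_of_cover_top (hX : IsSph A I X π) (f : A) {κ : Type u} (g : κ → A)
    (h : I.map (secMap π (PrimeSpectrum.basicOpen f)) ⊔
      Ideal.span (Set.range fun i => secMap π (PrimeSpectrum.basicOpen f) (g i)) = ⊤)
    (x : X) (hx : x ∈ dOpen π f) : ∃ i, x ∈ dOpen π (g i) := by
  by_contra hne
  push Not at hne
  let γ : O π f →+* (X.presheaf.stalk x : Type u) := (X.presheaf.germ (dOpen π f) x hx).hom
  have hγ : ∀ a, γ (secMap π _ a) = stk π x a := fun a => germ_secMap π hx a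
  have hle : I.map (secMap π (PrimeSpectrum.basicOpen f)) ⊔
      Ideal.span (Set.range fun i => secMap π (PrimeSpectrum.basicOpen f) (g i)) ≤
        (IsLocalRing.maximalIdeal _).comap γ := by
    refine sup_le (Ideal.map_le_iff_le_comap.2 fun a ha => ?_) (Ideal.span_le.2 ?_)
    · rw [Ideal.mem_comap, Ideal.mem_comap, hγ, IsLocalRing.mem_maximalIdeal]
      exact not_isUnit_stk hX x ha
    · rintro _ ⟨i, rfl⟩
      rw [SetLike.mem_coe, Ideal.mem_comap, hγ, IsLocalRing.mem_maximalIdeal]
      exact fun hu => hne i ((isUnit_stk_iff π x _).1 hu)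
  rw [h] at hle
  have h1 : γ 1 ∈ IsLocalRing.maximalIdeal (X.presheaf.stalk x : Type u) :=
    hle (Submodule.mem_top (x := (1 : O π f)))
  rw [map_one] at h1
  exact (IsLocalRing.mem_maximalIdeal _).1 h1 isUnit_one

theorem push_cancel {H H' : Type u} [CommRing H] [CommRing H'] [Algebra A H] [Algebra A H']
    [Algebra H H'] [IsScalarTower A H H'] (e : H ⊗[A] M) :
    TensorProduct.AlgebraTensorModule.cancelBaseChange A H H' H' M ((1 : H') ⊗ₜ[H] e) =
      Glue.push M (IsScalarTower.toAlgHom A H H') e := by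
  induction e using TensorProduct.induction_on with
  | zero => simp
  | tmul r m => simp [Glue.push, Algebra.smul_def]
  | add p q hp hq => simp [tmul_add, map_add, hp, hq]

/-- Sections are determined by the tensor product. -/
theorem Lam_injective [HenselianRing A I] (hX : IsSph A I X π) (f : A) :
    letI := secAlg π (dOpen π f)
    ∀ e : O π f ⊗[A] M, Lam π (dOpen π f) e = 0 → e = 0 := by
  letI := secAlg π (dOpen π f)
  intro e he
  classical
  obtain ⟨T, hT⟩ := TensorProduct.exists_finset e
  have hex : ∀ x : (dOpen π f : Opens X.toTopCat), ∃ (g : A) (hg : dOpen π g ≤ dOpen π f),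
      x.1 ∈ dOpen π g ∧
        letI := secAlg π (dOpen π g)
        Glue.push M (rho π hg) e = 0 := by
    rintro ⟨x, hx⟩
    letI := stkAlg π x
    let N := T.card
    let sT : Fin N → O π f := fun k => (T.equivFin.symm k).1.1
    let mT : Fin N → M := fun k => (T.equivFin.symm k).1.2
    have heT : e = ∑ k, sT k ⊗ₜ[A] mT k := by
      rw [hT, ← Finset.sum_coe_sort T, ← T.equivFin.symm.sum_comp]
    have h0 := stalk_injective π M x hx sT mT (by
      refine Eq.trans ?_ he
      rw [heT, map_sum]
      rfl)
    let gx : Fin N → (X.presheaf.stalk x : Type u) := fun k => X.presheaf.germ (dOpen π f) x hx (sT k)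
    have h1 : ∑ k, mT k ⊗ₜ[A] gx k = 0 := by
      have := congrArg (TensorProduct.comm A (X.presheaf.stalk x : Type u) M) h0
      rw [map_sum, map_zero] at this
      exact this
    have : Module.Flat A (X.presheaf.stalk x : Type u) := flat_stk hX x
    obtain ⟨n, a, y, hy, hay⟩ := TensorProduct.vanishesTrivially_of_sum_tmul_eq_zero_of_rTensor_injective A
      (Module.Flat.rTensor_preserves_injective_linearMap _ Subtype.val_injective) h1
    obtain ⟨W₀, hW₀, yt, hyt⟩ := HensN.exists_common y
    let W₁ := W₀ ⊓ dOpen π f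
    have hxW₁ : x ∈ W₁ := ⟨hW₀, hx⟩
    let r₁ : ∀ V : Opens X.toTopCat, W₁ ≤ V → (X.presheaf.obj (op V) : Type u) →+*
        (X.presheaf.obj (op W₁) : Type u) := fun V hV => (X.presheaf.map (homOfLE hV).op).hom
    have hgerm : ∀ k, X.presheaf.germ W₁ x hxW₁ (r₁ _ inf_le_right (sT k) -
        ∑ j, r₁ ⊤ le_top (glob π (a k j)) * r₁ _ inf_le_left (yt j)) = 0 := by
      intro k
      rw [map_sub, map_sum, sub_eq_zero]
      refine (X.presheaf.germ_res_apply _ x hxW₁ _).trans ((hy k).trans (Finset.sum_congr rfl fun j _ => ?_))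
      rw [map_mul, Algebra.smul_def, ← hyt j]
      refine congrArg₂ (· * ·) ?_ ?_
      · exact (X.presheaf.germ_res_apply (homOfLE (le_top : W₁ ≤ ⊤)) x hxW₁ (glob π (a k j))).symm
      · exact (X.presheaf.germ_res_apply _ x hxW₁ _).symm
    choose V hxV iV iV' hV using fun k => X.presheaf.germ_eq x hxW₁ hxW₁ _ 0 ((hgerm k).trans (map_zero _).symm)
    let W₂ : Opens X.toTopCat := W₁ ⊓ Finset.univ.inf V
    have hxW₂ : x ∈ W₂ := ⟨hxW₁, by
      show x ∈ ((Finset.univ.inf V : Opens X.toTopCat) : Set X)
      rw [Opens.coe_finset_inf, Finset.inf_set_eq_iInter]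
      simpa using hxV⟩
    obtain ⟨g, hxg, hgW⟩ := exists_dOpen hX hxW₂
    have hg₁ : dOpen π g ≤ W₁ := hgW.trans inf_le_left
    have hgf : dOpen π g ≤ dOpen π f := hg₁.trans inf_le_right
    refine ⟨g, hgf, hxg, ?_⟩
    letI := secAlg π (dOpen π g)
    have hs : ∀ k, rho π hgf (sT k) = ∑ j, algebraMap A (O π g) (a k j) *
        X.presheaf.map (homOfLE (hg₁.trans inf_le_left)).op (yt j) := by
      intro k
      have h2 : X.presheaf.map (homOfLE hg₁).op (r₁ _ inf_le_right (sT k) -
          ∑ j, r₁ ⊤ le_top (glob π (a k j)) * r₁ _ inf_le_left (yt j)) = 0 := by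
        have hle : dOpen π g ≤ V k := hgW.trans (inf_le_right.trans (Finset.inf_le (Finset.mem_univ k)))
        have h3 := congrArg (X.presheaf.map (homOfLE hle).op) (hV k)
        rw [map_zero, map_zero] at h3
        rw [← map_map_apply (iV k).le hle]
        exact h3
      rw [map_sub, map_sum, sub_eq_zero] at h2
      rw [show rho π hgf (sT k) = X.presheaf.map (homOfLE hg₁).op (r₁ _ inf_le_right (sT k)) from
        (map_map_apply _ hg₁ _).symm, h2]
      refine Finset.sum_congr rfl fun j _ => ?_
      rw [map_mul]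
      exact congrArg₂ (· * ·) (map_map_apply _ hg₁ _) (map_map_apply _ hg₁ _)
    rw [heT, map_sum]
    simp only [Glue.push, LinearMap.rTensor_tmul, AlgHom.toLinearMap_apply, hs, sum_tmul,
      ← Algebra.smul_def, smul_tmul]
    rw [Finset.sum_comm]
    refine Finset.sum_eq_zero fun j _ => ?_
    rw [← tmul_sum, hay j, tmul_zero]
  choose g hg hxg hg0 using hex
  let _ : ∀ x, Algebra (O π f) (O π (g x)) := fun x => ((X.presheaf.map (homOfLE (hg x)).op).hom).toAlgebra
  have := (hX.2.2 f).2.1
  refine Glue.eq_zero_of_forall_away (A := O π f) (I := I.map (secMap π (PrimeSpectrum.basicOpen f)))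
    (M := O π f ⊗[A] M) (fun x => secMap π (PrimeSpectrum.basicOpen f) (g x))
    (cover_top hX f g fun z hz => ⟨⟨z, hz⟩, hxg ⟨z, hz⟩⟩) (fun x => O π (g x))
    (fun x => away_away hX f (g x) (hg x)) e fun x => ?_
  letI := secAlg π (dOpen π (g x))
  have : IsScalarTower A (O π f) (O π (g x)) :=
    IsScalarTower.of_algebraMap_eq fun a => ((rho π (hg x)).commutes a).symm
  refine (TensorProduct.AlgebraTensorModule.cancelBaseChange A (O π f) (O π (g x)) (O π (g x)) M).injective ?_
  rw [map_zero, push_cancel]
  exact hg0 x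

/-- Every section comes from the tensor product. -/
theorem Lam_surjective [HenselianRing A I] (hX : IsSph A I X π) (f : A) :
    letI := secAlg π (dOpen π f)
    ∀ t : Sec (sphTilde π M) (dOpen π f), ∃ e : O π f ⊗[A] M, Lam π (dOpen π f) e = t := by
  letI := secAlg π (dOpen π f)
  intro t
  classical
  let F := sphTilde π M
  have hex : ∀ x : (dOpen π f : Opens X.toTopCat), ∃ (g : A) (hg : dOpen π g ≤ dOpen π f),
      x.1 ∈ dOpen π g ∧
        letI := secAlg π (dOpen π g)
        ∃ e : O π g ⊗[A] M, Lam π (dOpen π g) e = resS F hg t := by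
    rintro ⟨x, hx⟩
    obtain ⟨W, hxW, ι, _, s, m, hs⟩ := stalk_surjective π x hx t
    obtain ⟨V, hxV, i₁, i₂, hV⟩ := (PullFlat.anPsh F).germ_eq x hxW hx _ _ hs
    obtain ⟨g, hxg, hgV⟩ := exists_dOpen hX hxV
    have hgf : dOpen π g ≤ dOpen π f := hgV.trans i₂.le
    have hgW : dOpen π g ≤ W := hgV.trans i₁.le
    letI := secAlg π (dOpen π g)
    refine ⟨g, hgf, hxg, ∑ k, (X.presheaf.map (homOfLE hgW).op (s k) : O π g) ⊗ₜ[A] m k, ?_⟩
    have h1 : resS F hgW (∑ k, s k • thetaU π M W (m k)) = resS F hgf t := by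
      have h2 := congrArg (fun z => resS F hgV z) hV
      refine Eq.trans ?_ (h2.trans ?_)
      · exact LinearMap.congr_fun (congrArg ModuleCat.Hom.hom (F.val.map_comp i₁.op (homOfLE hgV).op)) _
      · exact (LinearMap.congr_fun (congrArg ModuleCat.Hom.hom (F.val.map_comp i₂.op (homOfLE hgV).op)) _).symm
    rw [← h1, map_sum]
    refine Eq.trans ?_ (map_sum (F.val.map (homOfLE hgW).op).hom _ _).symm
    refine Finset.sum_congr rfl fun k _ => ?_
    refine Eq.trans ?_ (resS_smul F hgW (s k) (thetaU π M W (m k))).symm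
    rw [resS_thetaU]
    rfl
  choose g hg hxg ex hex' using hex
  have hcov := cover_top hX f g fun z hz => ⟨⟨z, hz⟩, hxg ⟨z, hz⟩⟩
  let φ := secMap π (PrimeSpectrum.basicOpen f)
  obtain ⟨T, hT⟩ : ∃ T : Finset ↥(dOpen π f : Opens X.toTopCat),
      I.map φ ⊔ Ideal.span (Set.range fun i : T => φ (g i)) = ⊤ := by
    obtain ⟨a, ha, b, hb, hab⟩ := Submodule.mem_sup.1
      (hcov.symm ▸ Submodule.mem_top : (1 : O π f) ∈ I.map φ ⊔ Ideal.span (Set.range fun i => φ (g i)))
    obtain ⟨T, hT, hbT⟩ := Submodule.mem_span_finite_of_mem_span hb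
    choose pre hpre using fun t : T => hT t.2
    refine ⟨Finset.univ.image pre, (Ideal.eq_top_iff_one _).2 ?_⟩
    rw [← hab]
    refine add_mem (Ideal.mem_sup_left ha) (Ideal.mem_sup_right (Ideal.span_mono ?_ hbT))
    intro z hz
    exact ⟨⟨pre ⟨z, hz⟩, Finset.mem_image_of_mem pre (Finset.mem_univ _)⟩, hpre ⟨z, hz⟩⟩
  let _ : ∀ i : T, Algebra (O π f) (O π (g i)) :=
    fun i => ((X.presheaf.map (homOfLE (hg i)).op).hom).toAlgebra
  let _ : ∀ i : T, Algebra A (O π (g i)) := fun i => secAlg π (dOpen π (g i))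
  have htow : ∀ i : T, IsScalarTower A (O π f) (O π (g i)) := fun i =>
    IsScalarTower.of_algebraMap_eq fun a => ((rho π (hg i)).commutes a).symm
  have hmul : ∀ a b : A, dOpen π (a * b) = dOpen π a ⊓ dOpen π b := fun a b =>
    (congrArg (Opens.map π.base).obj (PrimeSpectrum.basicOpen_mul a b)).trans rfl
  have hl : ∀ i j : T, dOpen π (g i * g j) ≤ dOpen π (g i) := fun i j => (hmul _ _).le.trans inf_le_left
  have hr : ∀ i j : T, dOpen π (g i * g j) ≤ dOpen π (g j) := fun i j => (hmul _ _).le.trans inf_le_right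
  have hlf : ∀ i j : T, dOpen π (g i * g j) ≤ dOpen π f := fun i j => (hl i j).trans (hg i)
  let _ : ∀ i j : T, Algebra (O π f) (O π (g i * g j)) :=
    fun i j => ((X.presheaf.map (homOfLE (hlf i j)).op).hom).toAlgebra
  let _ : ∀ i j : T, Algebra A (O π (g i * g j)) := fun i j => secAlg π (dOpen π (g i * g j))
  have htow2 : ∀ i j : T, IsScalarTower A (O π f) (O π (g i * g j)) := fun i j =>
    IsScalarTower.of_algebraMap_eq fun a => ((rho π (hlf i j)).commutes a).symm
  let σ : ∀ i j : T, O π (g i) →ₐ[O π f] O π (g i * g j) := fun i j =>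
    { (X.presheaf.map (homOfLE (hl i j)).op).hom with commutes' := fun r => map_map_apply (hg i) (hl i j) r }
  let τ : ∀ i j : T, O π (g j) →ₐ[O π f] O π (g i * g j) := fun i j =>
    { (X.presheaf.map (homOfLE (hr i j)).op).hom with commutes' := fun r => map_map_apply (hg j) (hr i j) r }
  let E := fun i : T => TensorProduct.AlgebraTensorModule.cancelBaseChange A (O π f) (O π (g i)) (O π (g i)) M
  let E2 := fun i j : T => TensorProduct.AlgebraTensorModule.cancelBaseChange A (O π f) (O π (g i * g j))
    (O π (g i * g j)) M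
  have hnat : ∀ (i j : T) (z : O π (g i) ⊗[O π f] (O π f ⊗[A] M)),
      E2 i j (Glue.push _ (σ i j) z) = Glue.push M (rho π (hl i j)) (E i z) := by
    intro i j z
    induction z using TensorProduct.induction_on with
    | zero => simp
    | tmul r e =>
      induction e using TensorProduct.induction_on with
      | zero => simp
      | tmul r' m =>
        simp only [E, E2, Glue.push, LinearMap.rTensor_tmul, AlgHom.toLinearMap_apply,
          TensorProduct.AlgebraTensorModule.cancelBaseChange_tmul]
        rw [← map_smul (σ i j)]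
        rfl
      | add p q hp hq => simp only [tmul_add, map_add, hp, hq]
    | add p q hp hq => simp only [map_add, hp, hq]
  have hnat' : ∀ (i j : T) (z : O π (g j) ⊗[O π f] (O π f ⊗[A] M)),
      E2 i j (Glue.push _ (τ i j) z) = Glue.push M (rho π (hr i j)) (E j z) := by
    intro i j z
    induction z using TensorProduct.induction_on with
    | zero => simp
    | tmul r e =>
      induction e using TensorProduct.induction_on with
      | zero => simp
      | tmul r' m =>
        simp only [E, E2, Glue.push, LinearMap.rTensor_tmul, AlgHom.toLinearMap_apply,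
          TensorProduct.AlgebraTensorModule.cancelBaseChange_tmul]
        rw [← map_smul (τ i j)]
        rfl
      | add p q hp hq => simp only [tmul_add, map_add, hp, hq]
    | add p q hp hq => simp only [map_add, hp, hq]
  have := (hX.2.2 f).2.1
  have hH : ∀ i j : T, IsHensAway (O π f) (I.map φ) (φ (g i) * φ (g j)) (O π (g i * g j))
      (algebraMap (O π f) (O π (g i * g j))) := fun i j => by
    rw [← map_mul]
    exact away_away hX f (g i * g j) (hlf i j)
  obtain ⟨y, hy⟩ := Glue.exists_glue_away (A := O π f) (I := I.map φ) (M := O π f ⊗[A] M)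
    (fun i : T => φ (g i)) hT (fun i => O π (g i)) (fun i => away_away hX f (g i) (hg i))
    (fun i j => O π (g i * g j)) hH σ τ (fun i => (E i).symm (ex i)) (fun i j => by
      apply (E2 i j).injective
      rw [hnat, hnat', LinearEquiv.apply_symm_apply, LinearEquiv.apply_symm_apply]
      rw [← sub_eq_zero]
      refine Lam_injective hX (g i * g j) _ ?_
      rw [map_sub, sub_eq_zero, ← Lam_res π (hl i j), ← Lam_res π (hr i j), hex', hex']
      exact ((LinearMap.congr_fun (congrArg ModuleCat.Hom.hom
        (F.val.map_comp (homOfLE (hg i)).op (homOfLE (hl i j)).op)) t).symm).trans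
        (LinearMap.congr_fun (congrArg ModuleCat.Hom.hom
        (F.val.map_comp (homOfLE (hg j)).op (homOfLE (hr i j)).op)) t))
  refine ⟨y, ?_⟩
  refine TopCat.Presheaf.section_ext (⟨PullFlat.anPsh F, F.isSheaf⟩ : TopCat.Sheaf AddCommGrpCat.{u} X.toTopCat)
    (dOpen π f) _ _ fun x hx => ?_
  obtain ⟨i, hi⟩ := exists_of_cover_top hX f (fun i : T => g i) hT x hx
  have h1 : resS F (hg i) (Lam π (dOpen π f) y) = resS F (hg i) t := by
    rw [Lam_res π (hg i), ← hex' i]
    refine congrArg (Lam π (dOpen π (g i))) ?_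
    have h2 := congrArg (E i) (hy i)
    rw [LinearEquiv.apply_symm_apply] at h2
    exact (push_cancel y).symm.trans h2
  have h3 := congrArg (gS F (dOpen π (g i)) x hi) h1
  rw [gS_resS, gS_resS] at h3
  exact h3

/-- The base change property of the sections. -/
theorem existsUnique_linear [HenselianRing A I] (hX : IsSph A I X π) (f : A) (P : Type u) [AddCommGroup P]
    [Module (RU (X := X) (dOpen π f)) P] (ψ : M →+ P)
    (hψ : ∀ (a : A) (m : M),
      ψ (a • m) = HSMul.hSMul (α := RU (X := X) (dOpen π f)) (secMap π (PrimeSpectrum.basicOpen f) a) (ψ m)) :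
    ∃! χ : Sec (sphTilde π M) (dOpen π f) →ₗ[RU (X := X) (dOpen π f)] P,
      ∀ m : M, χ (thetaU π M (dOpen π f) m) = ψ m := by
  letI := secAlg π (dOpen π f)
  let R := RU (X := X) (dOpen π f)
  let L := Lam (M := M) π (dOpen π f)
  have hbij : Function.Bijective L := ⟨(injective_iff_map_eq_zero L).2 (Lam_injective hX f), Lam_surjective hX f⟩
  let Ψ : O π f ⊗[A] M →+ P := TensorProduct.liftAddHom
    { toFun := fun r =>
        { toFun := fun m => (show R from r) • ψ m
          map_zero' := (congrArg (fun z => (show R from r) • z) (map_zero ψ)).trans (smul_zero _)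
          map_add' := fun p q => (congrArg (fun z => (show R from r) • z) (map_add ψ p q)).trans (smul_add _ _ _) }
      map_zero' := AddMonoidHom.ext fun m => zero_smul R _
      map_add' := fun p q => AddMonoidHom.ext fun m => add_smul (R := R) p q _ }
    (fun a r m => by
      show HSMul.hSMul (α := R) (algebraMap A (O π f) a * r) (ψ m) = HSMul.hSMul (α := R) r (ψ (a • m))
      rw [hψ, smul_smul]
      exact congrArg (fun z : R => z • ψ m) (mul_comm (algebraMap A (O π f) a) r))
  let Linv := (Equiv.ofBijective L hbij).symm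
  have hLinv : ∀ t, L (Linv t) = t := (Equiv.ofBijective L hbij).apply_symm_apply
  let χ₀ : Sec (sphTilde π M) (dOpen π f) →+ P := Ψ.comp (AddEquiv.ofBijective L hbij).symm.toAddMonoidHom
  have hχ₀ : ∀ e, χ₀ (L e) = Ψ e := fun e =>
    congrArg Ψ ((AddEquiv.ofBijective L hbij).symm_apply_apply e)
  have hsmul : ∀ (r : O π f) (e : O π f ⊗[A] M), L (r • e) = (show R from r) • L e ∧
      Ψ (r • e) = (show R from r) • Ψ e := by
    intro r e
    induction e using TensorProduct.induction_on with
    | zero =>
      rw [smul_zero, map_zero, map_zero, smul_zero, smul_zero]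
      exact ⟨rfl, rfl⟩
    | tmul r' m => exact ⟨mul_smul (show R from r) (show R from r') _, mul_smul (show R from r) (show R from r') _⟩
    | add p q hp hq =>
      rw [smul_add, map_add, map_add, map_add, map_add, hp.1, hq.1, hp.2, hq.2, smul_add, smul_add]
      exact ⟨rfl, rfl⟩
  let χ : Sec (sphTilde π M) (dOpen π f) →ₗ[R] P :=
    { toFun := χ₀
      map_add' := map_add χ₀
      map_smul' := fun r t => by
        obtain ⟨e, rfl⟩ := hbij.2 t
        rw [RingHom.id_apply, ← (hsmul r e).1, hχ₀, hχ₀]
        exact (hsmul r e).2 }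
  have hθ : ∀ m, L (1 ⊗ₜ[A] m) = thetaU π M (dOpen π f) m := fun m => one_smul R _
  refine ⟨χ, fun m => ?_, fun χ' hχ' => LinearMap.ext fun t => ?_⟩
  · show χ₀ _ = _
    rw [← hθ, hχ₀]
    exact one_smul R _
  · obtain ⟨e, rfl⟩ := hbij.2 t
    show χ' (L e) = χ₀ (L e)
    rw [hχ₀]
    induction e using TensorProduct.induction_on with
    | zero => rw [map_zero, map_zero, map_zero]
    | tmul r m =>
      show χ' ((show R from r) • thetaU π M (dOpen π f) m) = (show R from r) • ψ m
      rw [map_smul, hχ']
    | add p q hp hq => rw [map_add, map_add, map_add, hp, hq]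

end Groth.Agent.Hens22.Sph
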