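import Groth.Agent.Hens22.ClopenLift
import Groth.Agent.Hens22.Integral
import Mathlib.AlgebraicGeometry.PullbackCarrier

/-!
Henselian couples from Henselian rings of global sections.
-/

set_option autoImplicit false
set_option maxSynthPendingDepth 6
universe u

noncomputable section

open AlgebraicGeometry CategoryTheory Limits TopologicalSpace Opposite

namespace Groth.Agent.Hens22.ClopenCouple

variable {A : Type u} [CommRing A] [IsNoetherianRing A] (I : Ideal A) {X : Scheme.{u}}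
  (f : X ⟶ Spec (CommRingCat.of A)) [IsProper f]

/-- The map from the scalars to the functions. -/
abbrev scal {Y : Scheme.{u}} (s : Y ⟶ Spec (CommRingCat.of A)) : A →+* Γ(Y, ⊤) :=
  s.appTop.hom.comp (Scheme.ΓSpecIso (CommRingCat.of A)).inv.hom

omit [IsNoetherianRing A] [IsProper f] in
theorem scal_mem_ker {a : A} (ha : a ∈ I) :
    scal f a ∈ RingHom.ker (pullback.fst f (Spec.map (CommRingCat.ofHom (Ideal.Quotient.mk I)))).appTop.hom := by
  rw [RingHom.mem_ker]
  show ((pullback.fst f _).appTop) (f.appTop ((Scheme.ΓSpecIso (CommRingCat.of A)).inv a)) = 0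
  rw [← CommRingCat.comp_apply, ← Scheme.Hom.comp_appTop, pullback.condition, Scheme.Hom.comp_appTop,
    CommRingCat.comp_apply]
  have : (Spec.map (CommRingCat.ofHom (Ideal.Quotient.mk I))).appTop
      ((Scheme.ΓSpecIso (CommRingCat.of A)).inv a) =
      (Scheme.ΓSpecIso (CommRingCat.of (A ⧸ I))).inv (Ideal.Quotient.mk I a) :=
    (congrArg (fun k => k a) (Scheme.ΓSpecIso_inv_naturality (CommRingCat.ofHom (Ideal.Quotient.mk I)))).symm
  rw [this, Ideal.Quotient.eq_zero_iff_mem.2 ha, map_zero, map_zero]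

theorem existsUnique_clopen (Y : Scheme.{u}) (g : Y ⟶ X) [IsFinite g]
    (hens : HenselianRing Γ(Y, ⊤) (I.map (scal (g ≫ f))))
    (V : Set ↥(pullback g (pullback.fst f (Spec.map (CommRingCat.ofHom (Ideal.Quotient.mk I))))))
    (hV : IsClopen V) :
    ∃! U : Set ↥Y, IsClopen U ∧
      (pullback.fst g (pullback.fst f (Spec.map (CommRingCat.ofHom (Ideal.Quotient.mk I))))).base ⁻¹' U = V := by
  letI : Y.Over (Spec (CommRingCat.of A)) := ⟨g ≫ f⟩
  haveI : IsProper (Y ↘ Spec (CommRingCat.of A)) := inferInstanceAs (IsProper (g ≫ f))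
  have hrA : FF71.rA A Y ⊤ = scal (g ≫ f) := RingHom.ext fun a => StalkHens.rA_top_apply Y a
  haveI : HenselianRing Γ(Y, ⊤) (I.map (FF71.rA A Y ⊤)) := hrA ▸ hens
  let q := Spec.map (CommRingCat.ofHom (Ideal.Quotient.mk I))
  haveI : IsClosedImmersion q := IsClosedImmersion.spec_of_surjective _ Ideal.Quotient.mk_surjective
  let i := pullback.fst g (pullback.fst f q)
  have hrange : Set.range i.base = ClopenLift.Z (Y := Y) I := by
    rw [Scheme.Pullback.range_fst, Scheme.Pullback.range_fst]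
    show g.base ⁻¹' (f.base ⁻¹' Set.range (PrimeSpectrum.comap (Ideal.Quotient.mk I))) = _
    show _ = g.base ⁻¹' (f.base ⁻¹' PrimeSpectrum.zeroLocus (I : Set A))
    refine congrArg (g.base ⁻¹' f.base ⁻¹' ·) ?_
    exact (range_comap_of_surjective _ _ Ideal.Quotient.mk_surjective).trans (congrArg _ (congrArg _ Ideal.mk_ker))
  haveI : IsClosedImmersion i := inferInstance
  have hemb := i.isClosedEmbedding
  have himg : ∀ S : Set ↥(pullback g (pullback.fst f q)), IsOpen S →
      ∃ O : Set Y, IsOpen O ∧ O ∩ ClopenLift.Z (Y := Y) I = i.base '' S := by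
    intro S hS
    obtain ⟨O, hO, rfl⟩ := hemb.isInducing.isOpen_iff.1 hS
    refine ⟨O, hO, ?_⟩
    rw [← hrange, Set.image_preimage_eq_inter_range]
  have hsub : i.base '' V ⊆ ClopenLift.Z (Y := Y) I := hrange ▸ Set.image_subset_range _ _
  have hc : ∃ O : Set Y, IsOpen O ∧ O ∩ ClopenLift.Z (Y := Y) I = ClopenLift.Z (Y := Y) I \ i.base '' V := by
    obtain ⟨O, hO, hOV⟩ := himg Vᶜ hV.1.isOpen_compl
    refine ⟨O, hO, hOV.trans ?_⟩
    rw [← hrange, ← Set.image_univ, ← Set.image_sdiff hemb.injective, Set.compl_eq_univ_sdiff]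
  obtain ⟨U, ⟨hU, hUV⟩, huniq⟩ := ClopenLift.existsUnique_clopen I hsub (himg V hV.2) hc
  have hiff : ∀ U' : Set Y, i.base ⁻¹' U' = V ↔ U' ∩ ClopenLift.Z (Y := Y) I = i.base '' V := by
    intro U'
    rw [← hrange, ← Set.image_preimage_eq_inter_range]
    exact ⟨fun h => by rw [h], fun h => Set.image_injective.2 hemb.injective h⟩
  exact ⟨U, ⟨hU, (hiff U).2 hUV⟩, fun U' hU' => huniq U' ⟨hU'.1, (hiff U').1 hU'.2⟩⟩

theorem finite_scal (Y : Scheme.{u}) (g : Y ⟶ X) [IsFinite g] : (scal (g ≫ f)).Finite := by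
  letI : Y.Over (Spec (CommRingCat.of A)) := ⟨g ≫ f⟩
  haveI : IsProper (Y ↘ Spec (CommRingCat.of A)) := inferInstanceAs (IsProper (g ≫ f))
  have h := ClopenLift.finite_sections (A := A) (Y := Y)
  rwa [show FF71.rA A Y ⊤ = scal (g ≫ f) from RingHom.ext fun a => StalkHens.rA_top_apply Y a] at h

theorem henselianRing_of_henselianRing_base [HenselianRing A I] (Y : Scheme.{u}) (g : Y ⟶ X) [IsFinite g] :
    HenselianRing Γ(Y, ⊤) (I.map (scal (g ≫ f))) := by
  letI := (scal (g ≫ f)).toAlgebra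
  haveI : Module.Finite A Γ(Y, ⊤) := finite_scal f Y g
  haveI : Algebra.IsIntegral A Γ(Y, ⊤) := Algebra.IsIntegral.of_finite A _
  exact henselianRing_of_isIntegral I Γ(Y, ⊤)

theorem henselianRing_of_henselianRing_sections
    (h : HenselianRing Γ(X, ⊤)
      (RingHom.ker (pullback.fst f (Spec.map (CommRingCat.ofHom (Ideal.Quotient.mk I)))).appTop.hom))
    (Y : Scheme.{u}) (g : Y ⟶ X) [IsFinite g] :
    HenselianRing Γ(Y, ⊤) (I.map (scal (g ≫ f))) := by
  haveI := h
  haveI : HenselianRing Γ(X, ⊤) (I.map (scal f)) :=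
    henselianRing_of_le (J := RingHom.ker (pullback.fst f _).appTop.hom)
      (Ideal.map_le_iff_le_comap.2 fun a ha => scal_mem_ker I f ha)
  letI := (scal f).toAlgebra
  letI := (scal (g ≫ f)).toAlgebra
  letI := g.appTop.hom.toAlgebra
  have hcomp : scal (g ≫ f) = g.appTop.hom.comp (scal f) := rfl
  haveI : IsScalarTower A Γ(X, ⊤) Γ(Y, ⊤) := IsScalarTower.of_algebraMap_eq' hcomp
  haveI : Module.Finite A Γ(Y, ⊤) := finite_scal f Y g
  haveI : Algebra.IsIntegral A Γ(Y, ⊤) := Algebra.IsIntegral.of_finite A _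
  haveI : Algebra.IsIntegral Γ(X, ⊤) Γ(Y, ⊤) := Algebra.IsIntegral.tower_top A
  have h2 := henselianRing_of_isIntegral (I.map (scal f)) Γ(Y, ⊤)
  rwa [Ideal.map_map, show (algebraMap Γ(X, ⊤) Γ(Y, ⊤)).comp (scal f) = scal (g ≫ f) from rfl] at h2

end Groth.Agent.Hens22.ClopenCouple
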