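import Groth.Agent.Hens22.Coprime

/-!
Monic coprime factorisations lift in henselian pairs.
-/

set_option autoImplicit false
universe u

open Polynomial

namespace Groth.Agent.Hens22

variable {A : Type u} [CommRing A]

theorem map_finsetProd_X_sub_C {B : Type*} [CommRing B] {ι : Type*} (s : Finset ι) (φ : A →+* B)
    (x : ι → A) : (∏ i ∈ s, (X - C (x i))).map φ = ∏ i ∈ s, (X - C (φ (x i))) := by
  rw [Polynomial.map_prod]
  simp

theorem map_eq_of_coeff_mem {I : Ideal A} {g g' : Polynomial A}
    (h : ∀ i, g.coeff i - g'.coeff i ∈ I) :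
    g.map (Ideal.Quotient.mk I) = g'.map (Ideal.Quotient.mk I) := by
  ext i; simp only [coeff_map]; exact Ideal.Quotient.eq.2 (h i)

theorem degree_sum_lt' (N : ℕ) (c : ℕ → A) :
    (∑ i ∈ Finset.range N, C (c i) * X ^ i).degree < (N : WithBot ℕ) :=
  (degree_sum_le _ _).trans_lt ((Finset.sup_lt_iff (WithBot.bot_lt_coe N)).2 fun i hi =>
    (degree_C_mul_X_pow_le i (c i)).trans_lt (WithBot.coe_lt_coe.2 (Finset.mem_range.1 hi)))

theorem monomial_sum_coeff (N : ℕ) (c : ℕ → A) (j : ℕ) :
    (X ^ N + ∑ i ∈ Finset.range N, C (c i) * X ^ i).coeff j =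
      if j = N then 1 else if j < N then c j else 0 := by
  simp only [coeff_add, coeff_X_pow, finsetSum_coeff, coeff_C_mul, mul_ite, mul_one, mul_zero,
    Finset.sum_ite_eq, Finset.mem_range]
  split_ifs <;> first | omega | simp

/-- In a henselian pair coprime monic factorisations lift. -/
theorem exists_factor (I : Ideal A) [HenselianRing A I] {f g₀ h₀ : Polynomial A}
    (hf : f.Monic) (hg : g₀.Monic) (hh : h₀.Monic)
    (heq : f.map (Ideal.Quotient.mk I) = (g₀ * h₀).map (Ideal.Quotient.mk I))
    (hcop : IsCoprime (g₀.map (Ideal.Quotient.mk I)) (h₀.map (Ideal.Quotient.mk I))) :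
    ∃ g h : Polynomial A, g.Monic ∧ h.Monic ∧ f = g * h ∧
      g.map (Ideal.Quotient.mk I) = g₀.map (Ideal.Quotient.mk I) ∧
      h.map (Ideal.Quotient.mk I) = h₀.map (Ideal.Quotient.mk I) ∧ IsCoprime g h := by
  classical
  have hjac : I ≤ Ideal.jacobson ⊥ := HenselianRing.jac
  rcases subsingleton_or_nontrivial A with hA | hA
  · exact ⟨g₀, h₀, hg, hh, Subsingleton.elim _ _, rfl, rfl, ⟨0, 0, Subsingleton.elim _ _⟩⟩
  have hI : I ≠ ⊤ := fun h => by
    have := Ideal.jacobson_eq_top_iff.1 (top_le_iff.1 (h ▸ hjac))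
    exact bot_ne_top this
  have : Nontrivial (A ⧸ I) := Ideal.Quotient.nontrivial_iff.2 hI
  set n := f.natDegree with hn
  set N := g₀.natDegree with hN
  have hdeg : n = N + h₀.natDegree := by
    have := congrArg natDegree heq
    rwa [hf.natDegree_map, (hg.mul hh).natDegree_map, hg.natDegree_mul hh] at this
  obtain ⟨a₀, b₀, hab⟩ := hcop
  obtain ⟨u, rfl⟩ := Polynomial.map_surjective _ Ideal.Quotient.mk_surjective a₀
  obtain ⟨v, rfl⟩ := Polynomial.map_surjective _ Ideal.Quotient.mk_surjective b₀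
  let W := (Finset.univ : Finset (Fin n)).powersetCard N
  let β : Finset (Fin n) → MvPolynomial (Fin n) A := fun S =>
    ∏ i ∈ S, aeval (MvPolynomial.X i) (v * h₀)
  have hβ : ∀ (e : Equiv.Perm (Fin n)) S,
      MvPolynomial.rename e (β S) = β (S.map e.toEmbedding) := fun e S => by
    simp [β, map_prod, Finset.prod_map, ← Polynomial.aeval_algHom_apply]
  have hW : ∀ (e : Equiv.Perm (Fin n)) S, S ∈ W → S.map e.toEmbedding ∈ W := fun e S hS => by
    simp only [W, Finset.mem_powersetCard_univ] at hS ⊢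
    simpa using hS
  have hevβ : ∀ (k : Type u) [Field k] (φ : A →+* k) (l : Fin n → k) S,
      MvPolynomial.eval₂Hom φ l (β S) = ∏ i ∈ S, (v * h₀).eval₂ φ (l i) := by
    intro k _ φ l S
    simp only [β, map_prod]
    refine Finset.prod_congr rfl fun i _ => ?_
    rw [aeval_def, hom_eval₂, MvPolynomial.eval₂Hom_X']
    congr 1
    ext x; simp
  let Rp : Polynomial (MvPolynomial (Fin n) A) := ∏ S ∈ W, (X - C (β S))
  have hRp : Rp.Monic := monic_prod_of_monic _ _ fun S _ => monic_X_sub_C _
  have hRpsymm : ∀ j, (Rp.coeff j).IsSymmetric := by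
    intro j e
    have he : Rp.map (MvPolynomial.rename (R := A) e).toRingHom = Rp := by
      rw [map_finsetProd_X_sub_C]
      refine Finset.prod_bij' (fun S _ => S.map e.toEmbedding) (fun S _ => S.map e.symm.toEmbedding)
        (fun S hS => hW e S hS) (fun S hS => hW e.symm S hS) ?_ ?_ ?_
      · intro S _; ext i; simp [Finset.mem_map_equiv]
      · intro S _; ext i; simp [Finset.mem_map_equiv]
      · intro S _; simp [hβ]
    conv_rhs => rw [← he]
    rw [coeff_map]; rfl
  choose rc hrc using fun j => exists_eval_symmetric f n (Rp.coeff j) (hRpsymm j)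
  let D := Rp.natDegree
  let R : Polynomial A := X ^ D + ∑ i ∈ Finset.range D, C (rc i) * X ^ i
  have hRmonic : R.Monic := monic_X_pow_add (degree_sum_lt' D rc)
  have hRev : ∀ (k : Type u) [Field k] (φ : A →+* k) (l : Fin n → k),
      f.map φ = ∏ i, (X - C (l i)) →
      R.map φ = ∏ S ∈ W, (X - C (∏ i ∈ S, (v * h₀).eval₂ φ (l i))) := by
    intro k _ φ l hl
    have h1 : Rp.map (MvPolynomial.eval₂Hom φ l) =
        ∏ S ∈ W, (X - C (∏ i ∈ S, (v * h₀).eval₂ φ (l i))) := by
      rw [map_finsetProd_X_sub_C]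
      refine Finset.prod_congr rfl fun S _ => ?_
      rw [hevβ]
    rw [← h1]
    ext j
    rw [coeff_map, coeff_map, monomial_sum_coeff]
    split_ifs with h₁ h₂
    · subst h₁; rw [hRp.coeff_natDegree]; simp
    · exact hrc j k φ l hl
    · rw [coeff_eq_zero_of_natDegree_lt (show Rp.natDegree < j by omega)]; simp
  have hmain : ∀ (k : Type u) [Field k] (φ : A →+* k) (l : Fin n → k),
      f.map φ = ∏ i, (X - C (l i)) → I ≤ RingHom.ker φ →
      ∃ S₀ ∈ W, (g₀.map φ = ∏ i ∈ S₀, (X - C (l i))) ∧
        ∀ S ∈ W, (∏ i ∈ S, (v * h₀).eval₂ φ (l i)) = if S = S₀ then 1 else 0 := by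
    intro k _ φ l hl hI
    let φ' := Ideal.Quotient.lift I φ hI
    have hφ : φ'.comp (Ideal.Quotient.mk I) = φ := Ideal.Quotient.lift_comp_mk _ _ _
    have hgh : f.map φ = g₀.map φ * h₀.map φ := by
      have := congrArg (Polynomial.map φ') heq
      rwa [Polynomial.map_map, Polynomial.map_map, hφ, Polynomial.map_mul] at this
    have hco : u.map φ * g₀.map φ + v.map φ * h₀.map φ = 1 := by
      have := congrArg (Polynomial.map φ') hab
      simpa [Polynomial.map_map, hφ] using this
    have key : ∀ i, (g₀.eval₂ φ (l i) = 0 → (v * h₀).eval₂ φ (l i) = 1) ∧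
        (g₀.eval₂ φ (l i) ≠ 0 → (v * h₀).eval₂ φ (l i) = 0) := by
      intro i
      have hroot : g₀.eval₂ φ (l i) * h₀.eval₂ φ (l i) = 0 := by
        have := congrArg (eval (l i)) (hgh.symm.trans hl)
        rw [eval_mul, eval_map, eval_map] at this
        rw [this, eval_prod, Finset.prod_eq_zero (Finset.mem_univ i) (by simp)]
      have := congrArg (eval (l i)) hco
      simp only [eval_add, eval_mul, eval_map, eval_one] at this
      constructor
      · intro h; rw [h, mul_zero, zero_add] at this; rw [eval₂_mul]; exact this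
      · intro h; rw [eval₂_mul, (mul_eq_zero.1 hroot).resolve_left h, mul_zero]
    set S₀ := Finset.univ.filter fun i => g₀.eval₂ φ (l i) = 0
    have hroots : (f.map φ).roots = Finset.univ.val.map l := by
      rw [hl]; simp [roots_prod, Finset.prod_ne_zero_iff, X_sub_C_ne_zero, Multiset.bind_singleton]
    have hne : g₀.map φ * h₀.map φ ≠ 0 := by rw [← hgh]; exact (hf.map φ).ne_zero
    have hsplit : (g₀.map φ).Splits :=
      Splits.of_dvd (hl ▸ Splits.prod fun i _ => Splits.X_sub_C (l i))
        (hf.map φ).ne_zero ⟨_, hgh⟩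
    have hS₀ : (g₀.map φ).roots = S₀.val.map l := by
      have h1 : (f.map φ).roots.filter (fun x => (g₀.map φ).eval x = 0) = (g₀.map φ).roots := by
        rw [hgh, roots_mul hne, Multiset.filter_add]
        rw [Multiset.filter_eq_self.2 (fun x (hx : x ∈ (g₀.map φ).roots) =>
            show (g₀.map φ).eval x = 0 from (mem_roots'.1 hx).2),
          Multiset.filter_eq_nil.2 (fun x hx (hx' : (g₀.map φ).eval x = 0) => ?_), add_zero]
        have := congrArg (eval x) hco
        simp [hx', (mem_roots'.1 hx).2.eq_zero] at this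
      rw [← h1, hroots, Multiset.filter_map]
      simp [S₀, Finset.filter_val, eval_map]
    have hg₀S : g₀.map φ = ∏ i ∈ S₀, (X - C (l i)) := by
      conv_lhs => rw [hsplit.eq_prod_roots_of_monic (hg.map φ), hS₀, Multiset.map_map]
      rfl
    have hS₀W : S₀ ∈ W := by
      simp only [W, Finset.mem_powersetCard_univ]
      have := congrArg natDegree hg₀S
      rw [hg.natDegree_map, natDegree_prod_of_monic _ _ (fun i _ => monic_X_sub_C _)] at this
      simpa using this.symm
    refine ⟨S₀, hS₀W, hg₀S, fun S hS => ?_⟩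
    split_ifs with h
    · subst h
      exact Finset.prod_eq_one fun i hi => (key i).1 (Finset.mem_filter.1 hi).2
    · obtain ⟨i, hi, hi'⟩ : ∃ i ∈ S, i ∉ S₀ := by
        by_contra hc
        push Not at hc
        refine h (Finset.eq_of_subset_of_card_le hc ?_)
        simp only [W, Finset.mem_powersetCard_univ] at hS hS₀W
        omega
      exact Finset.prod_eq_zero hi ((key i).2 fun h' => hi' (Finset.mem_filter.2 ⟨Finset.mem_univ _, h'⟩))
  have hroots' : ∀ (k : Type u) [Field k] [IsAlgClosed k] (φ : A →+* k),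
      ∃ l : Fin n → k, f.map φ = ∏ i, (X - C (l i)) := by
    intro k _ _ φ
    obtain ⟨l, hl⟩ := exists_roots_fin (hf.map φ)
    refine ⟨fun i => l (i.cast (hf.natDegree_map φ).symm), hl.trans ?_⟩
    exact Fintype.prod_equiv (finCongr (hf.natDegree_map φ)) _ _ (fun i => by simp)
  have hR1 : R.eval 1 ∈ I.radical := by
    refine mem_radical_of_forall_hom fun k _ _ φ hI => ?_
    obtain ⟨l, hl⟩ := hroots' k φ
    obtain ⟨S₀, hS₀, -, hS⟩ := hmain k φ l hl hI
    rw [← eval_map_apply, hRev k φ l hl, eval_prod]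
    exact Finset.prod_eq_zero hS₀ (by
      rw [eval_sub, eval_X, eval_C, hS S₀ hS₀, if_pos rfl, map_one, sub_self])
  have hR1' : IsUnit (R.derivative.eval 1) := by
    refine isUnit_of_forall_hom hjac fun k _ _ φ hI => ?_
    obtain ⟨l, hl⟩ := hroots' k φ
    obtain ⟨S₀, hS₀, -, hS⟩ := hmain k φ l hl hI
    rw [← eval_map_apply, ← derivative_map, hRev k φ l hl, derivative_prod_finset]
    simp only [eval_finsetSum, derivative_X_sub_C, mul_one, map_one]
    have hev : ∀ S, (∏ T ∈ W.erase S, (X - C (∏ i ∈ T, (v * h₀).eval₂ φ (l i)))).eval 1 =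
        ∏ T ∈ W.erase S, (1 - ∏ i ∈ T, (v * h₀).eval₂ φ (l i)) := fun S => by
      rw [eval_prod]
      exact Finset.prod_congr rfl fun T _ => by rw [eval_sub, eval_X, eval_C]
    simp only [hev]
    rw [Finset.sum_eq_single S₀]
    · rw [Finset.prod_eq_one fun S hS' => by
        rw [hS S (Finset.mem_of_mem_erase hS'), if_neg (Finset.ne_of_mem_erase hS'), sub_zero]]
      exact one_ne_zero
    · exact fun S _ hne => Finset.prod_eq_zero (Finset.mem_erase.2 ⟨hne.symm, hS₀⟩) (by rw [hS S₀ hS₀, if_pos rfl, sub_self])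
    · exact fun h => absurd hS₀ h
  obtain ⟨a, ha, ha'⟩ := exists_root_radical I hRmonic 1 hR1 hR1'
  have hu : IsUnit (R.derivative.eval a) := by
    refine isUnit_of_forall_hom hjac fun k _ _ φ hI => ?_
    have : φ a = φ 1 := by
      rw [← sub_eq_zero, ← map_sub]
      exact RingHom.mem_ker.1 ((RingHom.ker_isPrime φ).radical_le_iff.2 hI ha')
    rw [← eval_map_apply, this, eval_map_apply]
    exact (hR1'.map φ).ne_zero
  let γ : MvPolynomial (Fin n) A → Finset (Fin n) → Polynomial (MvPolynomial (Fin n) A) :=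
    fun a S => C (∏ T ∈ W.erase S, (a - β T)) * ∏ i ∈ S, (X - C (MvPolynomial.X i))
  let G : Polynomial (MvPolynomial (Fin n) A) := ∑ S ∈ W, γ (MvPolynomial.C a) S
  have hGsymm : ∀ j, (G.coeff j).IsSymmetric := by
    intro j e
    have he : G.map (MvPolynomial.rename (R := A) e).toRingHom = G := by
      rw [Polynomial.map_sum]
      refine Finset.sum_bij' (fun S _ => S.map e.toEmbedding) (fun S _ => S.map e.symm.toEmbedding)
        (fun S hS => hW e S hS) (fun S hS => hW e.symm S hS) ?_ ?_ ?_
      · intro S _; ext i; simp [Finset.mem_map_equiv]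
      · intro S _; ext i; simp [Finset.mem_map_equiv]
      · intro S _
        simp only [γ]
        rw [Polynomial.map_mul, map_C, map_finsetProd_X_sub_C]
        congr 1
        · congr 1
          rw [map_prod]
          refine Finset.prod_bij' (fun S _ => S.map e.toEmbedding)
            (fun S _ => S.map e.symm.toEmbedding) ?_ ?_ ?_ ?_ ?_
          · intro T hT
            rw [Finset.mem_erase] at hT ⊢
            exact ⟨fun hc => hT.1 (Finset.map_injective _ hc), hW e T hT.2⟩
          · intro T hT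
            rw [Finset.mem_erase] at hT ⊢
            refine ⟨fun hc => hT.1 ?_, hW e.symm T hT.2⟩
            rw [← hc]; ext i; simp [Finset.mem_map_equiv]
          · intro T _; ext i; simp [Finset.mem_map_equiv]
          · intro T _; ext i; simp [Finset.mem_map_equiv]
          · intro T _; simp [hβ, map_sub]
        · simp [Finset.prod_map]
    conv_rhs => rw [← he]
    rw [coeff_map]; rfl
  choose gc hgc using fun j => exists_eval_symmetric f n (G.coeff j) (hGsymm j)
  let g : Polynomial A := X ^ N + ∑ i ∈ Finset.range N, C (Ring.inverse (R.derivative.eval a) * gc i) * X ^ i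
  have hgm : g.Monic := monic_X_pow_add (degree_sum_lt' N _)
  have hgev : ∀ (k : Type u) [Field k] (φ : A →+* k) (l : Fin n → k),
      f.map φ = ∏ i, (X - C (l i)) →
      ∃ S₁ ∈ W, g.map φ = ∏ i ∈ S₁, (X - C (l i)) ∧
        φ a = ∏ i ∈ S₁, (v * h₀).eval₂ φ (l i) := by
    intro k _ φ l hl
    set b : Finset (Fin n) → k := fun S => ∏ i ∈ S, (v * h₀).eval₂ φ (l i)
    have hd : φ (R.derivative.eval a) = ∑ S ∈ W, ∏ T ∈ W.erase S, (φ a - b T) := by
      rw [← eval_map_apply, ← derivative_map, hRev k φ l hl, derivative_prod_finset, eval_finsetSum]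
      refine Finset.sum_congr rfl fun S _ => ?_
      rw [derivative_X_sub_C, mul_one, eval_prod]
      exact Finset.prod_congr rfl fun T _ => by rw [eval_sub, eval_X, eval_C]
    have h0 : ∏ S ∈ W, (φ a - b S) = 0 := by
      have : (R.map φ).eval (φ a) = 0 := by rw [eval_map_apply, ha, map_zero]
      rw [hRev k φ l hl, eval_prod] at this
      rw [← this]
      exact Finset.prod_congr rfl fun T _ => by rw [eval_sub, eval_X, eval_C]
    obtain ⟨S₁, hS₁, hS₁'⟩ := Finset.prod_eq_zero_iff.1 h0
    have hoff : ∀ S ∈ W, S ≠ S₁ → ∏ T ∈ W.erase S, (φ a - b T) = 0 := fun S _ hne =>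
      Finset.prod_eq_zero (Finset.mem_erase.2 ⟨hne.symm, hS₁⟩) hS₁'
    have hd' : φ (R.derivative.eval a) = ∏ T ∈ W.erase S₁, (φ a - b T) := by
      rw [hd]; exact Finset.sum_eq_single_of_mem S₁ hS₁ hoff
    have hG : G.map (MvPolynomial.eval₂Hom φ l) =
        C (φ (R.derivative.eval a)) * ∏ i ∈ S₁, (X - C (l i)) := by
      have e1 : ∀ S, MvPolynomial.eval₂Hom φ l (∏ T ∈ W.erase S, (MvPolynomial.C a - β T)) =
          ∏ T ∈ W.erase S, (φ a - b T) := by
        intro S
        rw [map_prod]
        exact Finset.prod_congr rfl fun T _ => by rw [map_sub, MvPolynomial.eval₂Hom_C, hevβ]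
      rw [Polynomial.map_sum, Finset.sum_eq_single_of_mem S₁ hS₁]
      · simp only [γ]
        rw [Polynomial.map_mul, map_C, e1, ← hd', map_finsetProd_X_sub_C]
        simp
      · intro S hS hne
        simp only [γ]
        rw [Polynomial.map_mul, map_C, e1, hoff S hS hne, C_0, zero_mul]
    refine ⟨S₁, hS₁, ?_, sub_eq_zero.1 hS₁'⟩
    have hP : (∏ i ∈ S₁, (X - C (l i))).Monic := monic_prod_of_monic _ _ fun i _ => monic_X_sub_C _
    have hPd : (∏ i ∈ S₁, (X - C (l i))).natDegree = N := by
      rw [natDegree_prod_of_monic _ _ (fun i _ => monic_X_sub_C _)]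
      simp only [W, Finset.mem_powersetCard_univ] at hS₁
      simpa using hS₁
    ext j
    rw [coeff_map, monomial_sum_coeff]
    split_ifs with h₁ h₂
    · rw [h₁, ← hPd, hP.coeff_natDegree, map_one]
    · have := congrArg (fun p => coeff p j) hG
      simp only [coeff_map, coeff_C_mul] at this
      have hgj := hgc j k φ l hl
      rw [map_mul, hgj, ← MvPolynomial.coe_eval₂Hom, this, ← mul_assoc, ← map_mul,
        Ring.inverse_mul_cancel _ hu, map_one, one_mul]
    · rw [map_zero, coeff_eq_zero_of_natDegree_lt (by omega)]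
  have hrem : ∀ i, IsNilpotent ((f %ₘ g).coeff i) := by
    intro i
    refine isNilpotent_of_forall_hom fun k _ _ φ => ?_
    obtain ⟨l, hl⟩ := hroots' k φ
    obtain ⟨S₁, -, hS₁, -⟩ := hgev k φ l hl
    rw [← coeff_map, map_modByMonic _ hgm, (modByMonic_eq_zero_iff_dvd (hgm.map φ)).2, coeff_zero]
    rw [hl, hS₁]
    exact Finset.prod_dvd_prod_of_subset _ _ _ (Finset.subset_univ _)
  have hgg₀ : g.map (Ideal.Quotient.mk I.radical) = g₀.map (Ideal.Quotient.mk I.radical) := by
    refine map_eq_of_coeff_mem fun i => mem_radical_of_forall_hom fun k _ _ φ hI => ?_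
    obtain ⟨l, hl⟩ := hroots' k φ
    obtain ⟨S₀, hS₀, hS₀', hS⟩ := hmain k φ l hl hI
    obtain ⟨S₁, hS₁W, hS₁, haS⟩ := hgev k φ l hl
    have h1 : φ a = 1 := by
      rw [← sub_eq_zero, ← map_one φ, ← map_sub]
      exact RingHom.mem_ker.1 ((RingHom.ker_isPrime φ).radical_le_iff.2 hI ha')
    rw [haS, hS S₁ hS₁W] at h1
    split_ifs at h1 with hc
    · rw [map_sub, ← coeff_map, ← coeff_map, hS₁, hS₀', hc, sub_self]
    · exact absurd h1.symm one_ne_zero
  have hgd : g.natDegree = N := natDegree_eq_of_degree_eq_some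
    (by rw [degree_add_eq_left_of_degree_lt (by rw [degree_X_pow]; exact degree_sum_lt' N _),
      degree_X_pow])
  set h := f /ₘ g with hhdef
  have hN' : N ≤ n := by omega
  have hhm : h.Monic := by
    rw [Monic, hhdef, leadingCoeff_divByMonic_of_monic hgm, hf.leadingCoeff]
    rw [degree_eq_natDegree hgm.ne_zero, degree_eq_natDegree hf.ne_zero, hgd]
    exact_mod_cast hN'
  have hhd : f.natDegree = g.natDegree + h.natDegree := by
    rw [hhdef, natDegree_divByMonic f hgm, hgd]
    omega
  let J : Ideal A := Ideal.span ((Finset.range (n + 1)).image (f %ₘ g).coeff : Set A)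
  have hJle : J ≤ nilradical A := Ideal.span_le.2 fun x hx => by
    rw [Finset.coe_image] at hx
    obtain ⟨i, -, rfl⟩ := hx
    exact mem_nilradical.2 (hrem i)
  obtain ⟨e, he⟩ := Ideal.exists_pow_le_of_le_radical_of_fg (I := J) (J := ⊥) hJle
    ⟨_, rfl⟩
  have hJI : J ≤ I.radical := hJle.trans (Ideal.radical_mono bot_le)
  have hfJ : f.map (Ideal.Quotient.mk J) = (g * h).map (Ideal.Quotient.mk J) := by
    conv_lhs => rw [← modByMonic_add_div f g]
    rw [Polynomial.map_add, add_eq_right]
    ext i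
    rw [coeff_map, coeff_zero, Ideal.Quotient.eq_zero_iff_mem]
    by_cases hi : i ≤ n
    · exact Ideal.subset_span (Finset.mem_coe.2 (Finset.mem_image_of_mem _ (Finset.mem_range.2 (by omega))))
    · rw [coeff_eq_zero_of_natDegree_lt]
      · exact zero_mem _
      · have := natDegree_modByMonic_le f hgm
        omega
  set π := Ideal.Quotient.mk I.radical with hπ
  have hfπ : f.map π = g.map π * h.map π := by
    have := congrArg (Polynomial.map (Ideal.Quotient.factor hJI)) hfJ
    simpa [Polynomial.map_map] using this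
  have hh₀π : h.map π = h₀.map π := by
    have h1 := congrArg (Polynomial.map (Ideal.Quotient.factor (Ideal.le_radical (I := I)))) heq
    simp only [Polynomial.map_map, Ideal.Quotient.factor_comp_mk] at h1
    rw [Polynomial.map_mul, ← hπ, ← hgg₀, hfπ] at h1
    exact (hgm.map π).isRegular.left h1
  have hcπ : IsCoprime (g.map π) (h.map π) := by
    rw [hgg₀, hh₀π]
    have := IsCoprime.map (⟨_, _, hab⟩ : IsCoprime (g₀.map (Ideal.Quotient.mk I))
      (h₀.map (Ideal.Quotient.mk I))) (mapRingHom (Ideal.Quotient.factor (Ideal.le_radical (I := I))))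
    simpa [Polynomial.map_map] using this
  have hcop : IsCoprime g h := isCoprime_of_map π Ideal.Quotient.mk_surjective
    (by rw [hπ, Ideal.mk_ker]; exact le_jacobson_radical hjac) hgm hcπ
  obtain ⟨g', h', hg'm, hh'm, hf', hg'd, hg'J, hh'J⟩ :=
    exists_factor_of_nilpotent e J (le_bot_iff.1 he) f g h hf hgm hhm hfJ hcop hhd
  have hg'π : g'.map π = g₀.map π := by
    rw [← hgg₀]
    have := congrArg (Polynomial.map (Ideal.Quotient.factor hJI)) hg'J
    simpa [Polynomial.map_map] using this
  have hh'π : h'.map π = h₀.map π := by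
    rw [← hh₀π]
    have := congrArg (Polynomial.map (Ideal.Quotient.factor hJI)) hh'J
    simpa [Polynomial.map_map] using this
  have hradker : RingHom.ker (Ideal.Quotient.factor (Ideal.le_radical (I := I))) ≤
      Ideal.jacobson ⊥ := by
    intro x hx
    obtain ⟨y, rfl⟩ := Ideal.Quotient.mk_surjective x
    rw [RingHom.mem_ker, Ideal.Quotient.factor_mk, Ideal.Quotient.eq_zero_iff_mem] at hx
    obtain ⟨m, hm⟩ := hx
    exact Ideal.radical_le_jacobson ⟨m, by
      rw [← map_pow, Ideal.mem_bot, Ideal.Quotient.eq_zero_iff_mem]; exact hm⟩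
  have hcI : IsCoprime (g'.map (Ideal.Quotient.mk I)) (h₀.map (Ideal.Quotient.mk I)) := by
    refine isCoprime_of_map (Ideal.Quotient.factor (Ideal.le_radical (I := I)))
      (Ideal.Quotient.factor_surjective _) hradker (hg'm.map _) ?_
    rw [Polynomial.map_map, Polynomial.map_map, Ideal.Quotient.factor_comp_mk, ← hπ, hg'π,
      ← hgg₀, ← hh₀π]
    exact hcπ
  have heq' : g'.map (Ideal.Quotient.mk I) * h'.map (Ideal.Quotient.mk I) =
      g₀.map (Ideal.Quotient.mk I) * h₀.map (Ideal.Quotient.mk I) := by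
    rw [← Polynomial.map_mul, ← hf', heq, Polynomial.map_mul]
  have hgI : g'.map (Ideal.Quotient.mk I) = g₀.map (Ideal.Quotient.mk I) := by
    refine eq_of_monic_dvd (hg'm.map _) (hg.map _) ?_ (hcI.dvd_of_dvd_mul_right ⟨_, heq'.symm⟩)
    rw [hg'm.natDegree_map, hg.natDegree_map, hg'd, hgd]
  refine ⟨g', h', hg'm, hh'm, hf', hgI, ?_, ?_⟩
  · rw [hgI] at heq'
    exact (hg.map (Ideal.Quotient.mk I)).isRegular.left heq'
  · refine isCoprime_of_map π Ideal.Quotient.mk_surjective
      (by rw [hπ, Ideal.mk_ker]; exact le_jacobson_radical hjac) hg'm ?_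
    rw [hg'π, hh'π, ← hgg₀, ← hh₀π]
    exact hcπ

end Groth.Agent.Hens22
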