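import Groth.Agent.Hens22.Idempotents
import Groth.Agent.Hensel20.PairApi
import Mathlib.AlgebraicGeometry.Morphisms.Finite
import Mathlib.AlgebraicGeometry.Limits
import Mathlib.AlgebraicGeometry.PullbackCarrier

/-!
Henselian couples, in terms of closed subsets.
-/

set_option autoImplicit false
universe u

open CategoryTheory Limits AlgebraicGeometry

noncomputable section

namespace Groth.Agent.Hens22

/-- `W` is relatively clopen in `Z`; it extends uniquely to a clopen. -/
def CoupleAt {Y : Scheme.{u}} (Z : Set Y) : Prop :=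
  ∀ W : Set Y, W ⊆ Z → IsClosed W → IsClosed (Z \ W) → ∃! U : Set Y, IsClopen U ∧ U ∩ Z = W

theorem range_pullback_fst {X Y X₀ : Scheme.{u}} (g : Y ⟶ X) (i : X₀ ⟶ X) :
    Set.range (pullback.fst g i) = g ⁻¹' Set.range i := by
  ext y
  constructor
  · rintro ⟨z, rfl⟩
    exact ⟨pullback.snd g i z, by rw [← Scheme.Hom.comp_apply, ← pullback.condition, Scheme.Hom.comp_apply]⟩
  · rintro ⟨x, hx⟩
    obtain ⟨z, hz, -⟩ := Scheme.Pullback.exists_preimage_pullback y x hx.symm
    exact ⟨z, hz⟩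

theorem isHenselianCouple_iff {X X₀ : Scheme.{u}} (i : X₀ ⟶ X) [IsClosedImmersion i]
    {Y : Scheme.{u}} (g : Y ⟶ X) :
    (∀ V : Set ↥(pullback g i), IsClopen V →
        ∃! U : Set ↥Y, IsClopen U ∧ (pullback.fst g i).base ⁻¹' U = V) ↔
      CoupleAt (g ⁻¹' Set.range i) := by
  have he : Topology.IsClosedEmbedding (pullback.fst g i) := (pullback.fst g i).isClosedEmbedding
  rw [← range_pullback_fst g i]
  constructor
  · intro h W hW hWc hWc'
    obtain ⟨U, ⟨hU, hUV⟩, huniq⟩ := h (pullback.fst g i ⁻¹' W) ⟨hWc.preimage he.continuous, by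
      rw [← isClosed_compl_iff]
      convert hWc'.preimage he.continuous using 1
      ext z; simp⟩
    refine ⟨U, ⟨hU, ?_⟩, fun U' hU' => huniq U' ⟨hU'.1, ?_⟩⟩
    · rw [← Set.image_preimage_eq_inter_range, hUV, Set.image_preimage_eq_iff.2 hW]
    · rw [← hU'.2, Set.preimage_inter, Set.preimage_range, Set.inter_univ]
  · intro h V hV
    obtain ⟨U, ⟨hU, hUV⟩, huniq⟩ := h (pullback.fst g i '' V) (Set.image_subset_range _ _)
      (he.isClosedMap _ hV.isClosed) (by
        rw [← Set.image_univ, ← Set.image_sdiff he.injective]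
        exact he.isClosedMap _ (isClosed_univ.sdiff hV.isOpen))
    refine ⟨U, ⟨hU, ?_⟩, fun U' hU' => huniq U' ⟨hU'.1, ?_⟩⟩
    · rw [← Set.preimage_image_eq V he.injective, ← hUV, Set.preimage_inter, Set.preimage_range,
        Set.inter_univ]
    · rw [← Set.image_preimage_eq_inter_range, hU'.2]

/-- Stability under finite morphisms. -/
theorem coupleAt_comp {X X₀ Y : Scheme.{u}} (i : X₀ ⟶ X) [IsClosedImmersion i]
    (hX : ∀ (Y : Scheme.{u}) (g : Y ⟶ X), IsFinite g →
      ∀ V : Set ↥(pullback g i), IsClopen V →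
        ∃! U : Set ↥Y, IsClopen U ∧ (pullback.fst g i).base ⁻¹' U = V)
    (h : Y ⟶ X) [IsFinite h] (Z : Scheme.{u}) (g : Z ⟶ Y) (hg : IsFinite g) :
    CoupleAt (g ⁻¹' Set.range (pullback.fst h i)) := by
  have := (isHenselianCouple_iff i (g ≫ h)).1 (hX Z (g ≫ h) inferInstance)
  rwa [Scheme.Hom.comp_base, TopCat.coe_comp, Set.preimage_comp, ← range_pullback_fst h i] at this

section Sigma

variable {ι : Type u} {X X₀ : ι → Scheme.{u}} (i : ∀ j, X₀ j ⟶ X j)

theorem range_sigmaMap_preimage (j : ι) :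
    Sigma.ι X j ⁻¹' Set.range (Limits.Sigma.map i) = Set.range (i j) := by
  ext x
  constructor
  · rintro ⟨z, hz⟩
    obtain ⟨k, w, rfl⟩ := (sigmaOpenCover X₀).exists_eq z
    have hz' : Limits.Sigma.map i (Sigma.ι X₀ k w) = Sigma.ι X j x := hz
    have h2 : Sigma.ι X k (i k w) = Sigma.ι X j x := by
      rw [← hz', ← Scheme.Hom.comp_apply, ← Scheme.Hom.comp_apply, Limits.Sigma.ι_map]
    obtain rfl : k = j := by
      by_contra hkj
      exact Set.disjoint_iff.1
        (TopologicalSpace.Opens.coe_disjoint.2 (disjoint_opensRange_sigmaι X k j hkj))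
        ⟨⟨_, h2⟩, ⟨x, rfl⟩⟩
    exact ⟨w, (Sigma.ι X k).isOpenEmbedding.injective h2⟩
  · rintro ⟨w, rfl⟩
    refine ⟨Sigma.ι X₀ j w, ?_⟩
    rw [← Scheme.Hom.comp_apply, Limits.Sigma.ι_map]
    rfl

theorem isClosed_range_sigmaι (j : ι) : IsClosed (Set.range (Sigma.ι X j)) := by
  rw [← isOpen_compl_iff]
  have : (Set.range (Sigma.ι X j))ᶜ = ⋃ (k : ι) (_ : k ≠ j), Set.range (Sigma.ι X k) := by
    ext z
    obtain ⟨k, w, rfl⟩ := (sigmaOpenCover X).exists_eq z
    simp only [Set.mem_compl_iff, Set.mem_iUnion]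
    constructor
    · exact fun h => ⟨k, fun hkj => h (hkj ▸ ⟨w, rfl⟩), w, rfl⟩
    · rintro ⟨l, hl, hl'⟩ hj
      exact Set.disjoint_iff.1
        (TopologicalSpace.Opens.coe_disjoint.2 (disjoint_opensRange_sigmaι X l j hl)) ⟨hl', hj⟩
  rw [this]
  exact isOpen_iUnion fun k => isOpen_iUnion fun _ => (Sigma.ι X k).isOpenEmbedding.isOpen_range

theorem isFinite_sigmaι (j : ι) : IsFinite (Sigma.ι X j) := by
  have : IsClosedImmersion (Sigma.ι X j) := .of_isPreimmersion _ (isClosed_range_sigmaι j)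
  infer_instance

theorem isClosedImmersion_sigmaMap [∀ j, IsClosedImmersion (i j)] :
    IsClosedImmersion (Limits.Sigma.map i) := by
  rw [IsZariskiLocalAtTarget.iff_of_openCover (P := @IsClosedImmersion) (sigmaOpenCover X)]
  intro j
  have H : IsPullback (Sigma.ι X₀ j) (i j) (Limits.Sigma.map i) (Sigma.ι X j) := by
    refine (IsOpenImmersion.isPullback (i j) (Sigma.ι X₀ j) (Sigma.ι X j) (Limits.Sigma.map i)
      (Limits.Sigma.ι_map _ _) ?_).flip
    refine TopologicalSpace.Opens.ext (Set.ext fun z => ⟨fun hz => ?_, ?_⟩)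
    · obtain ⟨x, hx⟩ := hz
      obtain ⟨k, w, rfl⟩ := (sigmaOpenCover X₀).exists_eq z
      have hz' : Limits.Sigma.map i (Sigma.ι X₀ k w) = Sigma.ι X j x := hx.symm
      have h2 : Sigma.ι X k (i k w) = Sigma.ι X j x := by
        rw [← hz', ← Scheme.Hom.comp_apply, ← Scheme.Hom.comp_apply, Limits.Sigma.ι_map]
      obtain rfl : k = j := by
        by_contra hkj
        exact Set.disjoint_iff.1
          (TopologicalSpace.Opens.coe_disjoint.2 (disjoint_opensRange_sigmaι X k j hkj))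
          ⟨⟨_, h2⟩, ⟨x, rfl⟩⟩
      exact ⟨w, rfl⟩
    · rintro ⟨w, rfl⟩
      refine ⟨i j w, ?_⟩
      rw [← Scheme.Hom.comp_apply, ← Scheme.Hom.comp_apply, Limits.Sigma.ι_map]
  show IsClosedImmersion (pullback.snd (Limits.Sigma.map i) (Sigma.ι X j))
  rw [← MorphismProperty.cancel_left_of_respectsIso @IsClosedImmersion H.isoPullback.hom,
    H.isoPullback_hom_snd]
  infer_instance

theorem coupleAt_sigma_iff :
    (∀ (Y : Scheme.{u}) (g : Y ⟶ ∐ X), IsFinite g → CoupleAt (g ⁻¹' Set.range (Limits.Sigma.map i))) ↔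
      ∀ (j : ι) (Y : Scheme.{u}) (g : Y ⟶ X j), IsFinite g → CoupleAt (g ⁻¹' Set.range (i j)) := by
  constructor
  · intro h j Y g hg
    have := isFinite_sigmaι (X := X) j
    have := h Y (g ≫ Sigma.ι X j) inferInstance
    rwa [Scheme.Hom.comp_base, TopCat.coe_comp, Set.preimage_comp, range_sigmaMap_preimage] at this
  · intro h Y g hg W hW hWc hWc'
    let P : ι → Scheme.{u} := fun j => pullback g (Sigma.ι X j)
    let p : ∀ j, P j ⟶ Y := fun j => pullback.fst g (Sigma.ι X j)
    let Z : Set Y := g ⁻¹' Set.range (Limits.Sigma.map i)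
    have hZ : ∀ j, p j ⁻¹' Z = pullback.snd g (Sigma.ι X j) ⁻¹' Set.range (i j) := fun j => by
      rw [← range_sigmaMap_preimage i j, ← Set.preimage_comp, ← Set.preimage_comp, ← TopCat.coe_comp,
        ← TopCat.coe_comp, ← Scheme.Hom.comp_base, ← Scheme.Hom.comp_base, pullback.condition]
    have hp : ∀ j, Topology.IsOpenEmbedding (p j) := fun j => (p j).isOpenEmbedding
    have hc : ∀ y : Y, ∃ j w, p j w = y := fun y => by
      obtain ⟨j, x, hx⟩ := (sigmaOpenCover X).exists_eq (g y)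
      obtain ⟨w, hw, -⟩ := Scheme.Pullback.exists_preimage_pullback (f := g) (g := Sigma.ι X j) y x hx.symm
      exact ⟨j, w, hw⟩
    have hdisj : ∀ j k w w', p j w = p k w' → j = k := fun j k w w' e => by
      by_contra hne
      refine Set.disjoint_iff.1
        (TopologicalSpace.Opens.coe_disjoint.2 (disjoint_opensRange_sigmaι X j k hne))
        ⟨⟨pullback.snd g _ w, rfl⟩, pullback.snd g _ w', ?_⟩
      rw [← Scheme.Hom.comp_apply, ← Scheme.Hom.comp_apply, ← pullback.condition, ← pullback.condition,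
        Scheme.Hom.comp_apply, Scheme.Hom.comp_apply]
      exact (congrArg g e).symm
    have hj : ∀ j, ∃! U : Set (P j), IsClopen U ∧ U ∩ p j ⁻¹' Z = p j ⁻¹' W := fun j => by
      rw [hZ j]
      refine h j (P j) (pullback.snd g (Sigma.ι X j)) inferInstance _ ?_ (hWc.preimage (p j).continuous) ?_
      · rw [← hZ j]
        exact Set.preimage_mono hW
      · rw [← hZ j, ← Set.preimage_sdiff]
        exact hWc'.preimage (p j).continuous
    choose U hU huniq using hj
    let U₀ : Set Y := ⋃ j, p j '' U j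
    have hpre : ∀ j, p j ⁻¹' U₀ = U j := fun j => by
      refine Set.ext fun w => ⟨fun hw => ?_, fun hw => Set.mem_iUnion.2 ⟨j, w, hw, rfl⟩⟩
      obtain ⟨k, w', hw', e⟩ := Set.mem_iUnion.1 hw
      obtain rfl := hdisj k j w' w e
      exact (hp k).injective e ▸ hw'
    have hopen : IsOpen U₀ := isOpen_iUnion fun j => (hp j).isOpenMap _ (hU j).1.isOpen
    have hclosed : IsClosed U₀ := by
      rw [← isOpen_compl_iff]
      have : U₀ᶜ = ⋃ j, p j '' (U j)ᶜ := by
        ext y
        obtain ⟨j, w, rfl⟩ := hc y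
        constructor
        · intro hy
          exact Set.mem_iUnion.2 ⟨j, w, fun hw => hy (show w ∈ p j ⁻¹' U₀ by rw [hpre]; exact hw), rfl⟩
        · intro hy hy'
          obtain ⟨k, w', hw', e⟩ := Set.mem_iUnion.1 hy
          obtain rfl := hdisj k j w' w e
          have : w ∈ p k ⁻¹' U₀ := hy'
          rw [hpre, ← (hp k).injective e] at this
          exact hw' this
      rw [this]
      exact isOpen_iUnion fun j => (hp j).isOpenMap _ (hU j).1.isClosed.isOpen_compl
    refine ⟨U₀, ⟨⟨hclosed, hopen⟩, ?_⟩, fun U' hU' => ?_⟩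
    · ext y
      obtain ⟨j, w, rfl⟩ := hc y
      show w ∈ p j ⁻¹' U₀ ∩ p j ⁻¹' Z ↔ w ∈ p j ⁻¹' W
      rw [hpre, (hU j).2]
    · ext y
      obtain ⟨j, w, rfl⟩ := hc y
      show w ∈ p j ⁻¹' U' ↔ w ∈ p j ⁻¹' U₀
      rw [hpre, huniq j (p j ⁻¹' U') ⟨hU'.1.preimage (p j).continuous,
        by rw [← Set.preimage_inter, hU'.2]⟩]

end Sigma

section Affine

variable {B : Type u} [CommRing B]

/-- Couples on an affine scheme. -/
theorem coupleAt_zeroLocus_iff (J : Ideal B) :
    CoupleAt (Y := Spec (CommRingCat.of B)) (PrimeSpectrum.zeroLocus (J : Set B)) ↔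
      Set.BijOn (Ideal.Quotient.mk J) {e : B | IsIdempotentElem e} {e | IsIdempotentElem e} := by
  have hrange : Set.range (PrimeSpectrum.comap (Ideal.Quotient.mk J)) = PrimeSpectrum.zeroLocus (J : Set B) := by
    rw [range_comap_of_surjective _ _ Ideal.Quotient.mk_surjective, Ideal.mk_ker]
  have hce : Topology.IsClosedEmbedding (PrimeSpectrum.comap (Ideal.Quotient.mk J)) :=
    PrimeSpectrum.isClosedEmbedding_comap_of_surjective _ _ Ideal.Quotient.mk_surjective
  have key : ∀ (e : B) (ē : B ⧸ J), IsIdempotentElem e → IsIdempotentElem ē →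
      ((PrimeSpectrum.basicOpen e : Set (PrimeSpectrum B)) ∩ PrimeSpectrum.zeroLocus (J : Set B) =
        PrimeSpectrum.comap (Ideal.Quotient.mk J) '' (PrimeSpectrum.basicOpen ē : Set _) ↔
        Ideal.Quotient.mk J e = ē) := fun e ē he hē => by
    have h1 : (PrimeSpectrum.basicOpen e : Set (PrimeSpectrum B)) ∩ PrimeSpectrum.zeroLocus (J : Set B) =
        PrimeSpectrum.comap (Ideal.Quotient.mk J) '' (PrimeSpectrum.basicOpen (Ideal.Quotient.mk J e) : Set _) := by
      rw [← hrange, ← Set.image_preimage_eq_inter_range]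
      rfl
    rw [h1, hce.injective.image_injective.eq_iff, SetLike.coe_set_eq]
    exact PrimeSpectrum.basicOpen_injOn_isIdempotentElem.eq_iff (he.map _) hē
  have hdiff : ∀ ē : B ⧸ J, IsClosed ((PrimeSpectrum.zeroLocus (J : Set B) : Set (PrimeSpectrum B)) \
      PrimeSpectrum.comap (Ideal.Quotient.mk J) '' (PrimeSpectrum.basicOpen ē : Set _)) := fun ē => by
    rw [← hrange, ← Set.image_univ, ← Set.image_sdiff hce.injective]
    exact hce.isClosedMap _ (isClosed_univ.sdiff (PrimeSpectrum.basicOpen _).2)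
  constructor
  · intro h
    refine ⟨fun e he => he.map _, fun e he e' he' hee => ?_, fun ē hē => ?_⟩
    · obtain ⟨U, -, huniq⟩ := h (PrimeSpectrum.comap (Ideal.Quotient.mk J) ''
        (PrimeSpectrum.basicOpen (Ideal.Quotient.mk J e) : Set _))
        (hrange ▸ Set.image_subset_range _ _) (hce.isClosedMap _ (PrimeSpectrum.isClopen_iff.2 ⟨_, he.map _, rfl⟩).isClosed)
        (hdiff _)
      have h1 := huniq _ ⟨PrimeSpectrum.isClopen_iff.2 ⟨e, he, rfl⟩, (key e _ he (he.map _)).2 rfl⟩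
      have h2 := huniq _ ⟨PrimeSpectrum.isClopen_iff.2 ⟨e', he', rfl⟩, (key e' _ he' (he.map _)).2 hee.symm⟩
      exact PrimeSpectrum.basicOpen_injOn_isIdempotentElem he he' (SetLike.coe_injective (h1.trans h2.symm))
    · obtain ⟨U, ⟨hU, hUW⟩, -⟩ := h (PrimeSpectrum.comap (Ideal.Quotient.mk J) ''
        (PrimeSpectrum.basicOpen ē : Set _))
        (hrange ▸ Set.image_subset_range _ _) (hce.isClosedMap _ (PrimeSpectrum.isClopen_iff.2 ⟨_, hē, rfl⟩).isClosed)
        (hdiff _)
      obtain ⟨e, he, rfl⟩ := PrimeSpectrum.isClopen_iff.1 hU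
      exact ⟨e, he, (key e ē he hē).1 hUW⟩
  · intro h W hW hWc hWc'
    have hcl : IsClopen (PrimeSpectrum.comap (Ideal.Quotient.mk J) ⁻¹' W) := by
      refine ⟨hWc.preimage hce.continuous, ?_⟩
      rw [← isClosed_compl_iff]
      convert hWc'.preimage hce.continuous using 1
      ext z
      exact ⟨fun hz => ⟨hrange ▸ ⟨z, rfl⟩, hz⟩, fun hz => hz.2⟩
    obtain ⟨ē, hē, hW'⟩ := PrimeSpectrum.isClopen_iff.1 hcl
    have hW'' : W = PrimeSpectrum.comap (Ideal.Quotient.mk J) '' (PrimeSpectrum.basicOpen ē : Set _) := by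
      rw [← hW', Set.image_preimage_eq_iff.2 (hrange.symm ▸ hW)]
    obtain ⟨e, he, hee⟩ := h.surjOn hē
    refine ⟨(PrimeSpectrum.basicOpen e : Set (PrimeSpectrum B)),
      ⟨PrimeSpectrum.isClopen_iff.2 ⟨e, he, rfl⟩, hW'' ▸ (key e ē he hē).2 hee⟩, fun U' hU' => ?_⟩
    obtain ⟨e', he', rfl⟩ := PrimeSpectrum.isClopen_iff.1 hU'.1
    have h2 := (key e' ē he' hē).1 (hU'.2.trans hW'')
    rw [h.injOn he' he (h2.trans hee.symm)]

theorem henselianRing_iff_coupleAt (A : Type u) [CommRing A] (I : Ideal A) :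
    HenselianRing A I ↔ ∀ (Y : Scheme.{u}) (g : Y ⟶ Spec (CommRingCat.of A)), IsFinite g →
      CoupleAt (g ⁻¹' Set.range (Spec.map (CommRingCat.ofHom (Ideal.Quotient.mk I)))) := by
  have hrange : Set.range (Spec.map (CommRingCat.ofHom (Ideal.Quotient.mk I))) =
      PrimeSpectrum.zeroLocus (I : Set A) := by
    show Set.range (PrimeSpectrum.comap (Ideal.Quotient.mk I)) = _
    rw [range_comap_of_surjective _ _ Ideal.Quotient.mk_surjective, Ideal.mk_ker]
  have hpre : ∀ (B : Type u) [CommRing B] [Algebra A B],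
      (Spec.map (CommRingCat.ofHom (algebraMap A B))) ⁻¹' Set.range (Spec.map (CommRingCat.ofHom (Ideal.Quotient.mk I))) =
        PrimeSpectrum.zeroLocus ((I.map (algebraMap A B) : Ideal B) : Set B) := fun B _ _ => by
    rw [hrange]
    show PrimeSpectrum.comap (algebraMap A B) ⁻¹' _ = _
    rw [PrimeSpectrum.preimage_comap_zeroLocus, Ideal.map, PrimeSpectrum.zeroLocus_span]
  constructor
  · intro hA Y g hg
    have : IsAffine Y := isAffine_of_isAffineHom g
    let ψ := Spec.preimage (Y.isoSpec.inv ≫ g)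
    have hψ : Spec.map ψ = Y.isoSpec.inv ≫ g := Spec.map_preimage _
    let _ : Algebra A Γ(Y, ⊤) := ψ.hom.toAlgebra
    have : Module.Finite A Γ(Y, ⊤) := by
      have : IsFinite (Spec.map ψ) := by rw [hψ]; infer_instance
      exact RingHom.finite_algebraMap.1 ((IsFinite.SpecMap_iff ψ).1 this)
    have h1 := (coupleAt_zeroLocus_iff (I.map (algebraMap A Γ(Y, ⊤)))).2 Hensel20.idempotents_bijOn
    rw [← hpre, show CommRingCat.ofHom (algebraMap A Γ(Y, ⊤)) = ψ from rfl, hψ] at h1
    -- transport along `isoSpec`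
    intro W hW hWc hWc'
    let e : Y ≅ Spec Γ(Y, ⊤) := Y.isoSpec
    obtain ⟨U, ⟨hU, hUW⟩, huniq⟩ := h1 (e.inv ⁻¹' W) (fun z hz => hW hz)
      (hWc.preimage e.inv.continuous) (hWc'.preimage e.inv.continuous)
    have hinv : ∀ y, e.inv (e.hom y) = y := fun y => by
      rw [← Scheme.Hom.comp_apply, e.hom_inv_id]; rfl
    have hinv' : ∀ z, e.hom (e.inv z) = z := fun z => by
      rw [← Scheme.Hom.comp_apply, e.inv_hom_id]; rfl
    refine ⟨e.hom ⁻¹' U, ⟨hU.preimage e.hom.continuous, ?_⟩, fun U' hU' => ?_⟩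
    · ext y
      constructor
      · rintro ⟨h1, h2⟩
        have : e.hom y ∈ e.inv ⁻¹' W := by
          rw [← hUW]; exact ⟨h1, show g (e.inv (e.hom y)) ∈ Set.range (Spec.map (CommRingCat.ofHom (Ideal.Quotient.mk I))) by
            rw [hinv]; exact h2⟩
        simpa [hinv] using this
      · intro hy
        refine ⟨?_, hW hy⟩
        have : e.hom y ∈ U ∩ _ := hUW.symm.subset (show e.inv (e.hom y) ∈ W by rw [hinv]; exact hy)
        exact this.1
    · have := huniq (e.inv ⁻¹' U') ⟨hU'.1.preimage e.inv.continuous, by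
        rw [← hU'.2]; rfl⟩
      rw [← this]
      ext y
      simp [hinv]
  · intro h
    refine Hensel20.henselianRing_of_bijOn fun B _ _ hB => ?_
    rw [← coupleAt_zeroLocus_iff, ← hpre]
    exact h _ _ ((IsFinite.SpecMap_iff _).2 (RingHom.finite_algebraMap.2 hB))

end Affine

end Groth.Agent.Hens22
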