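import Mathlib.RingTheory.Smooth.Locus
import Mathlib.RingTheory.Etale.Kaehler
import Mathlib.LinearAlgebra.Matrix.NonsingularInverse
import Mathlib.RingTheory.Henselian
import Mathlib.RingTheory.Kaehler.Basic

/-!
Cutting out formally smooth quotients by idempotent matrices (a form of the Jacobian criterion).
-/

set_option autoImplicit false
universe u

open TensorProduct KaehlerDifferential Matrix

noncomputable section

namespace Groth.Agent.Hens22

variable {A P : Type u} [CommRing A] [CommRing P] [Algebra A P]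

/-- Derivatives of a vector. -/
def dMat {m : ℕ} (ρ : Ω[P⁄A] →ₗ[P] (Fin m → P)) (f : Fin m → P) : Matrix (Fin m) (Fin m) P :=
  Matrix.of fun j k => ρ (D A P (f j)) k

theorem dMat_mulVec {m : ℕ} (ρ : Ω[P⁄A] →ₗ[P] (Fin m → P)) (E : Matrix (Fin m) (Fin m) P)
    (f : Fin m → P) (j l : Fin m) :
    dMat ρ (E *ᵥ f) j l = (E * dMat ρ f) j l + ∑ k, f k * ρ (D A P (E j k)) l := by
  simp only [dMat, Matrix.of_apply, Matrix.mulVec, dotProduct, Matrix.mul_apply, map_sum,
    Derivation.leibniz, map_add, map_smul, Pi.add_apply, Finset.sum_apply, Pi.smul_apply,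
    smul_eq_mul, Finset.sum_add_distrib]

/-- Jacobian criterion for a quotient by a vector fixed by an idempotent matrix. -/
theorem formallySmooth_quotient_of_cut [Algebra.FormallySmooth A P] {m : ℕ} (v : Fin m → P)
    (E : Matrix (Fin m) (Fin m) P) (hE : IsIdempotentElem E) (hv : E *ᵥ v = v)
    (ρ : Ω[P⁄A] →ₗ[P] (Fin m → P))
    (hU : IsUnit (E * dMat ρ v * E + (1 - E)).det) :
    Algebra.FormallySmooth A (P ⧸ Ideal.span (Set.range v)) := by
  classical
  set K : Ideal P := Ideal.span (Set.range v) with hKdef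
  set Kr : Ideal P := RingHom.ker (algebraMap P (P ⧸ K)) with hKrdef
  have hKr : Kr = K := Ideal.mk_ker
  set H := dMat ρ v with hH
  set U := E * H * E + (1 - E) with hUdef
  have hUE : U * E = E * H * E := by
    rw [hUdef, add_mul, sub_mul, one_mul, mul_assoc (E * H), hE.eq, sub_self, add_zero]
  have hEU : E * U = U * E := by
    rw [hUE, hUdef, mul_add, mul_sub, mul_one, hE.eq, sub_self, add_zero, ← mul_assoc, ← mul_assoc,
      hE.eq]
  set Y := E * U⁻¹ with hY
  have hEY : E * H * Y = E := by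
    rw [hY, ← mul_assoc, ← hUE, ← hEU, mul_assoc, Matrix.mul_nonsing_inv U hU, mul_one]
  let c : Fin m → Kr.Cotangent := fun k =>
    Ideal.toCotangent Kr ⟨v k, by rw [hKr]; exact Ideal.subset_span ⟨k, rfl⟩⟩
  have hK0 : ∀ x ∈ K, ∀ z : Kr.Cotangent, x • z = 0 := fun x hx z => by
    obtain ⟨z, rfl⟩ := Ideal.toCotangent_surjective _ z
    rw [← map_smul, Ideal.toCotangent_eq_zero, pow_two]
    exact Ideal.mul_mem_mul (hKr.symm ▸ hx) z.2
  let φ : (Fin m → P) →ₗ[P] Kr.Cotangent := Fintype.linearCombination P c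
  have hφv : ∀ W : Matrix (Fin m) (Fin m) P, ∀ j, φ (W j) =
      ∑ k, W j k • c k := fun W j => Fintype.linearCombination_apply P c (W j)
  have hvec : ∀ (W : Matrix (Fin m) (Fin m) P) (z : Fin m → P), W *ᵥ v = z → ∀ (j : Fin m)
      (hz : z j ∈ Kr), φ (W j) = Ideal.toCotangent Kr ⟨z j, hz⟩ := fun W z hWz j hz => by
    simp only [hφv, c, ← map_smul, ← map_sum]
    subst hWz
    congr 1
    apply Subtype.ext
    simp [Matrix.mulVec, dotProduct]
  have hEc : ∀ j, φ (E j) = c j := fun j =>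
    hvec E v hv j (by rw [hKr]; exact Ideal.subset_span ⟨j, rfl⟩)
  let ψ : Ω[P⁄A] →ₗ[P] Kr.Cotangent := φ.comp ((Matrix.vecMulLinear Y).comp ρ)
  have hψ : ∀ j, ψ (D A P (v j)) = c j := by
    intro j
    show φ (ρ (D A P (v j)) ᵥ* Y) = c j
    rw [show ρ (D A P (v j)) ᵥ* Y = (H * Y) j by
      ext l; simp [Matrix.vecMul, dotProduct, Matrix.mul_apply, H, dMat]]
    have h2 : ∀ l, (H * Y) j l - (E * H * Y) j l ∈ K := fun l => by
      have hk : ∀ i, H j i - (E * H) j i ∈ K := fun i => by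
        have h3 := dMat_mulVec ρ E v j i
        rw [hv] at h3
        rw [hH, h3, add_sub_cancel_left]
        exact Ideal.sum_mem _ fun k _ => Ideal.mul_mem_right _ _ (Ideal.subset_span ⟨k, rfl⟩)
      simp only [Matrix.mul_apply, ← Finset.sum_sub_distrib, ← sub_mul]
      exact Ideal.sum_mem _ fun i _ => Ideal.mul_mem_right _ _ (by simpa [Matrix.mul_apply] using hk i)
    rw [← hEc j, hφv, hφv]
    refine Finset.sum_congr rfl fun l _ => ?_
    have h4 := hK0 _ (h2 l) (c l)
    rw [sub_smul, sub_eq_zero] at h4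
    rw [h4, hEY]
  let lift₀ : (P ⧸ K) →ₗ[P] (Ω[P⁄A] →ₗ[P] Kr.Cotangent) :=
    Submodule.liftQ K (LinearMap.toSpanSingleton P _ ψ) fun x hx => by
      rw [LinearMap.mem_ker]
      exact LinearMap.ext fun ω => hK0 x hx (ψ ω)
  refine (Algebra.FormallySmooth.iff_split_injection (P := P) (A := P ⧸ K)
    Ideal.Quotient.mk_surjective).2 ⟨TensorProduct.lift lift₀, ?_⟩
  refine LinearMap.ext fun z => ?_
  obtain ⟨⟨x, hx⟩, rfl⟩ := Ideal.toCotangent_surjective _ z
  rw [LinearMap.comp_apply, kerCotangentToTensor_toCotangent, TensorProduct.lift.tmul,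
    LinearMap.id_apply]
  show (1 : P) • ψ (D A P x) = Ideal.toCotangent Kr ⟨x, hx⟩
  rw [one_smul]
  have hmem : ∀ w ∈ Ideal.span (Set.range v), w ∈ Kr := fun w hw => hKr.symm.le hw
  have hxK : x ∈ Ideal.span (Set.range v) := hKr.le hx
  clear hU
  induction hxK using Submodule.span_induction with
  | mem w hw => obtain ⟨j, rfl⟩ := hw; exact hψ j
  | zero => simp only [map_zero]; exact (map_zero (Ideal.toCotangent Kr)).symm
  | add w w' hw hw' h h' =>
    rw [map_add, map_add, h (hmem w hw), h' (hmem w' hw'), ← map_add]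
    rfl
  | smul a w hw h =>
    refine Eq.trans (congrArg ψ (Derivation.leibniz (D A P) a w)) ?_
    rw [map_add, map_smul, map_smul, hK0 w hw, add_zero, h (hmem w hw), ← map_smul]
    rfl

/-- The derivative splitting extends along formally etale maps. -/
theorem exists_extend {Q : Type u} [CommRing Q] [Algebra A Q] [Algebra P Q] [IsScalarTower A P Q]
    [Algebra.FormallyEtale P Q] {m : ℕ} (ρ : Ω[P⁄A] →ₗ[P] (Fin m → P)) :
    ∃ ρ' : Ω[Q⁄A] →ₗ[Q] (Fin m → Q),
      ∀ p, ρ' (D A Q (algebraMap P Q p)) = algebraMap P Q ∘ ρ (D A P p) := by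
  let g : Ω[P⁄A] →ₗ[P] (Fin m → Q) := ((Algebra.linearMap P Q).compLeft (Fin m)).comp ρ
  refine ⟨(g.liftBaseChange Q).comp (tensorKaehlerEquivOfFormallyEtale A P Q).symm.toLinearMap,
    fun p => ?_⟩
  rw [LinearMap.comp_apply, LinearEquiv.coe_coe, tensorKaehlerEquivOfFormallyEtale_symm_D_algebraMap,
    LinearMap.liftBaseChange_tmul, one_smul]
  rfl

/-- The cut criterion after a formally etale extension. -/
theorem formallySmooth_cut {Q : Type u} [CommRing Q] [Algebra A Q] [Algebra P Q] [IsScalarTower A P Q]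
    [Algebra.FormallyEtale P Q] [Algebra.FormallySmooth A Q]
    {m : ℕ} (f : Fin m → P) (ρ : Ω[P⁄A] →ₗ[P] (Fin m → P)) (b : Ideal Q)
    (hb : b ≤ Ideal.jacobson ⊥) (hf : ∀ k, algebraMap P Q (f k) ∈ b)
    (E : Matrix (Fin m) (Fin m) Q) (hE : IsIdempotentElem E)
    (hEb : E.map (Ideal.Quotient.mk b) = ((dMat ρ f).map (algebraMap P Q)).map (Ideal.Quotient.mk b)) :
    Algebra.FormallySmooth A (Q ⧸ Ideal.span (Set.range (E *ᵥ (algebraMap P Q ∘ f)))) := by
  classical
  obtain ⟨ρ', hρ'⟩ := exists_extend (Q := Q) ρ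
  refine formallySmooth_quotient_of_cut _ E hE (by rw [Matrix.mulVec_mulVec, hE.eq]) ρ' ?_
  have hf' : dMat ρ' (algebraMap P Q ∘ f) = (dMat ρ f).map (algebraMap P Q) := by
    ext j k
    simp [dMat, hρ']
  let q := Ideal.Quotient.mk b
  have hH : (dMat ρ' (E *ᵥ (algebraMap P Q ∘ f))).map q = E.map q := by
    ext j l
    rw [Matrix.map_apply, dMat_mulVec, map_add, map_sum]
    rw [Finset.sum_eq_zero fun k _ => by
      rw [map_mul, show q ((algebraMap P Q ∘ f) k) = 0 from Ideal.Quotient.eq_zero_iff_mem.2 (hf k),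
        zero_mul], add_zero, hf', ← Matrix.map_apply (f := q), Matrix.map_mul, ← hEb, ← Matrix.map_mul,
      hE.eq]
  have := isLocalHom_of_le_jacobson_bot b hb
  apply IsUnit.of_map q
  rw [RingHom.map_det]
  convert isUnit_one
  rw [← Matrix.det_one (n := Fin m) (R := Q ⧸ b)]
  congr 1
  rw [map_add, map_mul, map_mul, map_sub, map_one, RingHom.mapMatrix_apply, RingHom.mapMatrix_apply,
    hH, ← Matrix.map_mul, hE.eq, ← Matrix.map_mul, hE.eq, add_sub_cancel]

/-- A lift of the identity modulo `(f, I)` gives a matrix of derivatives which is idempotent modulo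
`(f, I)` and fixes `f` up to second order. -/
theorem exists_dMat_idempotent (I : Ideal A) [Algebra.FormallySmooth A P] {R₀ : Type u} [CommRing R₀]
    [Algebra A R₀] (p : P →ₐ[A] R₀) {m : ℕ} (f : Fin m → P)
    (hpf : RingHom.ker p = Ideal.span (Set.range f))
    (𝔞 L : Ideal P) (h𝔞 : 𝔞 = Ideal.span (Set.range f) ⊔ I.map (algebraMap A P))
    (hL : L = 𝔞 ^ 2 ⊔ I.map (algebraMap A P)) (v : R₀ →ₐ[A] P ⧸ L)
    (hv : ∀ x y, Ideal.Quotient.mk L y = v (p x) → x - y ∈ 𝔞) :
    ∃ ρ : Ω[P⁄A] →ₗ[P] (Fin m → P),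
      (∀ j, f j - (dMat ρ f *ᵥ f) j ∈ L) ∧
      ∀ j k, (dMat ρ f * dMat ρ f) j k - dMat ρ f j k ∈ 𝔞 := by
  classical
  subst h𝔞 hL
  let J := Ideal.span (Set.range f)
  let IP := I.map (algebraMap A P)
  let 𝔞 := J ⊔ IP
  let L := 𝔞 ^ 2 ⊔ IP
  let q : P →ₐ[A] P ⧸ L := Ideal.Quotient.mkₐ A L
  let δ₀ : P →ₗ[A] P ⧸ L := q.toLinearMap - (v.comp p).toLinearMap
  have hδ : ∀ x, δ₀ x = q x - v (p x) := fun x => rfl
  have hδmem : ∀ x, ∃ z ∈ 𝔞, q z = δ₀ x := fun x => by
    obtain ⟨y, hy⟩ := Ideal.Quotient.mk_surjective (v (p x))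
    exact ⟨x - y, hv x y hy, by rw [hδ, map_sub, ← hy]; rfl⟩
  have hsq : ∀ x y, δ₀ x * δ₀ y = 0 := fun x y => by
    obtain ⟨a, ha, hax⟩ := hδmem x
    obtain ⟨b, hb, hby⟩ := hδmem y
    rw [← hax, ← hby, ← map_mul]
    exact Ideal.Quotient.eq_zero_iff_mem.2 (Ideal.mem_sup_left (by rw [pow_two]; exact Ideal.mul_mem_mul ha hb))
  let δ : Derivation A P (P ⧸ L) := Derivation.mk' δ₀ fun x y => by
    have h1 := hsq x y
    simp only [hδ] at h1 ⊢
    show q (x * y) - v (p (x * y)) = q x * (q y - v (p y)) + q y * (q x - v (p x))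
    rw [map_mul, map_mul, map_mul]
    linear_combination -h1
  let π : (Fin m → P) →ₗ[P] P ⧸ L := (Submodule.mkQ L).comp (Fintype.linearCombination P f)
  have hrange : ∀ z ∈ 𝔞, q z ∈ LinearMap.range π := fun z hz => by
    obtain ⟨a, ha, b, hb, rfl⟩ := Submodule.mem_sup.1 hz
    obtain ⟨c, hc⟩ := (Submodule.mem_span_range_iff_exists_fun P).1 ha
    refine ⟨c, ?_⟩
    rw [map_add, show q b = 0 from Ideal.Quotient.eq_zero_iff_mem.2 (Ideal.mem_sup_right hb), add_zero,
      ← hc]
    show Submodule.mkQ L _ = _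
    rw [Fintype.linearCombination_apply]
    rfl
  let χ : Ω[P⁄A] →ₗ[P] P ⧸ L := δ.liftKaehlerDifferential
  have hχ : ∀ ω, χ ω ∈ LinearMap.range π := fun ω => by
    have : ω ∈ Submodule.span P (Set.range (D A P)) := by rw [span_range_derivation]; trivial
    induction this using Submodule.span_induction with
    | mem w hw =>
      obtain ⟨x, rfl⟩ := hw
      rw [show χ (D A P x) = δ₀ x from Derivation.liftKaehlerDifferential_comp_D δ x]
      obtain ⟨z, hz, hzx⟩ := hδmem x
      exact hzx ▸ hrange z hz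
    | zero => simp
    | add a b _ _ ha hb => rw [map_add]; exact add_mem ha hb
    | smul a b _ hb => rw [map_smul]; exact Submodule.smul_mem _ a hb
  obtain ⟨ρ, hρ⟩ := Module.projective_lifting_property π.rangeRestrict
    (χ.codRestrict (LinearMap.range π) hχ) π.surjective_rangeRestrict
  have hρ' : ∀ x, π (ρ (D A P x)) = δ₀ x := fun x =>
    (congrArg Subtype.val (LinearMap.congr_fun hρ (D A P x))).trans
      (Derivation.liftKaehlerDifferential_comp_D δ x)
  have hfix : ∀ j, f j - (dMat ρ f *ᵥ f) j ∈ L := fun j => by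
    rw [← Ideal.Quotient.eq]
    have h1 := hρ' (f j)
    rw [hδ, show p (f j) = 0 from RingHom.mem_ker.1 (hpf.symm ▸ Ideal.subset_span ⟨j, rfl⟩),
      map_zero, sub_zero] at h1
    refine h1.symm.trans ?_
    show Submodule.mkQ L _ = _
    rw [Fintype.linearCombination_apply]
    simp [Matrix.mulVec, dotProduct, dMat]
  refine ⟨ρ, hfix, fun j k => ?_⟩
  have hD : ∀ x ∈ L, ρ (D A P x) k ∈ 𝔞 := by
    intro x hx
    have hDI : ∀ y ∈ IP, ρ (D A P y) k ∈ 𝔞 := by
      intro y hy
      induction hy using Submodule.span_induction with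
      | mem w hw =>
        obtain ⟨a, -, rfl⟩ := hw
        rw [Derivation.map_algebraMap, map_zero]
        exact zero_mem _
      | zero => simp
      | add a b _ _ ha hb => simp only [map_add, Pi.add_apply]; exact add_mem ha hb
      | smul a b hb' hb =>
        rw [smul_eq_mul, Derivation.leibniz, map_add, map_smul, map_smul, Pi.add_apply, Pi.smul_apply,
          Pi.smul_apply, smul_eq_mul, smul_eq_mul]
        exact add_mem (Ideal.mul_mem_left _ _ hb)
          (Ideal.mul_mem_right _ _ (Ideal.mem_sup_right hb'))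
    obtain ⟨a, ha, b, hb, rfl⟩ := Submodule.mem_sup.1 hx
    rw [map_add, map_add, Pi.add_apply]
    refine add_mem ?_ (hDI b hb)
    clear hx
    rw [pow_two] at ha
    induction ha using Submodule.mul_induction_on' with
    | mem_mul_mem a ha b hb =>
      rw [Derivation.leibniz, map_add, map_smul, map_smul, Pi.add_apply, Pi.smul_apply,
        Pi.smul_apply, smul_eq_mul, smul_eq_mul]
      exact add_mem (Ideal.mul_mem_right _ _ ha) (Ideal.mul_mem_right _ _ hb)
    | add a _ b _ ha hb => simp only [map_add, Pi.add_apply]; exact add_mem ha hb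
  have h2 := hD _ (hfix j)
  rw [map_sub, map_sub, Pi.sub_apply] at h2
  have h3 := dMat_mulVec ρ (dMat ρ f) f j k
  have h4 : ∑ l, f l * ρ (D A P (dMat ρ f j l)) k ∈ 𝔞 :=
    Ideal.sum_mem _ fun l _ => Ideal.mul_mem_right _ _ (Ideal.mem_sup_left (Ideal.subset_span ⟨l, rfl⟩))
  have h5 : ρ (D A P ((dMat ρ f *ᵥ f) j)) k = dMat ρ (dMat ρ f *ᵥ f) j k := rfl
  rw [show ρ (D A P (f j)) k = dMat ρ f j k from rfl, h5, h3] at h2
  convert 𝔞.neg_mem (𝔞.add_mem h2 h4) using 1
  ring

end Groth.Agent.Hens22
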