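import Mathlib.RingTheory.Invariant.Basic
import Mathlib.RingTheory.Ideal.GoingUp
import Mathlib.RingTheory.IntegralClosure.IntegrallyClosed
import Mathlib.RingTheory.IntegralClosure.Algebra.Basic
import Mathlib.FieldTheory.Galois.Basic
import Mathlib.FieldTheory.Normal.Closure
import Mathlib.RingTheory.Localization.FractionRing

/-!
Averaging locally constant functions on the spectrum of an absolute integral closure over a finite Galois
group: two such functions on the two halves of a loop of curves cannot differ by an indicator function.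
-/

set_option autoImplicit false
set_option maxSynthPendingDepth 6
universe u

open scoped Pointwise

noncomputable section

namespace Groth.Agent.Hens22.Avg

variable {B K : Type*} [CommRing B] [Field K] {ι : Type*} (φ : B →+* K) (f c d : ι → B)

open Classical in
/-- The function given locally by fractions. -/
def locVal (q : Ideal B) : K :=
  if h : ∃ i, f i ∉ q then φ (c h.choose) / φ (d h.choose) else 0

theorem locVal_eq (q : Ideal B)
    (hd : ∀ i, f i ∉ q → φ (d i) ≠ 0)
    (hcd : ∀ i j, f i ∉ q → f j ∉ q → φ (c i) * φ (d j) = φ (c j) * φ (d i))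
    {i : ι} (hi : f i ∉ q) : locVal φ f c d q = φ (c i) / φ (d i) := by
  have h : ∃ i, f i ∉ q := ⟨i, hi⟩
  rw [locVal, dif_pos h, div_eq_div_iff (hd _ h.choose_spec) (hd _ hi)]
  exact hcd _ _ h.choose_spec hi

section Galois

variable {R : Type*} [CommRing R] [Algebra R B] {G : Type*} [Group G] [Fintype G] [MulSemiringAction G B]

/-- The average over an orbit. -/
def orbitSum (α : Ideal B → K) (q : Ideal B) : K := ∑ g : G, α (g • q)

theorem orbitSum_smul (α : Ideal B → K) (h : G) (q : Ideal B) :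
    orbitSum (G := G) α (h • q) = orbitSum (G := G) α q := by
  simp only [orbitSum, smul_smul]
  exact Fintype.sum_equiv (Equiv.mulRight h) _ _ fun g => rfl

variable [SMulCommClass G R B]

theorem orbitSum_eq [Algebra.IsInvariant R B G] (α : Ideal B → K) (q q' : Ideal B) [q.IsPrime]
    [q'.IsPrime] (h : q.under R = q'.under R) :
    orbitSum (G := G) α q = orbitSum (G := G) α q' := by
  obtain ⟨g, rfl⟩ := Algebra.IsInvariant.exists_smul_of_under_eq R B G q q' h
  exact (orbitSum_smul α g q).symm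

end Galois

variable {R K : Type u} [CommRing R] [IsDomain R] [IsIntegrallyClosed R] [Field K] [CharZero K]
  [IsAlgClosed K] [Algebra R K]

/-- A system of fractions on the part of the spectrum of the integral closure where `P` holds. -/
structure Sys (t : R) (P : Ideal R → Prop) where
  /-- the index type -/
  ι : Type u
  [fin : Finite ι]
  /-- the opens -/
  f : ι → integralClosure R K
  /-- the numerators -/
  c : ι → integralClosure R K
  /-- the denominators -/
  d : ι → integralClosure R K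
  cover : ∀ q : Ideal (integralClosure R K), q.IsPrime → t ∈ q.under R → P (q.under R) → ∃ i, f i ∉ q
  d_notMem : ∀ (q : Ideal (integralClosure R K)), q.IsPrime → t ∈ q.under R → ∀ i, f i ∉ q → d i ∉ q
  compat : ∀ (q : Ideal (integralClosure R K)), q.IsPrime → t ∈ q.under R →
    ∀ i j, f i ∉ q → f j ∉ q → c i * d j = c j * d i

theorem false_of_sys (hinj : Function.Injective (algebraMap R K)) [Algebra.IsAlgebraic R K] (t : R)
    (PU PV W₁ W₂ : Ideal R → Prop) (U : Sys (K := K) t PU) (V : Sys (K := K) t PV)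
    (h₁ : ∀ q : Ideal (integralClosure R K), q.IsPrime → t ∈ q.under R → PU (q.under R) → PV (q.under R) →
      W₁ (q.under R) → ∀ i j, U.f i ∉ q → V.f j ∉ q → U.c i * V.d j - V.c j * U.d i = U.d i * V.d j)
    (h₂ : ∀ q : Ideal (integralClosure R K), q.IsPrime → t ∈ q.under R → PU (q.under R) → PV (q.under R) →
      W₂ (q.under R) → ∀ i j, U.f i ∉ q → V.f j ∉ q → U.c i * V.d j - V.c j * U.d i = 0)
    (p₁ p₂ p₃ P₀ P₁ P₂ : Ideal R) [p₁.IsPrime] [p₂.IsPrime] [p₃.IsPrime] [P₀.IsPrime] [P₁.IsPrime]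
    [P₂.IsPrime] (ht₁ : t ∈ p₁) (ht₂ : t ∈ p₂) (ht₃ : t ∈ p₃)
    (l10 : p₁ ≤ P₀) (l20 : p₂ ≤ P₀) (l11 : p₁ ≤ P₁) (l31 : p₃ ≤ P₁) (l32 : p₃ ≤ P₂) (l22 : p₂ ≤ P₂)
    (u₁ : PU p₁) (u₂ : PU p₂) (u₃ : PU p₃) (uP₁ : PU P₁) (uP₂ : PU P₂)
    (v₁ : PV p₁) (v₂ : PV p₂) (vP₀ : PV P₀) (w₁ : W₁ p₁) (w₂ : W₂ p₂) : False := by
  classical
  haveI := U.fin
  haveI := V.fin
  haveI : FaithfulSMul R K := (faithfulSMul_iff_algebraMap_injective R K).2 hinj
  let F := FractionRing R
  letI : Algebra F K := FractionRing.liftAlgebra R K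
  haveI : IsScalarTower R F K := FractionRing.isScalarTower_liftAlgebra R K
  haveI : Algebra.IsAlgebraic F K := Algebra.IsAlgebraic.extendScalars (IsFractionRing.injective R F)
  haveI : CharZero F := charZero_of_injective_algebraMap (R := F) (A := K) |> fun _ =>
    (algebraMap F K).charZero
  let S : Set K :=
    (Set.range fun i => (U.f i : K)) ∪ (Set.range fun i => (U.c i : K)) ∪ (Set.range fun i => (U.d i : K)) ∪
    ((Set.range fun i => (V.f i : K)) ∪ (Set.range fun i => (V.c i : K)) ∪ (Set.range fun i => (V.d i : K)))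
  have hSfin : S.Finite := by
    refine Set.Finite.union (Set.Finite.union (Set.Finite.union ?_ ?_) ?_)
      (Set.Finite.union (Set.Finite.union ?_ ?_) ?_) <;> exact Set.finite_range _
  let E := IntermediateField.adjoin F S
  haveI : Finite S := hSfin
  haveI : FiniteDimensional F E :=
    IntermediateField.finiteDimensional_adjoin fun x _ => (Algebra.IsAlgebraic.isAlgebraic x).isIntegral
  let L := IntermediateField.normalClosure F E K
  haveI : Normal F K := normal_iff.2 fun x =>
    ⟨(Algebra.IsAlgebraic.isAlgebraic x).isIntegral, IsAlgClosed.splits _⟩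
  haveI : FiniteDimensional F L := normalClosure.is_finiteDimensional F E K
  haveI : Normal F L := normalClosure.normal F E K
  haveI : IsGalois F L := ⟨⟩
  have hEL : E ≤ L := IntermediateField.le_normalClosure E
  let G := L ≃ₐ[F] L
  letI : Fintype G := Fintype.ofFinite G
  haveI : SMulCommClass G R L := ⟨fun g r x => by
    show g (r • x) = r • g x
    rw [← algebraMap_smul F r x, map_smul, algebraMap_smul]⟩
  let B := integralClosure R L
  haveI : Algebra.IsInvariant R B G := ⟨fun b hb => by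
    have h1 : (b : L) ∈ (⊥ : IntermediateField F L) :=
      (IsGalois.mem_bot_iff_fixed _).2 fun g => congrArg Subtype.val (hb g)
    obtain ⟨k, hk⟩ := IntermediateField.mem_bot.1 h1
    have h2 : IsIntegral R k := by
      rw [← isIntegral_algebraMap_iff (A := F) (B := L) (algebraMap F L).injective, hk]
      exact b.2
    obtain ⟨a, ha⟩ := IsIntegrallyClosed.isIntegral_iff.1 h2
    exact ⟨a, Subtype.ext (by rw [← hk, ← ha]; exact IsScalarTower.algebraMap_apply R F L a)⟩⟩
  let toA : B →ₐ[R] integralClosure R K :=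
    { toFun := fun b => ⟨((b : L) : K), b.2.map (L.val.restrictScalars R)⟩
      map_one' := rfl
      map_mul' := fun _ _ => rfl
      map_zero' := rfl
      map_add' := fun _ _ => rfl
      commutes' := fun r => rfl }
  have htoA : Function.Injective toA := fun a b h =>
    Subtype.ext (Subtype.ext (congrArg (fun z : integralClosure R K => (z : K)) h))
  have hlift : ∀ a : integralClosure R K, (a : K) ∈ S → ∃ b : B, toA b = a := fun a ha => by
    have hmem : (a : K) ∈ L := hEL (IntermediateField.subset_adjoin F S ha)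
    refine ⟨⟨⟨(a : K), hmem⟩, ?_⟩, Subtype.ext rfl⟩
    exact (isIntegral_algHom_iff (L.val.restrictScalars R) Subtype.val_injective).1 a.2
  letI : Algebra B (integralClosure R K) := toA.toRingHom.toAlgebra
  haveI : IsScalarTower R B (integralClosure R K) :=
    IsScalarTower.of_algebraMap_eq fun r => (toA.commutes r).symm
  haveI : Algebra.IsIntegral B (integralClosure R K) := Algebra.IsIntegral.tower_top R
  have hlying : ∀ q : Ideal B, q.IsPrime →
      ∃ Q : Ideal (integralClosure R K), Q.IsPrime ∧ (∀ b, toA b ∈ Q ↔ b ∈ q) ∧ Q.under R = q.under R := by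
    intro q hq
    obtain ⟨Q, hQ, hQq⟩ := Ideal.exists_ideal_over_prime_of_isIntegral_of_isDomain
      (S := integralClosure R K) q (fun x hx => by
        have : x = 0 := htoA (hx.trans (map_zero toA).symm)
        rw [this]; exact zero_mem _)
    refine ⟨Q, hQ, fun b => by rw [← hQq]; rfl, ?_⟩
    rw [← hQq, Ideal.under_def, Ideal.under_def, Ideal.comap_comap, ← IsScalarTower.algebraMap_eq]
  choose fU hfU using fun i => hlift (U.f i) (Or.inl (Or.inl (Or.inl ⟨i, rfl⟩)))
  choose cU hcU using fun i => hlift (U.c i) (Or.inl (Or.inl (Or.inr ⟨i, rfl⟩)))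
  choose dU hdU using fun i => hlift (U.d i) (Or.inl (Or.inr ⟨i, rfl⟩))
  choose fV hfV using fun i => hlift (V.f i) (Or.inr (Or.inl (Or.inl ⟨i, rfl⟩)))
  choose cV hcV using fun i => hlift (V.c i) (Or.inr (Or.inl (Or.inr ⟨i, rfl⟩)))
  choose dV hdV using fun i => hlift (V.d i) (Or.inr (Or.inr ⟨i, rfl⟩))
  let φ : B →+* K := ((integralClosure R K).val.toRingHom).comp toA.toRingHom
  have hφ : ∀ b, φ b = (toA b : K) := fun _ => rfl
  let αU := locVal φ fU cU dU
  let αV := locVal φ fV cV dV
  -- the local description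
  have key : ∀ (P : Ideal R → Prop) (T : Sys (K := K) t P) (fT cT dT : T.ι → B),
      (∀ i, toA (fT i) = T.f i) → (∀ i, toA (cT i) = T.c i) → (∀ i, toA (dT i) = T.d i) →
      ∀ q : Ideal B, q.IsPrime → t ∈ q.under R →
        (∀ i, fT i ∉ q → φ (dT i) ≠ 0) ∧
        (∀ i, fT i ∉ q → locVal φ fT cT dT q = φ (cT i) / φ (dT i)) ∧
        (P (q.under R) → ∃ i, fT i ∉ q) := by
    intro P T fT cT dT hf hc hd q hq htq
    obtain ⟨Q, hQ, hmem, hQR⟩ := hlying q hq
    have htQ : t ∈ Q.under R := hQR ▸ htq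
    have hfQ : ∀ i, fT i ∉ q → T.f i ∉ Q := fun i hi => by rw [← hf, hmem]; exact hi
    have hd0 : ∀ i, fT i ∉ q → φ (dT i) ≠ 0 := fun i hi h0 => T.d_notMem Q hQ htQ i (hfQ i hi) (by
      have : T.d i = 0 := by rw [← hd]; exact Subtype.ext h0
      rw [this]; exact zero_mem _)
    refine ⟨hd0, fun i hi => locVal_eq φ fT cT dT q hd0 (fun i j hi hj => ?_) hi, fun hP => ?_⟩
    · simp only [hφ, hc, hd]
      exact congrArg Subtype.val (T.compat Q hQ htQ i j (hfQ i hi) (hfQ j hj))
    · obtain ⟨i, hi⟩ := T.cover Q hQ htQ (hQR ▸ hP)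
      exact ⟨i, fun h => hi (by rw [← hf, hmem]; exact h)⟩
  have hUkey := key PU U fU cU dU hfU hcU hdU
  have hVkey := key PV V fV cV dV hfV hcV hdV
  have hund : ∀ (g : G) (q : Ideal B), (g • q).under R = q.under R := fun g q => Ideal.under_smul R q g
  -- existence of primes upstairs
  have hpick : ∀ p : Ideal R, p.IsPrime → ∃ q : Ideal B, q.IsPrime ∧ q.under R = p := by
    intro p hp
    obtain ⟨q, hq, hqp⟩ := Ideal.exists_ideal_over_prime_of_isIntegral_of_isDomain
      (S := B) p (fun x hx => by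
        have h0 : algebraMap R B x = 0 := hx
        have : x = 0 := hinj (by
          rw [map_zero]
          exact congrArg (fun b : B => ((b : L) : K)) h0)
        rw [this]; exact zero_mem _)
    exact ⟨q, hq, hqp⟩
  choose pick hpick₁ hpick₂ using hpick
  -- constancy along specializations
  have hstep : ∀ (P : Ideal R → Prop) (T : Sys (K := K) t P) (fT cT dT : T.ι → B),
      (∀ i, toA (fT i) = T.f i) → (∀ i, toA (cT i) = T.c i) → (∀ i, toA (dT i) = T.d i) →
      ∀ (p p' : Ideal R) (hp : p.IsPrime) (hp' : p'.IsPrime), p ≤ p' → t ∈ p → P p' →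
        orbitSum (G := G) (locVal φ fT cT dT) (pick p hp) =
          orbitSum (G := G) (locVal φ fT cT dT) (pick p' hp') := by
    intro P T fT cT dT hf hc hd p p' hp hp' hle htp hP
    haveI := hpick₁ p hp
    haveI := hpick₁ p' hp'
    obtain ⟨Q, hQge, hQ, hQp⟩ := Ideal.exists_ideal_over_prime_of_isIntegral_of_isPrime
      (R := R) p' (pick p hp) (le_trans (le_of_eq (hpick₂ p hp)) hle)
    haveI := hQ
    rw [← orbitSum_eq (R := R) (G := G) _ Q (pick p' hp') (hQp.trans (hpick₂ p' hp').symm)]
    refine Finset.sum_congr rfl fun g _ => ?_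
    have hgQ : (g • Q).IsPrime := inferInstance
    have htq : t ∈ (g • pick p hp).under R := by rw [hund, hpick₂]; exact htp
    have htQ : t ∈ (g • Q).under R := by
      rw [hund, show Q.under R = p' from hQp]; exact hle htp
    obtain ⟨i, hi⟩ := (key P T fT cT dT hf hc hd (g • Q) inferInstance htQ).2.2 (by
      rw [hund, show Q.under R = p' from hQp]; exact hP)
    have hi' : fT i ∉ g • pick p hp := fun h => hi (Ideal.pointwise_smul_le_pointwise_smul_iff.2 hQge h)
    rw [(key P T fT cT dT hf hc hd (g • Q) inferInstance htQ).2.1 i hi,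
      (key P T fT cT dT hf hc hd (g • pick p hp) inferInstance htq).2.1 i hi']
  have eU : orbitSum (G := G) αU (pick p₁ ‹_›) = orbitSum (G := G) αU (pick p₂ ‹_›) := by
    rw [hstep PU U fU cU dU hfU hcU hdU p₁ P₁ ‹_› ‹_› l11 ht₁ uP₁,
      ← hstep PU U fU cU dU hfU hcU hdU p₃ P₁ ‹_› ‹_› l31 ht₃ uP₁,
      hstep PU U fU cU dU hfU hcU hdU p₃ P₂ ‹_› ‹_› l32 ht₃ uP₂,
      ← hstep PU U fU cU dU hfU hcU hdU p₂ P₂ ‹_› ‹_› l22 ht₂ uP₂]
  have eV : orbitSum (G := G) αV (pick p₁ ‹_›) = orbitSum (G := G) αV (pick p₂ ‹_›) := by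
    rw [hstep PV V fV cV dV hfV hcV hdV p₁ P₀ ‹_› ‹_› l10 ht₁ vP₀,
      ← hstep PV V fV cV dV hfV hcV hdV p₂ P₀ ‹_› ‹_› l20 ht₂ vP₀]
  have hdiff : ∀ (p : Ideal R) (hp : p.IsPrime), t ∈ p → PU p → PV p →
      (W₁ p → orbitSum (G := G) αU (pick p hp) - orbitSum (G := G) αV (pick p hp) = (Fintype.card G : K)) ∧
      (W₂ p → orbitSum (G := G) αU (pick p hp) - orbitSum (G := G) αV (pick p hp) = 0) := by
    intro p hp htp hu hv
    haveI := hpick₁ p hp
    have hterm : ∀ g : G, (W₁ p → αU (g • pick p hp) - αV (g • pick p hp) = 1) ∧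
        (W₂ p → αU (g • pick p hp) - αV (g • pick p hp) = 0) := by
      intro g
      have hq : (g • pick p hp).under R = p := (hund _ _).trans (hpick₂ p hp)
      have htq : t ∈ (g • pick p hp).under R := hq.symm ▸ htp
      obtain ⟨hdU0, hUval, hUcov⟩ := hUkey (g • pick p hp) inferInstance htq
      obtain ⟨hdV0, hVval, hVcov⟩ := hVkey (g • pick p hp) inferInstance htq
      obtain ⟨i, hi⟩ := hUcov (hq.symm ▸ hu)
      obtain ⟨j, hj⟩ := hVcov (hq.symm ▸ hv)
      obtain ⟨Q, hQ, hmem, hQR⟩ := hlying (g • pick p hp) inferInstance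
      have hQp : Q.under R = p := hQR.trans hq
      have hiQ : U.f i ∉ Q := by rw [← hfU, hmem]; exact hi
      have hjQ : V.f j ∉ Q := by rw [← hfV, hmem]; exact hj
      show (_ → locVal φ fU cU dU _ - locVal φ fV cV dV _ = 1) ∧
        (_ → locVal φ fU cU dU _ - locVal φ fV cV dV _ = 0)
      rw [hUval i hi, hVval j hj, div_sub_div _ _ (hdU0 i hi) (hdV0 j hj),
        div_eq_one_iff_eq (mul_ne_zero (hdU0 i hi) (hdV0 j hj)), div_eq_zero_iff,
        or_iff_left (mul_ne_zero (hdU0 i hi) (hdV0 j hj))]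
      simp only [hφ, hcU, hdU, hcV, hdV]
      constructor
      · intro hw
        have := congrArg Subtype.val (h₁ Q hQ (hQp.symm ▸ htp) (hQp.symm ▸ hu) (hQp.symm ▸ hv)
          (hQp.symm ▸ hw) i j hiQ hjQ)
        push_cast at this
        linear_combination this
      · intro hw
        have := congrArg Subtype.val (h₂ Q hQ (hQp.symm ▸ htp) (hQp.symm ▸ hu) (hQp.symm ▸ hv)
          (hQp.symm ▸ hw) i j hiQ hjQ)
        push_cast at this
        linear_combination this
    constructor
    · intro hw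
      simp only [orbitSum, ← Finset.sum_sub_distrib, fun g => (hterm g).1 hw, Finset.sum_const,
        Finset.card_univ, nsmul_eq_mul, mul_one]
    · intro hw
      simp only [orbitSum, ← Finset.sum_sub_distrib, fun g => (hterm g).2 hw, Finset.sum_const_zero]
  have e₁ := (hdiff p₁ ‹_› ht₁ u₁ v₁).1 w₁
  have e₂ := (hdiff p₂ ‹_› ht₂ u₂ v₂).2 w₂
  rw [eU, eV, e₂] at e₁
  exact Nat.cast_ne_zero.2 Fintype.card_ne_zero e₁.symm

end Groth.Agent.Hens22.Avg
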