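import Groth.Agent.TopCoh49.MV
import Groth.Agent.TopCoh49.Top

/-!
If `H¹` of an abelian sheaf vanishes, sections over an overlap split.
-/

universe u

open CategoryTheory Limits TopologicalSpace Opposite Abelian

noncomputable section

namespace Groth.Agent.Hens22.H1Split

open Groth.Agent.TopCoh49

variable {X : TopCat.{u}}

theorem exists_sub_eq (F : CohTop.Ab X) (h : Subsingleton (CohTop.H F 1)) {U V : Opens X}
    (hUV : U ⊔ V = ⊤) (e : F.obj.obj (op (U ⊓ V))) :
    ∃ (a : F.obj.obj (op U)) (b : F.obj.obj (op V)),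
      rs F.obj (inf_le_left : U ⊓ V ≤ U) a - rs F.obj (inf_le_right : U ⊓ V ≤ V) b = e := by
  have hS := injSES_shortExact F
  let f := (injSES F).f
  let g := (injSES F).g
  let Q := (injSES F).X₃
  let J := (injSES F).X₂
  have hnat : ∀ {G H : CohTop.Ab X} (φ : G ⟶ H) {A B : Opens X} (i : B ≤ A) (x : G.obj.obj (op A)),
      φ.hom.app (op B) (rs G.obj i x) = rs H.obj i (φ.hom.app (op A) x) := fun φ _ _ i x =>
    ConcreteCategory.congr_hom (φ.hom.naturality (homOfLE i).op) x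
  obtain ⟨s, hs⟩ : ∃ s : J.obj.obj (op U),
      rs J.obj (inf_le_left : U ⊓ V ≤ U) s = f.hom.app (op (U ⊓ V)) e :=
    (AddCommGrpCat.epi_iff_surjective _).1
      ((isFlasque_of_injective (Injective.under F)).epi (homOfLE (inf_le_left : U ⊓ V ≤ U)).op) _
  obtain ⟨q, hqU, hqV⟩ := exists_glue₂ Q (g.hom.app (op U) s) (0 : Q.obj.obj (op V)) (by
    rw [← hnat, hs]
    exact (app_g_f_two (injSES F) _ e).trans (map_zero _).symm)
  let q' : Q.obj.obj (op ⊤) := rs Q.obj hUV.ge q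
  have h1 : Subsingleton (E F 1 (⊤ : Opens X)) := ((HEquivTop F 1).symm.toEquiv).subsingleton
  obtain ⟨w₀, hw₀⟩ := exact₃ hS (zero_add 1) ⊤ ((E₀ Q ⊤).symm q') (Subsingleton.elim (α := E F 1 ⊤) _ _)
  let w : J.obj.obj (op ⊤) := E₀ J ⊤ w₀
  have hw : g.hom.app (op ⊤) w = q' := by
    have := congrArg (E₀ Q ⊤) hw₀
    rw [AddEquiv.apply_symm_apply, E₀_emap] at this
    exact this
  have hker : ∀ (A : Opens X) (x : J.obj.obj (op A)), g.hom.app (op A) x = 0 →
      ∃ y, f.hom.app (op A) y = x := by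
    intro A x hx
    obtain ⟨y, hy⟩ := exact₂ hS 0 A ((E₀ J A).symm x) ((E₀ _ A).injective (by
      rw [E₀_emap, map_zero, AddEquiv.apply_symm_apply]
      exact hx))
    refine ⟨E₀ F A y, ?_⟩
    have := congrArg (E₀ J A) hy
    rw [AddEquiv.apply_symm_apply, E₀_emap] at this
    exact this
  obtain ⟨a, ha⟩ := hker U (s - rs J.obj (le_top : U ≤ ⊤) w) (by
    rw [map_sub, hnat, hw, show rs Q.obj (le_top : U ≤ ⊤) q' = g.hom.app (op U) s from
      (rs_rs Q.obj hUV.ge (le_top : U ≤ ⊤) q).trans hqU, sub_self])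
  obtain ⟨b, hb⟩ := hker V (- rs J.obj (le_top : V ≤ ⊤) w) (by
    rw [map_neg, hnat, hw, show rs Q.obj (le_top : V ≤ ⊤) q' = 0 from
      (rs_rs Q.obj hUV.ge (le_top : V ≤ ⊤) q).trans hqV, neg_zero])
  refine ⟨a, b, ?_⟩
  have hinj : Function.Injective (f.hom.app (op (U ⊓ V))) := by
    refine (injective_iff_map_eq_zero (f.hom.app (op (U ⊓ V))).hom).2 fun x hx => ?_
    have : Mono f := hS.mono_f
    have hm : Mono (f.hom.app (op (U ⊓ V))) :=
      inferInstanceAs (Mono (((sheafToPresheaf _ _ ⋙ (evaluation _ _).obj (op (U ⊓ V))).map f)))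
    exact ((AddCommGrpCat.mono_iff_injective _).1 hm) (hx.trans (map_zero _).symm)
  apply hinj
  rw [map_sub, hnat, hnat, ha, hb, map_sub, map_neg, sub_neg_eq_add, hs, rs_rs, rs_rs, sub_add_cancel]

end Groth.Agent.Hens22.H1Split
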