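import Groth.Agent.Hens22.HensStalk
import Groth.Agent.Hens22.Averaging
import Groth.Agent.Hens22.H1Split
import Mathlib.FieldTheory.IsAlgClosed.Basic

/-!
Affine Henselian spectra of absolutely integrally closed domains: the stalks are the local rings.
-/

set_option autoImplicit false
universe u

open CategoryTheory Opposite TopologicalSpace AlgebraicGeometry HensSch TopCat

noncomputable section

namespace Groth.Agent.Hens22.AbsClosed

/-- A local normal domain with algebraically closed field of fractions is henselian along any proper ideal. -/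
theorem henselianRing_of_absClosed {C K : Type u} [CommRing C] [IsLocalRing C] [Field K] [IsAlgClosed K]
    [Algebra C K] [IsIntegrallyClosedIn C K]
    (J : Ideal C) (hJ : J ≤ IsLocalRing.maximalIdeal C) : HenselianRing C J := by
  have hjac : J ≤ Ideal.jacobson ⊥ :=
    hJ.trans (IsLocalRing.jacobson_eq_maximalIdeal (⊥ : Ideal C) bot_ne_top).ge
  refine ⟨hjac, fun p hp a₀ h₁ h₂ => ?_⟩
  have hder : IsUnit (p.derivative.eval a₀) := isUnit_of_map_isUnit hjac h₂
  have hinj : Function.Injective (algebraMap C K) := (isIntegrallyClosedIn_iff.1 ‹_›).1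
  -- the polynomial splits
  have hsplit : ∃ s : Multiset C, p = (s.map fun r => Polynomial.X - Polynomial.C r).prod := by
    have hmon := hp.map (algebraMap C K)
    have h := (IsAlgClosed.splits (p.map (algebraMap C K))).eq_prod_roots_of_monic hmon
    have hall : ∀ r ∈ (p.map (algebraMap C K)).roots, ∃ c, algebraMap C K c = r := fun r hr =>
      (isIntegrallyClosedIn_iff.1 ‹_›).2 ⟨p, hp, by
        have := Polynomial.isRoot_of_mem_roots hr
        rwa [Polynomial.IsRoot.def, Polynomial.eval_map] at this⟩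
    choose g hg using hall
    refine ⟨(p.map (algebraMap C K)).roots.attach.map fun r => g r.1 r.2,
      Polynomial.map_injective _ hinj ?_⟩
    rw [Polynomial.map_multiset_prod, Multiset.map_map, Multiset.map_map]
    conv_lhs => rw [h, ← Multiset.attach_map_val (p.map (algebraMap C K)).roots, Multiset.map_map]
    refine congrArg Multiset.prod (Multiset.map_congr rfl fun r _ => ?_)
    simp [hg]
  obtain ⟨s, hs⟩ := hsplit
  have hev : p.eval a₀ = (s.map fun r => a₀ - r).prod := by
    rw [hs, Polynomial.eval_multiset_prod, Multiset.map_map]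
    simp
  obtain ⟨r, hr, hrm⟩ : ∃ r ∈ s, a₀ - r ∈ IsLocalRing.maximalIdeal C := by
    have h0 := hJ h₁
    rw [hev] at h0
    obtain ⟨w, hw, hwm⟩ :=
      ((IsLocalRing.maximalIdeal.isMaximal C).isPrime.multiset_prod_mem_iff_exists_mem _).1 h0
    obtain ⟨r, hr, rfl⟩ := Multiset.mem_map.1 hw
    exact ⟨r, hr, hwm⟩
  obtain ⟨s', rfl⟩ := Multiset.exists_cons_of_mem hr
  refine ⟨r, ?_, ?_⟩
  · show p.eval r = 0
    rw [hs, Multiset.map_cons, Multiset.prod_cons, Polynomial.eval_mul]
    simp
  · have hu : IsUnit (s'.map fun w => a₀ - w).prod := by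
      by_contra hne
      have hne' := (IsLocalRing.mem_maximalIdeal _).2 hne
      refine (IsLocalRing.mem_maximalIdeal _).1 ?_ hder
      rw [hs, Multiset.map_cons, Multiset.prod_cons, Polynomial.derivative_mul, Polynomial.eval_add,
        Polynomial.eval_mul, Polynomial.eval_mul, Polynomial.eval_multiset_prod, Multiset.map_map]
      refine add_mem (Ideal.mul_mem_left _ _ ?_) (Ideal.mul_mem_right _ _ ?_)
      · simpa using hne'
      · simpa using hrm
    rw [hev, Multiset.map_cons, Multiset.prod_cons] at h₁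
    have := (Ideal.mul_unit_mem_iff_mem J hu).1 h₁
    rw [← neg_sub]
    exact neg_mem this

variable {R K : Type u} [CommRing R] [IsDomain R] [Field K] [IsAlgClosed K] [Algebra R K]
  {I : Ideal (integralClosure R K)} {X : LocallyRingedSpace.{u}}
  {π : X ⟶ specLRS (integralClosure R K)}
  [Algebra.IsAlgebraic R K] [FaithfulSMul R K]
  (hX : IsSph (integralClosure R K) I X π)
include hX

theorem exists_retraction (x : X) :
    ∃ (C : Type u) (_ : CommRing C) (_ : Algebra (integralClosure R K) C)
      (_ : IsLocalization.AtPrime C (π.base x).asIdeal)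
      (τ : (X.presheaf.stalk x : Type u) →+* C) (σ : C →+* (X.presheaf.stalk x : Type u)),
      τ.comp (Sph.stk π x) = algebraMap _ C ∧ σ.comp (algebraMap _ C) = Sph.stk π x ∧
        Function.Injective (algebraMap (integralClosure R K) C) ∧ σ.comp τ = RingHom.id _ := by
  let A := integralClosure R K
  let q := (π.base x).asIdeal
  let C := Localization.AtPrime q
  haveI : IsFractionRing A K := integralClosure.isFractionRing_of_algebraic
    fun r hr => (FaithfulSMul.algebraMap_injective R K) (hr.trans (map_zero _).symm)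
  haveI : IsIntegrallyClosedIn A K := isIntegrallyClosedIn_iff.2
    ⟨fun a b h => Subtype.ext h, fun {w} hw => ⟨⟨w, isIntegral_trans w hw⟩, rfl⟩⟩
  haveI : IsIntegrallyClosed A := isIntegrallyClosed_iff_isIntegrallyClosedIn K |>.2 inferInstance
  letI : Algebra C K := (IsLocalization.lift (M := q.primeCompl) (g := algebraMap A K) fun y =>
    IsUnit.mk0 _ ((map_ne_zero_iff _ (IsFractionRing.injective A K)).2
      fun h => y.2 (h ▸ zero_mem q))).toAlgebra
  haveI : IsScalarTower A C K := IsScalarTower.of_algebraMap_eq fun a => (IsLocalization.lift_eq _ a).symm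
  haveI : IsFractionRing C K := IsFractionRing.isFractionRing_of_isLocalization q.primeCompl C K
    (Ideal.primeCompl_le_nonZeroDivisors q)
  haveI : IsIntegrallyClosed C :=
    isIntegrallyClosed_of_isLocalization C q.primeCompl (Ideal.primeCompl_le_nonZeroDivisors q)
  haveI : IsIntegrallyClosedIn C K := isIntegrallyClosed_iff_isIntegrallyClosedIn K |>.1 inferInstance
  let J := I.map (algebraMap A C)
  have hJ : J ≤ IsLocalRing.maximalIdeal C := by
    refine Ideal.map_le_iff_le_comap.2 fun a ha => ?_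
    rw [Ideal.mem_comap, IsLocalization.AtPrime.to_map_mem_maximal_iff C q]
    exact (hX.2.1 ▸ Set.mem_range_self x : π.base x ∈ PrimeSpectrum.zeroLocus (I : Set A)) ha
  haveI := henselianRing_of_absClosed (K := K) J hJ
  obtain ⟨τ, hτ, -⟩ := HensN.existsUnique_fromStalk hX x J (algebraMap A C) le_rfl
    (fun f hf => IsLocalization.map_units C (⟨f, hf⟩ : q.primeCompl))
  let σ : C →+* (X.presheaf.stalk x : Type u) := IsLocalization.lift (M := q.primeCompl)
    (g := Sph.stk π x) fun y => (Sph.isUnit_stk_iff π x y.1).2 y.2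
  have hσ : σ.comp (algebraMap A C) = Sph.stk π x := IsLocalization.lift_comp _
  refine ⟨C, inferInstance, inferInstance, inferInstance, τ, σ, hτ, hσ,
    IsLocalization.injective C (Ideal.primeCompl_le_nonZeroDivisors q), ?_⟩
  haveI := HensN.henselianRing_stalk_of_hasRoots (HensN.hasRoots_of_isSph hX) x
  refine (HensN.existsUnique_fromStalk hX x (HensN.Nz x) (Sph.stk π x)
    (Ideal.map_le_iff_le_comap.2 fun a ha => ?_) (fun f hf => (Sph.isUnit_stk_iff π x f).2 hf)).unique ?_ ?_
  · have h1 : x ∈ dOpen π (1 : A) := by rw [← Sph.isUnit_stk_iff, map_one]; exact isUnit_one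
    rw [Ideal.mem_comap, ← Sph.germ_secMap π h1]
    refine HensN.germ_mem_Nz h1 (HensN.mem_N.2 fun y hy => ?_)
    rw [Sph.germ_secMap]
    exact Sph.not_isUnit_stk hX y ha
  · rw [RingHom.comp_assoc, hτ, hσ]
  · exact RingHom.id_comp _

theorem stk_injective (x : X) : Function.Injective (Sph.stk π x) := by
  obtain ⟨C, _, _, _, τ, σ, hτ, -, hinj, -⟩ := exists_retraction hX x
  exact Function.Injective.of_comp (f := τ) (by rw [← RingHom.coe_comp, hτ]; exact hinj)

theorem exists_frac {W : Opens X} (s : X.presheaf.obj (op W)) {x : X} (hx : x ∈ W) :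
    ∃ (f c d : integralClosure R K) (_ : x ∈ dOpen π f) (hfW : dOpen π f ≤ W) (_ : dOpen π f ≤ dOpen π d),
      ∀ (y : X) (hy : y ∈ dOpen π f),
        X.presheaf.germ W y (hfW hy) s * Sph.stk π y d = Sph.stk π y c := by
  obtain ⟨C, _, _, _, τ, σ, -, hσ, -, hid⟩ := exists_retraction hX x
  obtain ⟨c, ⟨d, hd⟩, hcd⟩ :=
    IsLocalization.exists_mk'_eq (π.base x).asIdeal.primeCompl (τ (X.presheaf.germ W x hx s))
  have hxd : x ∈ dOpen π d := hd
  let W' : Opens X := W ⊓ dOpen π d
  have hxW' : x ∈ W' := ⟨hx, hxd⟩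
  have h1 : X.presheaf.germ W x hx s * Sph.stk π x d = Sph.stk π x c := by
    have h0 := congrArg σ (IsLocalization.mk'_spec C c ⟨d, hd⟩)
    rw [map_mul, hcd] at h0
    refine Eq.trans ?_ (h0.trans (RingHom.congr_fun hσ c))
    exact congrArg₂ (· * ·) (RingHom.congr_fun hid _).symm (RingHom.congr_fun hσ d).symm
  have key : ∀ (a : integralClosure R K) (y : X) (hy : y ∈ W'),
      X.presheaf.germ W' y hy (X.presheaf.map (homOfLE (le_top : W' ≤ ⊤)).op (Sph.glob π a)) = Sph.stk π y a :=
    fun a y hy => X.presheaf.germ_res_apply _ y hy _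
  let s' : (X.presheaf.obj (op W') : Type u) := X.presheaf.map (homOfLE (inf_le_left : W' ≤ W)).op s
  let cd : ∀ _ : integralClosure R K, (X.presheaf.obj (op W') : Type u) := fun a =>
    X.presheaf.map (homOfLE (le_top : W' ≤ ⊤)).op (Sph.glob π a)
  have h2 : X.presheaf.germ W' x hxW' (s' * cd d) = X.presheaf.germ W' x hxW' (cd c) := by
    rw [map_mul, key, key]
    exact (congrArg (· * _) (X.presheaf.germ_res_apply _ x hxW' s)).trans h1
  obtain ⟨W'', hxW'', i₁, i₂, e⟩ := X.presheaf.germ_eq x hxW' hxW' _ _ h2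
  obtain ⟨f, hxf, hfW⟩ := Sph.exists_dOpen hX hxW''
  refine ⟨f, c, d, hxf, hfW.trans (i₁.le.trans inf_le_left), hfW.trans (i₁.le.trans inf_le_right),
    fun y hy => ?_⟩
  have h3 := congrArg (X.presheaf.germ W'' y (hfW hy)) e
  rw [X.presheaf.germ_res_apply, X.presheaf.germ_res_apply, map_mul, key, key] at h3
  exact (congrArg (· * _) (X.presheaf.germ_res_apply _ y (i₁.le (hfW hy)) s)).symm.trans h3

theorem exists_sys {t : R} (hI : I = Ideal.span {algebraMap R (integralClosure R K) t})
    (P : Ideal R → Prop) {U : Opens X} (hcpt : IsCompact (U : Set X))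
    (hU : ∀ x : X, x ∈ U ↔ P ((π.base x).asIdeal.under R)) (s : X.presheaf.obj (op U)) :
    ∃ T : Avg.Sys (K := K) t P, ∀ (x : X) (hx : x ∈ U) (i : T.ι), x ∈ dOpen π (T.f i) →
      X.presheaf.germ U x hx s * Sph.stk π x (T.d i) = Sph.stk π x (T.c i) := by
  choose f c d hxf hfU hfd hfrac using fun x : U => exists_frac hX s x.2
  obtain ⟨S, hS⟩ := hcpt.elim_finite_subcover (fun x : U => (dOpen π (f x) : Set X))
    (fun x => (dOpen π (f x)).2) (fun x hx => Set.mem_iUnion.2 ⟨⟨x, hx⟩, hxf ⟨x, hx⟩⟩)
  have hpt : ∀ q : Ideal (integralClosure R K), q.IsPrime → t ∈ q.under R →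
      ∃ x : X, (π.base x).asIdeal = q := by
    intro q hq ht
    have : (⟨q, hq⟩ : PrimeSpectrum (integralClosure R K)) ∈ Set.range π.base := by
      rw [hX.2.1]
      show (I : Set (integralClosure R K)) ⊆ q
      rw [hI]
      exact SetLike.coe_subset_coe.2 (Ideal.span_le.2 (Set.singleton_subset_iff.2 ht))
    obtain ⟨x, hx⟩ := this
    exact ⟨x, congrArg PrimeSpectrum.asIdeal hx⟩
  refine ⟨{
    ι := {x : U // x ∈ S}
    fin := inferInstance
    f := fun i => f i.1
    c := fun i => c i.1
    d := fun i => d i.1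
    cover := fun q hq ht hP => by
      obtain ⟨x, rfl⟩ := hpt q hq ht
      obtain ⟨i, hi, hxi⟩ := Set.mem_iUnion₂.1 (hS ((hU x).2 hP))
      exact ⟨⟨i, hi⟩, hxi⟩
    d_notMem := fun q hq ht i hi => by
      obtain ⟨x, rfl⟩ := hpt q hq ht
      exact hfd i.1 hi
    compat := fun q hq ht i j hi hj => by
      obtain ⟨x, rfl⟩ := hpt q hq ht
      refine stk_injective hX x ?_
      rw [map_mul, map_mul, ← hfrac i.1 x hi, ← hfrac j.1 x hj]
      ring }, fun x hx i hi => hfrac i.1 x hi⟩

end Groth.Agent.Hens22.AbsClosed
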