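import Mathlib.RingTheory.Henselian
import Mathlib.RingTheory.MvPolynomial.Symmetric.FundamentalTheorem
import Mathlib.RingTheory.Polynomial.Vieta
import Mathlib.FieldTheory.IsAlgClosed.AlgebraicClosure
import Mathlib.RingTheory.LocalRing.ResidueField.Ideal

/-!
Testing nilpotence, radical membership and units on algebraically closed fields; evaluation of
symmetric polynomials in the roots of a monic polynomial.
-/

set_option autoImplicit false
universe u

open Polynomial

namespace Groth.Agent.Hens22

variable {A : Type u} [CommRing A]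

/-- At every prime there is a map to an algebraically closed field with that kernel. -/
theorem exists_algClosed_hom (p : Ideal A) [p.IsPrime] :
    ∃ (k : Type u) (_ : Field k) (_ : IsAlgClosed k) (φ : A →+* k), RingHom.ker φ = p := by
  refine ⟨AlgebraicClosure p.ResidueField, inferInstance, inferInstance,
    (algebraMap p.ResidueField _).comp (algebraMap A p.ResidueField), ?_⟩
  rw [RingHom.ker_comp_of_injective _ (RingHom.injective _)]
  exact Ideal.ker_algebraMap_residueField p

theorem isNilpotent_of_forall_hom {x : A}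
    (h : ∀ (k : Type u) [Field k] [IsAlgClosed k] (φ : A →+* k), φ x = 0) : IsNilpotent x := by
  rw [nilpotent_iff_mem_prime]
  intro p hp
  obtain ⟨k, _, _, φ, hφ⟩ := exists_algClosed_hom p
  rw [← hφ]; exact h k φ

theorem mem_radical_of_forall_hom {I : Ideal A} {x : A}
    (h : ∀ (k : Type u) [Field k] [IsAlgClosed k] (φ : A →+* k), I ≤ RingHom.ker φ → φ x = 0) :
    x ∈ I.radical := by
  rw [Ideal.radical_eq_sInf, Submodule.mem_sInf]
  rintro p ⟨hIp, hp⟩
  obtain ⟨k, _, _, φ, hφ⟩ := exists_algClosed_hom p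
  rw [← hφ]; exact h k φ (hφ ▸ hIp)

theorem isUnit_of_forall_hom {I : Ideal A} (hI : I ≤ Ideal.jacobson ⊥) {x : A}
    (h : ∀ (k : Type u) [Field k] [IsAlgClosed k] (φ : A →+* k), I ≤ RingHom.ker φ → φ x ≠ 0) :
    IsUnit x := by
  by_contra hx
  obtain ⟨m, hm, hxm⟩ := exists_max_ideal_of_mem_nonunits hx
  obtain ⟨k, _, _, φ, hφ⟩ := exists_algClosed_hom m
  refine h k φ ?_ ?_
  · rw [hφ]
    exact hI.trans (sInf_le ⟨bot_le, hm⟩)
  · rwa [← RingHom.mem_ker, hφ]

/-- A monic polynomial over an algebraically closed field, with an enumeration of its roots. -/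
theorem exists_roots_fin {k : Type u} [Field k] [IsAlgClosed k] {f : Polynomial k} (hf : f.Monic) :
    ∃ l : Fin f.natDegree → k, f = ∏ i, (X - C (l i)) := by
  have hc : Multiset.card f.roots = f.natDegree :=
    splits_iff_card_roots.1 (IsAlgClosed.splits f)
  obtain ⟨L, hL⟩ : ∃ L : List k, (L : Multiset k) = f.roots := ⟨_, Multiset.coe_toList _⟩
  have hlen : L.length = f.natDegree := by rw [← hc, ← hL, Multiset.coe_card]
  refine ⟨fun i => L.get (i.cast hlen.symm), ?_⟩
  conv_lhs => rw [← prod_multiset_X_sub_C_of_monic_of_roots_card_eq hf hc]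
  rw [← hL, Multiset.map_coe, Multiset.prod_coe, ← List.ofFn_getElem_eq_map, List.prod_ofFn]
  exact (Fintype.prod_equiv (finCongr hlen.symm) _ _ (fun i => by simp)).symm

/-- A symmetric polynomial in the roots of `f` is a fixed element of the coefficient ring. -/
theorem exists_eval_symmetric (f : Polynomial A) (n : ℕ) (P : MvPolynomial (Fin n) A)
    (hP : P.IsSymmetric) :
    ∃ p : A, ∀ (k : Type u) [Field k] (φ : A →+* k) (l : Fin n → k),
      f.map φ = ∏ i, (X - C (l i)) → φ p = MvPolynomial.eval₂ φ l P := by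
  obtain ⟨Q, hQ⟩ := MvPolynomial.esymmAlgHom_surjective (σ := Fin n) (n := n) (R := A)
    (by simp) ⟨P, hP⟩
  refine ⟨MvPolynomial.aeval (fun j : Fin n => (-1) ^ ((j : ℕ) + 1) * f.coeff (n - ((j : ℕ) + 1))) Q,
    fun k _ φ l hl => ?_⟩
  let _ := φ.toAlgebra
  have hP' : P = MvPolynomial.aeval (fun i : Fin n => MvPolynomial.esymm (Fin n) A (i + 1)) Q := by
    rw [← MvPolynomial.esymmAlgHom_apply, hQ]
  show algebraMap A k _ = MvPolynomial.eval₂ (algebraMap A k) l P
  rw [← MvPolynomial.aeval_def, hP']
  rw [← MvPolynomial.aeval_algebraMap_apply, MvPolynomial.comp_aeval_apply]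
  congr 2
  funext j
  rw [MvPolynomial.aeval_esymm_eq_multiset_esymm, Function.comp_apply, map_mul, map_pow, map_neg,
    map_one, RingHom.algebraMap_toAlgebra, ← Polynomial.coeff_map, hl]
  have hprod : (∏ i, (X - C (l i))) = ((Finset.univ.val.map l).map fun t => X - C t).prod := by
    rw [Multiset.map_map]; rfl
  rw [hprod, Multiset.prod_X_sub_C_coeff _ (by simp)]
  have hj : Multiset.card (Finset.univ.val.map l) - (n - ((j : ℕ) + 1)) = (j : ℕ) + 1 := by
    simp; omega
  rw [hj, ← mul_assoc, ← pow_add, Even.neg_one_pow (by exact ⟨_, rfl⟩), one_mul]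

end Groth.Agent.Hens22
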