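import Groth.Agent.Hens22.Glue
import Groth.Agent.Hens22.PairOps
import Groth.Agent.FlatMor67.FlatMul
import Groth.Prelude.Def_HensSch
import Mathlib.RingTheory.Etale.Weakly

/-!
Sections over the Henselizations of the distinguished opens of a Henselian pair glue.
-/

set_option autoImplicit false
universe u

open TensorProduct HensSch Groth.Agent.Hens22

noncomputable section

namespace Groth.Agent.Hens22.Glue

theorem henselianRing_bot (F : Type u) [CommRing F] : HenselianRing F (⊥ : Ideal F) where
  jac := bot_le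
  is_henselian _ _ a₀ h₁ _ := ⟨a₀, Ideal.mem_bot.1 h₁, by simp⟩

variable {A : Type u} [CommRing A] {I : Ideal A}

/-- `IsHensAway` in terms of the localisation. -/
theorem isPairHens_of_away {f : A} {H : Type u} [CommRing H] [Algebra A H]
    [Algebra (Localization.Away f) H] [IsScalarTower A (Localization.Away f) H]
    (h : IsHensAway A I f H (algebraMap A H)) :
    Hens2.IsPairHenselization (Localization.Away f) (I.map (algebraMap A (Localization.Away f))) H := by
  have hmap : (I.map (algebraMap A (Localization.Away f))).map (algebraMap (Localization.Away f) H) =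
      I.map (algebraMap A H) := by
    rw [Ideal.map_map, ← IsScalarTower.algebraMap_eq]
  refine ⟨hmap ▸ h.2.1, fun C _ J φ hC hJ => ?_⟩
  rw [Ideal.map_map] at hJ
  obtain ⟨k, hk, hku⟩ := h.2.2 C J (φ.comp (algebraMap A (Localization.Away f))) hC hJ
    ((IsLocalization.Away.algebraMap_isUnit (S := Localization.Away f) f).map φ)
  refine ⟨k, IsLocalization.ringHom_ext (Submonoid.powers f) ?_, fun k' hk' => hku k' ?_⟩
  · rw [RingHom.comp_assoc, ← IsScalarTower.algebraMap_eq, hk]
  · show k'.comp (algebraMap A H) = _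
    rw [IsScalarTower.algebraMap_eq A (Localization.Away f) H, ← RingHom.comp_assoc, hk']

/-- A henselization of the localisation is an `IsHensAway`. -/
theorem isHensAway_of_pairHens {f : A} {H : Type u} [CommRing H] [Algebra A H]
    [Algebra (Localization.Away f) H] [IsScalarTower A (Localization.Away f) H]
    (h : Hens2.IsPairHenselization (Localization.Away f) (I.map (algebraMap A (Localization.Away f))) H) :
    IsHensAway A I f H (algebraMap A H) := by
  have hmap : (I.map (algebraMap A (Localization.Away f))).map (algebraMap (Localization.Away f) H) =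
      I.map (algebraMap A H) := by
    rw [Ideal.map_map, ← IsScalarTower.algebraMap_eq]
  refine ⟨?_, hmap ▸ h.1, fun C _ J φ hC hJ hu => ?_⟩
  · rw [IsScalarTower.algebraMap_apply A (Localization.Away f) H]
    exact (IsLocalization.Away.algebraMap_isUnit f).map _
  · let φ' : Localization.Away f →+* C := IsLocalization.Away.lift f hu
    have hφ' : φ'.comp (algebraMap A (Localization.Away f)) = φ := IsLocalization.Away.lift_comp ..
    obtain ⟨k, hk, hku⟩ := h.2 C J φ' hC (by rw [Ideal.map_map, hφ']; exact hJ)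
    refine ⟨k, ?_, fun k' hk' => hku k' (IsLocalization.ringHom_ext (Submonoid.powers f) ?_)⟩
    · show k.comp (algebraMap A H) = φ
      rw [IsScalarTower.algebraMap_eq A (Localization.Away f) H, ← RingHom.comp_assoc, hk, hφ']
    · rw [hφ', RingHom.comp_assoc, ← IsScalarTower.algebraMap_eq]
      exact hk'

variable {f : A} {H : Type u} [CommRing H] [Algebra A H]

theorem away_flat (h : IsHensAway A I f H (algebraMap A H)) : Module.Flat A H := by
  let _ : Algebra (Localization.Away f) H := (IsLocalization.Away.lift f h.1).toAlgebra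
  have : IsScalarTower A (Localization.Away f) H :=
    IsScalarTower.of_algebraMap_eq' (IsLocalization.Away.lift_comp ..).symm
  have := pairHens_flat (isPairHens_of_away h)
  have : Module.Flat A (Localization.Away f) := IsLocalization.flat _ (Submonoid.powers f)
  exact Module.Flat.trans A (Localization.Away f) H

theorem away_hom_ext (h : IsHensAway A I f H (algebraMap A H)) {C : Type u} [CommRing C] [Algebra A C]
    (J : Ideal C) [hC : HenselianRing C J] (hJ : I.map (algebraMap A C) ≤ J) (φ ψ : H →ₐ[A] C) :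
    φ = ψ :=
  AlgHom.coe_ringHom_injective ((h.2.2 C J (algebraMap A C) hC hJ
    (by rw [← φ.commutes]; exact h.1.map φ)).unique φ.comp_algebraMap ψ.comp_algebraMap)

theorem away_exists_hom (h : IsHensAway A I f H (algebraMap A H)) {C : Type u} [CommRing C] [Algebra A C]
    (J : Ideal C) [hC : HenselianRing C J] (hJ : I.map (algebraMap A C) ≤ J)
    (hf : IsUnit (algebraMap A C f)) : Nonempty (H →ₐ[A] C) :=
  let ⟨k, hk, _⟩ := h.2.2 C J (algebraMap A C) hC hJ hf
  ⟨{ k with commutes' := RingHom.congr_fun hk }⟩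

theorem away_hasPt (h : IsHensAway A I f H (algebraMap A H)) (F : Type u) [Field F] [Algebra A F]
    (hI : I ≤ RingHom.ker (algebraMap A F)) (hf : algebraMap A F f ≠ 0) : Nonempty (H →ₐ[A] F) := by
  have := henselianRing_bot F
  exact away_exists_hom h (⊥ : Ideal F) (le_of_eq ((Ideal.map_eq_bot_iff_le_ker _).2 hI)) (IsUnit.mk0 _ hf)

/-- Finitely many elements of `H` come from an etale neighbourhood with unique points over `V(I)`. -/
theorem exists_nbhd_of_away (h : IsHensAway A I f H (algebraMap A H)) {n : ℕ} (x : Fin n → H) :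
    ∃ (B : Type u) (_ : CommRing B) (_ : Algebra A B) (_ : Algebra.Etale A B),
      IsUnit (algebraMap A B f) ∧ UniqPt I B ∧ HasPt I B f ∧
      ∃ (φ : B →ₐ[A] H) (s : Fin n → B), ∀ k, φ (s k) = x k := by
  let L := Localization.Away f
  let _ : Algebra L H := (IsLocalization.Away.lift f h.1).toAlgebra
  have : IsScalarTower A L H :=
    IsScalarTower.of_algebraMap_eq' (IsLocalization.Away.lift_comp ..).symm
  obtain ⟨B, _, _, _, hbij, φ, s, hs⟩ := exists_stage (isPairHens_of_away h) x
  let _ : Algebra A B := ((algebraMap L B).comp (algebraMap A L)).toAlgebra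
  have : IsScalarTower A L B := IsScalarTower.of_algebraMap_eq' rfl
  have : Algebra.Etale A L := Algebra.Etale.of_isLocalizationAway f
  refine ⟨B, inferInstance, inferInstance, Algebra.Etale.comp A L B, ?_, ?_, ?_,
    φ.restrictScalars A, s, hs⟩
  · exact (IsLocalization.Away.algebraMap_isUnit (S := L) f).map (algebraMap L B)
  · intro F _ _ y z hI
    have := henselianRing_bot F
    have hA : (y.toRingHom.comp (algebraMap L B)) = z.toRingHom.comp (algebraMap L B) := by
      refine IsLocalization.ringHom_ext (Submonoid.powers f) ?_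
      rw [RingHom.comp_assoc, RingHom.comp_assoc]
      exact y.comp_algebraMap.trans z.comp_algebraMap.symm
    refine AlgHom.coe_ringHom_injective (ringHom_ext_of_bijective hbij.2 (⊥ : Ideal F) _ _ hA ?_)
    rw [Ideal.map_map, RingHom.comp_assoc, ← IsScalarTower.algebraMap_eq]
    exact le_of_eq ((Ideal.map_eq_bot_iff_le_ker _).2 (by rwa [AlgHom.comp_algebraMap]))
  · intro F _ _ hI hf
    obtain ⟨k⟩ := away_hasPt h F hI hf
    exact ⟨k.comp (φ.restrictScalars A)⟩

variable {M : Type u} [AddCommGroup M] [Module A M]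

/-- An element of a base changed module comes from an etale neighbourhood. -/
theorem exists_nbhd_tensor (h : IsHensAway A I f H (algebraMap A H)) (m : H ⊗[A] M) :
    ∃ (B : Type u) (_ : CommRing B) (_ : Algebra A B) (_ : Algebra.Etale A B),
      IsUnit (algebraMap A B f) ∧ UniqPt I B ∧ HasPt I B f ∧
      ∃ (φ : B →ₐ[A] H) (m' : B ⊗[A] M), push M φ m' = m := by
  obtain ⟨S, hS⟩ := TensorProduct.exists_finset m
  obtain ⟨B, _, _, _, hu, huq, hpt, φ, s, hs⟩ :=
    exists_nbhd_of_away h (fun k : Fin S.card => (S.equivFin.symm k).1.1)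
  refine ⟨B, _, _, ‹_›, hu, huq, hpt, φ, ∑ k : Fin S.card, s k ⊗ₜ[A] (S.equivFin.symm k).1.2, ?_⟩
  rw [map_sum, hS, ← Finset.sum_coe_sort S, ← S.equivFin.symm.sum_comp]
  refine Finset.sum_congr rfl fun k _ => ?_
  simp [push, hs k]

/-- An element of `M` vanishing near every point of `V(I)` is zero. -/
theorem eq_zero_of_forall_away [HenselianRing A I] {ι : Type u} (g : ι → A)
    (hcov : I ⊔ Ideal.span (Set.range g) = ⊤) (Hi : ι → Type u) [∀ i, CommRing (Hi i)]
    [∀ i, Algebra A (Hi i)] (hH : ∀ i, IsHensAway A I (g i) (Hi i) (algebraMap A (Hi i))) (x : M)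
    (hx : ∀ i, (1 : Hi i) ⊗ₜ[A] x = 0) : x = 0 := by
  by_contra hne
  have htop : LinearMap.ker (LinearMap.toSpanSingleton A M x) ≠ ⊤ := fun h => hne (by
    simpa using (LinearMap.mem_ker.1 (h.symm ▸ Submodule.mem_top :
      (1 : A) ∈ LinearMap.ker (LinearMap.toSpanSingleton A M x))))
  obtain ⟨p, hp, hle⟩ := Ideal.exists_le_maximal _ htop
  have hIp : I ≤ p := (HenselianRing.jac (I := I)).trans (sInf_le ⟨bot_le, hp⟩)
  obtain ⟨i, hi⟩ : ∃ i, g i ∉ p := by
    by_contra hc
    push Not at hc
    exact hp.ne_top (top_le_iff.1 (hcov ▸ sup_le hIp (Ideal.span_le.2 (by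
      rintro _ ⟨i, rfl⟩
      exact hc i))))
  let _ : Field (A ⧸ p) := Ideal.Quotient.field p
  obtain ⟨k⟩ := away_hasPt (hH i) (A ⧸ p) (by rwa [Ideal.Quotient.algebraMap_eq, Ideal.mk_ker])
    (by rwa [Ideal.Quotient.algebraMap_eq, ne_eq, Ideal.Quotient.eq_zero_iff_mem])
  have := away_flat (hH i)
  have h1 := Ideal.mem_map_of_mem k.toRingHom (mem_map_ker_toSpanSingleton x (1 : Hi i) (hx i))
  rw [Ideal.map_map, AlgHom.toRingHom_eq_coe, k.comp_algebraMap, Ideal.Quotient.algebraMap_eq,
    map_one, (Ideal.map_eq_bot_iff_le_ker _).2 (hle.trans_eq Ideal.mk_ker.symm), Ideal.mem_bot] at h1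
  exact one_ne_zero h1

/-- Compatible sections over the Henselizations of a cover of `V(I)` glue. -/
theorem exists_glue_away [HenselianRing A I] {ι : Type u} [Fintype ι] (g : ι → A)
    (hcov : I ⊔ Ideal.span (Set.range g) = ⊤) (Hi : ι → Type u) [∀ i, CommRing (Hi i)]
    [∀ i, Algebra A (Hi i)] (hH : ∀ i, IsHensAway A I (g i) (Hi i) (algebraMap A (Hi i)))
    (Hij : ι → ι → Type u) [∀ i j, CommRing (Hij i j)] [∀ i j, Algebra A (Hij i j)]
    (hHij : ∀ i j, IsHensAway A I (g i * g j) (Hij i j) (algebraMap A (Hij i j)))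
    (σ : ∀ i j, Hi i →ₐ[A] Hij i j) (τ : ∀ i j, Hi j →ₐ[A] Hij i j) (m : ∀ i, Hi i ⊗[A] M)
    (hm : ∀ i j, push M (σ i j) (m i) = push M (τ i j) (m j)) :
    ∃ x : M, ∀ i, (1 : Hi i) ⊗ₜ[A] x = m i := by
  choose B hB₁ hB₂ hB₃ hu huq hpt φ m' hm' using fun i => exists_nbhd_tensor (hH i) (m i)
  have hag : ∀ i j, Agree I (m' i) (m' j) := by
    intro i j F _ _ χ hI
    let T := B i ⊗[A] B j
    let ρ : T →ₐ[A] Hij i j := Algebra.TensorProduct.lift ((σ i j).comp (φ i)) ((τ i j).comp (φ j))
      (fun _ _ => Commute.all _ _)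
    let _ : Algebra T (Hij i j) := ρ.toRingHom.toAlgebra
    have : IsScalarTower A T (Hij i j) := IsScalarTower.of_algebraMap_eq fun a => (ρ.commutes a).symm
    have : Module.Flat T (Hij i j) := by
      have := away_flat (hHij i j)
      have : Algebra.Etale A T := Algebra.Etale.comp A (B i) T
      exact FlatMor67.flat_of_flat_lmul' (Algebra.WeaklyEtale.flat_lmul' A T) (Hij i j)
    have hgu : algebraMap A F (g i * g j) ≠ 0 := by
      rw [map_mul]
      refine mul_ne_zero ?_ ?_
      · rw [← (χ.comp Algebra.TensorProduct.includeLeft).commutes]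
        exact ((hu i).map (χ.comp Algebra.TensorProduct.includeLeft)).ne_zero
      · rw [← (χ.comp Algebra.TensorProduct.includeRight).commutes]
        exact ((hu j).map (χ.comp Algebra.TensorProduct.includeRight)).ne_zero
    obtain ⟨k⟩ := away_hasPt (hHij i j) F hI hgu
    have hk : k.comp ρ = χ := Algebra.TensorProduct.ext
      (huq i F _ _ hI) (huq j F _ _ hI)
    refine kill_descend (T' := Hij i j) χ.toRingHom k.toRingHom (fun t => DFunLike.congr_fun hk t) ?_
    refine ⟨1, by simp, ?_⟩
    rw [one_smul, push_diff, sub_eq_zero]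
    have e1 : (IsScalarTower.toAlgHom A T (Hij i j)).comp Algebra.TensorProduct.includeRight =
        (τ i j).comp (φ j) := AlgHom.ext fun b => by
      show ρ (1 ⊗ₜ b) = _
      rw [Algebra.TensorProduct.lift_tmul, map_one, one_mul]
    have e2 : (IsScalarTower.toAlgHom A T (Hij i j)).comp Algebra.TensorProduct.includeLeft =
        (σ i j).comp (φ i) := AlgHom.ext fun b => by
      show ρ (b ⊗ₜ 1) = _
      rw [Algebra.TensorProduct.lift_tmul, map_one, mul_one]
    rw [e1, e2, ← push_comp, ← push_comp, hm', hm', hm]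
  obtain ⟨x, hx⟩ := exists_glue g B hcov hu hpt huq m' hag
  refine ⟨x, fun i => ?_⟩
  obtain ⟨s, hs, h0⟩ := hx i
  have h1 := congrArg (push M (φ i)) h0
  rw [push_smul, map_sub, map_zero, hm'] at h1
  have := (hH i).2.1
  have hus : IsUnit (φ i s) := by
    refine isUnit_of_map_isUnit (I := I.map (algebraMap A (Hi i))) HenselianRing.jac ?_
    have h2 : φ i s - 1 ∈ I.map (algebraMap A (Hi i)) := by
      have := Ideal.mem_map_of_mem (φ i).toRingHom (mem_oneAdd.1 hs)
      rwa [Ideal.map_map, AlgHom.toRingHom_eq_coe, (φ i).comp_algebraMap, map_sub, map_one] at this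
    rw [Ideal.Quotient.eq.2 h2, map_one]
    exact isUnit_one
  rw [hus.smul_eq_zero, sub_eq_zero] at h1
  simpa [push] using h1

end Groth.Agent.Hens22.Glue
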