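import Groth.Agent.Hens22.HfpLimit
import Groth.Agent.Hens22.GlueHens

/-!
Henselized localisations along a directed system of henselian pairs.
-/

set_option autoImplicit false
universe u

noncomputable section

namespace Groth.Agent.Hens22.AwayLim

open HensSch

variable {A : Type u} [CommRing A] (I : Ideal A) {κ : Type u} [Preorder κ]
  {Ra : κ → Type u} [∀ a, CommRing (Ra a)] [∀ a, Algebra A (Ra a)]
  (t : ∀ a b : κ, a ≤ b → (Ra a →+* Ra b)) {a₀ : κ}

/-- The stages above `a₀`. -/
abbrev K (a₀ : κ) : Type u := {a : κ // a₀ ≤ a}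

instance [IsDirectedOrder κ] : IsDirectedOrder (K a₀) :=
  ⟨fun a b => by
    obtain ⟨c, h1, h2⟩ := exists_ge_ge a.1 b.1
    exact ⟨⟨c, a.2.trans h1⟩, h1, h2⟩⟩

instance : Nonempty (K a₀) := ⟨⟨a₀, le_rfl⟩⟩

/-- The element at a stage. -/
abbrev cc (c : Ra a₀) (a : K a₀) : Ra a.1 := t a₀ a.1 a.2 c

theorem cc_map [DirectedSystem Ra (fun a b h => t a b h)] (c : Ra a₀) {a b : K a₀} (h : a ≤ b) :
    t a.1 b.1 h (cc t c a) = cc t c b := Hens22.t_trans a.2 h c

/-- The localisation at a stage. -/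
abbrev Loc (c : Ra a₀) (a : K a₀) : Type u := Localization.Away (cc t c a)

/-- The henselized localisation at a stage. -/
def G (c : Ra a₀) (a : K a₀) : Type u :=
  Henz21.H (Loc t c a) (Loc t c a ⧸ I.map (algebraMap A (Loc t c a)))

instance (c : Ra a₀) (a : K a₀) : CommRing (G I t c a) :=
  inferInstanceAs (CommRing (Henz21.H (Loc t c a) (Loc t c a ⧸ I.map (algebraMap A (Loc t c a)))))

instance instAlgLoc (c : Ra a₀) (a : K a₀) : Algebra (Loc t c a) (G I t c a) :=
  inferInstanceAs (Algebra (Loc t c a) (Henz21.H (Loc t c a) (Loc t c a ⧸ I.map (algebraMap A (Loc t c a)))))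

instance instAlgRa (c : Ra a₀) (a : K a₀) : Algebra (Ra a.1) (G I t c a) :=
  ((algebraMap (Loc t c a) (G I t c a)).comp (algebraMap (Ra a.1) (Loc t c a))).toAlgebra

instance instAlgA (c : Ra a₀) (a : K a₀) : Algebra A (G I t c a) :=
  ((algebraMap (Ra a.1) (G I t c a)).comp (algebraMap A (Ra a.1))).toAlgebra

instance (c : Ra a₀) (a : K a₀) : IsScalarTower (Ra a.1) (Loc t c a) (G I t c a) :=
  .of_algebraMap_eq fun _ => rfl

instance (c : Ra a₀) (a : K a₀) : IsScalarTower A (Ra a.1) (G I t c a) :=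
  .of_algebraMap_eq fun _ => rfl

theorem hAway (c : Ra a₀) (a : K a₀) :
    IsHensAway (Ra a.1) (I.map (algebraMap A (Ra a.1))) (cc t c a) (G I t c a)
      (algebraMap (Ra a.1) (G I t c a)) := by
  refine Glue.isHensAway_of_pairHens ?_
  rw [Ideal.map_map, ← IsScalarTower.algebraMap_eq]
  exact isPairHenselization_H _

instance hensG (c : Ra a₀) (a : K a₀) :
    HenselianRing (G I t c a) (I.map (algebraMap A (G I t c a))) := by
  have := (hAway I t c a).2.1
  rwa [Ideal.map_map, ← IsScalarTower.algebraMap_eq] at this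

/-- The map from a stage. -/
abbrev iota (c : Ra a₀) (a : K a₀) : Ra a.1 →ₐ[A] G I t c a := IsScalarTower.toAlgHom A (Ra a.1) _

theorem isUnit_iota (c : Ra a₀) (a : K a₀) : IsUnit (iota I t c a (cc t c a)) := (hAway I t c a).1

variable {I t}

theorem existsUnique_lift (c : Ra a₀) (a : K a₀) {C : Type u} [CommRing C] [Algebra A C]
    [hC : HenselianRing C (I.map (algebraMap A C))] (f : Ra a.1 →ₐ[A] C) (hf : IsUnit (f (cc t c a))) :
    ∃! g : G I t c a →ₐ[A] C, g.comp (iota I t c a) = f := by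
  obtain ⟨k, hk, hku⟩ := (hAway I t c a).2.2 C _ f.toRingHom hC (by
    rw [Ideal.map_map, AlgHom.toRingHom_eq_coe, f.comp_algebraMap]) hf
  refine ⟨{ k with commutes' := fun x => (RingHom.congr_fun hk _).trans (f.commutes x) },
    AlgHom.coe_ringHom_injective hk, fun g hg => AlgHom.coe_ringHom_injective (hku g ?_)⟩
  exact congrArg AlgHom.toRingHom hg

theorem hom_ext {c : Ra a₀} {a : K a₀} {C : Type u} [CommRing C] [Algebra A C]
    [HenselianRing C (I.map (algebraMap A C))] {g g' : G I t c a →ₐ[A] C}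
    (h : ∀ x, g (iota I t c a x) = g' (iota I t c a x)) : g = g' :=
  (existsUnique_lift c a (g.comp (iota I t c a)) ((isUnit_iota I t c a).map g)).unique rfl
    (AlgHom.ext fun x => (h x).symm)

variable [DirectedSystem Ra (fun a b h => t a b h)]
  (ht : ∀ (a b : κ) (h : a ≤ b), (t a b h).comp (algebraMap A (Ra a)) = algebraMap A (Ra b))

/-- The transition map as an algebra map. -/
def tA {a b : κ} (h : a ≤ b) : Ra a →ₐ[A] Ra b :=
  { t a b h with commutes' := fun x => RingHom.congr_fun (ht a b h) x }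

variable (I) in
/-- The transition map of henselized localisations. -/
def T (c : Ra a₀) (a b : K a₀) (h : a ≤ b) : G I t c a →ₐ[A] G I t c b :=
  (existsUnique_lift c a ((iota I t c b).comp (tA ht (a := a.1) (b := b.1) h)) (by
    show IsUnit (iota I t c b (t a.1 b.1 h (cc t c a)))
    rw [cc_map t c h]
    exact isUnit_iota I t c b)).exists.choose

theorem T_iota (c : Ra a₀) {a b : K a₀} (h : a ≤ b) (x : Ra a.1) :
    T I ht c a b h (iota I t c a x) = iota I t c b (t a.1 b.1 h x) :=
  DFunLike.congr_fun (existsUnique_lift (I := I) c a ((iota I t c b).comp (tA ht (a := a.1) (b := b.1) h))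
    (by
      show IsUnit (iota I t c b (t a.1 b.1 h (cc t c a)))
      rw [cc_map t c h]
      exact isUnit_iota I t c b)).exists.choose_spec x

variable (I) in
/-- The transition map as a ring map. -/
abbrev Tr (c : Ra a₀) (a b : K a₀) (h : a ≤ b) : G I t c a →+* G I t c b := (T I ht c a b h).toRingHom

instance instDS (c : Ra a₀) : DirectedSystem (G I t c) (fun a b h => Tr I ht c a b h) := by
  refine ⟨fun a x => DFunLike.congr_fun (hom_ext (g := T I ht c a a le_rfl) (g' := AlgHom.id A _) fun y => ?_) x,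
    fun {k j i} h12 h23 x => DFunLike.congr_fun (hom_ext (g := (T I ht c _ _ h23).comp (T I ht c _ _ h12))
      (g' := T I ht c _ _ (h12.trans h23)) fun y => ?_) x⟩
  · rw [T_iota, DirectedSystem.map_self (f := fun a b h => t a b h)]
    rfl
  · rw [AlgHom.comp_apply, T_iota, T_iota, T_iota, Hens22.t_trans (t := t)]

theorem hTr (c : Ra a₀) (a b : K a₀) (h : a ≤ b) :
    (Tr I ht c a b h).comp (algebraMap A (G I t c a)) = algebraMap A (G I t c b) :=
  (T I ht c a b h).comp_algebraMap

variable (I) in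
/-- Restriction to a smaller open. -/
def res (c d : Ra a₀) (hd : c ∣ d) (a : K a₀) : G I t c a →ₐ[A] G I t d a :=
  (existsUnique_lift c a (iota I t d a) (isUnit_of_dvd_unit (map_dvd _ (map_dvd _ hd))
    (isUnit_iota I t d a))).exists.choose

omit [DirectedSystem Ra (fun a b h => t a b h)] in
theorem res_iota (c d : Ra a₀) (hd : c ∣ d) (a : K a₀) (x : Ra a.1) :
    res I c d hd a (iota I t c a x) = iota I t d a x :=
  DFunLike.congr_fun (existsUnique_lift (I := I) c a (iota I t d a)
    (isUnit_of_dvd_unit (map_dvd _ (map_dvd _ hd)) (isUnit_iota I t d a))).exists.choose_spec x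

theorem res_T (c d : Ra a₀) (hd : c ∣ d) {a b : K a₀} (h : a ≤ b) (y : G I t c a) :
    res I c d hd b (T I ht c a b h y) = T I ht d a b h (res I c d hd a y) :=
  DFunLike.congr_fun (hom_ext (g := (res I c d hd b).comp (T I ht c a b h))
    (g' := (T I ht d a b h).comp (res I c d hd a)) fun x => by
      rw [AlgHom.comp_apply, AlgHom.comp_apply, T_iota, res_iota, res_iota, T_iota]) y

variable [IsDirectedOrder κ]

variable (I) in
/-- The limit of the henselized localisations. -/
abbrev Lc (c : Ra a₀) : Type u := DirectLimit (G I t c) (Tr I ht c)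

instance instAlgLc (c : Ra a₀) : Algebra A (Lc I ht c) :=
  ((DirectLimit.Ring.of (G I t c) (Tr I ht c) ⟨a₀, le_rfl⟩).comp (algebraMap A _)).toAlgebra

theorem halgLc (c : Ra a₀) (a : K a₀) (x : A) :
    algebraMap A (Lc I ht c) x = DirectLimit.Ring.of (G I t c) (Tr I ht c) a (algebraMap A _ x) := by
  show DirectLimit.Ring.of (G I t c) (Tr I ht c) ⟨a₀, le_rfl⟩ _ = _
  rw [← Hens22.of_t (t := Tr I ht c) (⟨a₀, le_rfl⟩ : K a₀) a a.2]
  exact congrArg _ ((T I ht c _ a a.2).commutes x)

instance hensLc (c : Ra a₀) : HenselianRing (Lc I ht c) (I.map (algebraMap A (Lc I ht c))) :=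
  Hens22.henselianRing_directLimit I (hTr ht c) (halgLc ht c)

variable (I) in
/-- The map of a stage to the limit. -/
def ofA (c : Ra a₀) (a : K a₀) : G I t c a →ₐ[A] Lc I ht c :=
  { DirectLimit.Ring.of (G I t c) (Tr I ht c) a with commutes' := fun x => (halgLc ht c a x).symm }

theorem ofA_T (c : Ra a₀) {a b : K a₀} (h : a ≤ b) (y : G I t c a) :
    ofA I ht c b (T I ht c a b h y) = ofA I ht c a y := Hens22.of_t (t := Tr I ht c) a b h y

theorem ofA_iota (c : Ra a₀) {a b : K a₀} (h : a ≤ b) (x : Ra a.1) :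
    ofA I ht c b (iota I t c b (t a.1 b.1 h x)) = ofA I ht c a (iota I t c a x) := by
  rw [← T_iota ht c h, ofA_T]

theorem eventually_eq (c : Ra a₀) {a : K a₀} (y y' : G I t c a)
    (h : ofA I ht c a y = ofA I ht c a y') :
    ∃ b, ∃ hab : a ≤ b, T I ht c a b hab y = T I ht c a b hab y' :=
  (Hens22.dirLim_eq_iff (t := Tr I ht c) y y').1 h

theorem T_trans (c : Ra a₀) {a b d : K a₀} (h1 : a ≤ b) (h2 : b ≤ d) (y : G I t c a) :
    T I ht c b d h2 (T I ht c a b h1 y) = T I ht c a d (h1.trans h2) y :=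
  Hens22.t_trans (t := Tr I ht c) h1 h2 y

section u

variable [Nonempty κ] [Algebra A (DirectLimit Ra t)]
  (halg : ∀ (a : κ) (x : A), algebraMap A (DirectLimit Ra t) x =
      DirectLimit.Ring.of Ra t a (algebraMap A (Ra a) x))

variable (I) in
include halg in
theorem exists_u (c : Ra a₀) : ∃ u : DirectLimit Ra t →ₐ[A] Lc I ht c, ∀ (a : K a₀) (x : Ra a.1),
    u (DirectLimit.Ring.of Ra t a.1 x) = ofA I ht c a (iota I t c a x) := by
  classical
  choose b hb1 hb2 using fun a : κ => exists_ge_ge a₀ a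
  let f : ∀ a, Ra a →+* Lc I ht c := fun a =>
    ((ofA I ht c ⟨b a, hb1 a⟩).comp (iota I t c ⟨b a, hb1 a⟩)).toRingHom.comp (t a (b a) (hb2 a))
  have hf : ∀ (a : κ) (e : K a₀) (h : a ≤ e.1) (x : Ra a),
      f a x = ofA I ht c e (iota I t c e (t a e.1 h x)) := by
    intro a e h x
    obtain ⟨d, hd1, hd2⟩ := exists_ge_ge (⟨b a, hb1 a⟩ : K a₀) e
    show ofA I ht c ⟨b a, hb1 a⟩ (iota I t c ⟨b a, hb1 a⟩ (t a (b a) (hb2 a) x)) = _
    rw [← ofA_iota ht c hd1, ← ofA_iota ht c hd2, Hens22.t_trans (t := t), Hens22.t_trans (t := t)]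
  let u : DirectLimit Ra t →+* Lc I ht c := DirectLimit.Ring.lift Ra t (Lc I ht c) f (by
    intro a a' h x
    rw [hf a ⟨b a', hb1 a'⟩ (h.trans (hb2 a')) x, ← Hens22.t_trans h (hb2 a')]
    rfl)
  have hu : ∀ (a : κ) (x : Ra a), u (DirectLimit.Ring.of Ra t a x) = f a x := fun a x => rfl
  refine ⟨{ u with commutes' := fun x => ?_ }, fun a x => ?_⟩
  · show u _ = _
    rw [halg a₀ x, hu, hf a₀ ⟨a₀, le_rfl⟩ le_rfl,
      DirectedSystem.map_self (f := fun a b h => t a b h)]
    exact (ofA I ht c _).commutes x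
  · show u _ = _
    rw [hu, hf a.1 a le_rfl, DirectedSystem.map_self (f := fun a b h => t a b h)]

end u

end Groth.Agent.Hens22.AwayLim
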