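import Mathlib.RingTheory.Etale.Basic
import Mathlib.RingTheory.Localization.Away.Basic
import Mathlib.RingTheory.Spectrum.Prime.Basic
import Mathlib.RingTheory.Ideal.Quotient.Operations
import Mathlib.RingTheory.RingHom.Etale

/-!
Principal opens containing a closed subset `V(J)`.
-/

set_option autoImplicit false
universe u

namespace Groth.Agent.Hens22

variable {R : Type u} [CommRing R] (J : Ideal R) (f : R)

/-- Localising at an element congruent to `1` modulo `J` does not change `R/J`. -/
theorem quotientMap_away_bijective (hf : 1 - f ∈ J) {R' : Type u} [CommRing R'] [Algebra R R']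
    [IsLocalization.Away f R'] :
    Function.Bijective (Ideal.quotientMap (J.map (algebraMap R R')) (algebraMap R R')
      Ideal.le_comap_map) := by
  have hmk : Ideal.Quotient.mk J f = 1 :=
    (Ideal.Quotient.eq.2 hf).symm.trans (map_one _)
  refine ⟨?_, fun z => ?_⟩
  · rw [injective_iff_map_eq_zero]
    intro x hx
    obtain ⟨a, rfl⟩ := Ideal.Quotient.mk_surjective x
    rw [Ideal.quotientMap_mk, Ideal.Quotient.eq_zero_iff_mem,
      IsLocalization.algebraMap_mem_map_algebraMap_iff (Submonoid.powers f)] at hx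
    obtain ⟨m, ⟨n, rfl⟩, hm⟩ := hx
    rw [← Ideal.Quotient.eq_zero_iff_mem, map_mul] at hm
    simpa [map_pow, hmk] using hm
  · obtain ⟨y, rfl⟩ := Ideal.Quotient.mk_surjective z
    obtain ⟨⟨a, ⟨m, n, rfl⟩⟩, hy⟩ := IsLocalization.surj (Submonoid.powers f) y
    refine ⟨Ideal.Quotient.mk J a, ?_⟩
    have hfn : Ideal.Quotient.mk (J.map (algebraMap R R')) (algebraMap R R' (f ^ n)) = 1 := by
      rw [← Ideal.quotientMap_mk (H := Ideal.le_comap_map), map_pow, hmk, one_pow, map_one]
    rw [Ideal.quotientMap_mk, ← hy, map_mul, hfn, mul_one]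

/-- A family of principal opens covering `V(J)` contains `V(J)` in a principal open `D(f)`,
`f ≡ 1 mod J`, covered by the family. -/
theorem exists_away_of_cover (S : Set R)
    (h : ∀ p : Ideal R, p.IsMaximal → J ≤ p → ∃ g ∈ S, g ∉ p) :
    ∃ f : R, 1 - f ∈ J ∧ ∀ p : Ideal R, p.IsPrime → f ∉ p → ∃ g ∈ S, g ∉ p := by
  have htop : J ⊔ Ideal.span S = ⊤ := by
    by_contra hne
    obtain ⟨p, hp, hle⟩ := Ideal.exists_le_maximal _ hne
    obtain ⟨g, hg, hgp⟩ := h p hp (le_sup_left.trans hle)
    exact hgp (hle (Ideal.mem_sup_right (Ideal.subset_span hg)))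
  obtain ⟨j, hj, f, hf, hjf⟩ := Submodule.mem_sup.1 ((Ideal.eq_top_iff_one _).1 htop)
  refine ⟨f, ?_, fun p hp hfp => ?_⟩
  · rw [← hjf, add_sub_cancel_right]
    exact hj
  · by_contra! hall
    exact hfp (Ideal.span_le.2 hall hf)

end Groth.Agent.Hens22
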