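import Groth.Agent.Hens22.HensCoh
import Groth.Agent.FF71.Main
import Groth.Agent.Crv77.Sections
import Groth.Agent.QC70.DevissageAux

/-!
Clopen subsets of the closed fibre of a proper scheme over a Henselian pair lift.
-/

set_option autoImplicit false
set_option maxSynthPendingDepth 6
set_option backward.isDefEq.respectTransparency.types false
universe u

noncomputable section

open AlgebraicGeometry CategoryTheory TopologicalSpace Opposite TensorProduct
open Groth.Agent.QC70 (germM germM_res germM_exist germM_smul stalkMapM stalkMapM_germ unitMod toUnit)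
open Groth.Agent.Hens22.StalkHens (cA Ix)

namespace Groth.Agent.Hens22.ClopenLift

variable {A : Type u} [CommRing A] {Y : Scheme.{u}} [Y.Over (Spec (CommRingCat.of A))] (I : Ideal A)

/-- The closed fibre. -/
abbrev Z : Set Y := (Y ↘ Spec (CommRingCat.of A)).base ⁻¹' PrimeSpectrum.zeroLocus (I : Set A)

theorem isUnit_cA_iff (x : Y) (a : A) :
    IsUnit (cA Y x a) ↔ a ∉ ((Y ↘ Spec (CommRingCat.of A)).base x).asIdeal := by
  let f := Y ↘ Spec (CommRingCat.of A)
  have h1 : IsUnit ((Spec (CommRingCat.of A)).presheaf.germ ⊤ (f.base x)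
      trivial ((Scheme.ΓSpecIso (CommRingCat.of A)).inv a)) ↔ a ∉ (f.base x).asIdeal := by
    refine (((Spec (CommRingCat.of A)).mem_basicOpen _ _ _).symm).trans ?_
    rw [show (Spec (CommRingCat.of A)).basicOpen ((Scheme.ΓSpecIso (CommRingCat.of A)).inv a) =
      PrimeSpectrum.basicOpen a from basicOpen_eq_of_affine (R := CommRingCat.of A) a]
    rfl
  rw [← h1]
  have h2 : cA Y x a = f.stalkMap x ((Spec (CommRingCat.of A)).presheaf.germ ⊤ (f.base x)
      trivial ((Scheme.ΓSpecIso (CommRingCat.of A)).inv a)) := by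
    show Y.presheaf.germ ⊤ x trivial (FF71.rA A Y ⊤ a) = _
    rw [StalkHens.rA_top_apply, Scheme.Hom.germ_stalkMap_apply]
    rfl
  rw [h2]
  exact ⟨isUnit_of_map_unit _ _, fun h => h.map _⟩

theorem mem_Z_iff (x : Y) : x ∈ Z I ↔ ∀ a ∈ I, ¬ IsUnit (cA Y x a) := by
  show (I : Set A) ⊆ _ ↔ _
  refine forall₂_congr fun a _ => ?_
  rw [isUnit_cA_iff]
  exact not_not.symm

theorem Ix_le {x : Y} (hx : x ∈ Z I) : Ix I x ≤ IsLocalRing.maximalIdeal _ :=
  Ideal.map_le_iff_le_comap.2 fun a ha => (IsLocalRing.mem_maximalIdeal _).2 ((mem_Z_iff I x).1 hx a ha)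

theorem stalk_eq_zero (F : Y.Modules) (n : ℕ) {x : Y} (hx : x ∉ Z I)
    (m : (Formal.modPow I n F).presheaf.stalk x) : m = 0 := by
  rw [mem_Z_iff] at hx
  push Not at hx
  obtain ⟨a, haI, hu⟩ := hx
  have h0 := HensCoh.stalk_killed I F n x (cA Y x a ^ n) (Ideal.pow_mem_pow (Ideal.mem_map_of_mem _ haI) n) m
  exact ((hu.pow n).smul_eq_zero).1 h0

/-- The stalk of the structure module is the local ring. -/
theorem exists_toRing (x : Y) : ∃ ψ : (unitMod Y).presheaf.stalk x →ₗ[Y.presheaf.stalk x] Y.presheaf.stalk x,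
    ∀ (W : Y.Opens) (hx : x ∈ W) (r : Γ(Y, W)), ψ (germM (unitMod Y) W x hx (toUnit r)) = Y.presheaf.germ W x hx r := by
  obtain ⟨ψ, hψ⟩ := PullFlat.exists_ofGermM (M := unitMod Y) (x := x) (N := Y.presheaf.stalk x)
    (fun W hx r => Y.presheaf.germ W x hx (show Γ(Y, W) from r))
    (fun U V h hx r => by
      show Y.presheaf.germ V x hx (QC70.resO Y h (show Γ(Y, U) from r)) = _
      exact QC70.germ_resO h hx _)
    (fun U hx r t => map_add _ _ _) (fun U hx r t => map_mul _ _ _)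
  exact ⟨ψ, fun W hx r => hψ W hx (toUnit r)⟩

variable [IsNoetherianRing A] [IsProper (Y ↘ Spec (CommRingCat.of A))]

theorem finite_sections : (FF71.rA A Y ⊤).Finite := by
  haveI := LocallyOfFiniteType.isLocallyNoetherian (Y ↘ Spec (CommRingCat.of A))
  haveI : Module.Finite A (Coh.HH Y (unitMod Y) 0) :=
    Serre71.finite_hh_of_isProper A (unitMod Y) QC70.isCoh_unit 0
  letI := (FF71.rA A Y ⊤).toAlgebra
  show Module.Finite A Γ(Y, ⊤)
  let e : Coh.HH Y (unitMod Y) 0 →ₗ[A] Γ(Y, ⊤) :=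
    { toFun := fun h => Crv77.sec (unitMod Y) h
      map_add' := fun h h' => map_add (Crv77.sec (unitMod Y)) h h'
      map_smul' := fun a h => by
        rw [RingHom.id_apply, Algebra.smul_def]
        refine (Crv77.sec_smul A (unitMod Y) a h).trans ?_
        show (show Γ(Y, ⊤) from Coh.toGlobal (Y ↘ Spec (CommRingCat.of A)) a) * _ = FF71.rA A Y ⊤ a * _
        rw [StalkHens.rA_top_apply]
        rfl }
  exact Module.Finite.of_surjective e (Crv77.sec (unitMod Y)).surjective

theorem closed_mem_Z [HenselianRing Γ(Y, ⊤) (I.map (FF71.rA A Y ⊤))] {y : Y}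
    (hy : IsClosed ({y} : Set Y)) : y ∈ Z I := by
  let f := Y ↘ Spec (CommRingCat.of A)
  have hcl : IsClosed ({f.base y} : Set (PrimeSpectrum A)) := by
    have := f.isClosedMap _ hy
    rwa [Set.image_singleton] at this
  have hm := (PrimeSpectrum.isClosed_singleton_iff_isMaximal _).1 hcl
  letI := (FF71.rA A Y ⊤).toAlgebra
  haveI : Module.Finite A Γ(Y, ⊤) := finite_sections
  let P : Ideal Γ(Y, ⊤) := (IsLocalRing.maximalIdeal _).comap (Y.presheaf.germ ⊤ y trivial).hom
  haveI : P.IsPrime := inferInstance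
  have hunder : P.comap (algebraMap A Γ(Y, ⊤)) = (f.base y).asIdeal := by
    ext a
    show cA Y y a ∈ IsLocalRing.maximalIdeal _ ↔ _
    rw [IsLocalRing.mem_maximalIdeal, mem_nonunits_iff, isUnit_cA_iff, not_not]
  haveI hP : P.IsMaximal :=
    Ideal.isMaximal_of_isIntegral_of_isMaximal_comap P (hunder.symm ▸ hm)
  rw [mem_Z_iff]
  intro a ha hu
  have h1 := HenselianRing.jac (I := I.map (FF71.rA A Y ⊤)) (Ideal.mem_map_of_mem _ ha)
  rw [Ideal.jacobson, Submodule.mem_sInf] at h1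
  exact (IsLocalRing.mem_maximalIdeal _).1 (h1 P ⟨bot_le, hP⟩) hu

theorem exists_approx_idempotent {V : Set Y} (hV : V ⊆ Z I)
    (ho : ∃ O : Set Y, IsOpen O ∧ O ∩ Z I = V) (hc : ∃ O : Set Y, IsOpen O ∧ O ∩ Z I = Z I \ V) :
    ∃ b : Γ(Y, ⊤), b * b - b ∈ I.map (FF71.rA A Y ⊤) ∧
      ∀ x ∈ Z I, (IsUnit (Y.presheaf.germ ⊤ x trivial b) ↔ x ∈ V) := by
  classical
  haveI := LocallyOfFiniteType.isLocallyNoetherian (Y ↘ Spec (CommRingCat.of A))
  let M := unitMod Y
  have hM : Coh.IsCoh M := QC70.isCoh_unit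
  haveI := hM.1
  let one : ∀ n, Γ(Formal.modPow I n M, ⊤) := fun n => (Formal.modPowπ I n M).app ⊤ (toUnit 1)
  let e : ∀ n, ∀ x : Y, (Formal.modPow I n M).presheaf.stalk x := fun n x =>
    if x ∈ V then germM _ ⊤ x trivial (one n) else 0
  have hglue : ∀ n, ∃ s : Γ(Formal.modPow I n M, ⊤), ∀ x, germM _ ⊤ x trivial s = e n x := by
    intro n
    refine HensCoh.exists_glue (e n) fun x => ?_
    obtain ⟨O₁, hO₁, hOV⟩ := ho
    obtain ⟨O₂, hO₂, hOW⟩ := hc
    by_cases hxZ : x ∈ Z I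
    · by_cases hxV : x ∈ V
      · refine ⟨⟨O₁, hO₁⟩, (hOV.symm ▸ hxV : x ∈ O₁ ∩ Z I).1, QC70.res _ le_top (one n), fun x' hx' => ?_⟩
        rw [germM_res le_top hx']
        show _ = if x' ∈ V then _ else _
        by_cases hz : x' ∈ Z I
        · rw [if_pos (hOV ▸ ⟨hx', hz⟩ : x' ∈ V)]
        · rw [stalk_eq_zero I M n hz (germM _ _ x' _ (one n)), if_neg fun h => hz (hV h)]
      · refine ⟨⟨O₂, hO₂⟩, (hOW.symm ▸ (⟨hxZ, hxV⟩ : x ∈ Z I \ V) : x ∈ O₂ ∩ Z I).1, 0, fun x' hx' => ?_⟩
        rw [QC70.germM_zero]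
        show _ = if x' ∈ V then _ else _
        by_cases hz : x' ∈ Z I
        · rw [if_neg (hOW ▸ ⟨hx', hz⟩ : x' ∈ Z I \ V).2]
        · rw [if_neg fun h => hz (hV h)]
    · refine ⟨⟨(Z I)ᶜ, (IsClosed.preimage (Scheme.Hom.continuous _) (PrimeSpectrum.isClosed_zeroLocus _)).isOpen_compl⟩,
        hxZ, 0, fun x' hx' => ?_⟩
      rw [QC70.germM_zero]
      show _ = if x' ∈ V then _ else _
      rw [if_neg fun h => hx' (hV h)]
  choose s hs using hglue
  let xn : ∀ n, Formal.HHmodPow I M 0 n := fun n => (Crv77.sec _).symm (s (n + 1))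
  have hcompat : ∀ n, (Formal.modPowTrans I n M).app ⊤ (s (n + 1)) = s n := by
    intro n
    refine QC70.section_ext _ _ _ fun x hx => ?_
    have key : germM (Formal.modPow I n M) ⊤ x trivial ((Formal.modPowTrans I n M).app ⊤ (s (n + 1))) =
        germM (Formal.modPow I n M) ⊤ x trivial (s n) := by
      rw [← stalkMapM_germ, hs, hs]
      show stalkMapM _ x (if x ∈ V then _ else 0) = if x ∈ V then _ else 0
      split_ifs
      · rw [stalkMapM_germ]
        refine congrArg (germM _ ⊤ x trivial) ?_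
        exact congrArg (fun k => k.app ⊤ (toUnit (1 : Γ(Y, ⊤)))) (Formal.modPowπ_trans I n M)
      · exact map_zero _
    obtain ⟨W, hW, hxW, h0⟩ := QC70.germM_eq_zero
      (M := Formal.modPow I n M) (hx := (trivial : x ∈ (⊤ : Y.Opens)))
      (s := (Formal.modPowTrans I n M).app ⊤ (s (n + 1)) - s n)
      ((map_sub ((Formal.modPow I n M).presheaf.germ ⊤ x trivial).hom _ _).trans (sub_eq_zero.2 key))
    exact ⟨W, hW, hxW, sub_eq_zero.1 ((QC70.res_sub hW _ _).symm.trans h0)⟩
  have hmem : xn ∈ Formal.HHlim I M 0 := fun n => (Crv77.sec _).injective (by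
    refine (Crv77.sec_hmap A (Formal.modPowTrans I (n + 1) M) (xn (n + 1))).trans ?_
    show (Formal.modPowTrans I (n + 1) M).app ⊤ (Crv77.sec _ ((Crv77.sec _).symm (s (n + 1 + 1)))) =
      Crv77.sec _ ((Crv77.sec _).symm (s (n + 1)))
    rw [AddEquiv.apply_symm_apply, AddEquiv.apply_symm_apply]
    exact hcompat (n + 1))
  obtain ⟨d, hd⟩ := FF71.exists_R_subset I M hM 0
  obtain ⟨x, hx⟩ := (FF71.ofCompletion_bijective I M hM 0).2 ⟨xn, hmem⟩
  obtain ⟨h, hh⟩ := Submodule.Quotient.mk_surjective _ (x.val (d + 1))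
  let b : Γ(Y, ⊤) := Crv77.sec M h
  have hb : (Formal.modPowπ I (d + 1) M).app ⊤ (toUnit b) = s (d + 1) := by
    refine ((Crv77.sec_hmap A (Formal.modPowπ I (d + 1) M) h).symm).trans ?_
    have h1 := FF71.ofCompletion_apply I M hM 0 x d hh
    rw [hx] at h1
    exact (congrArg (Crv77.sec _) h1.symm).trans ((Crv77.sec _).apply_symm_apply _)
  refine ⟨b, ?_, fun z hz => ?_⟩
  · have hker : (Formal.modPowπ I (d + 1) M).app ⊤ (toUnit (b * b - b)) = 0 := by
      show (Formal.modPowπ I (d + 1) M).app ⊤ (b • toUnit b - toUnit b) = 0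
      rw [map_sub, Scheme.Modules.Hom.app_smul, hb]
      refine QC70.section_ext _ _ _ fun y hy => ?_
      have key : germM (Formal.modPow I (d + 1) M) ⊤ y trivial (b • s (d + 1) - s (d + 1)) = 0 := by
        refine (map_sub ((Formal.modPow I (d + 1) M).presheaf.germ ⊤ y trivial).hom _ _).trans ?_
        show germM _ ⊤ y trivial (b • s (d + 1)) - germM _ ⊤ y trivial (s (d + 1)) = 0
        rw [germM_smul, hs, sub_eq_zero]
        show _ • (if y ∈ V then _ else 0) = if y ∈ V then _ else 0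
        split_ifs with hyV
        · rw [← germM_smul, ← Scheme.Modules.Hom.app_smul, QC70.smul_unit, mul_one, hb, hs]
          show (if y ∈ V then _ else 0) = _
          rw [if_pos hyV]
        · exact smul_zero _
      obtain ⟨W, hW, hyW, h0⟩ := QC70.germM_eq_zero key
      exact ⟨W, hW, hyW, h0.trans (QC70.res_zero hW).symm⟩
    have hR : (Crv77.sec M).symm (toUnit (b * b - b)) ∈ FF71.R I M 0 d :=
      (FF71.mem_R_iff (I := I) (M := M)).2 ((Crv77.sec _).injective (by
        rw [map_zero]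
        refine (Crv77.sec_hmap A (Formal.modPowπ I (d + 1) M) _).trans ?_
        rw [AddEquiv.apply_symm_apply]
        exact hker))
    have h2 := (hd d (Nat.le_succ d)).1 _ hR
    rw [Nat.add_sub_cancel_left, pow_one] at h2
    rw [← (Crv77.sec M).apply_symm_apply (toUnit (b * b - b))] at *
    have h3 : ∀ w ∈ I • (⊤ : Submodule A (Coh.HH Y M 0)),
        (show Γ(Y, ⊤) from Crv77.sec M w) ∈ I.map (FF71.rA A Y ⊤) := by
      intro w hw
      refine Submodule.smul_induction_on hw (fun a ha m _ => ?_) fun p q hp hq => ?_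
      · rw [Crv77.sec_smul A M a m]
        refine Ideal.mul_mem_right _ _ ?_
        have e1 : Coh.toGlobal (Y ↘ Spec (CommRingCat.of A)) a = FF71.rA A Y ⊤ a := by
          rw [StalkHens.rA_top_apply]
          rfl
        exact e1.symm ▸ Ideal.mem_map_of_mem _ ha
      · rw [map_add]; exact add_mem hp hq
    simp only [AddEquiv.symm_apply_apply, AddEquiv.apply_symm_apply] at h2 ⊢
    have h4 := h3 _ h2
    rwa [AddEquiv.apply_symm_apply] at h4
  · obtain ⟨ψ, hψ⟩ := exists_toRing z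
    have hI : (Ix I z ^ (d + 1) • (⊤ : Submodule (Y.presheaf.stalk z) (M.presheaf.stalk z))).map ψ ≤
        (IsLocalRing.maximalIdeal _ : Ideal (Y.presheaf.stalk z)).restrictScalars _ := by
      rw [Submodule.map_smul'']
      refine Submodule.smul_le.2 fun r hr m _ => ?_
      show r * m ∈ IsLocalRing.maximalIdeal _
      exact Ideal.mul_mem_right _ _ ((Ideal.pow_le_self (Nat.succ_ne_zero d)).trans (Ix_le I hz) hr)
    have key : ∀ c : Γ(Y, ⊤), QC70.stalkLinear (Formal.modPowπ I (d + 1) M) z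
        (germM M ⊤ z trivial (toUnit b) - germM M ⊤ z trivial (toUnit c)) = 0 →
        Y.presheaf.germ ⊤ z trivial b - Y.presheaf.germ ⊤ z trivial c ∈ IsLocalRing.maximalIdeal _ := by
      intro c h0
      have := hI ⟨_, HensCoh.stalk_ker I M (d + 1) z _ h0, rfl⟩
      rw [map_sub, hψ, hψ] at this
      exact this
    by_cases hzV : z ∈ V
    · refine ⟨fun _ => hzV, fun _ => ?_⟩
      have := key 1 (by
        rw [map_sub]
        show stalkMapM _ z _ - stalkMapM _ z _ = 0
        rw [stalkMapM_germ, stalkMapM_germ, hb, hs]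
        show (if z ∈ V then _ else 0) - _ = 0
        rw [if_pos hzV, sub_self])
      rw [map_one] at this
      refine IsLocalRing.notMem_maximalIdeal.1 fun hm => ?_
      have := sub_mem hm this
      rw [sub_sub_cancel] at this
      exact (IsLocalRing.maximalIdeal.isMaximal _).ne_top ((Ideal.eq_top_iff_one _).2 this)
    · refine ⟨fun hu => absurd hu ?_, fun h => absurd h hzV⟩
      have := key 0 (by
        rw [map_sub]
        show stalkMapM _ z _ - stalkMapM _ z _ = 0
        rw [stalkMapM_germ, stalkMapM_germ, hb, hs]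
        show (if z ∈ V then _ else 0) - _ = 0
        rw [if_neg hzV, zero_sub, neg_eq_zero, show toUnit (0 : Γ(Y, ⊤)) = 0 from rfl, map_zero]
        exact QC70.germM_zero _)
      rw [map_zero, sub_zero] at this
      exact (IsLocalRing.mem_maximalIdeal _).1 this

theorem existsUnique_clopen [HenselianRing Γ(Y, ⊤) (I.map (FF71.rA A Y ⊤))] {V : Set Y} (hV : V ⊆ Z I)
    (ho : ∃ O : Set Y, IsOpen O ∧ O ∩ Z I = V) (hc : ∃ O : Set Y, IsOpen O ∧ O ∩ Z I = Z I \ V) :
    ∃! U : Set Y, IsClopen U ∧ U ∩ Z I = V := by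
  haveI : CompactSpace Y := QuasiCompact.compactSpace_of_compactSpace (Y ↘ Spec (CommRingCat.of A))
  obtain ⟨b, hb, hbV⟩ := exists_approx_idempotent I hV ho hc
  let J := I.map (FF71.rA A Y ⊤)
  obtain ⟨a, ha, hab⟩ := HenselianRing.is_henselian (I := J) (Polynomial.X ^ 2 - Polynomial.X)
    (Polynomial.monic_X_pow_sub (lt_of_le_of_lt Polynomial.degree_X_le (by norm_num))) b (by simpa [pow_two] using hb) (by
      refine IsUnit.of_mul_eq_one (Ideal.Quotient.mk J (2 * b - 1)) ?_
      simp only [Polynomial.derivative_sub, Polynomial.derivative_X_pow, Polynomial.derivative_X,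
        Polynomial.eval_sub, Polynomial.eval_mul, Polynomial.eval_pow, Polynomial.eval_X,
        Polynomial.eval_one, Polynomial.eval_C]
      rw [← map_mul, ← (Ideal.Quotient.mk J).map_one, Ideal.Quotient.eq]
      norm_num
      have := Ideal.mul_mem_left J 4 hb
      convert this using 1
      ring)
  have hidem : a * a = a := by
    have : a ^ 2 - a = 0 := by simpa [Polynomial.IsRoot] using ha
    rw [← pow_two]; exact sub_eq_zero.1 this
  have hcompl : ∀ y : Y, IsUnit (Y.presheaf.germ ⊤ y trivial a) ↔ ¬ IsUnit (Y.presheaf.germ ⊤ y trivial (1 - a)) := by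
    intro y
    rw [map_sub, map_one]
    constructor
    · intro hu hu'
      have h0 : Y.presheaf.germ ⊤ y trivial a * (1 - Y.presheaf.germ ⊤ y trivial a) = 0 := by
        rw [mul_sub, mul_one, ← map_mul, hidem, sub_self]
      exact not_isUnit_zero (h0 ▸ hu.mul hu')
    · intro h
      exact (IsLocalRing.isUnit_or_isUnit_one_sub_self _).resolve_right h
  let U : Set Y := (Y.basicOpen a : Set Y)
  have hUmem : ∀ y, y ∈ U ↔ IsUnit (Y.presheaf.germ ⊤ y trivial a) := fun y => Y.mem_basicOpen a y trivial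
  have hUclopen : IsClopen U := by
    refine ⟨⟨?_⟩, (Y.basicOpen a).2⟩
    rw [show Uᶜ = (Y.basicOpen (1 - a) : Set Y) from Set.ext fun y => by
      show ¬ y ∈ U ↔ _
      rw [hUmem, hcompl, not_not]
      exact (Y.mem_basicOpen (U := ⊤) (1 - a) y trivial).symm]
    exact (Y.basicOpen (1 - a)).2
  have hmem : ∀ y ∈ Z I, (IsUnit (Y.presheaf.germ ⊤ y trivial a) ↔ y ∈ V) := by
    intro y hy
    rw [← hbV y hy]
    have h1 : Y.presheaf.germ ⊤ y trivial a - Y.presheaf.germ ⊤ y trivial b ∈ IsLocalRing.maximalIdeal _ := by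
      rw [← map_sub]
      have h2 := Ideal.mem_map_of_mem (Y.presheaf.germ ⊤ y trivial).hom hab
      rw [Ideal.map_map] at h2
      exact Ix_le I hy h2
    constructor <;> intro hu <;> by_contra hne
    · exact (IsLocalRing.mem_maximalIdeal _).1 (sub_add_cancel (Y.presheaf.germ ⊤ y trivial a)
        (Y.presheaf.germ ⊤ y trivial b) ▸ add_mem h1 ((IsLocalRing.mem_maximalIdeal _).2 hne)) hu
    · exact (IsLocalRing.mem_maximalIdeal _).1 (sub_sub_cancel (Y.presheaf.germ ⊤ y trivial a)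
        (Y.presheaf.germ ⊤ y trivial b) ▸ sub_mem ((IsLocalRing.mem_maximalIdeal _).2 hne) h1) hu
  have hUV : U ∩ Z I = V := Set.ext fun y =>
    ⟨fun ⟨h1, h2⟩ => (hmem y h2).1 ((hUmem y).1 h1), fun h => ⟨(hUmem y).2 ((hmem y (hV h)).2 h), hV h⟩⟩
  refine ⟨U, ⟨hUclopen, hUV⟩, fun U' hU' => ?_⟩
  by_contra hne
  obtain ⟨y, hy⟩ : (symmDiff U' U).Nonempty :=
    Set.nonempty_iff_ne_empty.2 fun h => hne (symmDiff_eq_bot.1 h)
  have hcl : IsClosed (symmDiff U' U) := ((hU'.1.diff hUclopen).union (hUclopen.diff hU'.1)).1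
  obtain ⟨q, hqmem, hq⟩ := IsClosed.exists_closed_singleton hcl ⟨y, hy⟩
  have hqZ := closed_mem_Z I hq
  have : q ∈ U' ↔ q ∈ U := by
    have h1 : q ∈ U' ∩ Z I ↔ q ∈ U ∩ Z I := by rw [hU'.2, hUV]
    simpa [hqZ] using h1
  rcases hqmem with ⟨h1, h2⟩ | ⟨h1, h2⟩
  · exact h2 (this.1 h1)
  · exact h2 (this.2 h1)

end Groth.Agent.Hens22.ClopenLift
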