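import Groth.Agent.SGA3a.FiniteComplete
import Groth.Agent.FlatMor66.FlatDescentSource
import Groth.Agent.CAlg7.FlatLimit
import Mathlib.RingTheory.Unramified.LocalRing
import Mathlib.RingTheory.Smooth.Fiber
import Mathlib.RingTheory.Flat.FaithfullyFlat.Algebra
import Mathlib.FieldTheory.Separable

/-!
Unramified and etale local homomorphisms and completions, abstractly.
-/

set_option autoImplicit false
universe u

open IsLocalRing TensorProduct

noncomputable section

namespace Groth.Agent.Hens22

/-- Flatness descends along a surjective change of rings acting compatibly. -/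
theorem flat_of_surjective (R₀ R₁ M : Type u) [CommRing R₀] [CommRing R₁] [Algebra R₀ R₁]
    [AddCommGroup M] [Module R₀ M] [Module R₁ M] [IsScalarTower R₀ R₁ M]
    (h : Function.Surjective (algebraMap R₀ R₁)) [Module.Flat R₀ M] : Module.Flat R₁ M := by
  let e : R₁ ⊗[R₀] M →ₗ[R₁] M := (LinearMap.id : M →ₗ[R₀] M).liftBaseChange R₁
  have h1 : ∀ z : R₁ ⊗[R₀] M, (1 : R₁) ⊗ₜ[R₀] e z = z := by
    intro z
    induction z using TensorProduct.induction_on with
    | zero => simp
    | add a b ha hb => rw [map_add, TensorProduct.tmul_add, ha, hb]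
    | tmul r m =>
      obtain ⟨r, rfl⟩ := h r
      simp [e, Algebra.algebraMap_eq_smul_one, TensorProduct.smul_tmul]
  have h2 : Function.Bijective e :=
    ⟨fun a b hab => by rw [← h1 a, ← h1 b, hab], fun m => ⟨(1 : R₁) ⊗ₜ m, by simp [e]⟩⟩
  exact Module.Flat.of_linearEquiv (LinearEquiv.ofBijective e h2).symm

/-- The properties of a completion that we use. -/
structure IsCompl' (A C : Type u) [CommRing A] [CommRing C] [IsLocalRing A] [IsLocalRing C]
    [Algebra A C] : Prop where
  flat : Module.Flat A C
  noetherian : IsNoetherianRing C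
  complete : IsAdicComplete (maximalIdeal C) C
  map_eq : (maximalIdeal A).map (algebraMap A C) = maximalIdeal C
  mem_pow_iff : ∀ (n : ℕ) (a : A), algebraMap A C a ∈ maximalIdeal C ^ n ↔ a ∈ maximalIdeal A ^ n
  exists_sub_mem : ∀ (n : ℕ) (c : C), ∃ a, c - algebraMap A C a ∈ maximalIdeal C ^ n

variable {A B C D : Type u} [CommRing A] [CommRing B] [CommRing C] [CommRing D]
  [IsLocalRing A] [IsLocalRing B] [IsLocalRing C] [IsLocalRing D]
  [Algebra A B] [Algebra A C] [Algebra B D] [Algebra C D] [Algebra A D]
  [IsScalarTower A B D] [IsScalarTower A C D]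
  (hC : IsCompl' A C) (hD : IsCompl' B D)

theorem IsCompl'.isLocalHom (h : IsCompl' A C) : IsLocalHom (algebraMap A C) := by
  refine ((IsLocalRing.local_hom_TFAE (algebraMap A C)).out 0 2).2 ?_
  rw [h.map_eq]

theorem IsCompl'.bijective_residueField (h : IsCompl' A C) [IsLocalHom (algebraMap A C)] :
    Function.Bijective (ResidueField.map (algebraMap A C)) := by
  refine ⟨(ResidueField.map (algebraMap A C)).injective, fun z => ?_⟩
  obtain ⟨c, rfl⟩ := residue_surjective z
  obtain ⟨a, ha⟩ := h.exists_sub_mem 1 c
  refine ⟨residue A a, ?_⟩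
  rw [ResidueField.map_residue, eq_comm, ← sub_eq_zero, ← map_sub, residue_eq_zero_iff]
  simpa using ha

include hC hD

theorem map_max_iff : (maximalIdeal A).map (algebraMap A B) = maximalIdeal B ↔
    (maximalIdeal C).map (algebraMap C D) = maximalIdeal D := by
  have key : (maximalIdeal C).map (algebraMap C D) =
      ((maximalIdeal A).map (algebraMap A B)).map (algebraMap B D) := by
    rw [← hC.map_eq, Ideal.map_map, Ideal.map_map, ← IsScalarTower.algebraMap_eq,
      ← IsScalarTower.algebraMap_eq]
  constructor
  · intro h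
    rw [key, h, hD.map_eq]
  · intro h
    have := hD.flat
    have := hD.isLocalHom
    have : Module.FaithfullyFlat B D := Module.FaithfullyFlat.of_flat_of_isLocalHom
    rw [key] at h
    rw [← Ideal.comap_map_eq_self_of_faithfullyFlat (B := D) ((maximalIdeal A).map (algebraMap A B)),
      h, ← hD.map_eq, Ideal.comap_map_eq_self_of_faithfullyFlat]

theorem isLocalHom_completed [IsLocalHom (algebraMap A B)] : IsLocalHom (algebraMap C D) := by
  refine ((IsLocalRing.local_hom_TFAE (algebraMap C D)).out 0 2).2 ?_
  have hle := ((IsLocalRing.local_hom_TFAE (algebraMap A B)).out 0 2).1 ‹_›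
  rw [← hC.map_eq, Ideal.map_map, ← IsScalarTower.algebraMap_eq, IsScalarTower.algebraMap_eq A B D,
    ← Ideal.map_map, ← hD.map_eq]
  exact Ideal.map_mono hle

theorem residue_iff [IsLocalHom (algebraMap A B)] [IsLocalHom (algebraMap C D)] :
    (Module.Finite (ResidueField A) (ResidueField B) ∧
      Algebra.IsSeparable (ResidueField A) (ResidueField B)) ↔
    (Module.Finite (ResidueField C) (ResidueField D) ∧
      Algebra.IsSeparable (ResidueField C) (ResidueField D)) := by
  have := hC.isLocalHom
  have := hD.isLocalHom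
  let e₁ : ResidueField A ≃+* ResidueField C := RingEquiv.ofBijective _ hC.bijective_residueField
  let e₂ : ResidueField B ≃+* ResidueField D := RingEquiv.ofBijective _ hD.bijective_residueField
  have he : (algebraMap (ResidueField C) (ResidueField D)).comp (e₁ : ResidueField A →+* ResidueField C) =
      (e₂ : ResidueField B →+* ResidueField D).comp (algebraMap (ResidueField A) (ResidueField B)) := by
    refine RingHom.ext fun z => ?_
    obtain ⟨a, rfl⟩ := residue_surjective z
    show residue D (algebraMap C D (algebraMap A C a)) = residue D (algebraMap B D (algebraMap A B a))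
    rw [← IsScalarTower.algebraMap_apply, ← IsScalarTower.algebraMap_apply]
  have he' : (algebraMap (ResidueField A) (ResidueField B)).comp (e₁.symm : ResidueField C →+* ResidueField A) =
      (e₂.symm : ResidueField D →+* ResidueField B).comp (algebraMap (ResidueField C) (ResidueField D)) := by
    refine RingHom.ext fun z => e₂.injective ?_
    simp only [RingHom.comp_apply, RingEquiv.coe_toRingHom, RingEquiv.apply_symm_apply]
    rw [show e₂ (algebraMap _ _ (e₁.symm z)) = _ from (RingHom.congr_fun he (e₁.symm z)).symm]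
    simp
  constructor
  · rintro ⟨h1, h2⟩
    exact ⟨Module.Finite.of_equiv_equiv e₁ e₂ he, Algebra.IsSeparable.of_equiv_equiv e₁ e₂ he⟩
  · rintro ⟨h1, h2⟩
    exact ⟨Module.Finite.of_equiv_equiv e₁.symm e₂.symm he',
      Algebra.IsSeparable.of_equiv_equiv e₁.symm e₂.symm he'⟩

/-- Complete Nakayama. -/
theorem finite_completed [IsLocalHom (algebraMap C D)]
    (hmax : (maximalIdeal C).map (algebraMap C D) = maximalIdeal D)
    [Module.Finite (ResidueField C) (ResidueField D)] : Module.Finite C D := by
  classical
  have := hC.noetherian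
  have := hC.complete
  have := hD.noetherian
  have key : ∀ (n : ℕ) (x : D), x ∈ (maximalIdeal C ^ n • ⊤ : Submodule C D) → x ∈ maximalIdeal D ^ n := by
    intro n x hx
    rw [Ideal.smul_top_eq_map, Submodule.restrictScalars_mem, Ideal.map_pow, hmax] at hx
    exact hx
  have : IsHausdorff (maximalIdeal C) D := ⟨fun x hx => by
    have := hD.complete
    refine IsHausdorff.haus (I := maximalIdeal D) inferInstance x fun n => ?_
    rw [SModEq.zero, smul_eq_mul, Ideal.mul_top]
    exact key n x (by simpa [SModEq.zero] using hx n)⟩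
  obtain ⟨n, g, hg⟩ := Module.Finite.exists_fin (R := ResidueField C) (M := ResidueField D)
  choose g' hg' using fun i => residue_surjective (g i)
  let φ : (Fin n → C) →ₗ[C] D := Fintype.linearCombination C g'
  have hφ : Function.Surjective ((maximalIdeal C • ⊤ : Submodule C D).mkQ ∘ₗ φ) := by
    intro z
    obtain ⟨d, rfl⟩ := Submodule.mkQ_surjective _ z
    obtain ⟨c, hc⟩ := (Submodule.mem_span_range_iff_exists_fun _).1
      (hg.symm ▸ Submodule.mem_top : residue D d ∈ Submodule.span (ResidueField C) (Set.range g))
    choose c' hc' using fun i => residue_surjective (c i)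
    refine ⟨c', ?_⟩
    rw [LinearMap.comp_apply, Submodule.mkQ_apply, Submodule.mkQ_apply, Submodule.Quotient.eq,
      Ideal.smul_top_eq_map, Submodule.restrictScalars_mem, hmax, ← residue_eq_zero_iff, map_sub,
      sub_eq_zero, ← hc, Fintype.linearCombination_apply, map_sum]
    refine Finset.sum_congr rfl fun i _ => ?_
    rw [Algebra.smul_def, map_mul, hg', Algebra.smul_def, ← hc']
    rfl
  have : IsAdicComplete (maximalIdeal C) (Fin n → C) := SGA3a.isAdicComplete_module_of_finite _
  exact Module.Finite.of_surjective φ (surjective_of_mkQ_comp_surjective hφ)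

/-- Flatness passes to the completions. -/
theorem flat_completed [IsLocalHom (algebraMap C D)] [Module.Flat A B] : Module.Flat C D := by
  have := hC.noetherian
  have := hD.noetherian
  have := hD.flat
  have : Module.Flat A D := Module.Flat.trans A B D
  refine CAlg7.flat_of_forall_flat_mod_pow (R := C) (S := D) (M := D) (maximalIdeal C) ?_ fun m _ => ?_
  · have hloc := ((IsLocalRing.local_hom_TFAE (algebraMap C D)).out 0 2).1 ‹IsLocalHom (algebraMap C D)›
    exact le_trans hloc (IsLocalRing.jacobson_eq_maximalIdeal ⊥ bot_ne_top).ge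
  let R₀ := A ⧸ maximalIdeal A ^ m
  let R₁ := C ⧸ maximalIdeal C ^ m
  let N := D ⧸ (maximalIdeal C ^ m • ⊤ : Submodule C D)
  let _ : Algebra R₀ R₁ := (Ideal.quotientMap (maximalIdeal C ^ m) (algebraMap A C)
    (fun a ha => (hC.mem_pow_iff m a).2 ha)).toAlgebra
  let _ : Module R₀ N := Module.compHom N (algebraMap R₀ R₁)
  have : IsScalarTower R₀ R₁ N := IsScalarTower.of_algebraMap_smul fun _ _ => rfl
  have hs : Function.Surjective (algebraMap R₀ R₁) := fun z => by
    obtain ⟨c, rfl⟩ := Ideal.Quotient.mk_surjective z
    obtain ⟨a, ha⟩ := hC.exists_sub_mem m c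
    exact ⟨Ideal.Quotient.mk _ a, Eq.symm (Ideal.Quotient.eq.2 ha)⟩
  have htower : ∀ (a : A) (x : N), (Ideal.Quotient.mk (maximalIdeal A ^ m) a : R₀) • x = a • x := by
    intro a x
    obtain ⟨d, rfl⟩ := Submodule.mkQ_surjective _ x
    rw [show (Ideal.Quotient.mk (maximalIdeal A ^ m) a : R₀) • Submodule.mkQ _ d =
      (Ideal.Quotient.mk (maximalIdeal C ^ m) (algebraMap A C a) : R₁) •
        (Submodule.mkQ (maximalIdeal C ^ m • ⊤ : Submodule C D) d : N) from rfl]
    rw [Submodule.mkQ_apply]
    erw [Module.Quotient.mk_smul_mk]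
    rw [algebraMap_smul]
    rfl
  have : IsScalarTower A R₀ N := IsScalarTower.of_algebraMap_smul htower
  have hN : Module.Flat R₀ N := by
    let N' := D ⧸ (maximalIdeal A ^ m • ⊤ : Submodule A D)
    have hEq : (maximalIdeal A ^ m • ⊤ : Submodule A D) =
        (maximalIdeal C ^ m • ⊤ : Submodule C D).restrictScalars A := by
      rw [← hC.map_eq, ← Ideal.map_pow, Ideal.smul_top_eq_map, Ideal.smul_top_eq_map, Ideal.map_map,
        ← IsScalarTower.algebraMap_eq]
      rfl
    let e : N' ≃ₗ[A] N := (Submodule.quotEquivOfEq _ _ hEq).trans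
      (Submodule.Quotient.restrictScalarsEquiv A (maximalIdeal C ^ m • ⊤ : Submodule C D))
    let e' : N' ≃ₗ[R₀] N := e.toAddEquiv.toLinearEquiv fun r x => by
      obtain ⟨a, rfl⟩ := Ideal.Quotient.mk_surjective r
      show e ((Ideal.Quotient.mk _ a : R₀) • x) = (Ideal.Quotient.mk _ a : R₀) • e x
      rw [htower, ← map_smul]
      congr 1
    have : Module.Flat R₀ N' := Module.Flat.of_linearEquiv
      (TensorProduct.quotTensorEquivQuotSMul D (maximalIdeal A ^ m) |>.toAddEquiv.toLinearEquiv
        fun r x => by
          obtain ⟨a, rfl⟩ := Ideal.Quotient.mk_surjective r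
          exact ((algebraMap_smul R₀ a x).symm ▸ map_smul
            (TensorProduct.quotTensorEquivQuotSMul D (maximalIdeal A ^ m)) a x : _)).symm
    exact Module.Flat.of_linearEquiv e'.symm
  exact flat_of_surjective R₀ R₁ N hs

omit hC in
/-- Flatness descends from the completions. -/
theorem flat_of_completed [Module.Flat A C] [Module.Flat C D] : Module.Flat A B := by
  have := hD.flat
  have := hD.isLocalHom
  have : Module.FaithfullyFlat B D := Module.FaithfullyFlat.of_flat_of_isLocalHom
  have : Module.Flat A D := Module.Flat.trans A C D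
  exact FlatMor66.flat_of_faithfullyFlat_top A B D

end Groth.Agent.Hens22
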