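import Groth.Agent.Hens22.ProperModel
import Groth.Agent.Hens22.ClopenCouple
import Groth.Agent.Hens22.PairHens
import Groth.Agent.S1994

/-!
Connectedness of a proper scheme of finite presentation over a henselian pair.
-/

set_option autoImplicit false
set_option maxSynthPendingDepth 6
universe u

noncomputable section

open CategoryTheory CategoryTheory.Limits AlgebraicGeometry TopologicalSpace

namespace Groth.Agent.Hens22.ConnectedBC

variable (A : Type u) [CommRing A] (I : Ideal A) [HenselianRing A I] {X : Scheme.{u}}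
  (f : X ⟶ Spec (CommRingCat.of A)) [IsProper f]

/-- Clopen subsets of the special part lift. -/
theorem exists_clopen_lift [LocallyOfFinitePresentation f]
    (V : Set ↥(pullback f (Spec.map (CommRingCat.ofHom (Ideal.Quotient.mk I))))) (hV : IsClopen V) :
    ∃ U : Set X, IsClopen U ∧
      (pullback.fst f (Spec.map (CommRingCat.ofHom (Ideal.Quotient.mk I)))).base ⁻¹' U = V := by
  classical
  obtain ⟨A₁, _, _, _, X₁, f₁, _, g, hg⟩ := ProperModel.exists_proper_model A f
  let i := pullback.fst f (Spec.map (CommRingCat.ofHom (Ideal.Quotient.mk I)))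
  let p := pullback.snd f (Spec.map (CommRingCat.ofHom (Ideal.Quotient.mk I)))
  have halg : CommRingCat.ofHom (algebraMap A₁ A) ≫ CommRingCat.ofHom (Ideal.Quotient.mk I) =
      CommRingCat.ofHom (algebraMap A₁ (A ⧸ I)) := rfl
  have hP : IsPullback (i ≫ g) p f₁ (Spec.map (CommRingCat.ofHom (algebraMap A₁ (A ⧸ I)))) := by
    rw [← halg, Spec.map_comp]
    exact (IsPullback.of_hasPullback f (Spec.map (CommRingCat.ofHom (Ideal.Quotient.mk I)))).paste_horiz hg
  obtain ⟨Q, hQ, PQ, qQ, pQ, hPQ, m, W, hmq, hmp, hW, hWV⟩ :=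
    ProperModel.exists_clopen_stage (A₁ := CommRingCat.of A₁) (B := CommRingCat.of (A ⧸ I)) f₁ (i ≫ g) p hP V hV
  obtain ⟨s, hs⟩ := hQ
  choose l hl using fun x : A ⧸ I => Ideal.Quotient.mk_surjective (I := I) x
  let P₀ := MvPolynomial {x // x ∈ s} A₁
  let α : P₀ →ₐ[A₁] A := MvPolynomial.aeval fun x => l x.1
  have hgen : ∀ x : P₀, (Ideal.Quotient.mkₐ A₁ I).comp α x ∈ Q := by
    intro x
    have : (Ideal.Quotient.mkₐ A₁ I).comp α = MvPolynomial.aeval fun x : {x // x ∈ s} => (x.1 : A ⧸ I) :=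
      MvPolynomial.algHom_ext fun x => by simp [α, hl]
    rw [this, ← hs]
    have h2 : (MvPolynomial.aeval fun x : {x // x ∈ s} => (x.1 : A ⧸ I)) x ∈
        (MvPolynomial.aeval (R := A₁) fun x : {x // x ∈ s} => (x.1 : A ⧸ I)).range := ⟨x, rfl⟩
    rw [← Algebra.adjoin_range_eq_range_aeval, Subtype.range_coe_subtype] at h2
    exact h2
  let π' : P₀ →ₐ[A₁] Q := ((Ideal.Quotient.mkₐ A₁ I).comp α).codRestrict Q hgen
  have hπs : Function.Surjective π' := by
    intro y
    have hle : Q ≤ π'.range.map Q.val := by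
      refine hs.ge.trans (Algebra.adjoin_le ?_)
      refine fun x hx => ⟨π' (MvPolynomial.X ⟨x, hx⟩), ⟨_, rfl⟩, ?_⟩
      show Ideal.Quotient.mk I ((MvPolynomial.aeval fun x : {x // x ∈ s} => l x.1) (MvPolynomial.X (R := A₁) ⟨x, hx⟩)) = x
      exact (congrArg _ (MvPolynomial.aeval_X _ _)).trans (hl x)
    obtain ⟨z, ⟨x, rfl⟩, hz⟩ := hle y.2
    exact ⟨x, Subtype.ext hz⟩
  let I₂ : Ideal P₀ := RingHom.ker π'
  obtain ⟨H, _, _, hH, -⟩ := exists_isPairHenselization (A := P₀) I₂
  letI : Algebra P₀ A := α.toRingHom.toAlgebra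
  have hI₂ : I₂.map (algebraMap P₀ A) ≤ I := Ideal.map_le_iff_le_comap.2 fun x hx => by
    have h1 : π' x = 0 := hx
    exact (Ideal.Quotient.eq_zero_iff_mem (I := I) (a := α x)).1 (congrArg Subtype.val h1)
  obtain ⟨β⟩ := pairHens_exists_algHom hH I hI₂
  haveI : IsNoetherianRing H := S1994.isNoetherianRing_pairHens I₂ hH
  haveI := hH.1
  letI : Algebra A₁ H := ((algebraMap P₀ H).comp (algebraMap A₁ P₀)).toAlgebra
  let K : Ideal H := I₂.map (algebraMap P₀ H)
  let h₁ := Spec.map (CommRingCat.ofHom (algebraMap A₁ H))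
  let f₂ := pullback.snd f₁ h₁
  have hK : K.map β.toRingHom ≤ I := by
    rw [Ideal.map_map, show β.toRingHom.comp (algebraMap P₀ H) = algebraMap P₀ A from β.comp_algebraMap]
    exact hI₂
  let βb : H ⧸ K →+* A ⧸ I := Ideal.quotientMap I β.toRingHom (Ideal.map_le_iff_le_comap.1 hK)
  let ρ : Q →+* H ⧸ K := (Ideal.quotientMap K (algebraMap P₀ H) Ideal.le_comap_map).comp
    (RingHom.quotientKerEquivOfSurjective (f := π'.toRingHom) hπs).symm.toRingHom
  have hρ : ∀ x, ρ (π' x) = Ideal.Quotient.mk K (algebraMap P₀ H x) := by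
    intro x
    have : (RingHom.quotientKerEquivOfSurjective (f := π'.toRingHom) hπs).symm (π' x) = Ideal.Quotient.mk _ x :=
      (RingEquiv.symm_apply_eq _).2 rfl
    show Ideal.quotientMap K (algebraMap P₀ H) Ideal.le_comap_map ((RingHom.quotientKerEquivOfSurjective (f := π'.toRingHom) hπs).symm (π' x)) = _
    rw [this]
    rfl
  have hρA : CommRingCat.ofHom (algebraMap A₁ Q) ≫ CommRingCat.ofHom ρ =
      CommRingCat.ofHom (algebraMap A₁ H) ≫ CommRingCat.ofHom (Ideal.Quotient.mk K) := by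
    ext a
    show ρ (algebraMap A₁ Q a) = Ideal.Quotient.mk K (algebraMap P₀ H (algebraMap A₁ P₀ a))
    rw [← hρ, AlgHom.commutes]
  have hρβ : CommRingCat.ofHom ρ ≫ CommRingCat.ofHom βb = CommRingCat.ofHom Q.val.toRingHom := by
    refine CommRingCat.hom_ext (RingHom.ext fun y => ?_)
    obtain ⟨x, rfl⟩ := hπs y
    show βb (ρ (π' x)) = _
    rw [hρ]
    show Ideal.Quotient.mk I (β (algebraMap P₀ H x)) = _
    rw [β.commutes]
    rfl
  let qK := Spec.map (CommRingCat.ofHom (Ideal.Quotient.mk K))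
  let i₂ := pullback.fst f₂ qK
  let w : pullback f₂ qK ⟶ PQ := hPQ.lift (i₂ ≫ pullback.fst f₁ h₁)
    (pullback.snd f₂ qK ≫ Spec.map (CommRingCat.ofHom ρ)) (by
      rw [Category.assoc, pullback.condition, ← Category.assoc, show i₂ ≫ pullback.snd f₁ h₁ = _ from pullback.condition,
        Category.assoc, Category.assoc, ← Spec.map_comp, ← Spec.map_comp]
      exact congrArg _ (congrArg Spec.map hρA.symm))
  let e := pullback.snd (𝟙 (pullback f₁ h₁)) i₂
  obtain ⟨U', ⟨hU', hU'V⟩, -⟩ := ClopenCouple.existsUnique_clopen K f₂ (pullback f₁ h₁) (𝟙 _)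
    (ClopenCouple.henselianRing_of_henselianRing_base K f₂ _ (𝟙 _))
    ((e ≫ w).base ⁻¹' W) (hW.preimage (e ≫ w).continuous)
  have hU'2 : i₂.base ⁻¹' U' = w.base ⁻¹' W := by
    have hfst : pullback.fst (𝟙 (pullback f₁ h₁)) i₂ = e ≫ i₂ := by
      rw [← pullback.condition, Category.comp_id]
    rw [hfst] at hU'V
    refine e.surjective.preimage_injective ?_
    exact hU'V
  have hβA : CommRingCat.ofHom (algebraMap A₁ H) ≫ CommRingCat.ofHom β.toRingHom =
      CommRingCat.ofHom (algebraMap A₁ A) := by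
    ext a
    show β (algebraMap P₀ H (algebraMap A₁ P₀ a)) = algebraMap A₁ A a
    rw [β.commutes]
    exact α.commutes a
  let u : X ⟶ pullback f₁ h₁ := pullback.lift g (f ≫ Spec.map (CommRingCat.ofHom β.toRingHom)) (by
    rw [Category.assoc, ← Spec.map_comp, hg.w, hβA])
  refine ⟨u.base ⁻¹' U', hU'.preimage u.continuous, ?_⟩
  let v : pullback f (Spec.map (CommRingCat.ofHom (Ideal.Quotient.mk I))) ⟶ pullback f₂ qK :=
    pullback.lift (i ≫ u) (p ≫ Spec.map (CommRingCat.ofHom βb)) (by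
      rw [Category.assoc, show u ≫ f₂ = _ from pullback.lift_snd _ _ _, ← Category.assoc,
        show i ≫ f = _ from pullback.condition, Category.assoc, Category.assoc, ← Spec.map_comp, ← Spec.map_comp]
      rfl)
  have hvw : v ≫ w = m := by
    refine hPQ.hom_ext ?_ ?_
    · rw [Category.assoc, hPQ.lift_fst, ← Category.assoc, show v ≫ i₂ = _ from pullback.lift_fst _ _ _,
        Category.assoc, show u ≫ pullback.fst f₁ h₁ = g from pullback.lift_fst _ _ _, hmq]
    · rw [Category.assoc, hPQ.lift_snd, ← Category.assoc, show v ≫ pullback.snd f₂ qK = _ from pullback.lift_snd _ _ _,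
        Category.assoc, ← Spec.map_comp, hmp]
      exact congrArg (p ≫ ·) (congrArg Spec.map hρβ)
  show (i ≫ u).base ⁻¹' U' = V
  rw [← show v ≫ i₂ = i ≫ u from pullback.lift_fst _ _ _, ← hWV, ← hvw]
  show v.base ⁻¹' (i₂.base ⁻¹' U') = v.base ⁻¹' (w.base ⁻¹' W)
  rw [hU'2]

theorem inter_range_nonempty {U : Set X} (hU : IsClosed U) (hne : U.Nonempty) :
    ((pullback.fst f (Spec.map (CommRingCat.ofHom (Ideal.Quotient.mk I)))).base ⁻¹' U).Nonempty := by
  let T : Set (PrimeSpectrum A) := f.base '' U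
  have hT : IsClosed T := f.isClosedMap U hU
  obtain ⟨x₀, hx₀⟩ := hne
  obtain ⟨M, hM, hMle⟩ := Ideal.exists_le_maximal _ (show (f.base x₀).asIdeal ≠ ⊤ from (f.base x₀).isPrime.ne_top)
  let y : PrimeSpectrum A := ⟨M, hM.isPrime⟩
  have hy : y ∈ T :=
    ((PrimeSpectrum.le_iff_specializes (f.base x₀) y).1 hMle).mem_closed hT ⟨x₀, hx₀, rfl⟩
  obtain ⟨x, hx, hxy⟩ := hy
  have hIM : (I : Set A) ⊆ M := fun a ha => by
    have h1 := HenselianRing.jac (I := I) ha
    rw [Ideal.jacobson, Submodule.mem_sInf] at h1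
    exact h1 M ⟨bot_le, hM⟩
  have hr : x ∈ Set.range (pullback.fst f (Spec.map (CommRingCat.ofHom (Ideal.Quotient.mk I)))).base := by
    rw [Scheme.Pullback.range_fst]
    show f.base x ∈ Set.range (PrimeSpectrum.comap (Ideal.Quotient.mk I))
    rw [range_comap_of_surjective _ _ Ideal.Quotient.mk_surjective, Ideal.mk_ker]
    refine (PrimeSpectrum.mem_zeroLocus (f.base x) _).2 ?_
    rw [hxy]
    exact hIM
  obtain ⟨z, rfl⟩ := hr
  exact ⟨z, hx⟩

theorem connectedSpace_iff [LocallyOfFinitePresentation f] :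
    ConnectedSpace X ↔ ConnectedSpace ↥(pullback f (Spec.map (CommRingCat.ofHom (Ideal.Quotient.mk I)))) := by
  let i := pullback.fst f (Spec.map (CommRingCat.ofHom (Ideal.Quotient.mk I)))
  constructor
  · intro h
    obtain ⟨z, -⟩ := inter_range_nonempty A I f isClosed_univ (Set.univ_nonempty (α := X))
    haveI : Nonempty ↥(pullback f (Spec.map (CommRingCat.ofHom (Ideal.Quotient.mk I)))) := ⟨z⟩
    haveI : PreconnectedSpace ↥(pullback f (Spec.map (CommRingCat.ofHom (Ideal.Quotient.mk I)))) := by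
      rw [preconnectedSpace_iff_clopen]
      intro V hV
      obtain ⟨U, hU, rfl⟩ := exists_clopen_lift A I f V hV
      rcases isClopen_iff.1 hU with rfl | rfl
      · exact Or.inl Set.preimage_empty
      · exact Or.inr Set.preimage_univ
    exact ⟨inferInstance⟩
  · intro h
    haveI : Nonempty X := ⟨i.base (Classical.arbitrary _)⟩
    haveI : PreconnectedSpace X := by
      rw [preconnectedSpace_iff_clopen]
      intro U hU
      rcases isClopen_iff.1 (hU.preimage i.continuous) with h0 | h0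
      · left
        by_contra hne
        exact Set.not_nonempty_empty
          (h0 ▸ inter_range_nonempty A I f hU.1 (Set.nonempty_iff_ne_empty.2 hne))
      · right
        by_contra hne
        obtain ⟨z, hz⟩ := inter_range_nonempty A I f hU.2.isClosed_compl
          (Set.nonempty_compl.2 hne)
        exact hz (h0 ▸ Set.mem_univ z : z ∈ i.base ⁻¹' U)
    exact ⟨inferInstance⟩

end Groth.Agent.Hens22.ConnectedBC
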