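import Groth.Agent.Hens22.AlgClosedPoints
import Mathlib.Dynamics.Newton
import Mathlib.RingTheory.AdjoinRoot
import Mathlib.RingTheory.Nakayama

/-!
Radical invariance of root lifting; coprimality over the radical; lifting coprime factorisations
along nilpotent ideals.
-/

set_option autoImplicit false
universe u

open Polynomial

namespace Groth.Agent.Hens22

variable {A : Type u} [CommRing A]

theorem le_jacobson_radical {I : Ideal A} (hI : I ≤ Ideal.jacobson ⊥) :
    I.radical ≤ Ideal.jacobson ⊥ :=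
  (Ideal.radical_mono hI).trans_eq (Ideal.isRadical_jacobson _).radical

theorem isUnit_of_map_isUnit {I : Ideal A} (hI : I ≤ Ideal.jacobson ⊥) {x : A}
    (h : IsUnit (Ideal.Quotient.mk I x)) : IsUnit x := by
  have := isLocalHom_of_le_jacobson_bot I hI
  exact IsUnit.of_map (Ideal.Quotient.mk I) x h

/-- Simple roots modulo the radical of a henselian ideal lift. -/
theorem exists_root_radical (I : Ideal A) [HenselianRing A I] {R : Polynomial A} (hR : R.Monic)
    (a₀ : A) (h₀ : R.eval a₀ ∈ I.radical) (h₁ : IsUnit (R.derivative.eval a₀)) :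
    ∃ a, R.eval a = 0 ∧ a - a₀ ∈ I.radical := by
  have hn : IsNilpotent (aeval (Ideal.Quotient.mk I a₀) (R.map (Ideal.Quotient.mk I))) := by
    rw [coe_aeval_eq_eval, eval_map_apply]
    obtain ⟨m, hm⟩ := h₀
    exact ⟨m, by rw [← map_pow]; exact Ideal.Quotient.eq_zero_iff_mem.2 hm⟩
  have hu : IsUnit (aeval (Ideal.Quotient.mk I a₀) (derivative (R.map (Ideal.Quotient.mk I)))) := by
    rw [coe_aeval_eq_eval, derivative_map, eval_map_apply]
    exact h₁.map _
  obtain ⟨r, ⟨hr₁, hr₂⟩, -⟩ := existsUnique_nilpotent_sub_and_aeval_eq_zero hn hu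
  obtain ⟨a₁, rfl⟩ := Ideal.Quotient.mk_surjective r
  rw [coe_aeval_eq_eval, eval_map_apply, Ideal.Quotient.eq_zero_iff_mem] at hr₂
  have hu₁ : IsUnit (Ideal.Quotient.mk I (R.derivative.eval a₁)) := by
    have h' := h₁.map (Ideal.Quotient.mk I)
    rw [← eval_map_apply] at h' ⊢
    have hd := Polynomial.sub_dvd_eval_sub (Ideal.Quotient.mk I a₁) (Ideal.Quotient.mk I a₀)
      ((derivative R).map (Ideal.Quotient.mk I))
    obtain ⟨c, hc⟩ := hd
    have hnil : IsNilpotent ((Ideal.Quotient.mk I a₁ - Ideal.Quotient.mk I a₀) * c) := by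
      refine (Commute.all _ _).isNilpotent_mul_right ?_
      simpa using hr₁.neg
    have := hnil.isUnit_add_left_of_commute h' (Commute.all _ _)
    rw [← hc] at this
    simpa using this
  obtain ⟨a, ha, ha'⟩ := HenselianRing.is_henselian R hR a₁ hr₂ hu₁
  refine ⟨a, ha, ?_⟩
  have h01 : a₁ - a₀ ∈ I.radical := by
    obtain ⟨m, hm⟩ := hr₁
    refine ⟨m, ?_⟩
    rw [← map_sub, ← map_pow, Ideal.Quotient.eq_zero_iff_mem] at hm
    rw [← neg_sub, neg_pow]
    exact Ideal.mul_mem_left _ _ hm
  have : a - a₀ = (a - a₁) + (a₁ - a₀) := by ring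
  rw [this]
  exact add_mem (Ideal.le_radical ha') h01

/-- Coprimality with a monic polynomial lifts from a quotient by an ideal in the radical. -/
theorem isCoprime_of_map {B : Type*} [CommRing B] (π : A →+* B) (hπ : Function.Surjective π)
    (hker : RingHom.ker π ≤ Ideal.jacobson ⊥) {g h : Polynomial A} (hg : g.Monic)
    (hc : IsCoprime (g.map π) (h.map π)) : IsCoprime g h := by
  obtain ⟨a, b, hab⟩ := hc
  obtain ⟨a, rfl⟩ := Polynomial.map_surjective π hπ a
  obtain ⟨b, rfl⟩ := Polynomial.map_surjective π hπ b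
  set J := RingHom.ker π
  have hfin : Module.Finite A (AdjoinRoot g) := hg.finite_adjoinRoot
  set t := AdjoinRoot.mk g h
  have key : (⊤ : Submodule A (AdjoinRoot g)) ≤
      LinearMap.range (LinearMap.mulLeft A t) ⊔ J • ⊤ := by
    rintro y -
    obtain ⟨y, rfl⟩ := AdjoinRoot.mk_surjective y
    have hr : ∀ i, (1 - a * g - b * h).coeff i ∈ J := by
      intro i
      have hz : (1 - a * g - b * h).map π = 0 := by
        simp only [Polynomial.map_sub, Polynomial.map_one, Polynomial.map_mul]
        rw [← hab]; ring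
      rw [RingHom.mem_ker, ← coeff_map, hz, coeff_zero]
    have hy : AdjoinRoot.mk g y =
        t * AdjoinRoot.mk g (b * y) + AdjoinRoot.mk g ((1 - a * g - b * h) * y) := by
      have hgz : AdjoinRoot.mk g g = 0 := AdjoinRoot.mk_self
      simp only [map_mul, map_sub, map_one, hgz, t]
      ring
    rw [hy]
    refine Submodule.add_mem_sup ⟨_, rfl⟩ ?_
    rw [Ideal.smul_top_eq_map, Submodule.restrictScalars_mem, AdjoinRoot.algebraMap_eq,
      AdjoinRoot.of, ← Ideal.map_map]
    exact Ideal.mem_map_of_mem _ (Ideal.mul_mem_right _ _ (Ideal.mem_map_C_iff.2 hr))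
  have htop := Submodule.le_of_le_smul_of_le_jacobson_bot (Module.finite_def.1 hfin) hker key
  obtain ⟨y, hy⟩ := htop (Submodule.mem_top (x := (1 : AdjoinRoot g)))
  obtain ⟨y, rfl⟩ := AdjoinRoot.mk_surjective y
  simp only [LinearMap.mulLeft_apply, t] at hy
  rw [← map_mul, ← map_one (AdjoinRoot.mk g), eq_comm, AdjoinRoot.mk_eq_mk] at hy
  obtain ⟨c, hc⟩ := hy
  exact ⟨c, y, by linear_combination -hc⟩

theorem eq_of_monic_dvd {g g' : Polynomial A} (hg : g.Monic) (hg' : g'.Monic)
    (hd : g.natDegree = g'.natDegree) (h : g ∣ g') : g = g' := by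
  obtain ⟨c, rfl⟩ := h
  have hc : c.Monic := hg.of_mul_monic_left hg'
  rw [hg.natDegree_mul hc] at hd
  rw [hc.natDegree_eq_zero.1 (by omega), mul_one]

/-- Exact lifting of a coprime factorisation along a nilpotent ideal. -/
theorem exists_factor_of_nilpotent (m : ℕ) : ∀ (J : Ideal A), J ^ m = ⊥ →
    ∀ (f g h : Polynomial A), f.Monic → g.Monic → h.Monic →
      f.map (Ideal.Quotient.mk J) = (g * h).map (Ideal.Quotient.mk J) → IsCoprime g h →
      f.natDegree = g.natDegree + h.natDegree →
      ∃ g' h' : Polynomial A, g'.Monic ∧ h'.Monic ∧ f = g' * h' ∧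
        g'.natDegree = g.natDegree ∧
        g'.map (Ideal.Quotient.mk J) = g.map (Ideal.Quotient.mk J) ∧
        h'.map (Ideal.Quotient.mk J) = h.map (Ideal.Quotient.mk J) := by
  induction m using Nat.strong_induction_on with
  | _ m ih =>
    intro J hJ f g h hf hg hh hfgh hcop hdeg
    rcases subsingleton_or_nontrivial A with hA | hA
    · exact ⟨g, h, hg, hh, Subsingleton.elim _ _, rfl, rfl, rfl⟩
    by_cases hm : m ≤ 1
    · have hJ' : J = ⊥ := by
        rcases Nat.le_one_iff_eq_zero_or_eq_one.1 hm with rfl | rfl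
        · simp at hJ
        · simpa using hJ
      refine ⟨g, h, hg, hh, ?_, rfl, rfl, rfl⟩
      refine Polynomial.map_injective _ ?_ hfgh
      rw [RingHom.injective_iff_ker_eq_bot, Ideal.mk_ker, hJ']
    obtain ⟨a, b, hab⟩ := hcop
    set r := f - g * h
    set δ := (b * r) %ₘ g
    set ε := a * r + h * ((b * r) /ₘ g)
    have hrz : r.map (Ideal.Quotient.mk J) = 0 := by simp [r, hfgh]
    have hbr : (b * r) %ₘ g + g * ((b * r) /ₘ g) = b * r := modByMonic_add_div _ _
    have hsum : δ * h + ε * g = r := by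
      simp only [δ, ε]
      linear_combination h * hbr + r * hab
    have hδz : δ.map (Ideal.Quotient.mk J) = 0 := by
      simp [δ, map_modByMonic _ hg, hrz]
    have hεz : ε.map (Ideal.Quotient.mk J) = 0 := by
      simp [ε, map_divByMonic _ hg, hrz]
    set g₁ := g + δ
    set h₁ := h + ε
    have hδdeg : δ.degree < g.degree := degree_modByMonic_lt _ hg
    have hg₁ : g₁.Monic := hg.add_of_left hδdeg
    have hg₁d : g₁.natDegree = g.natDegree :=
      natDegree_eq_of_degree_eq (degree_add_eq_left_of_degree_lt hδdeg)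
    have hεdeg : ε.degree < h.degree := by
      have hrd : r.degree < (g * h).degree := by
        have hd : f.degree = (g * h).degree := by
          rw [degree_eq_natDegree hf.ne_zero, degree_eq_natDegree (hg.mul hh).ne_zero, hdeg,
            hg.natDegree_mul hh]
        exact hd ▸ degree_sub_lt_left hd hf.ne_zero (by rw [hf.leadingCoeff, (hg.mul hh).leadingCoeff])
      have h2 : (ε * g).degree < (g * h).degree := by
        rw [show ε * g = r - δ * h by linear_combination hsum]
        refine (degree_sub_le _ _).trans_lt (max_lt hrd ?_)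
        rw [hh.degree_mul, hh.degree_mul]
        rw [degree_eq_natDegree hh.ne_zero]
        exact WithBot.add_lt_add_right (by simp) hδdeg
      rw [hg.degree_mul, mul_comm g h, hg.degree_mul, degree_eq_natDegree hg.ne_zero] at h2
      exact lt_of_add_lt_add_right h2
    have hh₁ : h₁.Monic := hh.add_of_left hεdeg
    have hh₁d : h₁.natDegree = h.natDegree :=
      natDegree_eq_of_degree_eq (degree_add_eq_left_of_degree_lt hεdeg)
    have hg₁z : g₁.map (Ideal.Quotient.mk J) = g.map (Ideal.Quotient.mk J) := by simp [g₁, hδz]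
    have hh₁z : h₁.map (Ideal.Quotient.mk J) = h.map (Ideal.Quotient.mk J) := by simp [h₁, hεz]
    have hJjac : J ≤ Ideal.jacobson ⊥ := fun x hx =>
      Ideal.radical_le_jacobson ⟨m, hJ ▸ Ideal.pow_mem_pow hx m⟩
    have hcop₁ : IsCoprime g₁ h₁ := by
      refine isCoprime_of_map (Ideal.Quotient.mk J) Ideal.Quotient.mk_surjective
        (by rwa [Ideal.mk_ker]) hg₁ ?_
      rw [hg₁z, hh₁z]
      have hgh : IsCoprime g h := ⟨a, b, hab⟩
      exact hgh.map (mapRingHom (Ideal.Quotient.mk J))
    have herr : f.map (Ideal.Quotient.mk (J ^ 2)) = (g₁ * h₁).map (Ideal.Quotient.mk (J ^ 2)) := by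
      have hrdef : r = f - g * h := rfl
      have he : f = g₁ * h₁ + (-(δ * ε)) := by
        show f = (g + δ) * (h + ε) + (-(δ * ε))
        linear_combination -hsum - hrdef
      have hz : (δ * ε).map (Ideal.Quotient.mk (J ^ 2)) = 0 := by
        ext i
        rw [coeff_map, coeff_zero, Ideal.Quotient.eq_zero_iff_mem, coeff_mul]
        refine Ideal.sum_mem _ fun p _ => ?_
        rw [pow_two]
        refine Ideal.mul_mem_mul ?_ ?_
        · rw [← Ideal.Quotient.eq_zero_iff_mem, ← coeff_map, hδz, coeff_zero]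
        · rw [← Ideal.Quotient.eq_zero_iff_mem, ← coeff_map, hεz, coeff_zero]
      rw [he, Polynomial.map_add, Polynomial.map_neg, hz, neg_zero, add_zero]
    have hJ2 : (J ^ 2) ^ ((m + 1) / 2) = ⊥ := by
      rw [← pow_mul, eq_bot_iff, ← hJ]
      exact Ideal.pow_le_pow_right (by omega)
    obtain ⟨g', h', hg', hh', hf', hd', hz', hz''⟩ :=
      ih ((m + 1) / 2) (by omega) (J ^ 2) hJ2 f g₁ h₁ hf hg₁ hh₁ herr hcop₁
        (by rw [hg₁d, hh₁d, hdeg])
    refine ⟨g', h', hg', hh', hf', hd'.trans hg₁d, ?_, ?_⟩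
    · rw [← hg₁z]
      have := congrArg (Polynomial.map (Ideal.Quotient.factor (Ideal.pow_le_self (I := J) two_ne_zero))) hz'
      simpa [Polynomial.map_map] using this
    · rw [← hh₁z]
      have := congrArg (Polynomial.map (Ideal.Quotient.factor (Ideal.pow_le_self (I := J) two_ne_zero))) hz''
      simpa [Polynomial.map_map] using this

end Groth.Agent.Hens22
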