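import Groth.Agent.Hens22.CoupleRoot
import Groth.Agent.FEt83.ClopenSections

/-!
The global functions of a henselian couple form a henselian pair.
-/

set_option autoImplicit false
universe u

noncomputable section

open AlgebraicGeometry CategoryTheory Limits TopologicalSpace Opposite Polynomial

namespace Groth.Agent.Hens22.CoupleGamma

variable {B C : CommRingCat.{u}} (ι : B ⟶ C)

/-- The scalars of a scheme over `Spec B`. -/
abbrev scal' {W : Scheme.{u}} (k : W ⟶ Spec B) : B ⟶ Γ(W, ⊤) :=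
  (Scheme.ΓSpecIso B).inv ≫ k.appTop

theorem isPushout_of_flat (hι : ι.hom.Flat) {W P : Scheme.{u}} [CompactSpace W] [QuasiSeparatedSpace W]
    (k : W ⟶ Spec B) {p : P ⟶ W} {q : P ⟶ Spec C} (H : IsPullback p q k (Spec.map ι)) :
    IsPushout (scal' k) ι p.appTop (scal' q) := by
  haveI : Flat (Spec.map ι) := Flat.SpecMap_iff.2 hι
  have hiso := isIso_pushoutSection_of_isQuasiSeparated_of_flat_right H
    (US := ⊤) (UT := ⊤) (UX := ⊤) (UY := ⊤) le_top le_top (by simp)
    (isAffineOpen_top _) (isAffineOpen_top _) isCompact_univ isQuasiSeparated_univ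
  have h := (isIso_pushoutSection_iff ..).1 hiso
  have h' : IsPushout k.appTop (Spec.map ι).appTop p.appTop q.appTop := by
    simpa [Scheme.Hom.appLE] using h
  refine IsPushout.of_iso h' (Scheme.ΓSpecIso B) (Iso.refl _) (Scheme.ΓSpecIso C) (Iso.refl _) ?_ ?_ ?_ ?_
  · simp [scal']
  · exact Scheme.ΓSpecIso_naturality ι
  · simp
  · simp [scal']

variable {X X₀ : Scheme.{u}} (i : X₀ ⟶ X) [IsClosedImmersion i] [CompactSpace X] [QuasiSeparatedSpace X]

include i in
theorem henselianRing_sections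
    (hX : ∀ (Y : Scheme.{u}) (g : Y ⟶ X), IsFinite g →
      ∀ V : Set ↥(pullback g i), IsClopen V →
        ∃! U : Set ↥Y, IsClopen U ∧ (pullback.fst g i).base ⁻¹' U = V) :
    HenselianRing Γ(X, ⊤) (RingHom.ker i.appTop.hom) := by
  let J := RingHom.ker i.appTop.hom
  have hjac : J ≤ Ideal.jacobson ⊥ := by
    intro b hb
    rw [Ideal.mem_jacobson_bot]
    intro y
    let s : Γ(X, ⊤) := b * y + 1
    let q := Spec.map (CommRingCat.ofHom (Ideal.Quotient.mk (Ideal.span {s})))
    haveI : IsClosedImmersion q := IsClosedImmersion.spec_of_surjective _ Ideal.Quotient.mk_surjective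
    let g := pullback.fst X.toSpecΓ q
    have hrange : ∀ z, g.base z ∉ X.basicOpen s := by
      intro z hz
      have h1 : (X.toSpecΓ).base (g.base z) = q.base ((pullback.snd X.toSpecΓ q).base z) := by
        rw [← Scheme.Hom.comp_apply, ← Scheme.Hom.comp_apply, pullback.condition]
      rw [← X.toSpecΓ_preimage_basicOpen] at hz
      have h2 : s ∉ ((X.toSpecΓ).base (g.base z)).asIdeal := hz
      refine h2 ?_
      rw [h1]
      show Ideal.Quotient.mk (Ideal.span {s}) s ∈ ((pullback.snd X.toSpecΓ q).base z).asIdeal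
      rw [Ideal.Quotient.eq_zero_iff_mem.2 (Ideal.mem_span_singleton_self s)]
      exact Ideal.zero_mem _
    haveI hempty : IsEmpty ↥(pullback g i) := ⟨fun z => by
      refine hrange ((pullback.fst g i).base z) ?_
      have h1 : g.base ((pullback.fst g i).base z) = i.base ((pullback.snd g i).base z) := by
        rw [← Scheme.Hom.comp_apply, ← Scheme.Hom.comp_apply, pullback.condition]
      rw [h1]
      show (pullback.snd g i).base z ∈ i ⁻¹ᵁ X.basicOpen s
      rw [Scheme.preimage_basicOpen_top]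
      have : i.appTop s = 1 := by
        show i.appTop (b * y + 1) = 1
        rw [map_add, map_mul, show i.appTop b = 0 from hb, zero_mul, zero_add, map_one]
      rw [this, Scheme.basicOpen_of_isUnit _ isUnit_one]
      trivial⟩
    have huniq := (hX _ g inferInstance ∅ isClopen_empty).unique
      (y₁ := Set.univ) (y₂ := ∅) ⟨isClopen_univ, Set.eq_empty_of_isEmpty _⟩ ⟨isClopen_empty, Set.preimage_empty⟩
    refine RingedSpace.isUnit_of_isUnit_germ X.toRingedSpace _ s fun x hx => ?_
    by_contra hx'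
    have hnb : x ∉ X.basicOpen s := fun h => hx' ((Scheme.mem_basicOpen_top ..).1 h)
    rw [← X.toSpecΓ_preimage_basicOpen] at hnb
    have hs : s ∈ ((X.toSpecΓ).base x).asIdeal := not_not.1 hnb
    have hmem : x ∈ Set.range g.base := by
      rw [Scheme.Pullback.range_fst]
      show (X.toSpecΓ).base x ∈ Set.range (PrimeSpectrum.comap (Ideal.Quotient.mk (Ideal.span {s})))
      rw [range_comap_of_surjective _ _ Ideal.Quotient.mk_surjective, Ideal.mk_ker]
      refine (PrimeSpectrum.mem_zeroLocus (X.toSpecΓ.base x) _).2 ?_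
      exact SetLike.coe_subset_coe.2 ((Ideal.span_singleton_le_iff_mem _).2 hs)
    obtain ⟨z, -⟩ := hmem
    exact (huniq ▸ Set.mem_univ z : z ∈ (∅ : Set _))
  refine ⟨hjac, fun f hf a₀ h₀ h₁ => CoupleRoot.exists_root J hjac hf a₀ h₀ h₁ fun e he => ?_⟩
  haveI := hf.free_adjoinRoot
  haveI := hf.finite_adjoinRoot
  let ι : Γ(X, ⊤) ⟶ CommRingCat.of (AdjoinRoot f) := CommRingCat.ofHom (AdjoinRoot.of f)
  have hflat : ι.hom.Flat := by
    show (algebraMap Γ(X, ⊤) (AdjoinRoot f)).Flat
    rw [RingHom.flat_algebraMap_iff]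
    infer_instance
  haveI : IsFinite (Spec.map ι) := IsFinite.SpecMap_iff _ |>.2
    (RingHom.finite_algebraMap.2 inferInstance : (algebraMap Γ(X, ⊤) (AdjoinRoot f)).Finite)
  let Y := pullback X.toSpecΓ (Spec.map ι)
  let g : Y ⟶ X := pullback.fst _ _
  let qY : Y ⟶ Spec (CommRingCat.of (AdjoinRoot f)) := pullback.snd _ _
  have hscal : scal' X.toSpecΓ = 𝟙 _ := by
    rw [scal', Scheme.toSpecΓ_appTop, Iso.inv_hom_id]
  have hPY := isPushout_of_flat ι hflat X.toSpecΓ (IsPullback.of_hasPullback X.toSpecΓ (Spec.map ι))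
  haveI hisoY : IsIso (scal' qY) := by
    rw [hscal] at hPY
    exact hPY.isIso_inr_of_isIso
  let fst := pullback.fst g i
  let snd := pullback.snd g i
  have hY0 : IsPullback snd (fst ≫ qY) (i ≫ X.toSpecΓ) (Spec.map ι) :=
    (IsPullback.of_hasPullback g i).flip.paste_vert (IsPullback.of_hasPullback X.toSpecΓ (Spec.map ι))
  haveI : CompactSpace X₀ := QuasiCompact.compactSpace_of_compactSpace i
  haveI : QuasiSeparatedSpace X₀ := quasiSeparatedSpace_of_quasiSeparated i
  have hP0 := isPushout_of_flat ι hflat _ hY0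
  let θ : Γ(X, ⊤) →+* Γ(X₀, ⊤) := i.appTop.hom
  have hscal0 : scal' (i ≫ X.toSpecΓ) = CommRingCat.ofHom θ := by
    rw [scal', Scheme.Hom.comp_appTop, ← Category.assoc]
    show scal' X.toSpecΓ ≫ _ = _
    rw [hscal, Category.id_comp]
    rfl
  let m : AdjoinRoot f →+* AdjoinRoot (f.map θ) :=
    AdjoinRoot.lift ((AdjoinRoot.of (f.map θ)).comp θ) (AdjoinRoot.root (f.map θ))
      (by rw [← eval₂_map]; exact AdjoinRoot.eval₂_root _)
  have hm : ∀ p : Γ(X, ⊤)[X], m (AdjoinRoot.mk f p) = AdjoinRoot.mk (f.map θ) (p.map θ) := by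
    intro p
    rw [AdjoinRoot.lift_mk, ← eval₂_map, ← AdjoinRoot.algebraMap_eq, ← aeval_def, AdjoinRoot.aeval_eq]
  let d := hP0.desc (CommRingCat.ofHom (AdjoinRoot.of (f.map θ))) (CommRingCat.ofHom m) (by
    rw [hscal0]
    ext b
    show AdjoinRoot.of (f.map θ) (θ b) = m (AdjoinRoot.of f b)
    rw [← AdjoinRoot.mk_C, ← AdjoinRoot.mk_C, hm, map_C])
  have hkill : ∀ c : AdjoinRoot f, fst.appTop (scal' qY c) = 0 → c ∈ J.map (AdjoinRoot.of f) := by
    intro c hc
    refine CoupleRoot.mem_map_of_map_eq_zero θ hf m hm ?_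
    have h2 : d (scal' (fst ≫ qY) c) = m c :=
      congrArg (fun k : _ ⟶ CommRingCat.of (AdjoinRoot (f.map θ)) => k c) (hP0.inr_desc (CommRingCat.ofHom (AdjoinRoot.of (f.map θ))) (CommRingCat.ofHom m) _)
    rw [← h2]
    refine (congrArg d ?_).trans (map_zero d.hom)
    exact hc
  have hmap : ∀ c ∈ J.map (AdjoinRoot.of f), fst.appTop (scal' qY c) = 0 := by
    intro c hc
    have hle : J.map (AdjoinRoot.of f) ≤ RingHom.ker (scal' qY ≫ fst.appTop).hom := by
      refine Ideal.map_le_iff_le_comap.2 fun b hb => ?_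
      have hw := congrArg (fun k => k b) hP0.w
      rw [hscal0] at hw
      refine hw.symm.trans ?_
      show snd.appTop (θ b) = 0
      rw [show θ b = 0 from hb, map_zero]
    exact hle hc
  let e₀ : Γ(pullback g i, ⊤) := fst.appTop (scal' qY e)
  have he₀ : IsIdempotentElem e₀ := by
    have := hmap _ he
    rwa [map_sub, map_sub, map_mul, map_mul, sub_eq_zero] at this
  have hV : IsClopen (((pullback g i).basicOpen e₀ : (pullback g i).Opens) : Set ↥(pullback g i)) := by
    refine ⟨?_, ((pullback g i).basicOpen _).2⟩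
    rw [← isOpen_compl_iff, FEt83.compl_basicOpen_of_idem he₀]
    exact ((pullback g i).basicOpen _).2
  obtain ⟨U, ⟨hU, hUV⟩, -⟩ := hX Y g inferInstance _ hV
  obtain ⟨ε', hε', hbU⟩ := FEt83.exists_idempotent_of_isClopen U hU
  refine ⟨inv (scal' qY) ε', hε'.map _, hkill _ ?_⟩
  have hq : scal' qY (inv (scal' qY) ε') = ε' :=
    congrArg (fun k => k ε') (IsIso.inv_hom_id (scal' qY))
  rw [map_sub, map_sub, hq]
  have hb : (pullback g i).basicOpen (fst.appTop ε') = (pullback g i).basicOpen e₀ := by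
    rw [← Scheme.preimage_basicOpen_top]
    refine SetLike.coe_injective ?_
    exact (congrArg (fst.base ⁻¹' ·) hbU).trans hUV
  have hε₀ : IsIdempotentElem (fst.appTop ε') := hε'.map _
  rw [sub_eq_zero]
  show fst.appTop ε' = e₀
  have key : ∀ a c : Γ(pullback g i, ⊤), IsIdempotentElem a → IsIdempotentElem c →
      (pullback g i).basicOpen a = (pullback g i).basicOpen c → a * (1 - c) = 0 := by
    intro a c ha hc hac
    refine FEt83.eq_zero_of_idem (ha.mul hc.one_sub) ?_
    rw [Scheme.basicOpen_mul, hac]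
    refine SetLike.coe_injective ?_
    rw [TopologicalSpace.Opens.coe_inf, ← FEt83.compl_basicOpen_of_idem hc, Set.inter_compl_self]
    rfl
  have k1 := key _ _ hε₀ he₀ hb
  have k2 := key _ _ he₀ hε₀ hb.symm
  linear_combination k1 - k2

end Groth.Agent.Hens22.CoupleGamma
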