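import Groth.Agent.Hens22.ClopenCouple
import Groth.Agent.Hens22.CoupleGamma
import Groth.Agent.SpPts86.SliceFlat

/-!
A henselian couple over a noetherian ring is proper over a henselian pair.
-/

set_option autoImplicit false
set_option maxSynthPendingDepth 6
universe u

noncomputable section

open AlgebraicGeometry CategoryTheory Limits TopologicalSpace Opposite

namespace Groth.Agent.Hens22.CoupleProper

variable (A : Type u) [CommRing A] [IsNoetherianRing A] (I : Ideal A) {X : Scheme.{u}}
  (f : X ⟶ Spec (CommRingCat.of A)) [IsProper f]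

theorem proper_over_henselian_pair
    (hX : ∀ (Y : Scheme.{u}) (g : Y ⟶ X), IsFinite g →
      ∀ V : Set ↥(pullback g (pullback.fst f (Spec.map (CommRingCat.ofHom (Ideal.Quotient.mk I))))), IsClopen V →
        ∃! U : Set ↥Y, IsClopen U ∧ (pullback.fst g (pullback.fst f (Spec.map (CommRingCat.ofHom (Ideal.Quotient.mk I))))).base ⁻¹' U = V) :
    ∃ (A' : Type u) (_ : CommRing A') (I' : Ideal A') (_ : HenselianRing A' I') (_ : IsNoetherianRing A')
      (f' : X ⟶ Spec (CommRingCat.of A')) (_ : IsProper f')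
      (t : pullback f (Spec.map (CommRingCat.ofHom (Ideal.Quotient.mk I))) ⟶ Spec (CommRingCat.of (A' ⧸ I'))),
      IsPullback (pullback.fst f (Spec.map (CommRingCat.ofHom (Ideal.Quotient.mk I)))) t f' (Spec.map (CommRingCat.ofHom (Ideal.Quotient.mk I'))) := by
  haveI : IsClosedImmersion (Spec.map (CommRingCat.ofHom (Ideal.Quotient.mk I))) :=
    IsClosedImmersion.spec_of_surjective _ Ideal.Quotient.mk_surjective
  haveI : CompactSpace X := QuasiCompact.compactSpace_of_compactSpace f
  haveI : QuasiSeparatedSpace X := quasiSeparatedSpace_of_quasiSeparated f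
  let i := pullback.fst f (Spec.map (CommRingCat.ofHom (Ideal.Quotient.mk I)))
  haveI := CoupleGamma.henselianRing_sections i hX
  let ρ : CommRingCat.of A ⟶ Γ(X, ⊤) := CommRingCat.ofHom (ClopenCouple.scal f)
  let I' : Ideal Γ(X, ⊤) := I.map ρ.hom
  haveI : HenselianRing Γ(X, ⊤) I' :=
    henselianRing_of_le (J := RingHom.ker i.appTop.hom)
      (Ideal.map_le_iff_le_comap.2 fun a ha => ClopenCouple.scal_mem_ker I f ha)
  have hfin : (ClopenCouple.scal (𝟙 X ≫ f)).Finite := ClopenCouple.finite_scal f X (𝟙 X)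
  rw [Category.id_comp] at hfin
  haveI : IsNoetherianRing Γ(X, ⊤) := by
    letI := (ClopenCouple.scal f).toAlgebra
    haveI : Module.Finite A Γ(X, ⊤) := hfin
    exact IsNoetherianRing.of_finite A _
  have hfac : X.toSpecΓ ≫ Spec.map ρ = f := by
    show X.toSpecΓ ≫ Spec.map ((Scheme.ΓSpecIso (CommRingCat.of A)).inv ≫ f.appTop) = f
    rw [Spec.map_comp, ← Category.assoc, ← Scheme.toSpecΓ_naturality, Category.assoc,
      toSpecΓ_SpecMap_ΓSpecIso_inv, Category.comp_id]
  haveI : IsProper X.toSpecΓ := by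
    haveI : IsProper (X.toSpecΓ ≫ Spec.map ρ) := hfac ▸ inferInstance
    exact IsProper.of_comp X.toSpecΓ (Spec.map ρ)
  have hpo := SpPts86.isPushout_quotient ρ I
  have hpb := (isPullback_SpecMap_of_isPushout _ _ _ _ hpo).flip
  have hbig : IsPullback i (pullback.snd f (Spec.map (CommRingCat.ofHom (Ideal.Quotient.mk I))))
      (X.toSpecΓ ≫ Spec.map ρ) (Spec.map (CommRingCat.ofHom (Ideal.Quotient.mk I))) := by
    rw [hfac]
    exact IsPullback.of_hasPullback _ _
  let t := hpb.lift (i ≫ X.toSpecΓ)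
    (pullback.snd f (Spec.map (CommRingCat.ofHom (Ideal.Quotient.mk I)))) (by rw [Category.assoc]; exact hbig.w)
  refine ⟨Γ(X, ⊤), inferInstance, I', inferInstance, inferInstance, X.toSpecΓ, inferInstance, t, ?_⟩
  refine IsPullback.of_bot ?_ (hpb.lift_fst _ _ _).symm hpb
  rw [show t ≫ _ = _ from hpb.lift_snd _ _ _]
  exact hbig

end Groth.Agent.Hens22.CoupleProper
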