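import Mathlib

/-!
Roots from liftable idempotents of `B[T]/f`.
-/

set_option autoImplicit false
universe u

noncomputable section

open Polynomial

namespace Groth.Agent.Hens22.CoupleRoot

variable {B : Type u} [CommRing B] (J : Ideal B)

/-- The kernel of `B[T]/f → B₀[T]/f₀`. -/
theorem mem_map_of_map_eq_zero {B₀ : Type u} [CommRing B₀] (θ : B →+* B₀) {f : B[X]} (hf : f.Monic)
    {c : AdjoinRoot f} (ψ : AdjoinRoot f →+* AdjoinRoot (f.map θ))
    (hψ : ∀ p : B[X], ψ (AdjoinRoot.mk f p) = AdjoinRoot.mk (f.map θ) (p.map θ)) (hc : ψ c = 0) :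
    c ∈ (RingHom.ker θ).map (AdjoinRoot.of f) := by
  obtain ⟨p, rfl⟩ := AdjoinRoot.mk_surjective c
  have h0 : (p %ₘ f).map θ = 0 := by
    rw [map_modByMonic θ hf, modByMonic_eq_zero_iff_dvd (hf.map θ), ← AdjoinRoot.mk_eq_zero, ← hψ]
    exact hc
  have hmem : p %ₘ f ∈ (RingHom.ker θ).map (C : B →+* B[X]) :=
    Ideal.mem_map_C_iff.2 fun n => by
      rw [RingHom.mem_ker, ← coeff_map, h0, coeff_zero]
  have h1 : AdjoinRoot.mk f p = AdjoinRoot.mk f (p %ₘ f) := by
    rw [AdjoinRoot.mk_eq_mk]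
    exact ⟨p /ₘ f, sub_eq_iff_eq_add'.2 (modByMonic_add_div p f).symm⟩
  rw [h1]
  have := Ideal.mem_map_of_mem (AdjoinRoot.mk f) hmem
  rwa [Ideal.map_map] at this

/-- A simple root modulo `J` lifts if idempotents of `B[T]/f` lift. -/
theorem exists_root (hJ : J ≤ Ideal.jacobson ⊥) {f : B[X]} (hf : f.Monic) (a₀ : B)
    (h₀ : f.eval a₀ ∈ J) (h₁ : IsUnit (Ideal.Quotient.mk J (f.derivative.eval a₀)))
    (hlift : ∀ e : AdjoinRoot f, e * e - e ∈ J.map (AdjoinRoot.of f) →
      ∃ ε : AdjoinRoot f, IsIdempotentElem ε ∧ ε - e ∈ J.map (AdjoinRoot.of f)) :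
    ∃ a : B, f.IsRoot a ∧ a - a₀ ∈ J := by
  rcases subsingleton_or_nontrivial B with hB | hB
  · exact ⟨a₀, Subsingleton.elim _ _, by simp⟩
  have hdeg : 1 ≤ f.natDegree := by
    by_contra hlt
    push Not at hlt
    have : f = 1 := hf.natDegree_eq_zero.1 (by omega)
    rw [this, eval_one] at h₀
    have := Ideal.mem_jacobson_bot.1 (hJ h₀) (-1)
    rw [one_mul, neg_add_cancel] at this
    exact not_isUnit_zero this
  let g := f /ₘ (X - C a₀)
  have hfg : (X - C a₀) * g + C (f.eval a₀) = f := by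
    rw [← modByMonic_X_sub_C_eq_C_eval f a₀, add_comm]
    exact modByMonic_add_div f (X - C a₀)
  have hgd : f.derivative.eval a₀ = g.eval a₀ := by
    conv_lhs => rw [← hfg]
    simp
  obtain ⟨v, hv⟩ := h₁.exists_right_inv
  obtain ⟨w, rfl⟩ := Ideal.Quotient.mk_surjective v
  have hw : g.eval a₀ * w - 1 ∈ J := by
    rw [← Ideal.Quotient.eq, map_mul, map_one, ← hgd]
    exact hv
  let J' := J.map (AdjoinRoot.of f)
  let t : AdjoinRoot f := AdjoinRoot.mk f (X - C a₀)
  let e : AdjoinRoot f := AdjoinRoot.mk f g * AdjoinRoot.of f w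
  have hte : t * e ∈ J' := by
    have h2 : AdjoinRoot.mk f ((X - C a₀) * g + C (f.eval a₀)) = 0 := by rw [hfg, AdjoinRoot.mk_self]
    rw [map_add, map_mul, AdjoinRoot.mk_C, add_eq_zero_iff_eq_neg] at h2
    show t * (AdjoinRoot.mk f g * AdjoinRoot.of f w) ∈ J'
    rw [← mul_assoc, h2]
    exact J'.mul_mem_right _ (J'.neg_mem (Ideal.mem_map_of_mem _ h₀))
  have hlin : ∀ p : B[X], AdjoinRoot.mk f p =
      t * AdjoinRoot.mk f (p /ₘ (X - C a₀)) + AdjoinRoot.of f (p.eval a₀) := by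
    intro p
    conv_lhs => rw [← modByMonic_add_div p (X - C a₀), modByMonic_X_sub_C_eq_C_eval, map_add,
      map_mul, AdjoinRoot.mk_C, add_comm]
  have hee : e * e - e ∈ J' := by
    have h2 : e - 1 = AdjoinRoot.mk f (g * C w - 1) := by
      rw [map_sub, map_mul, AdjoinRoot.mk_C, map_one]
    rw [show e * e - e = e * (e - 1) by ring, h2, hlin (g * C w - 1), mul_add]
    refine J'.add_mem ?_ (J'.mul_mem_left _ ?_)
    · rw [← mul_assoc, mul_comm e t]
      exact J'.mul_mem_right _ hte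
    · rw [eval_sub, eval_mul, eval_C, eval_one]
      exact Ideal.mem_map_of_mem _ hw
  obtain ⟨ε, hε, hεe⟩ := hlift e hee
  have htε : t * ε ∈ J' := by
    rw [show t * ε = t * e + t * (ε - e) by ring]
    exact J'.add_mem hte (J'.mul_mem_left _ hεe)
  -- the functional
  let φ : AdjoinRoot f →ₗ[B] B := (lcoeff B (f.natDegree - 1)).comp (AdjoinRoot.modByMonicHom hf)
  have hφJ : ∀ c ∈ J', φ c ∈ J := by
    intro c hc
    have : c ∈ (J • ⊤ : Submodule B (AdjoinRoot f)) := by
      rw [Ideal.smul_top_eq_map]; exact hc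
    refine Submodule.smul_induction_on this (fun j hj x _ => ?_) fun x y hx hy => ?_
    · rw [map_smul, smul_eq_mul]; exact J.mul_mem_right _ hj
    · rw [map_add]; exact J.add_mem hx hy
  have hφe : φ e = w := by
    have hgdeg : g.natDegree = f.natDegree - 1 := by
      rw [natDegree_divByMonic f (monic_X_sub_C a₀), natDegree_X_sub_C]
    have hdeg' : degree (X - C a₀) ≤ degree f := by
      rw [degree_X_sub_C, hf.ne_zero |> degree_eq_natDegree]
      exact_mod_cast hdeg
    have hgm : g.leadingCoeff = 1 := by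
      rw [leadingCoeff_divByMonic_of_monic (monic_X_sub_C a₀) hdeg']
      exact hf
    have hlt : (g * C w).degree < f.degree := by
      rw [degree_eq_natDegree hf.ne_zero]
      refine degree_le_natDegree.trans_lt ?_
      have := (natDegree_mul_C_le g w)
      exact_mod_cast (show (g * C w).natDegree < f.natDegree by omega)
    show (AdjoinRoot.modByMonicHom hf (AdjoinRoot.mk f g * AdjoinRoot.of f w)).coeff (f.natDegree - 1) = w
    rw [← AdjoinRoot.mk_C, ← map_mul, AdjoinRoot.modByMonicHom_mk,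
      (modByMonic_eq_self_iff hf).2 hlt, coeff_mul_C, ← hgdeg, coeff_natDegree, hgm, one_mul]
  have hu : IsUnit (φ ε) := by
    have h2 : φ ε * g.eval a₀ - 1 ∈ J := by
      have h3 := hφJ _ hεe
      rw [map_sub, hφe] at h3
      rw [show φ ε * g.eval a₀ - 1 = (φ ε - w) * g.eval a₀ + (g.eval a₀ * w - 1) by ring]
      exact J.add_mem (J.mul_mem_right _ h3) hw
    have h4 := Ideal.mem_jacobson_bot.1 (hJ h2) 1
    rw [mul_one, sub_add_cancel] at h4
    exact isUnit_of_mul_isUnit_left h4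
  let μ : AdjoinRoot f →ₗ[B] AdjoinRoot f := LinearMap.mulLeft B ε
  haveI := hf.finite_adjoinRoot
  have hgen : LinearMap.range μ ≤ B ∙ ε := by
    refine Submodule.le_of_le_smul_of_le_jacobson_bot (I := J)
      (by rw [LinearMap.range_eq_map]; exact Module.Finite.fg_top.map μ) hJ ?_
    rintro _ ⟨c, rfl⟩
    obtain ⟨p, rfl⟩ := AdjoinRoot.mk_surjective c
    rw [Submodule.mem_sup]
    refine ⟨p.eval a₀ • ε, Submodule.smul_mem _ _ (Submodule.mem_span_singleton_self ε),
      ε * (t * ε * AdjoinRoot.mk f (p /ₘ (X - C a₀))), ?_, ?_⟩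
    · have h5 : t * ε * AdjoinRoot.mk f (p /ₘ (X - C a₀)) ∈ (J • ⊤ : Submodule B (AdjoinRoot f)) := by
        rw [Ideal.smul_top_eq_map]; exact J'.mul_mem_right _ htε
      have h6 := Submodule.mem_map_of_mem (f := μ) h5
      rwa [Submodule.map_smul'', ← LinearMap.range_eq_map] at h6
    · show _ = ε * AdjoinRoot.mk f p
      rw [hlin p, Algebra.smul_def, AdjoinRoot.algebraMap_eq, mul_add,
        show ε * (t * ε * AdjoinRoot.mk f (p /ₘ (X - C a₀))) = ε * ε * (t * AdjoinRoot.mk f (p /ₘ (X - C a₀))) by ring,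
        hε.eq]
      ring
  obtain ⟨b, hb⟩ := Submodule.mem_span_singleton.1 (hgen ⟨AdjoinRoot.mk f X, rfl⟩)
  have hb' : AdjoinRoot.mk f (X - C b) * ε = 0 := by
    rw [map_sub, AdjoinRoot.mk_C, sub_mul, sub_eq_zero, ← AdjoinRoot.algebraMap_eq, ← Algebra.smul_def, hb]
    exact mul_comm _ _
  have heval : f.eval b • ε = 0 := by
    have h7 : AdjoinRoot.mk f (f %ₘ (X - C b) + (X - C b) * (f /ₘ (X - C b))) = 0 := by
      rw [modByMonic_add_div f (X - C b), AdjoinRoot.mk_self]
    rw [map_add, map_mul, modByMonic_X_sub_C_eq_C_eval, AdjoinRoot.mk_C] at h7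
    have h8 := congrArg (· * ε) h7
    simp only [add_mul, zero_mul] at h8
    rw [mul_comm (AdjoinRoot.mk f (X - C b)), mul_assoc, hb', mul_zero, add_zero] at h8
    rw [Algebra.smul_def]
    exact h8
  refine ⟨b, ?_, ?_⟩
  · have h9 := congrArg φ heval
    rw [map_smul, map_zero, smul_eq_mul] at h9
    exact hu.mul_left_eq_zero.1 h9
  · have h10 : (b - a₀) • ε = t * ε := by
      rw [sub_smul, hb, Algebra.smul_def, AdjoinRoot.algebraMap_eq]
      show ε * AdjoinRoot.mk f X - _ = _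
      rw [show t = AdjoinRoot.mk f X - AdjoinRoot.of f a₀ by rw [← AdjoinRoot.mk_C, ← map_sub]]
      ring
    have h11 := hφJ _ htε
    rw [← h10, map_smul, smul_eq_mul] at h11
    exact (J.mul_unit_mem_iff_mem hu).1 h11

end Groth.Agent.Hens22.CoupleRoot
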