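import Groth.Agent.Hens22.PairOps
import Mathlib.Algebra.Colimit.DirectLimit
import Mathlib.RingTheory.FinitePresentation
import Mathlib.Algebra.Polynomial.Lifts

/-!
Direct limits of henselian pairs, and maps from finitely presented algebras into direct limits.
-/

set_option autoImplicit false
universe u

noncomputable section

namespace Groth.Agent.Hens22

open Polynomial

variable {A : Type u} [CommRing A] {κ : Type u} [Preorder κ] [IsDirectedOrder κ] [Nonempty κ]
  {G : κ → Type u} [∀ a, CommRing (G a)] [∀ a, Algebra A (G a)]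
  {t : ∀ a b : κ, a ≤ b → (G a →+* G b)} [DirectedSystem G (fun a b h => t a b h)]

theorem of_t (a b : κ) (h : a ≤ b) (x : G a) :
    DirectLimit.Ring.of G t b (t a b h x) = DirectLimit.Ring.of G t a x :=
  DirectLimit.Ring.of_f h x

theorem dirLim_exists_of (z : DirectLimit G t) : ∃ a x, DirectLimit.Ring.of G t a x = z := by
  induction z using DirectLimit.induction with
  | _ a x => exact ⟨a, x, rfl⟩

theorem dirLim_eq_iff {a : κ} (x y : G a) :
    DirectLimit.Ring.of G t a x = DirectLimit.Ring.of G t a y ↔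
      ∃ b h, t a b h x = t a b h y := by
  refine ⟨fun h => ?_, fun ⟨b, hb, h⟩ => by rw [← of_t a b hb, h, of_t]⟩
  obtain ⟨b, h₁, h₂, hb⟩ := Quotient.exact h
  exact ⟨b, h₁, hb⟩

/-- Finitely many elements of the direct limit come from one stage. -/
theorem dirLim_exists_of_fin {n : ℕ} (z : Fin n → DirectLimit G t) :
    ∃ a, ∃ x : Fin n → G a, ∀ i, DirectLimit.Ring.of G t a (x i) = z i := by
  classical
  choose a x hx using fun i => dirLim_exists_of (z i)
  obtain ⟨m, hm⟩ := Finite.exists_le a
  exact ⟨m, fun i => t (a i) m (hm i) (x i), fun i => by rw [of_t, hx]⟩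

omit [IsDirectedOrder κ] [Nonempty κ] in
theorem t_trans {a b c : κ} (h₁ : a ≤ b) (h₂ : b ≤ c) (x : G a) :
    t b c h₂ (t a b h₁ x) = t a c (h₁.trans h₂) x :=
  DirectedSystem.map_map (f := fun a b h => t a b h) h₁ h₂ x

variable [Algebra A (DirectLimit G t)] (I : Ideal A)
  (ht : ∀ (a b : κ) (h : a ≤ b), (t a b h).comp (algebraMap A (G a)) = algebraMap A (G b))
  (halg : ∀ (a : κ) (x : A), algebraMap A (DirectLimit G t) x =
      DirectLimit.Ring.of G t a (algebraMap A (G a) x))

omit [IsDirectedOrder κ] [Nonempty κ] [DirectedSystem G (fun a b h => t a b h)] [Algebra A (DirectLimit G t)] in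
include ht in
theorem t_algebraMap (a b : κ) (h : a ≤ b) (x : A) :
    t a b h (algebraMap A (G a) x) = algebraMap A (G b) x :=
  RingHom.congr_fun (ht a b h) x

include halg in
theorem of_map_ideal (a : κ) :
    (I.map (algebraMap A (G a))).map (DirectLimit.Ring.of G t a) =
      I.map (algebraMap A (DirectLimit G t)) := by
  rw [Ideal.map_map]
  congr 1
  exact RingHom.ext fun x => (halg a x).symm

include ht halg in
/-- An element of the extended ideal of the limit comes from the extended ideal of a stage. -/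
theorem dirLim_exists_mem_ideal {a : κ} {x : G a}
    (hx : DirectLimit.Ring.of G t a x ∈ I.map (algebraMap A (DirectLimit G t))) :
    ∃ b h, t a b h x ∈ I.map (algebraMap A (G b)) := by
  have key : ∀ z ∈ I.map (algebraMap A (DirectLimit G t)),
      ∃ c y, y ∈ I.map (algebraMap A (G c)) ∧ DirectLimit.Ring.of G t c y = z := by
    intro z hz
    induction hz using Submodule.span_induction with
    | mem w hw =>
      obtain ⟨r, hr, rfl⟩ := hw
      exact ⟨a, _, Ideal.mem_map_of_mem _ hr, (halg a r).symm⟩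
    | zero => exact ⟨a, 0, zero_mem _, map_zero _⟩
    | add v w _ _ hv hw =>
      obtain ⟨c, y, hy, rfl⟩ := hv
      obtain ⟨d, y', hy', rfl⟩ := hw
      obtain ⟨e, hce, hde⟩ := exists_ge_ge c d
      refine ⟨e, t c e hce y + t d e hde y', add_mem ?_ ?_, by rw [map_add, of_t, of_t]⟩
      · rw [← ht c e hce, ← Ideal.map_map]; exact Ideal.mem_map_of_mem _ hy
      · rw [← ht d e hde, ← Ideal.map_map]; exact Ideal.mem_map_of_mem _ hy'
    | smul r w _ hw =>
      obtain ⟨c, y, hy, rfl⟩ := hw
      obtain ⟨d, y', rfl⟩ := dirLim_exists_of r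
      obtain ⟨e, hce, hde⟩ := exists_ge_ge c d
      refine ⟨e, t d e hde y' * t c e hce y, Ideal.mul_mem_left _ _ ?_, by
        rw [map_mul, of_t, of_t, smul_eq_mul]⟩
      rw [← ht c e hce, ← Ideal.map_map]; exact Ideal.mem_map_of_mem _ hy
  obtain ⟨c, y, hy, he⟩ := key _ hx
  obtain ⟨d, had, hcd⟩ := exists_ge_ge a c
  rw [← of_t a d had, ← of_t c d hcd] at he
  obtain ⟨b, hdb, hb⟩ := (dirLim_eq_iff _ _).1 he
  refine ⟨b, had.trans hdb, ?_⟩
  rw [← t_trans had hdb x, ← hb, t_trans]
  rw [← ht c b (hcd.trans hdb), ← Ideal.map_map]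
  exact Ideal.mem_map_of_mem _ hy

include ht halg in
/-- A direct limit of henselian pairs is henselian. -/
theorem henselianRing_directLimit [∀ a, HenselianRing (G a) (I.map (algebraMap A (G a)))] :
    HenselianRing (DirectLimit G t) (I.map (algebraMap A (DirectLimit G t))) := by
  have hjac : I.map (algebraMap A (DirectLimit G t)) ≤ Ideal.jacobson ⊥ := by
    intro z hz
    rw [Ideal.mem_jacobson_bot]
    intro w
    obtain ⟨a, x, hx⟩ := dirLim_exists_of_fin ![z, w]
    obtain ⟨b, hab, hb⟩ := dirLim_exists_mem_ideal I ht halg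
      (show DirectLimit.Ring.of G t a (x 0) ∈ _ by rw [hx]; exact hz)
    have hu := Ideal.mem_jacobson_bot.1
      ((HenselianRing.jac (I := I.map (algebraMap A (G b)))) hb) (t a b hab (x 1))
    have := hu.map (DirectLimit.Ring.of G t b)
    rw [map_add, map_mul, map_one, of_t, of_t, hx, hx] at this
    simpa using this
  refine ⟨hjac, fun p hp z₀ h₁ h₂ => ?_⟩
  classical
  obtain ⟨a, x, hx⟩ := dirLim_exists_of_fin (Fin.snoc (fun i : Fin (p.natDegree + 1) => p.coeff i) z₀)
  have hlift : p ∈ Polynomial.lifts (DirectLimit.Ring.of G t a) := by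
    rw [Polynomial.lifts_iff_coeff_lifts]
    intro i
    rcases le_or_gt i p.natDegree with h | h
    · exact ⟨x (Fin.castSucc ⟨i, by omega⟩), by rw [hx, Fin.snoc_castSucc]⟩
    · exact ⟨0, by rw [map_zero, coeff_eq_zero_of_natDegree_lt h]⟩
  obtain ⟨q, rfl, -, hq⟩ := Polynomial.lifts_and_natDegree_eq_and_monic hlift hp
  have hz : DirectLimit.Ring.of G t a (x (Fin.last _)) = z₀ := by rw [hx, Fin.snoc_last]
  rw [← hz, Polynomial.eval_map_apply] at h₁
  obtain ⟨b, hab, hb⟩ := dirLim_exists_mem_ideal I ht halg h₁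
  rw [← hz, derivative_map, Polynomial.eval_map_apply] at h₂
  obtain ⟨d, hd⟩ := (isUnit_of_map_isUnit hjac h₂).exists_left_inv
  obtain ⟨c, y, rfl⟩ := dirLim_exists_of d
  obtain ⟨e, hbe, hce⟩ := exists_ge_ge b c
  have h3 : DirectLimit.Ring.of G t e (t c e hce y * t a e (hab.trans hbe)
      (q.derivative.eval (x (Fin.last _)))) = DirectLimit.Ring.of G t e 1 := by
    rw [map_mul, of_t, of_t, hd, map_one]
  obtain ⟨f, hef, hf⟩ := (dirLim_eq_iff _ _).1 h3
  have hu : IsUnit (t a f ((hab.trans hbe).trans hef) (q.derivative.eval (x (Fin.last _)))) := by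
    rw [map_mul, map_one, DirectedSystem.map_map (f := fun a b h => t a b h) (hab.trans hbe) hef] at hf
    exact IsUnit.of_mul_eq_one_right _ hf
  have hm : (q.map (t a f ((hab.trans hbe).trans hef))).eval (t a f ((hab.trans hbe).trans hef)
      (x (Fin.last _))) ∈ I.map (algebraMap A (G f)) := by
    rw [Polynomial.eval_map_apply, ← DirectedSystem.map_map (f := fun a b h => t a b h) hab
      (hbe.trans hef), ← ht b f (hbe.trans hef), ← Ideal.map_map]
    exact Ideal.mem_map_of_mem _ hb
  obtain ⟨r, hr, hr'⟩ := HenselianRing.is_henselian (I := I.map (algebraMap A (G f))) _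
    (hq.map _) _ hm (by rw [derivative_map, Polynomial.eval_map_apply]; exact hu.map _)
  refine ⟨DirectLimit.Ring.of G t f r, ?_, ?_⟩
  · have := congrArg (DirectLimit.Ring.of G t f) hr
    rw [← Polynomial.eval_map_apply, map_zero, Polynomial.map_map] at this
    rw [show (DirectLimit.Ring.of G t f).comp (t a f _) = DirectLimit.Ring.of G t a from
      RingHom.ext fun v => of_t _ _ _ v] at this
    exact this
  · rw [← hz, ← of_t a f ((hab.trans hbe).trans hef), ← map_sub, ← of_map_ideal I halg f]
    exact Ideal.mem_map_of_mem _ hr'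

include ht halg in
/-- A map from a finitely presented algebra into the limit comes from a stage. -/
theorem dirLim_exists_algHom {R : Type u} [CommRing R] [Algebra A R] [Algebra.FinitePresentation A R]
    (χ : R →ₐ[A] DirectLimit G t) :
    ∃ (a : κ) (φ : R →ₐ[A] G a), ∀ r, DirectLimit.Ring.of G t a (φ r) = χ r := by
  classical
  obtain ⟨n, p, hp, s, hs⟩ := Algebra.FinitePresentation.out (R := A) (A := R)
  obtain ⟨a, x, hx⟩ := dirLim_exists_of_fin (fun i => χ (p (MvPolynomial.X i)))
  have hval : ∀ (b : κ) (h : a ≤ b) (g : MvPolynomial (Fin n) A),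
      DirectLimit.Ring.of G t b (MvPolynomial.aeval (fun i => t a b h (x i)) g) = χ (p g) := by
    intro b h g
    let ofA : G b →ₐ[A] DirectLimit G t :=
      { DirectLimit.Ring.of G t b with commutes' := fun r => (halg b r).symm }
    show ofA _ = _
    rw [← AlgHom.comp_apply, ← AlgHom.comp_apply]
    refine DFunLike.congr_fun (MvPolynomial.algHom_ext fun i => ?_) g
    simp only [AlgHom.comp_apply, MvPolynomial.aeval_X]
    exact (of_t a b h (x i)).trans (hx i)
  have hz : ∀ g ∈ s, ∃ b h, t a b h (MvPolynomial.aeval x g) = 0 := by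
    intro g hg
    have h0 : DirectLimit.Ring.of G t a (MvPolynomial.aeval x g) =
        DirectLimit.Ring.of G t a 0 := by
      have hfun : (fun i => t a a le_rfl (x i)) = x :=
        funext fun i => DirectedSystem.map_self (f := fun a b h => t a b h) (x i)
      rw [← hfun, hval a le_rfl g, map_zero,
        show p g = 0 from RingHom.mem_ker.1 (hs ▸ Ideal.subset_span hg : g ∈ RingHom.ker p.toRingHom),
        map_zero]
    obtain ⟨b, h, hb⟩ := (dirLim_eq_iff _ _).1 h0
    exact ⟨b, h, by rw [hb, map_zero]⟩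
  choose! b hab hb using hz
  obtain ⟨m, hm⟩ := Finite.exists_le (fun g : s => b g.1)
  obtain ⟨m', ham, hmm⟩ := exists_ge_ge a m
  let tA : G a →ₐ[A] G m' := { t a m' ham with commutes' := fun r => t_algebraMap ht a m' ham r }
  let q : MvPolynomial (Fin n) A →ₐ[A] G m' := tA.comp (MvPolynomial.aeval x)
  have hq : RingHom.ker p.toRingHom ≤ RingHom.ker q := by
    rw [← hs, Submodule.span_le]
    intro g hg
    show q g = 0
    show t a m' ham (MvPolynomial.aeval x g) = 0
    rw [← t_trans (hab g hg) ((hm ⟨g, hg⟩).trans hmm),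
      hb g hg, map_zero]
  have hq' : ∀ z, z ∈ RingHom.ker p → q z = 0 := fun z hz => hq hz
  let φ : R →ₐ[A] G m' :=
    AlgHom.comp (Ideal.Quotient.liftₐ _ q hq')
      (Ideal.quotientKerAlgEquivOfSurjective hp).symm.toAlgHom
  refine ⟨m', φ, fun r => ?_⟩
  obtain ⟨g, rfl⟩ := hp r
  have : φ (p g) = q g := by
    show Ideal.Quotient.liftₐ _ q hq' ((Ideal.quotientKerAlgEquivOfSurjective hp).symm (p g)) = _
    rw [show (Ideal.quotientKerAlgEquivOfSurjective hp).symm (p g) = Ideal.Quotient.mk _ g from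
      (AlgEquiv.symm_apply_eq _).2 rfl]
    rfl
  rw [this]
  show DirectLimit.Ring.of G t m' (t a m' ham (MvPolynomial.aeval x g)) = _
  rw [← hval m' ham g, show t a m' ham (MvPolynomial.aeval x g) = tA (MvPolynomial.aeval x g) from rfl,
    ← AlgHom.comp_apply, MvPolynomial.comp_aeval]
  rfl

omit [Algebra A (DirectLimit G t)] in
include ht in
/-- Maps from a finite type algebra that agree in the limit agree at a stage. -/
theorem dirLim_algHom_eq {R : Type u} [CommRing R] [Algebra A R] [Algebra.FiniteType A R] {a : κ}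
    (φ ψ : R →ₐ[A] G a)
    (h : ∀ r, DirectLimit.Ring.of G t a (φ r) = DirectLimit.Ring.of G t a (ψ r)) :
    ∃ b, ∃ hab : a ≤ b, ∀ r, t a b hab (φ r) = t a b hab (ψ r) := by
  classical
  obtain ⟨n, p, hp⟩ := Algebra.FiniteType.iff_quotient_mvPolynomial''.1
    (inferInstance : Algebra.FiniteType A R)
  choose b hab hb using fun i => (dirLim_eq_iff _ _).1 (h (p (MvPolynomial.X i)))
  obtain ⟨m, hm⟩ := Finite.exists_le b
  obtain ⟨m', ham, hmm⟩ := exists_ge_ge a m
  refine ⟨m', ham, fun r => ?_⟩
  obtain ⟨g, rfl⟩ := hp r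
  let tA : G a →ₐ[A] G m' := { t a m' ham with commutes' := fun r => t_algebraMap ht a m' ham r }
  refine DFunLike.congr_fun (MvPolynomial.algHom_ext (f := (tA.comp φ).comp p)
    (g := (tA.comp ψ).comp p) fun i => ?_) g
  show t a m' ham (φ (p (MvPolynomial.X i))) = t a m' ham (ψ (p (MvPolynomial.X i)))
  rw [← t_trans (hab i) ((hm i).trans hmm), hb i, t_trans]

end Groth.Agent.Hens22
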