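import Groth.Agent.S0503
import Mathlib.AlgebraicGeometry.Morphisms.Etale
import Mathlib.AlgebraicGeometry.Morphisms.Finite
import Mathlib.RingTheory.Smooth.Flat
import Mathlib.RingTheory.Finiteness.ModuleFinitePresentation
import Mathlib.RingTheory.Flat.FaithfullyFlat.Algebra

/-!
Etale covers of henselian local schemes contain finite open covers.
-/

set_option autoImplicit false
universe u

open CategoryTheory AlgebraicGeometry IsLocalRing

noncomputable section

namespace Groth.Agent.Hens22

theorem exists_finite_open (A : Type u) [CommRing A] [HenselianLocalRing A] (T : Scheme.{u})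
    (f : T ⟶ Spec (CommRingCat.of A)) [Etale f] [Surjective f] :
    ∃ U : T.Opens, IsFinite (U.ι ≫ f) ∧ Surjective (U.ι ≫ f) := by
  obtain ⟨t, ht⟩ := f.surjective (IsLocalRing.closedPoint A)
  obtain ⟨_, ⟨W, hW, rfl⟩, htW, -⟩ := T.isBasis_affineOpens.exists_subset_of_mem_open
    (Set.mem_univ t) isOpen_univ
  let B := Γ(T, W)
  let ψ := Spec.preimage (hW.fromSpec ≫ f)
  have hψ : Spec.map ψ = hW.fromSpec ≫ f := Spec.map_preimage _
  let _ : Algebra A B := ψ.hom.toAlgebra
  have : Algebra.Etale A B := by
    have : Etale (Spec.map ψ) := by rw [hψ]; infer_instance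
    have h := (HasRingHomProperty.Spec_iff (P := @Etale)).1 this
    exact RingHom.etale_algebraMap.1 h
  have : Algebra.QuasiFinite A B := ⟨fun _ _ => Algebra.FormallyUnramified.finite_of_free _ _⟩
  obtain ⟨e, he, hfin, htop⟩ := S0503.result A B
  have := hfin
  let q := hW.primeIdealOf ⟨t, htW⟩
  have hq : q.asIdeal.comap (algebraMap A B) = maximalIdeal A := by
    have h1 : Spec.map ψ q = IsLocalRing.closedPoint A := by
      rw [hψ, Scheme.Hom.comp_apply, hW.fromSpec_primeIdealOf ⟨t, htW⟩]
      exact ht
    exact congrArg PrimeSpectrum.asIdeal h1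
  have heq : e ∉ q.asIdeal := fun hmem => by
    have hle : Ideal.span {e} ≤ q.asIdeal := by rwa [Ideal.span_singleton_le_iff_mem]
    have h1 : Ideal.map (algebraMap A (B ⧸ Ideal.span {e})) (maximalIdeal A) ≤
        q.asIdeal.map (Ideal.Quotient.mk (Ideal.span {e})) := by
      rw [IsScalarTower.algebraMap_eq A B (B ⧸ Ideal.span {e}), ← Ideal.map_map]
      exact Ideal.map_mono (Ideal.map_le_iff_le_comap.2 hq.ge)
    rw [htop, top_le_iff] at h1
    exact (Ideal.map_isPrime_of_surjective Ideal.Quotient.mk_surjective (by rwa [Ideal.mk_ker])).ne_top h1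
  let L := Localization.Away e
  have hone : IsLocalization.Away e (B ⧸ Ideal.span {1 - e}) :=
    IsLocalization.away_of_isIdempotentElem he Ideal.mk_ker Ideal.Quotient.mk_surjective
  let eL : (B ⧸ Ideal.span {1 - e}) ≃ₐ[B] L := IsLocalization.algEquiv (Submonoid.powers e) _ _
  have : Module.Finite A L := Module.Finite.equiv (eL.restrictScalars A).toLinearEquiv
  have : Algebra.Etale B L := Algebra.Etale.of_isLocalizationAway e
  have : Algebra.Etale A L := Algebra.Etale.comp A B L
  have : Nontrivial L := by
    by_contra h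
    rw [not_nontrivial_iff_subsingleton, IsLocalization.subsingleton_iff (S := L) (M := Submonoid.powers e)] at h
    obtain ⟨k, hk⟩ := h
    exact heq (q.isPrime.mem_of_pow_mem k ((show e ^ k = 0 from hk) ▸ q.asIdeal.zero_mem))
  have : Module.FinitePresentation A L := Module.FinitePresentation.of_finite_of_finitePresentation A L
  have : Module.Free A L := Module.free_of_flat_of_isLocalRing
  have : Module.FaithfullyFlat A L := inferInstance
  let j : Spec (CommRingCat.of L) ⟶ T :=
    Spec.map (CommRingCat.ofHom (algebraMap B L)) ≫ hW.fromSpec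
  have : IsOpenImmersion (Spec.map (CommRingCat.ofHom (algebraMap B L))) :=
    IsOpenImmersion.of_isLocalization e
  have hj : IsOpenImmersion j := inferInstanceAs (IsOpenImmersion (_ ≫ _))
  have hjf : j ≫ f = Spec.map (CommRingCat.ofHom (algebraMap A L)) := by
    show (_ ≫ _) ≫ _ = _
    rw [Category.assoc, ← hψ, ← Spec.map_comp]
    rfl
  have h1 : IsFinite (j ≫ f) := by
    rw [hjf, IsFinite.SpecMap_iff]
    exact RingHom.finite_algebraMap.2 ‹_›
  have h2 : Surjective (j ≫ f) := by
    rw [hjf]
    exact ⟨PrimeSpectrum.comap_surjective_of_faithfullyFlat (A := A) (B := L)⟩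
  refine ⟨j.opensRange, ?_, ?_⟩
  · rwa [← MorphismProperty.cancel_left_of_respectsIso @IsFinite j.isoOpensRange.hom,
      Scheme.Hom.isoOpensRange_hom_ι_assoc]
  · rwa [← MorphismProperty.cancel_left_of_respectsIso @Surjective j.isoOpensRange.hom,
      Scheme.Hom.isoOpensRange_hom_ι_assoc]

end Groth.Agent.Hens22
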