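import Groth.Agent.CAlg1.EtaleShrink

/-!
Étale neighbourhoods splitting off the finite part over a closed subscheme.
-/

set_option autoImplicit false
universe u

noncomputable section

open TensorProduct Polynomial

namespace Groth.Agent.Hens22.EtaleFinitePart

variable {A : Type u} [CommRing A] (I : Ideal A) {B : Type u} [CommRing B] [Algebra A B]

/-- A single function inverting the integral closure to the algebra near the special fibre. -/
theorem exists_elem [Algebra.FiniteType A B] [Module.Finite A (B ⧸ I.map (algebraMap A B))] :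
    ∃ e : integralClosure A B, (∀ x : B, ∃ m, IsIntegral A ((e : B) ^ m * x)) ∧
      e * e - e ∈ I.map (algebraMap A (integralClosure A B)) ∧
      (e : B) - 1 ∈ I.map (algebraMap A B) := by
  classical
  let B₀ := integralClosure A B
  let F : Ideal B₀ :=
    { carrier := {r | ∀ x : B, ∃ m, IsIntegral A ((r : B) ^ m * x)}
      zero_mem' := fun x => ⟨1, by simpa using isIntegral_zero⟩
      add_mem' := fun {r s} hr hs x => by
        obtain ⟨m, hm⟩ := hr x
        obtain ⟨n, hn⟩ := hs x
        refine ⟨m + n, ?_⟩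
        show IsIntegral A (((r : B) + s) ^ (m + n) * x)
        rw [add_pow, Finset.sum_mul]
        refine IsIntegral.sum _ fun j hj => ?_
        rcases le_or_gt m j with h | h
        · have e : (r : B) ^ j * (s : B) ^ (m + n - j) * ((m + n).choose j : B) * x =
              ((r : B) ^ (j - m) * (s : B) ^ (m + n - j) * ((m + n).choose j : B)) * ((r : B) ^ m * x) := by
            rw [show (r : B) ^ j = (r : B) ^ (j - m) * (r : B) ^ m by rw [← pow_add, Nat.sub_add_cancel h]]
            ring
          rw [e]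
          exact (((r.2.pow _).mul (s.2.pow _)).mul (isIntegral_natCast _)).mul hm
        · have hl : n ≤ m + n - j := by omega
          have e : (r : B) ^ j * (s : B) ^ (m + n - j) * ((m + n).choose j : B) * x =
              ((r : B) ^ j * (s : B) ^ (m + n - j - n) * ((m + n).choose j : B)) * ((s : B) ^ n * x) := by
            rw [show (s : B) ^ (m + n - j) = (s : B) ^ (m + n - j - n) * (s : B) ^ n by rw [← pow_add, Nat.sub_add_cancel hl]]
            ring
          rw [e]
          exact (((r.2.pow _).mul (s.2.pow _)).mul (isIntegral_natCast _)).mul hn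
      smul_mem' := fun c r hr x => by
        obtain ⟨m, hm⟩ := hr x
        refine ⟨m, ?_⟩
        show IsIntegral A (((c : B) * r) ^ m * x)
        rw [mul_pow, mul_assoc]
        exact (c.2.pow m).mul hm }
  let J := I.map (algebraMap A B₀)
  let JB := I.map (algebraMap A B)
  let K : Ideal B₀ := JB.comap (algebraMap B₀ B)
  have hJK : J ≤ K := Ideal.map_le_iff_le_comap.2 fun a ha => Ideal.mem_map_of_mem (algebraMap A B) ha
  have htop : K ⊔ F = ⊤ := by
    by_contra hne
    obtain ⟨P, hP, hle⟩ := Ideal.exists_le_maximal _ hne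
    haveI : Algebra.IsIntegral A (B ⧸ JB) := Algebra.IsIntegral.of_finite A _
    haveI : Algebra.IsIntegral B₀ (B ⧸ JB) := Algebra.IsIntegral.tower_top A
    obtain ⟨Q, -, hQ, hQP⟩ := Ideal.exists_ideal_over_prime_of_isIntegral (R := B₀) (S := B ⧸ JB) P ⊥ (by
      intro c hc
      refine hle (Ideal.mem_sup_left ?_)
      exact (Ideal.Quotient.eq_zero_iff_mem (I := JB)).1 hc)
    let q : Ideal B := Q.comap (Ideal.Quotient.mk JB)
    have hJq : JB ≤ q := fun x hx => by
      show Ideal.Quotient.mk JB x ∈ Q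
      rw [Ideal.Quotient.eq_zero_iff_mem.2 hx]
      exact Q.zero_mem
    haveI : q.IsPrime := hQ.comap _
    let L := (q.under A).map (algebraMap A B)
    have hIL : JB ≤ L := Ideal.map_mono (fun a ha => hJq (Ideal.mem_map_of_mem (algebraMap A B) ha))
    haveI : Module.Finite A (B ⧸ L) :=
      Module.Finite.of_surjective (Ideal.Quotient.factorₐ A hIL).toLinearMap
        (Ideal.Quotient.factor_surjective hIL)
    haveI : Algebra.WeaklyQuasiFiniteAt A q := inferInstance
    obtain ⟨r, hrq, hri, hr⟩ := Algebra.zariskisMainProperty_iff.1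
      (Algebra.ZariskisMainProperty.of_finiteType_of_weaklyQuasiFiniteAt (R := A) q)
    have hrF : (⟨r, hri⟩ : B₀) ∈ F := hr
    have hrP : (⟨r, hri⟩ : B₀) ∈ P := hle (Ideal.mem_sup_right hrF)
    rw [← hQP] at hrP
    exact hrq hrP
  have h1 : (1 : B₀) ∈ K ⊔ F := htop ▸ Submodule.mem_top
  obtain ⟨k, hk, f, hf, hkf⟩ := Submodule.mem_sup.1 h1
  have hnil : f * k ∈ J.radical := by
    have hk' : (k : B) ∈ (I • ⊤ : Submodule A B) := by
      rw [Ideal.smul_top_eq_map]; exact hk
    have key : ∀ y ∈ (I • ⊤ : Submodule A B), ∃ M, ∀ M', M ≤ M' → ∃ w ∈ J, (w : B) = (f : B) ^ M' * y := by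
      intro y hy
      refine Submodule.smul_induction_on hy (fun a ha x _ => ?_) fun y z ⟨M, hM⟩ ⟨N, hN⟩ => ?_
      · obtain ⟨m, hm⟩ := hf x
        refine ⟨m, fun M' hM' => ⟨algebraMap A B₀ a * (f ^ (M' - m) * ⟨_, hm⟩),
          J.mul_mem_right _ (Ideal.mem_map_of_mem _ ha), ?_⟩⟩
        show algebraMap A B a * ((f : B) ^ (M' - m) * ((f : B) ^ m * x)) = _
        rw [← mul_assoc ((f : B) ^ (M' - m)), ← pow_add, Nat.sub_add_cancel hM', Algebra.smul_def]
        ring
      · refine ⟨max M N, fun M' hM' => ?_⟩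
        obtain ⟨w, hw, e⟩ := hM M' (le_of_max_le_left hM')
        obtain ⟨w', hw', e'⟩ := hN M' (le_of_max_le_right hM')
        exact ⟨w + w', J.add_mem hw hw', by push_cast; rw [e, e', mul_add]⟩
    obtain ⟨M, hM⟩ := key _ hk'
    obtain ⟨w, hw, e⟩ := hM M le_rfl
    refine ⟨M + 1, ?_⟩
    have hwe : w = f ^ M * k := Subtype.ext (by push_cast; exact e)
    have : (f * k) ^ (M + 1) = f * k ^ M * w := by rw [hwe, mul_pow, pow_succ, pow_succ]; ring
    rw [this]
    exact J.mul_mem_left _ hw
  obtain ⟨n, hn⟩ := hnil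
  have hcop : IsCoprime (k ^ (n + 1)) (f ^ (n + 1)) := IsCoprime.pow ⟨1, 1, by rw [one_mul, one_mul, hkf]⟩
  obtain ⟨a, b, hab⟩ := hcop
  refine ⟨b * f ^ (n + 1), ?_, ?_, ?_⟩
  · exact F.mul_mem_left _ (F.pow_mem_of_mem hf _ (Nat.succ_pos _))
  · have hn' : (f * k) ^ (n + 1) ∈ J := by rw [pow_succ]; exact J.mul_mem_right _ hn
    have : b * f ^ (n + 1) * (b * f ^ (n + 1)) - b * f ^ (n + 1) = -(a * b) * (f * k) ^ (n + 1) := by
      linear_combination (b * f ^ (n + 1)) * hab
    rw [this]
    exact J.mul_mem_left _ hn'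
  · have : b * f ^ (n + 1) - 1 = -(a * k ^ (n + 1)) := by linear_combination hab
    have h2 : b * f ^ (n + 1) - 1 ∈ K := by
      rw [this]
      exact K.neg_mem (K.mul_mem_left _ (K.pow_mem_of_mem hk _ (Nat.succ_pos _)))
    have h3 : algebraMap B₀ B (b * f ^ (n + 1) - 1) ∈ JB := h2
    rwa [map_sub, map_one] at h3

theorem exists_etale_finite_part [Algebra.FiniteType A B]
    (hfin : Module.Finite A (B ⧸ I.map (algebraMap A B))) :
    ∃ (A' : Type u) (_ : CommRing A') (_ : Algebra A A') (_ : Algebra.Etale A A')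
      (C : Type u) (_ : CommRing C) (_ : Algebra A C) (_ : Algebra A' C) (_ : Algebra B C)
      (_ : IsScalarTower A A' C) (_ : IsScalarTower A B C),
      Function.Surjective ((Ideal.Quotient.mk (Ideal.map (algebraMap A A') I)).comp (algebraMap A A')) ∧
      RingHom.ker ((Ideal.Quotient.mk (Ideal.map (algebraMap A A') I)).comp (algebraMap A A')) = I ∧
      Algebra.Etale B C ∧ Module.Finite A' C ∧
      Function.Surjective ((Ideal.Quotient.mk (Ideal.map (algebraMap A C) I)).comp (algebraMap B C)) ∧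
      RingHom.ker ((Ideal.Quotient.mk (Ideal.map (algebraMap A C) I)).comp (algebraMap B C)) =
        Ideal.map (algebraMap A B) I := by
  classical
  obtain ⟨e, heF, hee, he1⟩ := exists_elem (B := B) I
  let B₀ := integralClosure A B
  obtain ⟨A₁, _, _, _, hbij, ε, hε, hεe⟩ := CAlg1.exists_etale_lift_idempotent (A := A) I (B := B₀)
    (Ideal.Quotient.mk _ e) (by
      show _ * _ = _
      rw [← map_mul, Ideal.Quotient.eq]
      exact hee)
  let D := A₁ ⊗[A] B₀
  let ρ : D := 1 ⊗ₜ e
  haveI : Algebra.IsIntegral A₁ D := inferInstance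
  -- the function inverting `e` on the idempotent piece
  have hy : ε - ε * ρ ∈ (I.map (algebraMap A A₁)).map (algebraMap A₁ D) := by
    rw [Ideal.map_map, ← IsScalarTower.algebraMap_eq]
    have h1 := hεe e rfl
    have : ε - ε * ρ = ε * (ε - ρ) := by linear_combination -hε.eq
    rw [this]
    exact Ideal.mul_mem_left _ _ h1
  obtain ⟨p, hp, hpy, hpI⟩ := Polynomial.exists_monic_aeval_eq_zero_forall_mem_of_mem_map hy
  let h : A₁ := p.eval 1
  obtain ⟨w, hw⟩ : ∃ w : D, ε * (algebraMap A₁ D h) = ε * (ρ * w) := by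
    obtain ⟨s, hs⟩ := sub_dvd_eval_sub (1 : D) (ε - ε * ρ) (p.map (algebraMap A₁ D))
    rw [eval_map, eval_map, ← aeval_def, ← aeval_def, hpy, sub_zero] at hs
    have hh : algebraMap A₁ D h = aeval (1 : D) p := by
      rw [← aeval_algebraMap_apply_eq_algebraMap_eval, map_one]
    refine ⟨s, ?_⟩
    rw [hh, hs]
    linear_combination (ρ * s - s) * hε.eq
  have hh1 : Ideal.Quotient.mk (I.map (algebraMap A A₁)) h = 1 := by
    show Ideal.Quotient.mk _ (p.eval 1) = 1
    rw [eval_eq_sum_range, map_sum, Finset.sum_range_succ, Finset.sum_eq_zero, zero_add]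
    · rw [hp.coeff_natDegree, one_pow, mul_one, map_one]
    · intro j hj
      rw [one_pow, mul_one, Ideal.Quotient.eq_zero_iff_mem]
      exact hpI j (Finset.mem_range.1 hj).ne
  -- the rings
  let T := B ⊗[A] A₁
  let ι : D →ₐ[A] T := (Algebra.TensorProduct.comm A A₁ B).toAlgHom.comp
    (Algebra.TensorProduct.map (AlgHom.id A A₁) B₀.val)
  have hιt : ∀ (a : A₁) (c : B₀), ι (a ⊗ₜ c) = (c : B) ⊗ₜ a := fun a c => rfl
  let jr : A₁ →ₐ[A] T := Algebra.TensorProduct.includeRight
  have hιA : ∀ a : A₁, ι (algebraMap A₁ D a) = jr a := fun a => by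
    show ι (a ⊗ₜ (1 : B₀)) = _
    rw [hιt]; rfl
  let z : T := ι ε * jr h
  let C := Localization.Away z
  let toC : T →ₐ[A] C := IsScalarTower.toAlgHom A T C
  have hz : IsUnit (toC z) := IsLocalization.map_units C (⟨z, 1, pow_one z⟩ : Submonoid.powers z)
  have huε : IsUnit (toC (ι ε)) := isUnit_of_mul_isUnit_left (y := toC (jr h)) (by rw [← map_mul]; exact hz)
  have hεC : toC (ι ε) = 1 :=
    (IsIdempotentElem.iff_eq_one_of_isUnit huε).1 ((hε.map ι.toRingHom).map toC.toRingHom)
  have hzh : toC z = toC (jr h) := by rw [map_mul, hεC, one_mul]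
  have hhu : IsUnit (toC (jr h)) := hzh ▸ hz
  let A' := Localization.Away h
  let φ : A' →+* C := IsLocalization.Away.lift (S := A') h (g := (toC.comp jr).toRingHom) hhu
  have hφ : ∀ a, φ (algebraMap A₁ A' a) = toC (jr a) := fun a => IsLocalization.Away.lift_eq (S := A') h hhu a
  letI : Algebra A' C := φ.toAlgebra
  haveI : IsScalarTower A A' C := IsScalarTower.of_algebraMap_eq fun a => by
    show _ = φ (algebraMap A A' a)
    rw [IsScalarTower.algebraMap_apply A A₁ A', hφ, AlgHom.commutes, AlgHom.commutes]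
  haveI : Algebra.Etale A₁ A' := Algebra.Etale.of_isLocalizationAway h
  haveI : Algebra.Etale A A' := Algebra.Etale.comp A A₁ A'
  haveI : Algebra.Etale T C := Algebra.Etale.of_isLocalizationAway z
  haveI : Algebra.Etale B C := Algebra.Etale.comp B T C
  -- finiteness
  haveI : Algebra.FiniteType A T := Algebra.FiniteType.trans (S := B) inferInstance inferInstance
  haveI : Algebra.FiniteType A C := Algebra.FiniteType.trans (S := T) inferInstance inferInstance
  haveI : Algebra.FiniteType A' C := Algebra.FiniteType.of_restrictScalars_finiteType A A' C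
  have hint : ∀ d : D, IsIntegral A' (toC (ι d)) := by
    intro d
    induction d using TensorProduct.induction_on with
    | zero => rw [map_zero, map_zero]; exact isIntegral_zero
    | add x y hx hy => rw [map_add, map_add]; exact hx.add hy
    | tmul a c =>
      have h1 : toC (ι (a ⊗ₜ c)) = toC (jr a) * toC ((c : B) ⊗ₜ 1) := by
        rw [← map_mul, hιt]
        congr 1
        show _ = (1 ⊗ₜ a : T) * _
        rw [Algebra.TensorProduct.tmul_mul_tmul, one_mul, mul_one]
      rw [h1]
      refine IsIntegral.mul ?_ ?_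
      · rw [← hφ]; exact isIntegral_algebraMap
      · exact (c.2.map (toC.comp (Algebra.TensorProduct.includeLeft : B →ₐ[A] T))).tower_top
  haveI : Algebra.IsIntegral A' C := by
    refine ⟨fun x => ?_⟩
    obtain ⟨t, ⟨_, N, rfl⟩, rfl⟩ := IsLocalization.exists_mk'_eq (Submonoid.powers z) x
    have hρw : toC (ι ρ) * toC (ι w) = toC (jr h) := by
      have h1 := congrArg (fun d => toC (ι d)) hw
      simp only [map_mul, hεC, one_mul, hιA] at h1
      exact h1.symm
    have hinv : ∀ m : ℕ, (toC (ι ρ)) ^ m * (toC (ι w) * algebraMap A' C (IsLocalization.Away.invSelf h)) ^ m = 1 := by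
      intro m
      rw [← mul_pow, ← mul_assoc, hρw, ← hφ]
      show (φ _ * φ _) ^ m = 1
      rw [← map_mul, IsLocalization.Away.mul_invSelf, map_one, one_pow]
    have ht : ∀ t : T, IsIntegral A' (toC t) := by
      intro t
      induction t using TensorProduct.induction_on with
      | zero => rw [map_zero]; exact isIntegral_zero
      | add x y hx hy => rw [map_add]; exact hx.add hy
      | tmul b a =>
        obtain ⟨m, hm⟩ := heF b
        have h2 : toC (b ⊗ₜ a) = toC (ι (a ⊗ₜ ⟨_, hm⟩)) *
            (toC (ι w) * algebraMap A' C (IsLocalization.Away.invSelf h)) ^ m := by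
          have h3 : toC (ι (a ⊗ₜ ⟨_, hm⟩)) = toC (ι ρ) ^ m * toC (b ⊗ₜ a) := by
            rw [← map_pow, ← map_mul, hιt, hιt, Algebra.TensorProduct.tmul_pow, one_pow,
              Algebra.TensorProduct.tmul_mul_tmul, one_mul]
          rw [h3, mul_right_comm, hinv, one_mul]
        rw [h2]
        exact (hint _).mul (((hint w).mul isIntegral_algebraMap).pow m)
    have h4 : IsLocalization.mk' C t (⟨z ^ N, N, rfl⟩ : Submonoid.powers z) =
        toC t * (algebraMap A' C (IsLocalization.Away.invSelf h)) ^ N := by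
      rw [IsLocalization.mk'_eq_iff_eq_mul]
      show toC t = _ * toC (z ^ N)
      rw [map_pow, hzh, mul_assoc, ← mul_pow, ← hφ]
      show toC t = toC t * (φ _ * φ _) ^ N
      rw [← map_mul, mul_comm _ (algebraMap A₁ A' h), IsLocalization.Away.mul_invSelf, map_one, one_pow, mul_one]
    rw [h4]
    exact (ht t).mul (isIntegral_algebraMap.pow N)
  haveI : Module.Finite A' C := Algebra.IsIntegral.finite
  -- the special fibres
  let qA : A₁ →ₐ[A] A ⧸ I :=
    ((AlgEquiv.ofBijective (IsScalarTower.toAlgHom A (A ⧸ I) (A₁ ⧸ I.map (algebraMap A A₁))) hbij).symm.toAlgHom).comp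
      (Ideal.Quotient.mkₐ A _)
  have hqh : qA h = 1 := by
    show _ = _
    rw [AlgHom.comp_apply, Ideal.Quotient.mkₐ_eq_mk, hh1, map_one]
  let JB := I.map (algebraMap A B)
  let μ : A ⧸ I →ₐ[A] B ⧸ JB :=
    Ideal.Quotient.liftₐ I (Algebra.ofId A (B ⧸ JB)) fun a ha =>
      Ideal.Quotient.eq_zero_iff_mem.2 (Ideal.mem_map_of_mem (algebraMap A B) ha)
  let r₀ : T →ₐ[A] B ⧸ JB :=
    Algebra.TensorProduct.lift (Ideal.Quotient.mkₐ A JB) (μ.comp qA) fun _ _ => Commute.all _ _
  have hr₀z : r₀ z = 1 := by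
    have hID : I.map (algebraMap A D) ≤ RingHom.ker (r₀.comp ι).toRingHom := Ideal.map_le_iff_le_comap.2 fun a ha => by
      show r₀.comp ι (algebraMap A D a) = 0
      rw [AlgHom.commutes]
      exact Ideal.Quotient.eq_zero_iff_mem.2 (Ideal.mem_map_of_mem (algebraMap A B) ha)
    have h5 : r₀ (ι ε) = r₀ (ι ρ) := by
      have h6 : r₀ (ι (ε - ρ)) = 0 := hID (hεe e rfl)
      rwa [map_sub, map_sub, sub_eq_zero] at h6
    rw [map_mul, h5, hιt, Algebra.TensorProduct.lift_tmul,
      show r₀ (jr h) = μ (qA h) from (Algebra.TensorProduct.lift_tmul _ _ _ (1 : B) h).trans (by rw [map_one, one_mul]; rfl), hqh, map_one, map_one, mul_one, mul_one]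
    exact Ideal.Quotient.eq.2 he1
  let r : C →ₐ[A] B ⧸ JB := IsLocalization.liftAlgHom (M := Submonoid.powers z) (S := C) (f := r₀) (by
    rintro ⟨_, N, rfl⟩
    show IsUnit (r₀ (z ^ N))
    rw [map_pow, hr₀z, one_pow]
    exact isUnit_one)
  have hsurjA : Function.Surjective ((Ideal.Quotient.mk (I.map (algebraMap A A'))).comp (algebraMap A A')) := by
    intro y
    obtain ⟨x, rfl⟩ := Ideal.Quotient.mk_surjective y
    obtain ⟨a, ⟨_, N, rfl⟩, rfl⟩ := IsLocalization.exists_mk'_eq (Submonoid.powers h) x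
    obtain ⟨q, hq⟩ := hbij.2 (Ideal.Quotient.mk _ a)
    obtain ⟨a₀, rfl⟩ := Ideal.Quotient.mk_surjective q
    refine ⟨a₀, ?_⟩
    have hle : I.map (algebraMap A A₁) ≤ (I.map (algebraMap A A')).comap (algebraMap A₁ A') := by
      rw [← Ideal.map_le_iff_le_comap, Ideal.map_map, ← IsScalarTower.algebraMap_eq]
    have e1 : Ideal.Quotient.mk (I.map (algebraMap A A')) (algebraMap A₁ A' a) =
        Ideal.Quotient.mk (I.map (algebraMap A A')) (algebraMap A A' a₀) := by
      rw [Ideal.Quotient.eq, IsScalarTower.algebraMap_apply A A₁ A', ← map_sub]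
      exact hle (Ideal.Quotient.eq.1 hq.symm)
    have e2 : Ideal.Quotient.mk (I.map (algebraMap A A')) (algebraMap A₁ A' (h ^ N)) = 1 := by
      rw [map_pow, map_pow, ← map_one (Ideal.Quotient.mk (I.map (algebraMap A A'))), ← map_one (algebraMap A₁ A')]
      rw [show Ideal.Quotient.mk (I.map (algebraMap A A')) (algebraMap A₁ A' h) =
        Ideal.Quotient.mk (I.map (algebraMap A A')) (algebraMap A₁ A' 1) from
          Ideal.Quotient.eq.2 (by rw [← map_sub]; exact hle (Ideal.Quotient.eq.1 (hh1.trans (map_one _).symm)))]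
      simp
    have := congrArg (Ideal.Quotient.mk (I.map (algebraMap A A'))) (IsLocalization.mk'_spec A' a (⟨h ^ N, N, rfl⟩ : Submonoid.powers h))
    rw [map_mul, e2, mul_one, e1] at this
    exact this.symm
  have hkerA : RingHom.ker ((Ideal.Quotient.mk (I.map (algebraMap A A'))).comp (algebraMap A A')) = I := by
    refine le_antisymm (fun a ha => ?_) fun a ha => Ideal.Quotient.eq_zero_iff_mem.2 (Ideal.mem_map_of_mem (algebraMap A A') ha)
    let πA : A' →+* A ⧸ I := IsLocalization.Away.lift (S := A') h (g := qA.toRingHom) (hqh.symm ▸ isUnit_one)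
    have hπ : ∀ x : A, πA (algebraMap A A' x) = Ideal.Quotient.mk I x := fun x => by
      rw [IsScalarTower.algebraMap_apply A A₁ A', IsLocalization.Away.lift_eq]
      exact qA.commutes x
    have hmem : algebraMap A A' a ∈ RingHom.ker πA := by
      refine (Ideal.map_le_iff_le_comap.2 fun x hx => ?_) (Ideal.Quotient.eq_zero_iff_mem.1 ha)
      show πA (algebraMap A A' x) = 0
      rw [hπ]
      exact Ideal.Quotient.eq_zero_iff_mem.2 hx
    rw [RingHom.mem_ker, hπ] at hmem
    exact Ideal.Quotient.eq_zero_iff_mem.1 hmem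
  let mB := (Ideal.Quotient.mk (I.map (algebraMap A C))).comp (algebraMap B C)
  have hrB : ∀ b : B, r (algebraMap B C b) = Ideal.Quotient.mk JB b := fun b => by
    rw [IsScalarTower.algebraMap_apply B T C]
    show r (algebraMap T C (b ⊗ₜ 1)) = _
    rw [IsLocalization.liftAlgHom_apply, IsLocalization.lift_eq]
    show r₀ (b ⊗ₜ 1) = _
    rw [Algebra.TensorProduct.lift_tmul, map_one, mul_one]
    rfl
  refine ⟨A', inferInstance, inferInstance, inferInstance, C, inferInstance, inferInstance, inferInstance,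
    inferInstance, inferInstance, inferInstance, hsurjA, hkerA, inferInstance, inferInstance, ?_, ?_⟩
  · have hmemR : ∀ a : A', ∃ b, mB b = Ideal.Quotient.mk _ (algebraMap A' C a) := by
      intro a
      obtain ⟨a₀, ha₀⟩ := hsurjA (Ideal.Quotient.mk _ a)
      refine ⟨algebraMap A B a₀, ?_⟩
      show Ideal.Quotient.mk _ (algebraMap B C (algebraMap A B a₀)) = _
      rw [← IsScalarTower.algebraMap_apply, IsScalarTower.algebraMap_apply A A' C, Ideal.Quotient.eq, ← map_sub]
      have h7 : algebraMap A A' a₀ - a ∈ I.map (algebraMap A A') := Ideal.Quotient.eq.1 ha₀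
      have h8 := Ideal.mem_map_of_mem (algebraMap A' C) h7
      rwa [Ideal.map_map, ← IsScalarTower.algebraMap_eq] at h8
    intro y
    obtain ⟨x, rfl⟩ := Ideal.Quotient.mk_surjective y
    obtain ⟨t, ⟨_, N, rfl⟩, rfl⟩ := IsLocalization.exists_mk'_eq (Submonoid.powers z) x
    have ht : ∃ b, mB b = Ideal.Quotient.mk _ (toC t) := by
      induction t using TensorProduct.induction_on with
      | zero => exact ⟨0, by rw [map_zero, map_zero, map_zero]⟩
      | add x y hx hy =>
        obtain ⟨b, hb⟩ := hx; obtain ⟨b', hb'⟩ := hy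
        exact ⟨b + b', by rw [map_add, map_add, map_add, hb, hb']⟩
      | tmul b a =>
        obtain ⟨b', hb'⟩ := hmemR (algebraMap A₁ A' a)
        refine ⟨b * b', ?_⟩
        rw [map_mul, hb', show algebraMap A' C (algebraMap A₁ A' a) = toC (jr a) from hφ a]
        show Ideal.Quotient.mk _ (algebraMap B C b) * _ = _
        rw [← map_mul, IsScalarTower.algebraMap_apply B T C]
        show Ideal.Quotient.mk _ (toC (b ⊗ₜ 1) * toC (jr a)) = _
        rw [← map_mul, show jr a = (1 ⊗ₜ a : T) from rfl, Algebra.TensorProduct.tmul_mul_tmul, mul_one, one_mul]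
    obtain ⟨b, hb⟩ := ht
    obtain ⟨b', hb'⟩ := hmemR (IsLocalization.Away.invSelf h ^ N)
    refine ⟨b * b', ?_⟩
    rw [map_mul, hb, hb', ← map_mul]
    congr 1
    rw [eq_comm, IsLocalization.mk'_eq_iff_eq_mul]
    show toC t = _ * toC (z ^ N)
    rw [map_pow, map_pow, hzh, mul_assoc, ← mul_pow, ← hφ]
    show toC t = toC t * (φ _ * φ _) ^ N
    rw [← map_mul, mul_comm _ (algebraMap A₁ A' h), IsLocalization.Away.mul_invSelf, map_one, one_pow, mul_one]
  · refine le_antisymm (fun b hb => ?_) (Ideal.map_le_iff_le_comap.2 fun a ha => ?_)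
    · have hmem : algebraMap B C b ∈ RingHom.ker r.toRingHom := by
        refine (Ideal.map_le_iff_le_comap.2 fun x hx => ?_) (Ideal.Quotient.eq_zero_iff_mem.1 hb)
        show r (algebraMap A C x) = 0
        rw [r.commutes]
        exact Ideal.Quotient.eq_zero_iff_mem.2 (Ideal.mem_map_of_mem (algebraMap A B) hx)
      exact Ideal.Quotient.eq_zero_iff_mem.1 ((hrB b).symm.trans hmem)
    · show Ideal.Quotient.mk (I.map (algebraMap A C)) (algebraMap B C (algebraMap A B a)) = 0
      rw [← IsScalarTower.algebraMap_apply, Ideal.Quotient.eq_zero_iff_mem]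
      exact Ideal.mem_map_of_mem _ ha

end Groth.Agent.Hens22.EtaleFinitePart
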