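import Groth.Agent.Hens22.EtaleAt
import Mathlib.RingTheory.Unramified.LocalStructure
import Mathlib.RingTheory.EssentialFiniteness
import Mathlib.RingTheory.Nakayama

/-!
Local structure of unramified and etale homomorphisms of local rings.
-/

set_option autoImplicit false
universe u

namespace Groth.Agent.Hens22

variable {A B : Type u} [CommRing A] [CommRing B] [Algebra A B] [IsLocalRing B]

/-- A local algebra essentially of finite type is a local ring of a finite type algebra. -/
theorem exists_finiteType_atPrime [Algebra.EssFiniteType A B] :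
    ∃ (C : Subalgebra A B) (q : Ideal C) (_ : q.IsPrime), Algebra.FiniteType A C ∧
      IsLocalization.AtPrime B q := by
  refine ⟨Algebra.EssFiniteType.subalgebra A B,
    (IsLocalRing.maximalIdeal B).comap (algebraMap _ B), Ideal.IsPrime.comap _, inferInstance, ?_⟩
  show IsLocalization (Ideal.primeCompl _) B
  have h : Ideal.primeCompl ((IsLocalRing.maximalIdeal B).comap
      (algebraMap (Algebra.EssFiniteType.subalgebra A B) B)) = Algebra.EssFiniteType.submonoid A B := by
    ext x
    show _ ∉ IsLocalRing.maximalIdeal B ↔ IsUnit _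
    rw [IsLocalRing.mem_maximalIdeal, mem_nonunits_iff, not_not]
  rw [h]
  infer_instance

variable [IsLocalRing A] [IsLocalHom (algebraMap A B)] [Algebra.EssFiniteType A B]

/-- Local structure of an unramified local homomorphism, as a surjection from a standard etale
local ring. -/
theorem exists_standardEtale_surjection
    (hm : (IsLocalRing.maximalIdeal A).map (algebraMap A B) = IsLocalRing.maximalIdeal B)
    [Algebra.IsSeparable (IsLocalRing.ResidueField A) (IsLocalRing.ResidueField B)] :
    ∃ (P : StandardEtalePair A) (𝔮 : Ideal P.Ring) (_ : 𝔮.IsPrime)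
      (π : Localization.AtPrime 𝔮 →ₐ[A] B), Function.Surjective π := by
  obtain ⟨C, q, hq, hC, hloc⟩ := exists_finiteType_atPrime (A := A) (B := B)
  have hBu : Algebra.FormallyUnramified A B := Algebra.FormallyUnramified.of_map_maximalIdeal hm
  let e : Localization.AtPrime q ≃ₐ[A] B :=
    (IsLocalization.algEquiv q.primeCompl (Localization.AtPrime q) B).restrictScalars A
  have : Algebra.IsUnramifiedAt A q := Algebra.FormallyUnramified.of_equiv e.symm
  obtain ⟨f, hf, P, φ, hφ⟩ :=
    Algebra.IsUnramifiedAt.exists_hasStandardEtaleSurjectionOn (R := A) q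
  have hunit : ∀ c : C, c ∉ q → IsUnit (algebraMap C B c) := fun c hc =>
    IsLocalization.map_units B (⟨c, hc⟩ : q.primeCompl)
  let ψ : Localization.Away f →ₐ[C] B := IsLocalization.liftAlgHom (M := Submonoid.powers f)
    (f := Algebra.ofId C B) (by
      rintro ⟨_, n, rfl⟩
      exact hunit _ fun h => hf (hq.mem_of_pow_mem n h))
  let g : P.Ring →ₐ[A] B := (ψ.restrictScalars A).comp φ
  let 𝔮 : Ideal P.Ring := (IsLocalRing.maximalIdeal B).comap g.toRingHom
  have hu : ∀ y : 𝔮.primeCompl, IsUnit (g y) := fun y => by
    have hy : g (y : P.Ring) ∉ IsLocalRing.maximalIdeal B := y.2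
    rwa [IsLocalRing.mem_maximalIdeal, mem_nonunits_iff, not_not] at hy
  let π : Localization.AtPrime 𝔮 →ₐ[A] B :=
    IsLocalization.liftAlgHom (M := 𝔮.primeCompl) (f := g) hu
  have hπ : ∀ x, π (algebraMap P.Ring _ x) = g x := fun x => by simp [π]
  refine ⟨P, 𝔮, Ideal.IsPrime.comap _, π, fun b => ?_⟩
  obtain ⟨⟨c, s⟩, hcs⟩ := IsLocalization.surj q.primeCompl b
  obtain ⟨pc, hpc⟩ := hφ (algebraMap C _ c)
  obtain ⟨ps, hps⟩ := hφ (algebraMap C _ (s : C))
  have hgc : g pc = algebraMap C B c := by
    show ψ (φ pc) = _
    rw [hpc, AlgHom.commutes]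
  have hgs : g ps = algebraMap C B (s : C) := by
    show ψ (φ ps) = _
    rw [hps, AlgHom.commutes]
  have hps' : ps ∈ 𝔮.primeCompl := by
    show g ps ∉ IsLocalRing.maximalIdeal B
    rw [IsLocalRing.mem_maximalIdeal, mem_nonunits_iff, not_not, hgs]
    exact hunit _ s.2
  refine ⟨IsLocalization.mk' _ pc (⟨ps, hps'⟩ : 𝔮.primeCompl), ?_⟩
  refine (hu ⟨ps, hps'⟩).mul_left_injective ?_
  show π _ * g ps = b * g ps
  rw [← hπ ps, ← map_mul, IsLocalization.mk'_spec, hπ, hπ, hgc, hgs]
  exact hcs.symm

/-- Local structure of an etale local homomorphism. -/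
theorem exists_standardEtale_equiv [IsNoetherianRing A] [Module.Flat A B]
    (hm : (IsLocalRing.maximalIdeal A).map (algebraMap A B) = IsLocalRing.maximalIdeal B)
    [Algebra.IsSeparable (IsLocalRing.ResidueField A) (IsLocalRing.ResidueField B)] :
    ∃ (P : StandardEtalePair A) (𝔮 : Ideal P.Ring) (_ : 𝔮.IsPrime),
      Nonempty (B ≃ₐ[A] Localization.AtPrime 𝔮) := by
  obtain ⟨P, 𝔮, _, π, hπ⟩ := exists_standardEtale_surjection hm
  have hBe : Algebra.FormallyEtale A B := by
    obtain ⟨C, q, hq, hC, hloc⟩ := exists_finiteType_atPrime (A := A) (B := B)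
    have hBu : Algebra.FormallyUnramified A B := Algebra.FormallyUnramified.of_map_maximalIdeal hm
    let e : Localization.AtPrime q ≃ₐ[A] B :=
      (IsLocalization.algEquiv q.primeCompl (Localization.AtPrime q) B).restrictScalars A
    have : Algebra.IsUnramifiedAt A q := Algebra.FormallyUnramified.of_equiv e.symm
    have : Algebra.FinitePresentation A C := Algebra.FinitePresentation.of_finiteType.1 hC
    let p := q.under A
    let _ := Localization.AtPrime.algebraOfLiesOver p q
    have : Module.Flat A (Localization.AtPrime q) := Module.Flat.of_linearEquiv e.toLinearEquiv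
    have : Module.Flat (Localization.AtPrime p) (Localization.AtPrime q) := by
      rw [Module.flat_iff_of_isLocalization (Localization.AtPrime p) p.primeCompl]
      infer_instance
    have : Algebra.FormallyEtale A (Localization.AtPrime q) :=
      isEtaleAt_of_isUnramifiedAt_of_flat_localization p q
    exact Algebra.FormallyEtale.of_equiv e
  let L := Localization.AtPrime 𝔮
  let _ : Algebra L B := π.toRingHom.toAlgebra
  have : IsScalarTower A L B := IsScalarTower.of_algebraMap_eq fun a => (π.commutes a).symm
  have : Algebra.FormallyEtale P.Ring L := Algebra.FormallyEtale.of_isLocalization 𝔮.primeCompl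
  have : Algebra.FormallyEtale A L := Algebra.FormallyEtale.comp A P.Ring L
  have : Algebra.FormallyEtale L B := Algebra.FormallyEtale.of_restrictScalars (R := A)
  have hid : IsIdempotentElem (RingHom.ker (algebraMap L B)) :=
    (Algebra.FormallyEtale.iff_of_surjective hπ).1 inferInstance
  have : IsNoetherianRing P.Ring := Algebra.FiniteType.isNoetherianRing A P.Ring
  have : IsNoetherianRing L := IsLocalization.isNoetherianRing 𝔮.primeCompl L inferInstance
  have hker : RingHom.ker π = ⊥ := by
    refine Submodule.eq_bot_of_le_smul_of_le_jacobson_bot (RingHom.ker π) _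
      (IsNoetherian.noetherian _) ?_ ?_
    · rw [Ideal.smul_eq_mul]
      exact le_of_eq hid.eq.symm
    · exact (IsLocalRing.le_maximalIdeal (RingHom.ker_ne_top π.toRingHom)).trans
        (IsLocalRing.maximalIdeal_le_jacobson ⊥)
  exact ⟨P, 𝔮, inferInstance,
    ⟨(AlgEquiv.ofBijective π ⟨(RingHom.injective_iff_ker_eq_bot _).2 hker, hπ⟩).symm⟩⟩

end Groth.Agent.Hens22
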