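import Mathlib.LinearAlgebra.ExteriorPower.Basic
import Mathlib.LinearAlgebra.Matrix.Determinant.Basic
import Mathlib.RingTheory.Spectrum.Prime.FreeLocus
import Mathlib.Algebra.Module.FinitePresentation
import Mathlib.LinearAlgebra.Dimension.Constructions

/-!
Annihilator of the top exterior power of the quotient by one vector.
-/

set_option autoImplicit false
universe u

open scoped TensorProduct

noncomputable section

namespace Groth.Agent.Hens22

variable {R : Type u} [CommRing R]

/-- The local model. -/
theorem annihilator_extPower_vec (n : ℕ) (a : Fin n → R) :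
    (⋀[R]^n ((Fin n → R) ⧸ Submodule.span R {a})).annihilator = Ideal.span (Set.range a) := by
  classical
  let F := (Fin n → R) ⧸ Submodule.span R {a}
  let π : (Fin n → R) →ₗ[R] F := (Submodule.span R {a}).mkQ
  let ω : ⋀[R]^n F := exteriorPower.ιMulti R n fun i => π (Pi.single i 1)
  let J := Ideal.span (Set.range a)
  let q : (Fin n → R) →ₗ[R] (Fin n → R ⧸ J) := LinearMap.pi fun i =>
    (Submodule.mkQ J).comp (LinearMap.proj i)
  have hq : Submodule.span R {a} ≤ LinearMap.ker q := by
    rw [Submodule.span_singleton_le_iff_mem, LinearMap.mem_ker]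
    funext i
    exact (Submodule.Quotient.mk_eq_zero J).2 (Ideal.subset_span ⟨i, rfl⟩)
  let det' : (Fin n → R ⧸ J) [⋀^Fin n]→ₗ[R] (R ⧸ J) :=
    { (Matrix.detRowAlternating (R := R ⧸ J) (n := Fin n)).toMultilinearMap.restrictScalars R with
      map_eq_zero_of_eq' := fun v i j h hij => Matrix.detRowAlternating.map_eq_zero_of_eq v h hij }
  let Φ : ⋀[R]^n F →ₗ[R] R ⧸ J :=
    exteriorPower.alternatingMapLinearEquiv (det'.compLinearMap ((Submodule.span R {a}).liftQ q hq))
  have hΦ : Φ ω = 1 := by
    show exteriorPower.alternatingMapLinearEquiv _ (exteriorPower.ιMulti R n _) = _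
    rw [exteriorPower.alternatingMapLinearEquiv_apply_ιMulti]
    show Matrix.det (fun i => q (Pi.single i 1)) = 1
    refine Eq.trans (congrArg Matrix.det ?_) Matrix.det_one
    funext i j
    show Submodule.Quotient.mk ((Pi.single i 1 : Fin n → R) j) = _
    rcases eq_or_ne i j with rfl | hne
    · rw [Pi.single_eq_same, Matrix.one_apply_eq]; rfl
    · rw [Pi.single_eq_of_ne hne.symm, Matrix.one_apply_ne hne]; rfl
  refine le_antisymm (fun c hc => ?_) ?_
  · have h := congrArg Φ (Module.mem_annihilator.1 hc ω)
    rw [map_smul, hΦ, map_zero] at h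
    have h' : (Submodule.Quotient.mk (c • (1 : R)) : R ⧸ J) = 0 := h
    rw [smul_eq_mul, mul_one, Submodule.Quotient.mk_eq_zero] at h'
    exact h'
  · rw [Ideal.span_le]
    rintro _ ⟨i, rfl⟩
    refine Module.mem_annihilator.2 fun z => ?_
    suffices h : a i • exteriorPower.map n π = (0 : ⋀[R]^n (Fin n → R) →ₗ[R] ⋀[R]^n F) by
      obtain ⟨y, rfl⟩ := exteriorPower.map_surjective (Submodule.mkQ_surjective _) z
      exact LinearMap.congr_fun h y
    apply exteriorPower.linearMap_ext
    refine Module.Basis.ext_alternating (Pi.basisFun R (Fin n)) fun v hv => ?_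
    have hv' : Function.Bijective v := Finite.injective_iff_bijective.1 hv
    obtain ⟨l, hl⟩ := hv'.2 i
    subst hl
    simp only [LinearMap.compAlternatingMap_apply, LinearMap.smul_apply, LinearMap.zero_apply,
      exteriorPower.map_apply_ιMulti]
    let g : Fin n → F := fun j => π (Pi.basisFun R (Fin n) (v j))
    show a (v l) • exteriorPower.ιMulti R n g = 0
    have h0 : (0 : F) = π a :=
      ((Submodule.Quotient.mk_eq_zero _).2 (Submodule.mem_span_singleton_self a)).symm
    have h1 : a = ∑ j, a (v j) • Pi.basisFun R (Fin n) (v j) :=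
      ((Pi.basisFun R (Fin n)).sum_repr a).symm.trans
        ((Equiv.ofBijective v hv').sum_comp fun j => a j • Pi.basisFun R (Fin n) j).symm
    have h3 : π a = ∑ j, a (v j) • g j :=
      (congrArg π h1).trans (by simp only [map_sum, map_smul]; rfl)
    have h2 : exteriorPower.ιMulti R n (Function.update g l (π a)) =
        a (v l) • exteriorPower.ιMulti R n g := by
      rw [h3, AlternatingMap.map_update_sum, Finset.sum_eq_single l]
      · rw [AlternatingMap.map_update_smul, Function.update_eq_self]
      · intro j _ hj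
        rw [AlternatingMap.map_update_smul, AlternatingMap.map_update_self _ _ (Ne.symm hj),
          smul_zero]
      · simp
    rw [← h2, ← h0]
    exact AlternatingMap.map_coord_zero _ l (by simp)

theorem freeLocus_vec (n : ℕ) (hn : 1 ≤ n) (a : Fin n → R) (p : PrimeSpectrum R)
    (hp : ¬ Ideal.span (Set.range a) ≤ p.asIdeal) :
    p ∈ Module.freeLocus R ((Fin n → R) ⧸ Submodule.span R {a}) ∧
      Module.rankAtStalk ((Fin n → R) ⧸ Submodule.span R {a}) p = n - 1 := by
  classical
  obtain ⟨i, hi⟩ : ∃ i, a i ∉ p.asIdeal := by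
    by_contra! h
    exact hp (Ideal.span_le.2 (Set.range_subset_iff.2 h))
  let F := (Fin n → R) ⧸ Submodule.span R {a}
  let ι' := {j : Fin n // j ≠ i}
  let φ₀ : (Fin n → R) →ₗ[R] (ι' → R) := LinearMap.pi fun j =>
    a i • LinearMap.proj j.1 - a j.1 • LinearMap.proj i
  let φ : F →ₗ[R] (ι' → R) := (Submodule.span R {a}).liftQ φ₀ (by
    rw [Submodule.span_singleton_le_iff_mem, LinearMap.mem_ker]
    funext j
    simp [φ₀, mul_comm])
  let σ₀ : (ι' → R) →ₗ[R] (Fin n → R) := LinearMap.pi fun j =>
    if h : j ≠ i then LinearMap.proj (⟨j, h⟩ : ι') else 0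
  let σ : (ι' → R) →ₗ[R] F := (Submodule.span R {a}).mkQ.comp σ₀
  have h1 : φ.comp σ = a i • LinearMap.id := by
    refine LinearMap.ext fun y => funext fun j => ?_
    show a i * σ₀ y j.1 - a j.1 * σ₀ y i = a i * y j
    have e1 : σ₀ y j.1 = y j := by simp [σ₀, j.2]
    have e2 : σ₀ y i = 0 := by simp [σ₀]
    rw [e1, e2, mul_zero, sub_zero]
  have h2 : σ.comp φ = a i • LinearMap.id := by
    refine Submodule.linearMap_qext _ (LinearMap.ext fun x => ?_)
    show (Submodule.Quotient.mk (σ₀ (φ₀ x)) : F) = Submodule.Quotient.mk (a i • x)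
    rw [Submodule.Quotient.eq, Submodule.mem_span_singleton]
    refine ⟨- x i, funext fun j => ?_⟩
    by_cases h : j = i
    · subst h
      simp [σ₀]; ring
    · simp [σ₀, φ₀, h]; ring
  let S := p.asIdeal.primeCompl
  let L : LocalizedModule S F →ₗ[Localization S] LocalizedModule S (ι' → R) := LocalizedModule.map S φ
  let L' : LocalizedModule S (ι' → R) →ₗ[Localization S] LocalizedModule S F := LocalizedModule.map S σ
  have hu : IsUnit (algebraMap R (Localization S) (a i)) := IsLocalization.map_units _ (⟨a i, hi⟩ : S)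
  have hL : Function.Bijective L := by
    have hb : ∀ {M : Type u} [AddCommGroup M] [Module R M] (x : LocalizedModule S M),
        LocalizedModule.map S (a i • LinearMap.id : M →ₗ[R] M) x =
          algebraMap R (Localization S) (a i) • x := fun x => by
      induction x using LocalizedModule.induction_on with
      | h m s => rw [LocalizedModule.map_mk, algebraMap_smul]; simp [LocalizedModule.smul'_mk]
    refine ⟨fun x y hxy => ?_, fun z => ?_⟩
    · refine hu.smul_left_cancel.1 ?_
      rw [← hb, ← hb, ← h2]
      induction x using LocalizedModule.induction_on with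
      | h m s =>
        induction y using LocalizedModule.induction_on with
        | h m' s' =>
          simp only [L, LocalizedModule.map_mk] at hxy
          have := congrArg (LocalizedModule.map S σ) hxy
          simpa [LocalizedModule.map_mk] using this
    · refine ⟨(hu.unit⁻¹ : (Localization S)ˣ).1 • L' z, ?_⟩
      rw [map_smul]
      have : L (L' z) = algebraMap R (Localization S) (a i) • z := by
        induction z using LocalizedModule.induction_on with
        | h m s =>
          simp only [L, L', LocalizedModule.map_mk, algebraMap_smul, LocalizedModule.smul'_mk]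
          rw [← LinearMap.comp_apply, h1]
          rfl
      rw [this, smul_smul, IsUnit.val_inv_mul, one_smul]
  let e := LinearEquiv.ofBijective L hL
  have hfree : Module.Free (Localization S) (LocalizedModule S (ι' → R)) :=
    Module.free_of_isLocalizedModule S (LocalizedModule.mkLinearMap S (ι' → R))
  refine ⟨(Module.Free.of_equiv e.symm : _), ?_⟩
  have : Nontrivial R := ⟨⟨0, 1, fun h => p.isPrime.ne_top ((Ideal.eq_top_iff_one _).2 (h ▸ zero_mem _))⟩⟩
  show Module.finrank (Localization S) (LocalizedModule S F) = n - 1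
  rw [e.finrank_eq]
  show Module.rankAtStalk (ι' → R) p = n - 1
  rw [Module.rankAtStalk_eq_finrank_of_free]
  simp [ι', Fintype.card_subtype_compl]

/-- Composite equal to a scalar on the exterior power. -/
theorem map_smul_id (n : ℕ) {M : Type u} [AddCommGroup M] [Module R M] (s : R) :
    exteriorPower.map n (s • LinearMap.id : M →ₗ[R] M) = s ^ n • LinearMap.id := by
  apply exteriorPower.linearMap_ext
  refine AlternatingMap.ext fun m => ?_
  simp only [exteriorPower.map_comp_ιMulti, AlternatingMap.compLinearMap_apply,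
    LinearMap.compAlternatingMap_apply, LinearMap.smul_apply, LinearMap.id_apply]
  rw [AlternatingMap.map_smul_univ]
  simp

/-- Local splittings of `M` as `R^n`. -/
def LocallyStd (n : ℕ) (M : Type u) [AddCommGroup M] [Module R M] : Prop :=
  ∀ P : Ideal R, P.IsPrime → ∃ s ∉ P, ∃ (T : (Fin n → R) →ₗ[R] M) (U : M →ₗ[R] (Fin n → R)),
    T.comp U = s • LinearMap.id ∧ U.comp T = s • LinearMap.id

theorem mem_of_forall_prime {J : Ideal R} {c : R}
    (h : ∀ P : Ideal R, P.IsPrime → ∃ s ∉ P, s * c ∈ J) : c ∈ J := by
  by_contra hc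
  have hne : Submodule.comap (LinearMap.mulRight R c) J ≠ ⊤ := fun ht => hc (by
    have : (1 : R) ∈ Submodule.comap (LinearMap.mulRight R c) J := ht ▸ Submodule.mem_top
    simpa using this)
  obtain ⟨P, hP, hle⟩ := Ideal.exists_le_maximal _ hne
  obtain ⟨s, hs, hsc⟩ := h P hP.isPrime
  exact hs (hle hsc)

theorem annihilator_extPower_quotient (n : ℕ) {M : Type u} [AddCommGroup M] [Module R M]
    (hM : LocallyStd (R := R) n M) (v : M) :
    (⋀[R]^n (M ⧸ Submodule.span R {v})).annihilator =
      Ideal.span (Set.range fun φ : M →ₗ[R] R => φ v) := by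
  classical
  let N := Submodule.span R {v}
  have key : ∀ (s : R) (T : (Fin n → R) →ₗ[R] M) (U : M →ₗ[R] (Fin n → R)),
      T.comp U = s • LinearMap.id → U.comp T = s • LinearMap.id →
      ∃ (T' : ((Fin n → R) ⧸ Submodule.span R {U v}) →ₗ[R] M ⧸ N)
        (U' : (M ⧸ N) →ₗ[R] ((Fin n → R) ⧸ Submodule.span R {U v})),
        T'.comp U' = s • LinearMap.id ∧ U'.comp T' = s • LinearMap.id := by
    intro s T U h1 h2
    refine ⟨Submodule.mapQ _ _ T ?_, Submodule.mapQ _ _ U ?_, ?_, ?_⟩
    · rw [Submodule.span_singleton_le_iff_mem]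
      show T (U v) ∈ N
      rw [← LinearMap.comp_apply, h1]
      exact N.smul_mem s (Submodule.mem_span_singleton_self v)
    · rw [Submodule.span_singleton_le_iff_mem]
      exact Submodule.mem_span_singleton_self _
    · refine Submodule.linearMap_qext _ (LinearMap.ext fun x => ?_)
      show (Submodule.Quotient.mk (T (U x)) : M ⧸ N) = s • Submodule.Quotient.mk x
      rw [← LinearMap.comp_apply, h1]
      rfl
    · refine Submodule.linearMap_qext _ (LinearMap.ext fun x => ?_)
      show (Submodule.Quotient.mk (U (T x)) : _ ⧸ Submodule.span R {U v}) = s • Submodule.Quotient.mk x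
      rw [← LinearMap.comp_apply, h2]
      rfl
  refine le_antisymm (fun c hc => mem_of_forall_prime fun P hP => ?_) ?_
  · obtain ⟨s, hs, T, U, h1, h2⟩ := hM P hP
    obtain ⟨T', U', h1', h2'⟩ := key s T U h1 h2
    refine ⟨s ^ n, fun h => hs (hP.mem_of_pow_mem n h), ?_⟩
    have : s ^ n * c ∈ Ideal.span (Set.range (U v)) := by
      rw [← annihilator_extPower_vec n (U v)]
      refine Module.mem_annihilator.2 fun z => ?_
      have h := congrArg (exteriorPower.map n U')
        (Module.mem_annihilator.1 hc (exteriorPower.map n T' z))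
      rw [map_smul, map_zero, ← LinearMap.comp_apply, ← exteriorPower.map_comp, h2', map_smul_id,
        LinearMap.smul_apply, LinearMap.id_apply, smul_smul, mul_comm] at h
      exact h
    refine Ideal.span_le.2 ?_ this
    rintro _ ⟨i, rfl⟩
    exact Ideal.subset_span ⟨(LinearMap.proj i).comp U, rfl⟩
  · rw [Ideal.span_le]
    rintro _ ⟨φ, rfl⟩
    refine Module.mem_annihilator.2 fun z => ?_
    suffices h : (1 : R) ∈ LinearMap.ker (LinearMap.toSpanSingleton R (⋀[R]^n (M ⧸ N)) (φ v • z)) by
      simpa using h
    refine mem_of_forall_prime fun P hP => ?_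
    obtain ⟨s, hs, T, U, h1, h2⟩ := hM P hP
    obtain ⟨T', U', h1', h2'⟩ := key s T U h1 h2
    refine ⟨s ^ n * s, fun h => (hP.mem_or_mem h).elim (fun h => hs (hP.mem_of_pow_mem n h)) hs, ?_⟩
    rw [mul_one, LinearMap.mem_ker, LinearMap.toSpanSingleton_apply, smul_smul]
    have hsv : s * φ v ∈ (⋀[R]^n ((Fin n → R) ⧸ Submodule.span R {U v})).annihilator := by
      rw [annihilator_extPower_vec]
      have : s * φ v = φ (T (U v)) := by rw [← LinearMap.comp_apply T U, h1]; simp
      have hUv : φ (T (U v)) = ∑ i, U v i * φ (T (Pi.single i 1)) := by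
        conv_lhs => rw [pi_eq_sum_univ' (U v)]
        simp
      rw [this, hUv]
      refine Ideal.sum_mem _ fun i _ => ?_
      exact Ideal.mul_mem_right _ _ (Ideal.subset_span ⟨i, rfl⟩)
    have h := congrArg (exteriorPower.map n T')
      (Module.mem_annihilator.1 hsv (exteriorPower.map n U' z))
    rw [map_smul, map_zero, ← LinearMap.comp_apply, ← exteriorPower.map_comp, h1', map_smul_id,
      LinearMap.smul_apply, LinearMap.id_apply, smul_smul] at h
    rw [← h]
    congr 1
    ring

end Groth.Agent.Hens22
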