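import Groth.Agent.E4O.IdealSepFlat
import Groth.Agent.CAlg7.FlatLimit
import Mathlib.RingTheory.LocalRing.Module

/-!
The smallest ideal modulo which a module becomes flat.
-/

set_option autoImplicit false
universe u

open TensorProduct IsLocalRing

noncomputable section

namespace Groth.Agent.Hens22.FlatIdeal

/-- Elements independent modulo the maximal ideal of a flat module are independent. -/
theorem linearIndependent_of_mod {R Y : Type u} [CommRing R] [IsLocalRing R] [AddCommGroup Y] [Module R Y]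
    [Module.Flat R Y] {ι : Type u} (v : ι → Y)
    (h : ∀ l : ι →₀ R, Finsupp.linearCombination R v l ∈ maximalIdeal R • (⊤ : Submodule R Y) →
      ∀ i, l i ∈ maximalIdeal R) : LinearIndependent R v := by
  classical
  refine Module.IsLocalRing.linearIndependent_of_flat v ?_
  rw [linearIndependent_iff]
  intro g hg
  choose r hr using fun i => Ideal.Quotient.mk_surjective (I := maximalIdeal R) (g i)
  let l : ι →₀ R := Finsupp.onFinset g.support (fun i => if i ∈ g.support then r i else 0)
    (fun i hi => by by_contra h'; simp [h'] at hi)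
  have hl : ∀ i, Ideal.Quotient.mk (maximalIdeal R) (l i) = g i := fun i => by
    rw [Finsupp.onFinset_apply]
    split_ifs with hi
    · exact hr i
    · rw [map_zero, Finsupp.notMem_support_iff.1 hi]; rfl
  have hmem : Finsupp.linearCombination R v l ∈ maximalIdeal R • (⊤ : Submodule R Y) := by
    rw [show maximalIdeal R • (⊤ : Submodule R Y) = LinearMap.ker (TensorProduct.mk R (ResidueField R) Y 1) from
      (LinearMap.ker_tensorProductMk Y (I := maximalIdeal R)).symm, LinearMap.mem_ker, ← hg,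
      Finsupp.linearCombination_apply, Finsupp.linearCombination_apply, map_finsuppSum]
    rw [Finsupp.sum_of_support_subset l (s := g.support) Finsupp.support_onFinset_subset _ (fun i _ => by simp),
      Finsupp.sum]
    refine Finset.sum_congr rfl fun i _ => ?_
    rw [map_smul, ← algebraMap_smul (ResidueField R) (l i)]
    exact congrArg (· • _) (hl i)
  exact Finsupp.ext fun i => by
    rw [← hl i, Ideal.Quotient.eq_zero_iff_mem.2 (h l hmem i)]; rfl

variable (R : Type u) [CommRing R] (X : Type u) [AddCommGroup X] [Module R X]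

/-- Flatness modulo an ideal. -/
def P (J : Ideal R) : Prop := Module.Flat (R ⧸ J) ((R ⧸ J) ⊗[R] X)

variable [IsLocalRing R]

/-- Above a power of the maximal ideal there is a least ideal modulo which the module is flat. -/
theorem exists_least (n : ℕ) : ∃ L : Ideal R, ∀ J : Ideal R, maximalIdeal R ^ n ≤ J → (P R X J ↔ L ≤ J) := by
  classical
  let 𝔪 := maximalIdeal R
  let X₀ := X ⧸ (𝔪 • (⊤ : Submodule R X))
  let _ : Field (R ⧸ 𝔪) := Ideal.Quotient.field 𝔪
  let b := Module.Free.chooseBasis (R ⧸ 𝔪) X₀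
  let κ := Module.Free.ChooseBasisIndex (R ⧸ 𝔪) X₀
  choose e he using fun i : κ => Submodule.Quotient.mk_surjective _ (b i)
  let π : (κ →₀ R) →ₗ[R] X := Finsupp.linearCombination R e
  have hπ0 : ∀ l : κ →₀ R, (Submodule.Quotient.mk (π l) : X₀) =
      Finsupp.linearCombination (R ⧸ 𝔪) b (l.mapRange (Ideal.Quotient.mk 𝔪) (map_zero _)) := by
    intro l
    induction l using Finsupp.induction_linear with
    | zero => simp
    | add f g hf hg => rw [map_add, Submodule.Quotient.mk_add, hf, hg, Finsupp.mapRange_add (map_add _), map_add]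
    | single a c =>
      rw [Finsupp.mapRange_single, Finsupp.linearCombination_single, Finsupp.linearCombination_single,
        Submodule.Quotient.mk_smul, he, ← algebraMap_smul (R ⧸ 𝔪) c (b a)]
      rfl
  have hindep : ∀ l : κ →₀ R, π l ∈ 𝔪 • (⊤ : Submodule R X) → ∀ i, l i ∈ 𝔪 := by
    intro l hl i
    have h := hπ0 l
    rw [(Submodule.Quotient.mk_eq_zero _).2 hl] at h
    have := DFunLike.congr_fun (linearIndependent_iff.1 b.linearIndependent _ h.symm) i
    exact Ideal.Quotient.eq_zero_iff_mem.1 this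
  have hspan : (⊤ : Submodule R X) ≤ LinearMap.range π ⊔ 𝔪 • (⊤ : Submodule R X) := by
    intro x _
    obtain ⟨g, hg⟩ : ∃ g, Finsupp.linearCombination (R ⧸ 𝔪) b g = (Submodule.Quotient.mk x : X₀) :=
      ⟨_, b.linearCombination_repr _⟩
    obtain ⟨l, rfl⟩ := Finsupp.mapRange_surjective _ (map_zero (Ideal.Quotient.mk 𝔪)) Ideal.Quotient.mk_surjective g
    rw [← hπ0, Submodule.Quotient.eq] at hg
    exact Submodule.mem_sup.2 ⟨π l, ⟨l, rfl⟩, x - π l, by simpa using neg_mem hg, add_sub_cancel _ _⟩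
  have hspan' : ∀ k : ℕ, (⊤ : Submodule R X) ≤ LinearMap.range π ⊔ 𝔪 ^ k • (⊤ : Submodule R X) := by
    intro k
    induction k with
    | zero => rw [pow_zero, Ideal.one_eq_top, Submodule.top_smul]; exact le_sup_right
    | succ k ih =>
      refine ih.trans (sup_le le_sup_left ((Submodule.smul_mono le_rfl hspan).trans ?_))
      rw [Submodule.smul_sup, ← Submodule.mul_smul, ← pow_succ]
      exact sup_le_sup_right Submodule.smul_le_right _
  let L : Ideal R := 𝔪 ^ n ⊔ Ideal.span {r | ∃ l : κ →₀ R, π l ∈ 𝔪 ^ n • (⊤ : Submodule R X) ∧ ∃ i, r = l i}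
  refine ⟨L, fun J hJ => ?_⟩
  -- the condition on coefficients
  have hC : L ≤ J ↔ ∀ l : κ →₀ R, π l ∈ J • (⊤ : Submodule R X) → ∀ i, l i ∈ J := by
    constructor
    · intro hL l hl i
      have h1 : J • (⊤ : Submodule R X) ≤ J • LinearMap.range π ⊔ 𝔪 ^ n • (⊤ : Submodule R X) :=
        (Submodule.smul_mono le_rfl (hspan' n)).trans (by
          rw [Submodule.smul_sup]; exact sup_le_sup_left Submodule.smul_le_right _)
      obtain ⟨y, hy, z, hz, hyz⟩ := Submodule.mem_sup.1 (h1 hl)
      rw [LinearMap.range_eq_map, ← Submodule.map_smul''] at hy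
      obtain ⟨l', hl', rfl⟩ := hy
      have hd : π (l - l') ∈ 𝔪 ^ n • (⊤ : Submodule R X) := by
        rw [map_sub, ← hyz, add_sub_cancel_left]; exact hz
      have h2 : (l - l') i ∈ J := hL (Ideal.mem_sup_right (Ideal.subset_span ⟨_, hd, i, rfl⟩))
      have h3 : l' i ∈ J := by
        refine Submodule.smul_induction_on hl' (fun r hr w _ => ?_) (fun a b ha hb => add_mem ha hb)
        exact J.mul_mem_right _ hr
      simpa using add_mem h2 h3
    · intro h
      refine sup_le hJ (Ideal.span_le.2 ?_)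
      rintro _ ⟨l, hl, i, rfl⟩
      exact h l (Submodule.smul_mono hJ le_rfl hl) i
  rw [hC]
  let σ : X →ₗ[R] (R ⧸ J) ⊗[R] X := TensorProduct.mk R (R ⧸ J) X 1
  have hσ : Function.Surjective σ := TensorProduct.mk_surjective R X (R ⧸ J) Ideal.Quotient.mk_surjective
  have hσker : ∀ x, σ x = 0 ↔ x ∈ J • (⊤ : Submodule R X) := fun x => by
    rw [← LinearMap.mem_ker, LinearMap.ker_tensorProductMk]
  let v : κ → (R ⧸ J) ⊗[R] X := fun i => σ (e i)
  have hv : ∀ l : κ →₀ R, Finsupp.linearCombination (R ⧸ J) v (l.mapRange (Ideal.Quotient.mk J) (map_zero _)) =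
      σ (π l) := by
    intro l
    induction l using Finsupp.induction_linear with
    | zero => simp
    | add f g hf hg => rw [Finsupp.mapRange_add (map_add _), map_add, hf, hg, map_add, map_add]
    | single a c =>
      rw [Finsupp.mapRange_single, Finsupp.linearCombination_single, Finsupp.linearCombination_single,
        map_smul, ← algebraMap_smul (R ⧸ J) c (σ (e a))]
      rfl
  constructor
  · intro hP
    rcases eq_or_ne J ⊤ with rfl | hJ1
    · exact fun _ _ _ => Submodule.mem_top
    have : Nontrivial (R ⧸ J) := Ideal.Quotient.nontrivial_iff.2 hJ1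
    have : IsLocalRing (R ⧸ J) := IsLocalRing.of_surjective' (Ideal.Quotient.mk J) Ideal.Quotient.mk_surjective
    have : Module.Flat (R ⧸ J) ((R ⧸ J) ⊗[R] X) := hP
    have hmax : maximalIdeal (R ⧸ J) = 𝔪.map (Ideal.Quotient.mk J) :=
      (IsLocalRing.eq_maximalIdeal ((Ideal.map_eq_top_or_isMaximal_of_surjective _
        Ideal.Quotient.mk_surjective inferInstance).resolve_left (fun h => by
          have h1 := congrArg (Ideal.comap (Ideal.Quotient.mk J)) h
          rw [Ideal.comap_map_of_surjective _ Ideal.Quotient.mk_surjective, Ideal.comap_top,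
            ← RingHom.ker_eq_comap_bot, Ideal.mk_ker] at h1
          exact (maximalIdeal.isMaximal R).ne_top (top_le_iff.1 (h1.ge.trans (sup_le le_rfl (le_maximalIdeal hJ1)))))) ).symm
    have hindv : LinearIndependent (R ⧸ J) v := by
      refine linearIndependent_of_mod v fun g hg i => ?_
      obtain ⟨l, rfl⟩ := Finsupp.mapRange_surjective _ (map_zero (Ideal.Quotient.mk J)) Ideal.Quotient.mk_surjective g
      rw [hv] at hg
      obtain ⟨z, hz, hzl⟩ : ∃ z ∈ 𝔪 • (⊤ : Submodule R X), σ z = σ (π l) := by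
        rw [hmax] at hg
        refine Submodule.smul_induction_on hg (fun r hr w _ => ?_) (fun a b => ?_)
        · obtain ⟨r₀, hr₀, rfl⟩ := (Ideal.mem_map_iff_of_surjective _ Ideal.Quotient.mk_surjective).1 hr
          obtain ⟨x, rfl⟩ := hσ w
          exact ⟨r₀ • x, Submodule.smul_mem_smul hr₀ Submodule.mem_top, by
            rw [map_smul, ← algebraMap_smul (R ⧸ J) r₀ (σ x)]; rfl⟩
        · rintro ⟨za, hza, ea⟩ ⟨zb, hzb, eb⟩
          exact ⟨za + zb, add_mem hza hzb, by rw [map_add, ea, eb]⟩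
      rw [← sub_eq_zero, ← map_sub, hσker] at hzl
      have h4 : π l ∈ 𝔪 • (⊤ : Submodule R X) := by
        have := sub_mem hz (Submodule.smul_mono (le_maximalIdeal hJ1) le_rfl hzl)
        rwa [sub_sub_cancel] at this
      rw [hmax, Finsupp.mapRange_apply]
      exact Ideal.mem_map_of_mem _ (hindep l h4 i)
    intro l hl i
    have h5 := DFunLike.congr_fun (linearIndependent_iff.1 hindv _ ((hv l).trans ((hσker _).2 hl))) i
    exact Ideal.Quotient.eq_zero_iff_mem.1 h5
  · intro h
    have hindv : LinearIndependent (R ⧸ J) v := linearIndependent_iff.2 fun g hg => by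
      obtain ⟨l, rfl⟩ := Finsupp.mapRange_surjective _ (map_zero (Ideal.Quotient.mk J)) Ideal.Quotient.mk_surjective g
      rw [hv, hσker] at hg
      exact Finsupp.ext fun i => Ideal.Quotient.eq_zero_iff_mem.2 (h l hg i)
    have hgen : ⊤ ≤ Submodule.span (R ⧸ J) (Set.range v) := by
      intro w _
      obtain ⟨x, rfl⟩ := hσ w
      obtain ⟨y, ⟨l, rfl⟩, z, hz, rfl⟩ := Submodule.mem_sup.1 (hspan' n (Submodule.mem_top : x ∈ ⊤))
      rw [map_add, (hσker z).2 (Submodule.smul_mono hJ le_rfl hz), add_zero, ← hv,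
        ← Finsupp.range_linearCombination]
      exact ⟨_, rfl⟩
    have := Module.Free.of_basis (Module.Basis.mk hindv hgen)
    show Module.Flat (R ⧸ J) ((R ⧸ J) ⊗[R] X)
    infer_instance

/-- A finite module over a noetherian local algebra is separated after tensoring. -/
theorem flat_of_forall_P {R : Type u} [CommRing R] [IsNoetherianRing R] [IsLocalRing R] {X : Type u}
    [AddCommGroup X] [Module R X] (S : Type u) [CommRing S] [IsNoetherianRing S] [Algebra R S]
    [Module S X] [IsScalarTower R S X] [Module.Finite S X]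
    (hloc : (maximalIdeal R).map (algebraMap R S) ≤ Ideal.jacobson ⊥) (I : Ideal R)
    (h : ∀ n, P R X (I ⊔ maximalIdeal R ^ n)) : P R X I := by
  refine E4O.IdealSep.flat_of_forall_flat_pow ((maximalIdeal R).map (Ideal.Quotient.mk I)) _ (fun a => ?_)
    (fun n => FlatNilCrit62.flat_baseChange_quotient (I ⊔ maximalIdeal R ^ n) X (h n) (R ⧸ I) _ ?_)
  · have : Module.Finite R a := Module.Finite.trans (R ⧸ I) a
    have := CAlg7.finite_tensor R S X a
    let e : a ⊗[R ⧸ I] ((R ⧸ I) ⊗[R] X) ≃ₗ[R] X ⊗[R] a :=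
      ((AlgebraTensorModule.cancelBaseChange R (R ⧸ I) (R ⧸ I) a X).restrictScalars R) ≪≫ₗ
        TensorProduct.comm R a X
    refine ⟨fun x hx => e.injective ?_⟩
    rw [map_zero]
    refine CAlg7.eq_zero_of_forall_mem_smul _ hloc _ fun k => ?_
    have hxk := SModEq.zero.1 (hx k)
    rw [← Ideal.map_pow] at hxk
    refine Submodule.smul_induction_on hxk (fun r hr w _ => ?_) (fun a b ha hb => by rw [map_add]; exact add_mem ha hb)
    obtain ⟨r₀, hr₀, rfl⟩ := (Ideal.mem_map_iff_of_surjective _ Ideal.Quotient.mk_surjective).1 hr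
    rw [show Ideal.Quotient.mk I r₀ • w = r₀ • w from algebraMap_smul (R ⧸ I) r₀ w, map_smul,
      ← algebraMap_smul S r₀ (e w), ← Ideal.map_pow]
    exact Submodule.smul_mem_smul (Ideal.mem_map_of_mem _ hr₀) Submodule.mem_top
  · rw [Ideal.Quotient.algebraMap_eq, Ideal.map_sup, Ideal.map_quotient_self, bot_sup_eq, Ideal.map_pow]

/-- The smallest ideal flattening a family of modules. -/
theorem exists_min {R : Type u} [CommRing R] [IsNoetherianRing R] [IsLocalRing R]
    [IsAdicComplete (maximalIdeal R) R] {α : Type u} (X : α → Type u) [∀ q, AddCommGroup (X q)]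
    [∀ q, Module R (X q)] (S : α → Type u) [∀ q, CommRing (S q)] [∀ q, IsNoetherianRing (S q)]
    [∀ q, Algebra R (S q)] [∀ q, Module (S q) (X q)] [∀ q, IsScalarTower R (S q) (X q)]
    [∀ q, Module.Finite (S q) (X q)]
    (hloc : ∀ q, (maximalIdeal R).map (algebraMap R (S q)) ≤ Ideal.jacobson ⊥) :
    ∃ I : Ideal R, I ≤ maximalIdeal R ∧ (∀ q, P R (X q) I) ∧ ∀ J, (∀ q, P R (X q) J) → I ≤ J := by
  classical
  let 𝔪 := maximalIdeal R
  have hmono : ∀ q {c b : Ideal R}, c ≤ b → P R (X q) c → P R (X q) b := fun q c b h hc =>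
    E4O.IdealSep.flat_quotient_of_le h (X q) hc
  choose L hL using fun (q : α) (n : ℕ) => exists_least R (X q) n
  let J : ℕ → Ideal R := fun n => (⨆ q, L q n) ⊔ 𝔪 ^ n
  have hJ : ∀ n (K : Ideal R), 𝔪 ^ n ≤ K → ((∀ q, P R (X q) K) ↔ J n ≤ K) := fun n K hK => by
    simp only [J, sup_le_iff, hK, and_true, iSup_le_iff]
    exact forall_congr' fun q => hL q n K hK
  have hJP : ∀ n q, P R (X q) (J n) := fun n => (hJ n _ le_sup_right).2 le_rfl
  have hanti : ∀ a b, a ≤ b → J b ≤ J a := fun a b h =>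
    (hJ b _ ((Ideal.pow_le_pow_right h).trans le_sup_right)).1 (hJP a)
  have hstep : ∀ k, J k ≤ J (k + 1) ⊔ 𝔪 ^ k := fun k =>
    (hJ k _ le_sup_right).1 fun q => hmono q le_sup_left (hJP (k + 1) q)
  let I : Ideal R := ⨅ n, J n
  have hlift : ∀ n, J n ≤ I ⊔ 𝔪 ^ n := by
    intro n x hx
    have hnext : ∀ k (y : J k), ∃ z : J (k + 1), (y : R) - z ∈ 𝔪 ^ k := fun k y => by
      obtain ⟨z, hz, w, hw, hzw⟩ := Submodule.mem_sup.1 (hstep k y.2)
      exact ⟨⟨z, hz⟩, by rw [← hzw, add_sub_cancel_left]; exact hw⟩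
    choose nxt hnxt using hnext
    let seq : ∀ k, J (n + k) := fun k => Nat.rec ⟨x, hx⟩ (fun j y => nxt (n + j) y) k
    have hseq : ∀ a b : ℕ, a ≤ b → (seq a).1 - (seq b).1 ∈ 𝔪 ^ (n + a) := by
      intro a b hab
      induction b, hab using Nat.le_induction with
      | base => simp
      | succ b hab ih =>
        have := add_mem ih (Ideal.pow_le_pow_right (by omega : n + a ≤ n + b) (hnxt (n + b) (seq b)))
        rwa [sub_add_sub_cancel] at this
    obtain ⟨y, hy⟩ := IsPrecomplete.prec' (I := 𝔪) (M := R) (fun k => (seq k).1) (fun {a b} hab => by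
      rw [SModEq.sub_mem, smul_eq_mul, Ideal.mul_top]
      exact Ideal.pow_le_pow_right (by omega) (hseq a b hab))
    have hy' : ∀ k, (seq k).1 - y ∈ 𝔪 ^ k := fun k => by
      have := SModEq.sub_mem.1 (hy k)
      rwa [smul_eq_mul, Ideal.mul_top] at this
    refine Submodule.mem_sup.2 ⟨y, (Submodule.mem_iInf _).2 fun j => ?_, x - y, ?_, add_sub_cancel _ _⟩
    · have h1 : (seq j).1 ∈ J j := hanti j (n + j) (by omega) (seq j).2
      have h2 := sub_mem h1 ((le_sup_right : 𝔪 ^ j ≤ J j) (hy' j))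
      rwa [sub_sub_cancel] at h2
    · have := add_mem (Ideal.pow_le_pow_right (by omega : n ≤ n + 0) (hseq 0 n (by omega))) (hy' n)
      rwa [sub_add_sub_cancel] at this
  refine ⟨I, ?_, fun q => flat_of_forall_P (S q) (hloc q) I fun n => hmono q (hlift n) (hJP n q),
    fun K hK => ?_⟩
  · refine (iInf_le _ 1).trans ((hJ 1 _ (by rw [pow_one])).1 fun q => ?_)
    let _ : Field (R ⧸ 𝔪) := Ideal.Quotient.field 𝔪
    show Module.Flat (R ⧸ 𝔪) ((R ⧸ 𝔪) ⊗[R] X q)
    infer_instance
  · intro x hx
    have hxn : ∀ n : ℕ, x ∈ K ⊔ 𝔪 ^ n := fun n =>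
      ((hJ n _ le_sup_right).1 fun q => hmono q le_sup_left (hK q)) ((Submodule.mem_iInf _).1 hx n)
    rcases eq_or_ne K ⊤ with rfl | hKt
    · trivial
    have : Nontrivial (R ⧸ K) := Ideal.Quotient.nontrivial_iff.2 hKt
    have : IsLocalRing (R ⧸ K) := IsLocalRing.of_surjective' (Ideal.Quotient.mk K) Ideal.Quotient.mk_surjective
    rw [← Ideal.Quotient.eq_zero_iff_mem, ← Submodule.mem_bot (R ⧸ K),
      ← Ideal.iInf_pow_eq_bot_of_isLocalRing (𝔪.map (Ideal.Quotient.mk K)) (fun h => by
        have h1 := congrArg (Ideal.comap (Ideal.Quotient.mk K)) h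
        rw [Ideal.comap_map_of_surjective _ Ideal.Quotient.mk_surjective, Ideal.comap_top,
          ← RingHom.ker_eq_comap_bot, Ideal.mk_ker] at h1
        exact (maximalIdeal.isMaximal R).ne_top (top_le_iff.1 (h1.ge.trans (sup_le le_rfl (le_maximalIdeal hKt))))),
      Submodule.mem_iInf]
    intro n
    have := Ideal.mem_map_of_mem (Ideal.Quotient.mk K) (hxn n)
    rwa [Ideal.map_sup, Ideal.map_quotient_self, bot_sup_eq, Ideal.map_pow] at this

end Groth.Agent.Hens22.FlatIdeal
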