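import Groth.Agent.S0387
import Groth.Agent.Hens22.PairOps
import Groth.Agent.Henz21.AwayPair
import Groth.Agent.FlatMor66.FlatDescentSource

/-!
Flat models of flat henselian finitely presented algebras.
-/

set_option autoImplicit false
universe u

noncomputable section

namespace Groth.Agent.Hens22.FlatModel

variable {A : Type u} [CommRing A] (I : Ideal A) (R₀ : Type u) [CommRing R₀] [Algebra A R₀]
  (B : Type u) [CommRing B] [Algebra R₀ B] [Algebra A B] [IsScalarTower A R₀ B]

theorem exists_flat_model [Algebra.FinitePresentation A R₀]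
    (hB : Hens2.IsPairHenselization R₀ (I.map (algebraMap A R₀)) B) [Module.Flat A B] :
    ∃ (S : Type u) (_ : CommRing S) (_ : Algebra A S) (_ : Algebra S B) (_ : IsScalarTower A S B),
      Algebra.FinitePresentation A S ∧ Module.Flat A S ∧
      Hens2.IsPairHenselization S (I.map (algebraMap A S)) B := by
  classical
  let J := I.map (algebraMap A R₀)
  let W : Set (PrimeSpectrum R₀) := {q | Module.Flat A (LocalizedModule q.asIdeal.primeCompl R₀)}
  have hW : IsOpen W := S0387.result (R := A) (S := R₀) (M := R₀)
  haveI : Module.Flat R₀ B := pairHens_flat hB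
  have hJW : PrimeSpectrum.zeroLocus (J : Set R₀) ⊆ W := by
    intro q hq
    have hJq : J ≤ q.asIdeal := hq
    let e := RingEquiv.ofBijective _ (quotientMap_bijective hB)
    let π : B →+* R₀ ⧸ J := e.symm.toRingHom.comp (Ideal.Quotient.mk _)
    have hπ : π.comp (algebraMap R₀ B) = Ideal.Quotient.mk J := RingHom.ext fun r => by
      show e.symm (Ideal.Quotient.mk _ (algebraMap R₀ B r)) = _
      rw [RingEquiv.symm_apply_eq]
      rfl
    let qb : Ideal (R₀ ⧸ J) := q.asIdeal.map (Ideal.Quotient.mk J)
    haveI : qb.IsPrime := Ideal.map_isPrime_of_surjective Ideal.Quotient.mk_surjective (by rwa [Ideal.mk_ker])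
    let Q : Ideal B := qb.comap π
    haveI : Q.IsPrime := Ideal.IsPrime.comap π
    haveI : Q.LiesOver q.asIdeal := ⟨by
      show q.asIdeal = (qb.comap π).comap (algebraMap R₀ B)
      rw [Ideal.comap_comap, hπ, Ideal.comap_map_of_surjective _ Ideal.Quotient.mk_surjective,
        ← RingHom.ker_eq_comap_bot, Ideal.mk_ker, sup_eq_left.2 hJq]⟩
    let ψ : Localization.AtPrime q.asIdeal →+* Localization.AtPrime Q :=
      Localization.localRingHom q.asIdeal Q (algebraMap R₀ B) (Q.over_def q.asIdeal)
    have hψ : ψ.Flat := RingHom.Flat.localRingHom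
      (RingHom.flat_algebraMap_iff.2 inferInstance) Q q.asIdeal (Q.over_def q.asIdeal)
    have hcomp : (ψ.comp (algebraMap A (Localization.AtPrime q.asIdeal))).Flat := by
      have e1 : ψ.comp (algebraMap A (Localization.AtPrime q.asIdeal)) = algebraMap A (Localization.AtPrime Q) := by
        ext a
        show ψ (algebraMap A (Localization.AtPrime q.asIdeal) a) = _
        rw [IsScalarTower.algebraMap_apply A R₀ (Localization.AtPrime q.asIdeal), Localization.localRingHom_to_map,
          ← IsScalarTower.algebraMap_apply, ← IsScalarTower.algebraMap_apply]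
      rw [e1, RingHom.flat_algebraMap_iff]
      haveI : Module.Flat B (Localization.AtPrime Q) := IsLocalization.flat _ Q.primeCompl
      exact Module.Flat.trans A B _
    have hfl := RingHom.flat_algebraMap_iff.1
      (FlatMor66.flat_of_comp_localHom (algebraMap A (Localization.AtPrime q.asIdeal)) ψ hψ hcomp)
    show Module.Flat A (LocalizedModule q.asIdeal.primeCompl R₀)
    exact Module.Flat.of_linearEquiv
      ((IsLocalizedModule.iso q.asIdeal.primeCompl
        (Algebra.linearMap R₀ (Localization.AtPrime q.asIdeal))).restrictScalars A)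
  obtain ⟨f, hfJ, hfW⟩ : ∃ f : R₀, f - 1 ∈ J ∧ (PrimeSpectrum.basicOpen f : Set (PrimeSpectrum R₀)) ⊆ W := by
    obtain ⟨K, hK⟩ := (PrimeSpectrum.isClosed_iff_zeroLocus_ideal _).1 hW.isClosed_compl
    have htop : J ⊔ K = ⊤ := by
      by_contra hne
      obtain ⟨M, hM, hle⟩ := Ideal.exists_le_maximal _ hne
      have h1 : (⟨M, hM.isPrime⟩ : PrimeSpectrum R₀) ∈ Wᶜ := by
        rw [hK]; exact SetLike.coe_subset_coe.2 (le_sup_right.trans hle)
      exact h1 (hJW (SetLike.coe_subset_coe.2 (le_sup_left.trans hle)))
    obtain ⟨j, hj, k, hk, hjk⟩ := Submodule.mem_sup.1 ((Ideal.eq_top_iff_one _).1 htop)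
    refine ⟨k, ?_, fun p hp => ?_⟩
    · rw [show k - 1 = -j by linear_combination hjk]
      exact J.neg_mem hj
    · by_contra hn
      have h1 : p ∈ Wᶜ := hn
      rw [hK] at h1
      exact hp (h1 hk)
  let S := Localization.Away f
  haveI := hB.1
  have hfu : IsUnit (algebraMap R₀ B f) := by
    have h1 := HenselianRing.jac (I := J.map (algebraMap R₀ B)) (Ideal.mem_map_of_mem _ hfJ)
    have h2 := Ideal.mem_jacobson_bot.1 h1 1
    rwa [mul_one, map_sub, map_one, sub_add_cancel] at h2
  letI : Algebra S B := (IsLocalization.Away.lift (S := S) f hfu).toAlgebra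
  haveI : IsScalarTower R₀ S B := IsScalarTower.of_algebraMap_eq fun x =>
    (IsLocalization.Away.lift_eq (S := S) f hfu x).symm
  haveI : IsScalarTower A S B := IsScalarTower.of_algebraMap_eq fun a => by
    rw [IsScalarTower.algebraMap_apply A R₀ S, ← IsScalarTower.algebraMap_apply R₀ S B,
      ← IsScalarTower.algebraMap_apply]
  haveI : Algebra.FinitePresentation R₀ S := IsLocalization.Away.finitePresentation f
  haveI : Algebra.Etale R₀ S := Algebra.Etale.of_isLocalizationAway f
  refine ⟨S, inferInstance, inferInstance, inferInstance, inferInstance,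
    Algebra.FinitePresentation.trans A R₀ S, ?_, ?_⟩
  · refine Module.flat_of_isLocalized_maximal S S (fun P => Localization.AtPrime P)
      (fun P => Algebra.linearMap S (Localization.AtPrime P)) fun P _ => ?_
    let q : PrimeSpectrum R₀ := ⟨P.under R₀, inferInstance⟩
    have hq : q ∈ W := hfW fun h => Ideal.IsPrime.ne_top (inferInstance : P.IsPrime)
      (Ideal.eq_top_of_isUnit_mem _ (show algebraMap R₀ S f ∈ P from h) (IsLocalization.Away.algebraMap_isUnit f))
    haveI : IsLocalization.AtPrime (Localization.AtPrime P) q.asIdeal :=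
      IsLocalization.isLocalization_isLocalization_atPrime_isLocalization (Submonoid.powers f) _ P
    haveI : Module.Flat A (LocalizedModule q.asIdeal.primeCompl R₀) := hq
    exact Module.Flat.of_linearEquiv
      ((IsLocalizedModule.iso q.asIdeal.primeCompl
        (Algebra.linearMap R₀ (Localization.AtPrime P))).symm.restrictScalars A)
  · have h := isPairHenselization_of_bijective hB S (Henz21.bijective_quotientMap_away J hfJ S)
    rwa [Ideal.map_map, ← IsScalarTower.algebraMap_eq] at h

end Groth.Agent.Hens22.FlatModel
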