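import Groth.Agent.Hens22.FlatIdeal
import Groth.Agent.FlatMor67.FlatAtBC

/-!
The smallest flattening ideal is universal.
-/

set_option autoImplicit false
set_option backward.isDefEq.respectTransparency.types false
set_option linter.style.haveILetI false
universe u

open TensorProduct IsLocalRing

noncomputable section

namespace Groth.Agent.Hens22.FlatUniv

open FlatIdeal

/-- Tensoring a base changed module. -/
theorem rTensor_baseChange_injective_iff {R B : Type u} [CommRing R] [CommRing B] [Algebra R B]
    (X : Type u) [AddCommGroup X] [Module R X] {N P : Type u} [AddCommGroup N] [Module B N] [Module R N]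
    [IsScalarTower R B N] [AddCommGroup P] [Module B P] [Module R P] [IsScalarTower R B P] (u : N →ₗ[B] P) :
    Function.Injective (u.rTensor (B ⊗[R] X)) ↔ Function.Injective ((u.restrictScalars R).lTensor X) := by
  let eN : N ⊗[B] (B ⊗[R] X) ≃+ X ⊗[R] N :=
    (AlgebraTensorModule.cancelBaseChange R B B N X).toAddEquiv.trans (TensorProduct.comm R N X).toAddEquiv
  let eP : P ⊗[B] (B ⊗[R] X) ≃+ X ⊗[R] P :=
    (AlgebraTensorModule.cancelBaseChange R B B P X).toAddEquiv.trans (TensorProduct.comm R P X).toAddEquiv
  have hsq : ∀ z, eP (u.rTensor (B ⊗[R] X) z) = (u.restrictScalars R).lTensor X (eN z) := by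
    intro z
    induction z using TensorProduct.induction_on with
    | zero => simp
    | add a b ha hb => simp only [map_add, ha, hb]
    | tmul p w =>
      induction w using TensorProduct.induction_on with
      | zero => simp
      | add a b ha hb => simp only [tmul_add, map_add, ha, hb]
      | tmul b x => simp [eN, eP]
  constructor
  · intro h a b hab
    obtain ⟨a, rfl⟩ := eN.surjective a
    obtain ⟨b, rfl⟩ := eN.surjective b
    rw [← hsq, ← hsq] at hab
    exact congrArg eN (h (eP.injective hab))
  · intro h a b hab
    apply eN.injective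
    apply h
    rw [← hsq, ← hsq, hab]

section BaseChange

variable {R S R' S' : Type u} [CommRing R] [CommRing S] [CommRing R'] [CommRing S']
  [Algebra R S] [Algebra R R'] [Algebra S S'] [Algebra R' S'] [Algebra R S'] [IsScalarTower R S S']
  [IsScalarTower R R' S'] [Algebra.IsPushout R S R' S']
  {M M' : Type u} [AddCommGroup M] [Module S M] [Module R M] [IsScalarTower R S M]
  [AddCommGroup M'] [Module S' M'] [Module R' M'] [IsScalarTower R' S' M'] [Module S M'] [IsScalarTower S S' M']

/-- Flatness at a prime of a base change from exactness on modules over the new base. -/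
theorem flatAt_of_lTensor (f : M →ₗ[S] M') (hf : IsBaseChange S' f) (q' : Ideal S') [q'.IsPrime]
    (H : ∀ (N P : Type u) [AddCommGroup N] [AddCommGroup P] [Module R' N] [Module R' P] [Module R N] [Module R P]
      [IsScalarTower R R' N] [IsScalarTower R R' P] (u : N →ₗ[R'] P), Function.Injective u →
      Function.Injective ((u.restrictScalars R).lTensor
        (LocalizedModule (q'.comap (algebraMap S S')).primeCompl M))) :
    FlatCA.FlatAt R' q' M' := by
  let q := q'.comap (algebraMap S S')
  show Module.Flat R' (LocalizedModule q'.primeCompl M')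
  rw [Module.Flat.iff_lTensor_preserves_injective_linearMap]
  intro N P _ _ _ _ u hu
  letI : Module R N := Module.compHom N (algebraMap R R')
  haveI : IsScalarTower R R' N := IsScalarTower.of_algebraMap_smul fun _ _ => rfl
  letI : Module R P := Module.compHom P (algebraMap R R')
  haveI : IsScalarTower R R' P := IsScalarTower.of_algebraMap_smul fun _ _ => rfl
  obtain ⟨cN, hcN⟩ := FlatMor67.FlatAtBC.exists_tensor_equiv (R := R) (R' := R') f hf N
  obtain ⟨cP, hcP⟩ := FlatMor67.FlatAtBC.exists_tensor_equiv (R := R) (R' := R') f hf P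
  let mk' := LocalizedModule.mkLinearMap q'.primeCompl M'
  let mk := LocalizedModule.mkLinearMap q.primeCompl M
  let FN := TensorProduct.AlgebraTensorModule.rTensor R' N mk'
  let FP := TensorProduct.AlgebraTensorModule.rTensor R' P mk'
  let GN := TensorProduct.AlgebraTensorModule.rTensor R N mk
  let GP := TensorProduct.AlgebraTensorModule.rTensor R P mk
  let L := TensorProduct.AlgebraTensorModule.lTensor S' (LocalizedModule q'.primeCompl M') u
  let L' := TensorProduct.AlgebraTensorModule.lTensor S' M' u
  let K := TensorProduct.AlgebraTensorModule.lTensor S (LocalizedModule q.primeCompl M) (u.restrictScalars R)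
  let K' := TensorProduct.AlgebraTensorModule.lTensor S M (u.restrictScalars R)
  have hKinj : Function.Injective K := H N P u hu
  have hF : ∀ x, L (FN x) = FP (L' x) := fun x => by
    induction x using TensorProduct.induction_on with
    | zero => simp
    | tmul m n => rfl
    | add x y hx hy => simp [map_add, hx, hy]
  have hG : ∀ x, K (GN x) = GP (K' x) := fun x => by
    induction x using TensorProduct.induction_on with
    | zero => simp
    | tmul m n => rfl
    | add x y hx hy => simp [map_add, hx, hy]
  have hc : ∀ x, L' (cN x) = cP (K' x) := fun x => by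
    induction x using TensorProduct.induction_on with
    | zero => simp
    | tmul m n =>
      rw [hcN]
      show f m ⊗ₜ u n = cP (m ⊗ₜ u n)
      rw [hcP]
    | add x y hx hy => simp [map_add, hx, hy]
  have hs : ∀ (s : S) x, cN (s • x) = algebraMap S S' s • cN x := fun s x => by
    induction x using TensorProduct.induction_on with
    | zero => simp
    | tmul m n =>
      rw [TensorProduct.smul_tmul', hcN, hcN, TensorProduct.smul_tmul', map_smul, algebraMap_smul]
    | add x y hx hy => simp [map_add, smul_add, hx, hy]
  refine (injective_iff_map_eq_zero L).2 fun z hz => ?_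
  obtain ⟨⟨z₀, t⟩, ht⟩ := IsLocalizedModule.surj q'.primeCompl FN z
  dsimp only at ht
  have h0 : FP (L' z₀) = 0 := by
    rw [← hF, ← ht]
    show L ((t : S') • z) = 0
    rw [map_smul, hz, smul_zero]
  obtain ⟨s, hs0⟩ := (IsLocalizedModule.eq_zero_iff q'.primeCompl FP).1 h0
  have h1 : L' ((s : S') • z₀) = 0 := by rw [map_smul]; exact hs0
  obtain ⟨w, hw⟩ := cN.surjective ((s : S') • z₀)
  have h2 : K' w = 0 := cP.injective (by rw [← hc, hw, h1, map_zero])
  have h3 : GN w = 0 := hKinj (by rw [hG, h2, map_zero, map_zero])
  obtain ⟨s₁, hs₁⟩ := (IsLocalizedModule.eq_zero_iff q.primeCompl GN).1 h3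
  have h4 : (algebraMap S S' (s₁ : S) * (s : S')) • z₀ = 0 := by
    rw [mul_smul, ← hw, ← hs]
    show cN (s₁ • w) = 0
    rw [hs₁, map_zero]
  have h5 : FN z₀ = 0 := (IsLocalizedModule.eq_zero_iff q'.primeCompl FN).2
    ⟨⟨algebraMap S S' s₁ * s, ‹q'.IsPrime›.mul_notMem s₁.2 s.2⟩, h4⟩
  rw [h5] at ht
  exact (IsLocalizedModule.map_units FN t |> (Module.End.isUnit_iff _).1).1
    (show (t : S') • z = (t : S') • 0 by rw [smul_zero]; exact ht)

/-- Local flatness over an artinian base gives exactness before localising at a prime of `S`. -/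
theorem lTensor_injective_of_flatAt [IsLocalRing R'] (f : M →ₗ[S] M') (hf : IsBaseChange S' f)
    (hfl : ∀ (q' : Ideal S') [q'.IsPrime], q'.comap (algebraMap R' S') = maximalIdeal R' → FlatCA.FlatAt R' q' M')
    (q : Ideal S) [q.IsPrime] {N P : Type u} [AddCommGroup N] [AddCommGroup P] [Module R' N] [Module R' P]
    [Module R N] [Module R P] [IsScalarTower R R' N] [IsScalarTower R R' P] (n : ℕ)
    (hn : ∀ c ∈ maximalIdeal R' ^ n, ∀ x : N, c • x = 0) (u : N →ₗ[R'] P) (hu : Function.Injective u) :
    Function.Injective ((u.restrictScalars R).lTensor (LocalizedModule q.primeCompl M)) := by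
  obtain ⟨cN, hcN⟩ := FlatMor67.FlatAtBC.exists_tensor_equiv (R := R) (R' := R') f hf N
  obtain ⟨cP, hcP⟩ := FlatMor67.FlatAtBC.exists_tensor_equiv (R := R) (R' := R') f hf P
  let mk := LocalizedModule.mkLinearMap q.primeCompl M
  let GN := TensorProduct.AlgebraTensorModule.rTensor R N mk
  let GP := TensorProduct.AlgebraTensorModule.rTensor R P mk
  let K := TensorProduct.AlgebraTensorModule.lTensor S (LocalizedModule q.primeCompl M) (u.restrictScalars R)
  let K' := TensorProduct.AlgebraTensorModule.lTensor S M (u.restrictScalars R)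
  let L' := TensorProduct.AlgebraTensorModule.lTensor S' M' u
  show Function.Injective K
  have hG : ∀ x, K (GN x) = GP (K' x) := fun x => by
    induction x using TensorProduct.induction_on with
    | zero => simp
    | tmul m n => rfl
    | add x y hx hy => simp [map_add, hx, hy]
  have hs : ∀ (s : S) x, cN (s • x) = algebraMap S S' s • cN x := fun s x => by
    induction x using TensorProduct.induction_on with
    | zero => simp
    | tmul m n =>
      rw [TensorProduct.smul_tmul', hcN, hcN, TensorProduct.smul_tmul', map_smul, algebraMap_smul]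
    | add x y hx hy => simp [map_add, smul_add, hx, hy]
  have hc : ∀ x, L' (cN x) = cP (K' x) := fun x => by
    induction x using TensorProduct.induction_on with
    | zero => simp
    | tmul m n =>
      rw [hcN]
      show f m ⊗ₜ u n = cP (m ⊗ₜ u n)
      rw [hcP]
    | add x y hx hy => simp [map_add, hx, hy]
  refine (injective_iff_map_eq_zero K).2 fun z hz => ?_
  obtain ⟨⟨z₀, t⟩, ht⟩ := IsLocalizedModule.surj q.primeCompl GN z
  dsimp only at ht
  have h0 : GP (K' z₀) = 0 := by
    rw [← hG, ← ht]
    show K ((t : S) • z) = 0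
    rw [map_smul, hz, smul_zero]
  obtain ⟨s, hs0⟩ := (IsLocalizedModule.eq_zero_iff q.primeCompl GP).1 h0
  have h1 : K' ((s : S) • z₀) = 0 := by rw [map_smul]; exact hs0
  let w := cN ((s : S) • z₀)
  have hw : L' w = 0 := by rw [hc, h1, map_zero]
  suffices hex : ∃ s' : q.primeCompl, algebraMap S S' s' • w = 0 by
    obtain ⟨s', hs'⟩ := hex
    have h2 : GN z₀ = 0 := (IsLocalizedModule.eq_zero_iff q.primeCompl GN).2
      ⟨s' * s, by
        show ((s' : S) * (s : S)) • z₀ = 0
        refine cN.injective ?_
        rw [mul_smul, hs, map_zero]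
        exact hs'⟩
    rw [h2] at ht
    exact (IsLocalizedModule.map_units GN t |> (Module.End.isUnit_iff _).1).1
      (show (t : S) • z = (t : S) • 0 by rw [smul_zero]; exact ht)
  by_contra hne
  push Not at hne
  let ann : Ideal S' := LinearMap.ker (LinearMap.toSpanSingleton S' (M' ⊗[R'] N) w)
  have hdisj : Disjoint (ann : Set S') (Submonoid.map (algebraMap S S') q.primeCompl : Set S') := by
    rw [Set.disjoint_left]
    rintro _ hx ⟨s', hs', rfl⟩
    exact hne ⟨s', hs'⟩ hx
  obtain ⟨q', hq', hle, hq'd⟩ := Ideal.exists_le_prime_disjoint ann _ hdisj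
  have hover : q'.comap (algebraMap R' S') = maximalIdeal R' := by
    refine ((maximalIdeal.isMaximal R').eq_of_le (Ideal.comap_ne_top _ hq'.ne_top) ?_).symm
    refine fun c hc' => (Ideal.IsPrime.comap (algebraMap R' S')).mem_of_pow_mem n (hle ?_)
    show algebraMap R' S' (c ^ n) • w = 0
    rw [algebraMap_smul]
    have : ∀ y : M' ⊗[R'] N, (c ^ n) • y = 0 := fun y => by
      induction y using TensorProduct.induction_on with
      | zero => simp
      | add a b ha hb => rw [smul_add, ha, hb, add_zero]
      | tmul a b => rw [← TensorProduct.tmul_smul, hn _ (Ideal.pow_mem_pow hc' n), tmul_zero]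
    exact this w
  have hq'flat : Module.Flat R' (LocalizedModule q'.primeCompl M') := hfl q' hover
  let mk' := LocalizedModule.mkLinearMap q'.primeCompl M'
  let FN := TensorProduct.AlgebraTensorModule.rTensor R' N mk'
  let L := TensorProduct.AlgebraTensorModule.lTensor S' (LocalizedModule q'.primeCompl M') u
  have hF : ∀ x, L (FN x) = TensorProduct.AlgebraTensorModule.rTensor R' P mk' (L' x) := fun x => by
    induction x using TensorProduct.induction_on with
    | zero => simp
    | tmul m n => rfl
    | add x y hx hy => simp [map_add, hx, hy]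
  have hLinj : Function.Injective L := Module.Flat.lTensor_preserves_injective_linearMap u hu
  have h3 : FN w = 0 := hLinj (by rw [hF, hw, map_zero, map_zero])
  obtain ⟨c, hc3⟩ := (IsLocalizedModule.eq_zero_iff q'.primeCompl FN).1 h3
  exact c.2 (hle hc3)

end BaseChange

/-- Independence of lifted residue basis vectors after base change. -/
theorem P_ker_of_flat {R A' : Type u} [CommRing R] [IsLocalRing R] [CommRing A'] [IsLocalRing A'] [Algebra R A']
    (hmax : (maximalIdeal R).map (algebraMap R A') ≤ maximalIdeal A') {n : ℕ}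
    (hn : maximalIdeal R ^ n ≤ RingHom.ker (algebraMap R A'))
    (X : Type u) [AddCommGroup X] [Module R X] [Module.Flat A' (A' ⊗[R] X)] :
    P R X (RingHom.ker (algebraMap R A')) := by
  classical
  let 𝔪 := maximalIdeal R
  let X₀ := X ⧸ (𝔪 • (⊤ : Submodule R X))
  let _ : Field (R ⧸ 𝔪) := Ideal.Quotient.field 𝔪
  let b := Module.Free.chooseBasis (R ⧸ 𝔪) X₀
  let κ := Module.Free.ChooseBasisIndex (R ⧸ 𝔪) X₀
  choose e he using fun i : κ => Submodule.Quotient.mk_surjective _ (b i)
  let π : (κ →₀ R) →ₗ[R] X := Finsupp.linearCombination R e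
  have hspan : (⊤ : Submodule R X) ≤ LinearMap.range π ⊔ 𝔪 • (⊤ : Submodule R X) := by
    have h := congrArg (Submodule.restrictScalars R) b.span_eq
    intro x _
    obtain ⟨g, hg⟩ : ∃ g, Finsupp.linearCombination (R ⧸ 𝔪) b g = (Submodule.Quotient.mk x : X₀) :=
      ⟨_, b.linearCombination_repr _⟩
    obtain ⟨l, rfl⟩ := Finsupp.mapRange_surjective _ (map_zero (Ideal.Quotient.mk 𝔪)) Ideal.Quotient.mk_surjective g
    have hπ0 : (Submodule.Quotient.mk (π l) : X₀) = Submodule.Quotient.mk x := by
      rw [← hg]
      clear hg h
      induction l using Finsupp.induction_linear with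
      | zero => simp
      | add f g hf hg => rw [map_add, Submodule.Quotient.mk_add, hf, hg, Finsupp.mapRange_add (map_add _), map_add]
      | single a c =>
        rw [Finsupp.mapRange_single, Finsupp.linearCombination_single, Finsupp.linearCombination_single,
          Submodule.Quotient.mk_smul, he, ← algebraMap_smul (R ⧸ 𝔪) c (b a)]
        rfl
    rw [Submodule.Quotient.eq] at hπ0
    exact Submodule.mem_sup.2 ⟨π l, ⟨l, rfl⟩, x - π l, by simpa using neg_mem hπ0, add_sub_cancel _ _⟩
  have hspan' : ∀ k : ℕ, (⊤ : Submodule R X) ≤ LinearMap.range π ⊔ 𝔪 ^ k • (⊤ : Submodule R X) := by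
    intro k
    induction k with
    | zero => rw [pow_zero, Ideal.one_eq_top, Submodule.top_smul]; exact le_sup_right
    | succ k ih =>
      refine ih.trans (sup_le le_sup_left ((Submodule.smul_mono le_rfl hspan).trans ?_))
      rw [Submodule.smul_sup, ← Submodule.mul_smul, ← pow_succ]
      exact sup_le_sup_right Submodule.smul_le_right _
  -- the vectors are independent after base change
  let v : κ → A' ⊗[R] X := fun i => 1 ⊗ₜ e i
  have hv : LinearIndependent A' v := by
    refine linearIndependent_of_mod v fun g hg i => ?_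
    let ψ : R ⧸ 𝔪 →+* ResidueField A' :=
      Ideal.Quotient.lift 𝔪 ((residue A').comp (algebraMap R A')) fun r hr =>
        (residue_eq_zero_iff _).2 (hmax (Ideal.mem_map_of_mem _ hr))
    let c : X →ₗ[R] ResidueField A' :=
      { toFun := fun x => ψ (b.repr (Submodule.Quotient.mk x) i)
        map_add' := fun x y => by rw [Submodule.Quotient.mk_add, map_add, Finsupp.add_apply, map_add]
        map_smul' := fun r x => by
          rw [Submodule.Quotient.mk_smul, ← algebraMap_smul (R ⧸ 𝔪) r (Submodule.Quotient.mk x : X₀), map_smul,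
            Finsupp.smul_apply, smul_eq_mul, map_mul, RingHom.id_apply, Algebra.smul_def]
          rfl }
    let Ψ : A' ⊗[R] X →ₗ[A'] ResidueField A' := LinearMap.liftBaseChange A' c
    have h1 : ∀ y ∈ maximalIdeal A' • (⊤ : Submodule A' (A' ⊗[R] X)), Ψ y = 0 := fun y hy => by
      refine Submodule.smul_induction_on hy (fun r hr w _ => ?_) (fun a b ha hb => by rw [map_add, ha, hb, add_zero])
      rw [map_smul, Algebra.smul_def]
      exact mul_eq_zero_of_left ((residue_eq_zero_iff r).2 hr) _
    have h2 : ∀ j, Ψ (v j) = if j = i then 1 else 0 := fun j => by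
      show LinearMap.liftBaseChange A' c ((1 : A') ⊗ₜ e j) = _
      rw [LinearMap.liftBaseChange_tmul, one_smul]
      show ψ (b.repr (Submodule.Quotient.mk (e j)) i) = _
      rw [he, b.repr_self, Finsupp.single_apply]
      split_ifs <;> simp
    have h3 := h1 _ hg
    rw [Finsupp.apply_linearCombination, Finsupp.linearCombination_apply, Finsupp.sum] at h3
    simp only [Function.comp, h2, smul_ite, smul_zero, Finset.sum_ite_eq', Finsupp.mem_support_iff] at h3
    by_cases hgi : g i = 0
    · rw [hgi]; exact zero_mem _
    · rw [if_pos hgi, Algebra.smul_def, mul_one] at h3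
      exact (residue_eq_zero_iff _).1 h3
  -- hence coefficients lie in the kernel
  let J := RingHom.ker (algebraMap R A')
  let σ : X →ₗ[R] (R ⧸ J) ⊗[R] X := TensorProduct.mk R (R ⧸ J) X 1
  have hσ : Function.Surjective σ := TensorProduct.mk_surjective R X (R ⧸ J) Ideal.Quotient.mk_surjective
  have hσker : ∀ x, σ x = 0 ↔ x ∈ J • (⊤ : Submodule R X) := fun x => by
    rw [← LinearMap.mem_ker, LinearMap.ker_tensorProductMk]
  let w : κ → (R ⧸ J) ⊗[R] X := fun i => σ (e i)
  have hw : ∀ l : κ →₀ R, Finsupp.linearCombination (R ⧸ J) w (l.mapRange (Ideal.Quotient.mk J) (map_zero _)) =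
      σ (π l) := by
    intro l
    induction l using Finsupp.induction_linear with
    | zero => simp
    | add f g hf hg => rw [Finsupp.mapRange_add (map_add _), map_add, hf, hg, map_add, map_add]
    | single a c =>
      rw [Finsupp.mapRange_single, Finsupp.linearCombination_single, Finsupp.linearCombination_single,
        map_smul, ← algebraMap_smul (R ⧸ J) c (σ (e a))]
      rfl
  have hindw : LinearIndependent (R ⧸ J) w := linearIndependent_iff.2 fun g hg => by
    obtain ⟨l, rfl⟩ := Finsupp.mapRange_surjective _ (map_zero (Ideal.Quotient.mk J)) Ideal.Quotient.mk_surjective g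
    rw [hw, hσker] at hg
    have h0 : ∀ x ∈ J • (⊤ : Submodule R X), (1 : A') ⊗ₜ[R] x = 0 := fun x hx => by
      refine Submodule.smul_induction_on hx (fun r hr y _ => ?_) (fun a b ha hb => by rw [tmul_add, ha, hb, add_zero])
      rw [← smul_tmul, Algebra.smul_def, RingHom.mem_ker.1 hr, zero_mul, zero_tmul]
    have h1 : Finsupp.linearCombination A' v (l.mapRange (algebraMap R A') (map_zero _)) = (1 : A') ⊗ₜ[R] π l := by
      clear hg
      induction l using Finsupp.induction_linear with
      | zero => simp
      | add f g hf hg => rw [Finsupp.mapRange_add (map_add _), map_add, hf, hg, map_add, tmul_add]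
      | single a c =>
        rw [Finsupp.mapRange_single, Finsupp.linearCombination_single, Finsupp.linearCombination_single,
          tmul_smul, algebraMap_smul]
    have h2 := linearIndependent_iff.1 hv _ (h1.trans (h0 _ hg))
    exact Finsupp.ext fun i => Ideal.Quotient.eq_zero_iff_mem.2 (RingHom.mem_ker.2 (DFunLike.congr_fun h2 i))
  have hgen : ⊤ ≤ Submodule.span (R ⧸ J) (Set.range w) := by
    intro y _
    obtain ⟨x, rfl⟩ := hσ y
    obtain ⟨_, ⟨l, rfl⟩, z, hz, rfl⟩ := Submodule.mem_sup.1 (hspan' n (Submodule.mem_top : x ∈ ⊤))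
    rw [map_add, (hσker z).2 (Submodule.smul_mono hn le_rfl hz), add_zero, ← hw,
      ← Finsupp.range_linearCombination]
    exact ⟨_, rfl⟩
  have := Module.Free.of_basis (Module.Basis.mk hindw hgen)
  show Module.Flat (R ⧸ J) ((R ⧸ J) ⊗[R] X)
  infer_instance

/-- The least flattening ideal is universal. -/
theorem flatAt_iff {R S R' S' : Type u} [CommRing R] [IsLocalRing R]
    [CommRing S] [CommRing R'] [IsLocalRing R'] [IsNoetherianRing R'] [CommRing S']
    [Algebra R S] [Algebra R R'] [IsLocalHom (algebraMap R R')] [Algebra S S'] [Algebra R' S'] [Algebra R S']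
    [IsScalarTower R S S'] [IsScalarTower R R' S'] [Algebra.IsPushout R S R' S']
    {M M' : Type u} [AddCommGroup M] [Module S M] [Module R M] [IsScalarTower R S M]
    [AddCommGroup M'] [Module S' M'] [Module R' M'] [IsScalarTower R' S' M'] [Module S M'] [IsScalarTower S S' M']
    (f : M →ₗ[S] M') (hf : IsBaseChange S' f) (I : Ideal R)
    (hI : (∀ (q : Ideal S) [q.IsPrime], q.comap (algebraMap R S) = IsLocalRing.maximalIdeal R →
        Module.Flat (R ⧸ I) ((R ⧸ I) ⊗[R] LocalizedModule q.primeCompl M)))
    (hmin : ∀ J : Ideal R, (∀ (q : Ideal S) [q.IsPrime], q.comap (algebraMap R S) = IsLocalRing.maximalIdeal R →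
        Module.Flat (R ⧸ J) ((R ⧸ J) ⊗[R] LocalizedModule q.primeCompl M)) → I ≤ J) :
    (∀ (q' : Ideal S') [q'.IsPrime], q'.comap (algebraMap R' S') = IsLocalRing.maximalIdeal R' → FlatCA.FlatAt R' q' M') ↔
      I ≤ RingHom.ker (algebraMap R R') := by
  have hloc : (maximalIdeal R).map (algebraMap R R') ≤ maximalIdeal R' :=
    Ideal.map_le_iff_le_comap.2 fun x hx => map_nonunit (algebraMap R R') x hx
  constructor
  · intro hfl r hr
    rw [RingHom.mem_ker, ← Submodule.mem_bot R', ← Ideal.iInf_pow_eq_bot_of_isLocalRing (maximalIdeal R')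
      (maximalIdeal.isMaximal R').ne_top, Submodule.mem_iInf]
    intro n
    rcases n.eq_zero_or_pos with rfl | hn
    · rw [pow_zero, Ideal.one_eq_top]; trivial
    let A' := R' ⧸ maximalIdeal R' ^ n
    have hne : maximalIdeal R' ^ n ≠ ⊤ := fun h =>
      (maximalIdeal.isMaximal R').ne_top (top_le_iff.1 (h.ge.trans (Ideal.pow_le_self hn.ne')))
    have : Nontrivial A' := Ideal.Quotient.nontrivial_iff.2 hne
    have : IsLocalRing A' := IsLocalRing.of_surjective' (Ideal.Quotient.mk _) Ideal.Quotient.mk_surjective
    have hmax : (maximalIdeal R).map (algebraMap R A') ≤ maximalIdeal A' := by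
      rw [IsScalarTower.algebraMap_eq R R' A', ← Ideal.map_map]
      refine (Ideal.map_mono hloc).trans ?_
      refine IsLocalRing.le_maximalIdeal fun h => ?_
      have h1 := congrArg (Ideal.comap (Ideal.Quotient.mk (maximalIdeal R' ^ n))) h
      rw [Ideal.Quotient.algebraMap_eq, Ideal.comap_map_of_surjective _ Ideal.Quotient.mk_surjective, Ideal.comap_top,
        ← RingHom.ker_eq_comap_bot, Ideal.mk_ker] at h1
      exact (maximalIdeal.isMaximal R').ne_top (top_le_iff.1 (h1.ge.trans (sup_le le_rfl (Ideal.pow_le_self hn.ne'))))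
    have hker : maximalIdeal R ^ n ≤ RingHom.ker (algebraMap R A') := fun x hx => by
      rw [RingHom.mem_ker, IsScalarTower.algebraMap_apply R R' A']
      refine Ideal.Quotient.eq_zero_iff_mem.2 ?_
      have := Ideal.mem_map_of_mem (algebraMap R R') hx
      rw [Ideal.map_pow] at this
      exact Ideal.pow_right_mono hloc n this
    have hle : I ≤ RingHom.ker (algebraMap R A') := hmin _ fun q _ hq => by
      haveI : Module.Flat A' (A' ⊗[R] LocalizedModule q.primeCompl M) := by
        rw [Module.Flat.iff_rTensor_preserves_injective_linearMap]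
        intro N P _ _ _ _ u hu
        letI : Module R' N := Module.compHom N (algebraMap R' A')
        haveI : IsScalarTower R' A' N := .of_algebraMap_smul fun _ _ => rfl
        letI : Module R' P := Module.compHom P (algebraMap R' A')
        haveI : IsScalarTower R' A' P := .of_algebraMap_smul fun _ _ => rfl
        letI : Module R N := Module.compHom N (algebraMap R A')
        haveI : IsScalarTower R A' N := .of_algebraMap_smul fun _ _ => rfl
        letI : Module R P := Module.compHom P (algebraMap R A')
        haveI : IsScalarTower R A' P := .of_algebraMap_smul fun _ _ => rfl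
        haveI : IsScalarTower R R' N := .of_algebraMap_smul fun a x => by
          show algebraMap R' A' (algebraMap R R' a) • x = algebraMap R A' a • x
          rw [← IsScalarTower.algebraMap_apply]
        haveI : IsScalarTower R R' P := .of_algebraMap_smul fun a x => by
          show algebraMap R' A' (algebraMap R R' a) • x = algebraMap R A' a • x
          rw [← IsScalarTower.algebraMap_apply]
        rw [rTensor_baseChange_injective_iff]
        exact lTensor_injective_of_flatAt f hf hfl q n (fun c hc x => by
          show algebraMap R' A' c • x = 0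
          rw [Ideal.Quotient.algebraMap_eq, Ideal.Quotient.eq_zero_iff_mem.2 hc, zero_smul])
          (u.restrictScalars R') hu
      exact P_ker_of_flat hmax hker _
    have := RingHom.mem_ker.1 (hle hr)
    rwa [IsScalarTower.algebraMap_apply R R' A', Ideal.Quotient.algebraMap_eq, Ideal.Quotient.eq_zero_iff_mem] at this
  · intro hle q' _ hq'
    refine flatAt_of_lTensor (R := R) f hf q' fun N P _ _ _ _ _ _ _ _ u hu => ?_
    let _ : Algebra (R ⧸ I) R' := (Ideal.Quotient.lift I (algebraMap R R') fun x hx => hle hx).toAlgebra
    haveI : IsScalarTower R (R ⧸ I) R' := .of_algebraMap_eq fun _ => rfl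
    letI : Module (R ⧸ I) N := Module.compHom N (algebraMap (R ⧸ I) R')
    haveI : IsScalarTower R (R ⧸ I) N := .of_algebraMap_smul fun a x => algebraMap_smul R' a x
    letI : Module (R ⧸ I) P := Module.compHom P (algebraMap (R ⧸ I) R')
    haveI : IsScalarTower R (R ⧸ I) P := .of_algebraMap_smul fun a x => algebraMap_smul R' a x
    let u' : N →ₗ[R ⧸ I] P :=
      { u with map_smul' := fun a x => u.map_smul (algebraMap (R ⧸ I) R' a) x }
    have hq : (q'.comap (algebraMap S S')).comap (algebraMap R S) = maximalIdeal R := by
      rw [Ideal.comap_comap, ← IsScalarTower.algebraMap_eq, IsScalarTower.algebraMap_eq R R' S', ← Ideal.comap_comap, hq']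
      exact ((maximalIdeal.isMaximal R).eq_of_le (Ideal.comap_ne_top _ (maximalIdeal.isMaximal R').ne_top)
        (fun x hx => map_nonunit (algebraMap R R') x hx)).symm
    have := hI _ hq
    exact (rTensor_baseChange_injective_iff (R := R) _ u').1
      (Module.Flat.rTensor_preserves_injective_linearMap u' hu)

end Groth.Agent.Hens22.FlatUniv
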