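import Groth.Agent.Hens22.FlatUniv
import Groth.Agent.FlatStage64.Main
import Groth.Agent.FlatCrit65.FlatLocus.Module

/-!
Universality of the flattening ideal for arbitrary local base changes.
-/

set_option autoImplicit false
set_option backward.isDefEq.respectTransparency.types false
set_option linter.style.haveILetI false
universe u

open TensorProduct IsLocalRing

noncomputable section

namespace Groth.Agent.Hens22.FlatUniv

/-- Exactness after localising. -/
theorem lTensor_localized_injective_iff {A S X : Type u} [CommRing A] [CommRing S] [Algebra A S] [AddCommGroup X]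
    [Module S X] [Module A X] [IsScalarTower A S X] (T : Submonoid S) {N P : Type u} [AddCommGroup N] [Module A N]
    [AddCommGroup P] [Module A P] (u : N →ₗ[A] P) :
    Function.Injective (u.lTensor (LocalizedModule T X)) ↔
      ∀ w : X ⊗[A] N, u.lTensor X w = 0 → ∃ t ∈ T, t • w = 0 := by
  let mk := LocalizedModule.mkLinearMap T X
  let FN := TensorProduct.AlgebraTensorModule.rTensor A N mk
  let FP := TensorProduct.AlgebraTensorModule.rTensor A P mk
  let L := TensorProduct.AlgebraTensorModule.lTensor S (LocalizedModule T X) u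
  let L' := TensorProduct.AlgebraTensorModule.lTensor S X u
  have hF : ∀ x, L (FN x) = FP (L' x) := fun x => by
    induction x using TensorProduct.induction_on with
    | zero => simp
    | tmul m n => rfl
    | add x y hx hy => simp [map_add, hx, hy]
  show Function.Injective L ↔ ∀ w, L' w = 0 → ∃ t ∈ T, t • w = 0
  constructor
  · intro h w hw
    have h3 : FN w = 0 := h (by rw [hF, hw, map_zero, map_zero])
    obtain ⟨t, ht⟩ := (IsLocalizedModule.eq_zero_iff T FN).1 h3
    exact ⟨t, t.2, ht⟩
  · intro h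
    refine (injective_iff_map_eq_zero L).2 fun z hz => ?_
    obtain ⟨⟨z₀, t⟩, ht⟩ := IsLocalizedModule.surj T FN z
    dsimp only at ht
    have h0 : FP (L' z₀) = 0 := by
      rw [← hF, ← ht]
      show L ((t : S) • z) = 0
      rw [map_smul, hz, smul_zero]
    obtain ⟨s, hs0⟩ := (IsLocalizedModule.eq_zero_iff T FP).1 h0
    obtain ⟨c, hc, hcw⟩ := h ((s : S) • z₀) (by rw [map_smul]; exact hs0)
    have h5 : FN z₀ = 0 := (IsLocalizedModule.eq_zero_iff T FN).2
      ⟨⟨c * s, T.mul_mem hc s.2⟩, by show (c * (s : S)) • z₀ = 0; rw [mul_smul]; exact hcw⟩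
    rw [h5] at ht
    exact (IsLocalizedModule.map_units FN t |> (Module.End.isUnit_iff _).1).1
      (show (t : S) • z = (t : S) • 0 by rw [smul_zero]; exact ht)

section Kill

variable {R S : Type u} [CommRing R] [CommRing S] [Algebra R S]
  (M : Type u) [AddCommGroup M] [Module S M] [Module R M] [IsScalarTower R S M]
  {k : ℕ} (s : Fin k → S)

/-- The operator induced by `1 - ∑ xᵢ sᵢ`. -/
def G {T : Type u} [CommRing T] [Algebra R T] (x : Fin k → T) (N : Type u) [AddCommGroup N] [Module T N]
    [Module R N] [IsScalarTower R T N] : Module.End S (M ⊗[R] N) :=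
  1 - ∑ i, s i • TensorProduct.AlgebraTensorModule.lTensor S M ((LinearMap.lsmul T N (x i)).restrictScalars R)

theorem G_tmul {T : Type u} [CommRing T] [Algebra R T] (x : Fin k → T) (N : Type u) [AddCommGroup N]
    [Module T N] [Module R N] [IsScalarTower R T N] (m : M) (n : N) :
    G (R := R) M s x N (m ⊗ₜ n) = m ⊗ₜ n - ∑ i, (s i • m) ⊗ₜ (x i • n) := by
  simp [G, LinearMap.sum_apply, TensorProduct.smul_tmul']

/-- The kernels are killed by a power of the operator. -/
def Kill (T : Type u) [CommRing T] [Algebra R T] (x : Fin k → T) : Prop :=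
  ∀ (N P : Type u) [AddCommGroup N] [AddCommGroup P] [Module T N] [Module T P] [Module R N] [Module R P]
    [IsScalarTower R T N] [IsScalarTower R T P] (v : N →ₗ[T] P), Function.Injective v →
    ∀ w : M ⊗[R] N, (v.restrictScalars R).lTensor M w = 0 → ∃ j : ℕ, (G (R := R) M s x N ^ j) w = 0

variable {M} {T S' : Type u} [CommRing T] [CommRing S'] [Algebra R T] [Algebra S S'] [Algebra T S'] [Algebra R S']
  [IsScalarTower R S S'] [IsScalarTower R T S'] [Algebra.IsPushout R S T S'] (x : Fin k → T)
  {M' : Type u} [AddCommGroup M'] [Module S' M'] [Module T M'] [IsScalarTower T S' M'] [Module S M']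
  [IsScalarTower S S' M']

/-- The element `1 - ∑ xᵢ sᵢ`. -/
def gT (T S' : Type u) [CommRing T] [CommRing S'] [Algebra S S'] [Algebra T S'] {k : ℕ} (s : Fin k → S)
    (x : Fin k → T) : S' :=
  1 - ∑ i, x i • algebraMap S S' (s i)

theorem exists_equiv_G (f : M →ₗ[S] M') (hf : IsBaseChange S' f) (N : Type u) [AddCommGroup N]
    [Module T N] [Module R N] [IsScalarTower R T N] :
    ∃ c : M ⊗[R] N ≃+ M' ⊗[T] N, (∀ m n, c (m ⊗ₜ n) = f m ⊗ₜ n) ∧
      ∀ (j : ℕ) (w : M ⊗[R] N), c ((G (R := R) M s x N ^ j) w) = gT T S' s x ^ j • c w := by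
  obtain ⟨c, hc⟩ := FlatMor67.FlatAtBC.exists_tensor_equiv (R := R) (R' := T) f hf N
  have h1 : ∀ w, c (G (R := R) M s x N w) = gT T S' s x • c w := fun w => by
    induction w using TensorProduct.induction_on with
    | zero => simp
    | add a b ha hb => simp [map_add, smul_add, ha, hb]
    | tmul m n =>
      rw [G_tmul, map_sub, map_sum, hc, gT, sub_smul, one_smul, Finset.sum_smul]
      refine congrArg _ (Finset.sum_congr rfl fun i _ => ?_)
      rw [hc, TensorProduct.smul_tmul', smul_assoc, algebraMap_smul, map_smul]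
      exact (TensorProduct.smul_tmul (x i) (s i • f m) n).symm
  refine ⟨c, hc, fun j => ?_⟩
  induction j with
  | zero => intro w; simp
  | succ j ih =>
    intro w
    rw [pow_succ, Module.End.mul_apply, ih, h1, smul_smul, ← pow_succ]

theorem flatAt_of_kill (f : M →ₗ[S] M') (hf : IsBaseChange S' f) (hK : Kill (R := R) M s T x) (q : Ideal S') [q.IsPrime]
    (hg : gT T S' s x ∉ q) : FlatCA.FlatAt T q M' := by
  show Module.Flat T (LocalizedModule q.primeCompl M')
  rw [Module.Flat.iff_lTensor_preserves_injective_linearMap]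
  intro N P _ _ _ _ v hv
  rw [lTensor_localized_injective_iff]
  intro w hw
  letI : Module R N := Module.compHom N (algebraMap R T)
  haveI : IsScalarTower R T N := IsScalarTower.of_algebraMap_smul fun _ _ => rfl
  letI : Module R P := Module.compHom P (algebraMap R T)
  haveI : IsScalarTower R T P := IsScalarTower.of_algebraMap_smul fun _ _ => rfl
  obtain ⟨cN, hcN, hcG⟩ := exists_equiv_G (R := R) s x f hf N
  obtain ⟨cP, hcP, -⟩ := exists_equiv_G (R := R) s x f hf P
  obtain ⟨w, rfl⟩ := cN.surjective w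
  have hnat : ∀ z, v.lTensor M' (cN z) = cP ((v.restrictScalars R).lTensor M z) := fun z => by
    induction z using TensorProduct.induction_on with
    | zero => simp
    | add a b ha hb => simp [map_add, ha, hb]
    | tmul m n => simp [hcN, hcP]
  obtain ⟨j, hj⟩ := hK N P v hv w (cP.injective (by rw [← hnat, hw, map_zero]))
  exact ⟨gT T S' s x ^ j, fun h => hg (‹q.IsPrime›.mem_of_pow_mem j h), by rw [← hcG, hj, map_zero]⟩

theorem kill_of_flatAt (f : M →ₗ[S] M') (hf : IsBaseChange S' f)
    (h : ∀ (q : Ideal S') [q.IsPrime], gT T S' s x ∉ q → FlatCA.FlatAt T q M') : Kill (R := R) M s T x := by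
  intro N P _ _ _ _ _ _ _ _ v hv w hw
  obtain ⟨cN, hcN, hcG⟩ := exists_equiv_G (R := R) s x f hf N
  obtain ⟨cP, hcP, -⟩ := exists_equiv_G (R := R) s x f hf P
  have hnat : ∀ z, v.lTensor M' (cN z) = cP ((v.restrictScalars R).lTensor M z) := fun z => by
    induction z using TensorProduct.induction_on with
    | zero => simp
    | add a b ha hb => simp [map_add, ha, hb]
    | tmul m n => simp [hcN, hcP]
  let ann : Ideal S' := LinearMap.ker (LinearMap.toSpanSingleton S' (M' ⊗[T] N) (cN w))
  have hrad : gT T S' s x ∈ ann.radical := by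
    rw [Ideal.radical_eq_sInf, Submodule.mem_sInf]
    rintro (q : Ideal S') ⟨hle, hq⟩
    haveI : q.IsPrime := hq
    by_contra hgq
    have : Module.Flat T (LocalizedModule q.primeCompl M') := h q hgq
    obtain ⟨t, ht, htw⟩ := (lTensor_localized_injective_iff q.primeCompl v).1
      (Module.Flat.lTensor_preserves_injective_linearMap v hv) (cN w) (by rw [hnat, hw, map_zero])
    exact ht (hle htw)
  obtain ⟨j, hj⟩ := hrad
  exact ⟨j, cN.injective (by rw [hcG, map_zero]; exact hj)⟩

end Kill

section Stage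

variable {R S R₀ S₀ : Type u} [CommRing R] [CommRing S] [CommRing R₀] [CommRing S₀] [Algebra R S] [Algebra R R₀]
  [Algebra S S₀] [Algebra R₀ S₀] [Algebra R S₀] [IsScalarTower R S S₀] [IsScalarTower R R₀ S₀]
  [Algebra.IsPushout R S R₀ S₀]
  {M M₀ : Type u} [AddCommGroup M] [Module S M] [Module R M] [IsScalarTower R S M]
  [AddCommGroup M₀] [Module S₀ M₀] [Module R₀ M₀] [IsScalarTower R₀ S₀ M₀] [Module S M₀] [IsScalarTower S S₀ M₀]
  {k : ℕ} (s : Fin k → S) (x₀ : Fin k → R₀) (f₀ : M →ₗ[S] M₀) (hf₀ : IsBaseChange S₀ f₀)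

include hf₀ in
theorem flat_iff_kill (T : Type u) [CommRing T] [Algebra R₀ T] [Algebra R T] [IsScalarTower R R₀ T]
    (y : Fin k → T) (hy : ∀ i, algebraMap R₀ T (x₀ i) = y i) :
    Module.Flat T (T ⊗[R₀] LocalizedModule (Submonoid.powers (gT R₀ S₀ s x₀)) M₀) ↔ Kill (R := R) M s T y := by
  have hGeq : ∀ (N : Type u) [AddCommGroup N] [Module T N] [Module R₀ N] [Module R N] [IsScalarTower R T N]
      [IsScalarTower R₀ T N] [IsScalarTower R R₀ N], G (R := R) M s y N = G (R := R) M s x₀ N := by
    intro N _ _ _ _ _ _ _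
    refine LinearMap.ext fun z => ?_
    induction z using TensorProduct.induction_on with
    | zero => simp
    | add a b ha hb => simp [map_add, ha, hb]
    | tmul m n =>
      rw [G_tmul, G_tmul]
      exact congrArg _ (Finset.sum_congr rfl fun i _ => by rw [← hy i, algebraMap_smul])
  have key : ∀ (N P : Type u) [AddCommGroup N] [AddCommGroup P] [Module T N] [Module T P] [Module R₀ N] [Module R₀ P]
      [Module R N] [Module R P] [IsScalarTower R T N] [IsScalarTower R T P] [IsScalarTower R₀ T N]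
      [IsScalarTower R₀ T P] [IsScalarTower R R₀ N] [IsScalarTower R R₀ P] (v : N →ₗ[T] P),
      Function.Injective (v.rTensor (T ⊗[R₀] LocalizedModule (Submonoid.powers (gT R₀ S₀ s x₀)) M₀)) ↔
        ∀ w : M ⊗[R] N, (v.restrictScalars R).lTensor M w = 0 → ∃ j : ℕ, (G (R := R) M s y N ^ j) w = 0 := by
    intro N P _ _ _ _ _ _ _ _ _ _ _ _ _ _ v
    rw [rTensor_baseChange_injective_iff, lTensor_localized_injective_iff, hGeq N]
    obtain ⟨cN, hcN, hcG⟩ := exists_equiv_G (R := R) s x₀ f₀ hf₀ N
    obtain ⟨cP, hcP, -⟩ := exists_equiv_G (R := R) s x₀ f₀ hf₀ P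
    have hnat : ∀ z, (v.restrictScalars R₀).lTensor M₀ (cN z) = cP ((v.restrictScalars R).lTensor M z) := fun z => by
      induction z using TensorProduct.induction_on with
      | zero => simp
      | add a b ha hb => simp [map_add, ha, hb]
      | tmul m n => simp [hcN, hcP]
    constructor
    · intro h w hw
      obtain ⟨t, ⟨j, rfl⟩, htw⟩ := h (cN w) (by rw [hnat, hw, map_zero])
      exact ⟨j, cN.injective (by rw [hcG, map_zero]; exact htw)⟩
    · intro h w hw
      obtain ⟨w, rfl⟩ := cN.surjective w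
      obtain ⟨j, hj⟩ := h w (cP.injective (by rw [← hnat, hw, map_zero]))
      exact ⟨gT R₀ S₀ s x₀ ^ j, ⟨j, rfl⟩, by rw [← hcG, hj, map_zero]⟩
  constructor
  · intro hflat N P _ _ _ _ _ _ _ _ v hv
    letI : Module R₀ N := Module.compHom N (algebraMap R₀ T)
    haveI : IsScalarTower R₀ T N := .of_algebraMap_smul fun _ _ => rfl
    haveI : IsScalarTower R R₀ N := .of_algebraMap_smul fun r z => by
      show algebraMap R₀ T (algebraMap R R₀ r) • z = r • z
      rw [← IsScalarTower.algebraMap_apply, algebraMap_smul]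
    letI : Module R₀ P := Module.compHom P (algebraMap R₀ T)
    haveI : IsScalarTower R₀ T P := .of_algebraMap_smul fun _ _ => rfl
    haveI : IsScalarTower R R₀ P := .of_algebraMap_smul fun r z => by
      show algebraMap R₀ T (algebraMap R R₀ r) • z = r • z
      rw [← IsScalarTower.algebraMap_apply, algebraMap_smul]
    exact (key N P v).1 (Module.Flat.rTensor_preserves_injective_linearMap v hv)
  · intro hK
    rw [Module.Flat.iff_rTensor_preserves_injective_linearMap]
    intro N P _ _ _ _ v hv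
    letI : Module R₀ N := Module.compHom N (algebraMap R₀ T)
    haveI : IsScalarTower R₀ T N := .of_algebraMap_smul fun _ _ => rfl
    letI : Module R N := Module.compHom N (algebraMap R T)
    haveI : IsScalarTower R T N := .of_algebraMap_smul fun _ _ => rfl
    haveI : IsScalarTower R R₀ N := .of_algebraMap_smul fun r z => by
      show algebraMap R₀ T (algebraMap R R₀ r) • z = algebraMap R T r • z
      rw [← IsScalarTower.algebraMap_apply]
    letI : Module R₀ P := Module.compHom P (algebraMap R₀ T)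
    haveI : IsScalarTower R₀ T P := .of_algebraMap_smul fun _ _ => rfl
    letI : Module R P := Module.compHom P (algebraMap R T)
    haveI : IsScalarTower R T P := .of_algebraMap_smul fun _ _ => rfl
    haveI : IsScalarTower R R₀ P := .of_algebraMap_smul fun r z => by
      show algebraMap R₀ T (algebraMap R R₀ r) • z = algebraMap R T r • z
      rw [← IsScalarTower.algebraMap_apply]
    exact (key N P v).2 (hK N P v hv)

include hf₀ in
theorem exists_stage [IsNoetherianRing R₀] [Algebra.FiniteType R₀ S₀] [Module.Finite S₀ M₀]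
    (A : Type u) [CommRing A] [Algebra R₀ A] [Algebra R A] [IsScalarTower R R₀ A]
    (y : Fin k → A) (hy : ∀ i, algebraMap R₀ A (x₀ i) = y i) (hK : Kill (R := R) M s A y) :
    ∃ C : Subalgebra R₀ A, C.FG ∧ ∀ (T : Type u) [CommRing T] [Algebra R₀ T] [Algebra C T] [IsScalarTower R₀ C T]
      [Algebra R T] [IsScalarTower R R₀ T] (z : Fin k → T), (∀ i, algebraMap R₀ T (x₀ i) = z i) →
      Kill (R := R) M s T z := by
  haveI : Algebra.FiniteType R₀ (Localization.Away (gT R₀ S₀ s x₀)) :=
    Algebra.FiniteType.trans (R := R₀) (S := S₀) inferInstance inferInstance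
  haveI : Module.Finite (Localization.Away (gT R₀ S₀ s x₀))
      (LocalizedModule (Submonoid.powers (gT R₀ S₀ s x₀)) M₀) :=
    Module.Finite.of_isLocalizedModule (Submonoid.powers (gT R₀ S₀ s x₀))
      (LocalizedModule.mkLinearMap (Submonoid.powers (gT R₀ S₀ s x₀)) M₀)
  obtain ⟨C, hC, hflat⟩ := FlatStage64.exists_fg_flat (R := R₀) (Localization.Away (gT R₀ S₀ s x₀)) A
    ((flat_iff_kill s x₀ f₀ hf₀ A y hy).2 hK)
  refine ⟨C, hC, fun T _ _ _ _ _ _ z hz => (flat_iff_kill s x₀ f₀ hf₀ T z hz).1 ?_⟩
  haveI := hflat C le_rfl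
  exact Module.Flat.of_linearEquiv (R := T) (TensorProduct.AlgebraTensorModule.cancelBaseChange R₀ C T T
    (LocalizedModule (Submonoid.powers (gT R₀ S₀ s x₀)) M₀)).symm

end Stage

section Main

variable {R S : Type u} [CommRing R] [IsLocalRing R] [CommRing S] [Algebra R S]
  {M : Type u} [AddCommGroup M] [Module S M] [Module R M] [IsScalarTower R S M] {k : ℕ} (s : Fin k → S)
  (I : Ideal R)

/-- The noetherian case through kernels. -/
theorem le_ker_of_kill
    (hI : (∀ (q : Ideal S) [q.IsPrime], q.comap (algebraMap R S) = IsLocalRing.maximalIdeal R →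
        Module.Flat (R ⧸ I) ((R ⧸ I) ⊗[R] LocalizedModule q.primeCompl M)))
    (hmin : ∀ J : Ideal R, (∀ (q : Ideal S) [q.IsPrime], q.comap (algebraMap R S) = IsLocalRing.maximalIdeal R →
        Module.Flat (R ⧸ J) ((R ⧸ J) ⊗[R] LocalizedModule q.primeCompl M)) → I ≤ J)
    {R₁ S₁ : Type u} [CommRing R₁] [IsLocalRing R₁] [IsNoetherianRing R₁] [CommRing S₁] [Algebra R R₁]
    [IsLocalHom (algebraMap R R₁)] [Algebra S S₁] [Algebra R₁ S₁] [Algebra R S₁] [IsScalarTower R S S₁]
    [IsScalarTower R R₁ S₁] [Algebra.IsPushout R S R₁ S₁]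
    {M₁ : Type u} [AddCommGroup M₁] [Module S₁ M₁] [Module R₁ M₁] [IsScalarTower R₁ S₁ M₁] [Module S M₁]
    [IsScalarTower S S₁ M₁] (f₁ : M →ₗ[S] M₁) (hf₁ : IsBaseChange S₁ f₁)
    (c₁ : Fin k → R₁) (hc₁ : ∀ i, c₁ i ∈ maximalIdeal R₁) (hK₁ : Kill (R := R) M s R₁ c₁) :
    I ≤ RingHom.ker (algebraMap R R₁) :=
  (flatAt_iff f₁ hf₁ I hI hmin).1 fun q _ hq =>
    flatAt_of_kill (R := R) s c₁ f₁ hf₁ hK₁ q fun hmem => by
      refine ‹q.IsPrime›.ne_top ((Ideal.eq_top_iff_one _).2 ?_)
      have : ∑ i, c₁ i • algebraMap S S₁ (s i) ∈ q := Ideal.sum_mem _ fun i _ => by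
        rw [Algebra.smul_def]
        exact Ideal.mul_mem_right _ _ (show c₁ i ∈ q.comap (algebraMap R₁ S₁) by rw [hq]; exact hc₁ i)
      have := add_mem hmem this
      rwa [gT, sub_add_cancel] at this

/-- Algebras carrying a canonical base change. -/
theorem le_ker_of_kill'
    (hI : (∀ (q : Ideal S) [q.IsPrime], q.comap (algebraMap R S) = IsLocalRing.maximalIdeal R →
        Module.Flat (R ⧸ I) ((R ⧸ I) ⊗[R] LocalizedModule q.primeCompl M)))
    (hmin : ∀ J : Ideal R, (∀ (q : Ideal S) [q.IsPrime], q.comap (algebraMap R S) = IsLocalRing.maximalIdeal R →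
        Module.Flat (R ⧸ J) ((R ⧸ J) ⊗[R] LocalizedModule q.primeCompl M)) → I ≤ J)
    (R₁ : Type u) [CommRing R₁] [IsLocalRing R₁] [IsNoetherianRing R₁] [Algebra R R₁]
    [IsLocalHom (algebraMap R R₁)] (c₁ : Fin k → R₁) (hc₁ : ∀ i, c₁ i ∈ maximalIdeal R₁)
    (hK₁ : Kill (R := R) M s R₁ c₁) : I ≤ RingHom.ker (algebraMap R R₁) := by
  letI : Algebra R₁ (S ⊗[R] R₁) := Algebra.TensorProduct.rightAlgebra
  haveI : IsScalarTower R R₁ (S ⊗[R] R₁) := Algebra.TensorProduct.right_isScalarTower
  haveI : IsScalarTower R₁ (S ⊗[R] R₁) ((S ⊗[R] R₁) ⊗[S] M) := .of_algebraMap_smul fun _ _ => rfl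
  exact le_ker_of_kill s I hI hmin (TensorProduct.mk S (S ⊗[R] R₁) M 1)
    (TensorProduct.isBaseChange S M (S ⊗[R] R₁)) c₁ hc₁ hK₁

/-- The noetherian stage. -/
theorem exists_stage' [Algebra.FiniteType R S] [Module.Finite S M] (R₀ : Type u) [CommRing R₀] [IsNoetherianRing R₀]
    [Algebra R R₀] (A : Type u) [CommRing A] [Algebra R₀ A] [Algebra R A] [IsScalarTower R R₀ A]
    (x₀ : Fin k → R₀) (y : Fin k → A) (hy : ∀ i, algebraMap R₀ A (x₀ i) = y i) (hK : Kill (R := R) M s A y) :
    ∃ C : Subalgebra R₀ A, C.FG ∧ ∀ (T : Type u) [CommRing T] [Algebra R₀ T] [Algebra C T] [IsScalarTower R₀ C T]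
      [Algebra R T] [IsScalarTower R R₀ T] (z : Fin k → T), (∀ i, algebraMap R₀ T (x₀ i) = z i) →
      Kill (R := R) M s T z := by
  letI : Algebra R₀ (S ⊗[R] R₀) := Algebra.TensorProduct.rightAlgebra
  haveI : IsScalarTower R R₀ (S ⊗[R] R₀) := Algebra.TensorProduct.right_isScalarTower
  haveI : IsScalarTower R₀ (S ⊗[R] R₀) ((S ⊗[R] R₀) ⊗[S] M) := .of_algebraMap_smul fun _ _ => rfl
  haveI : Algebra.FiniteType R₀ (S ⊗[R] R₀) := by
    haveI : Algebra.IsPushout R R₀ S (S ⊗[R] R₀) := .symm inferInstance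
    exact Algebra.FiniteType.equiv inferInstance (Algebra.IsPushout.equiv R R₀ S (S ⊗[R] R₀))
  exact exists_stage s x₀ (TensorProduct.mk S (S ⊗[R] R₀) M 1)
    (TensorProduct.isBaseChange S M (S ⊗[R] R₀)) A y hy hK

end Main

/-- Universality of the flattening ideal, finite type case. -/
theorem flatAt_iff_of_finiteType {R S R' S' : Type u} [CommRing R] [IsLocalRing R] [IsNoetherianRing R]
    [CommRing S] [CommRing R'] [IsLocalRing R'] [CommRing S']
    [Algebra R S] [Algebra.FiniteType R S] [Algebra R R'] [IsLocalHom (algebraMap R R')] [Algebra S S']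
    [Algebra R' S'] [Algebra R S'] [IsScalarTower R S S'] [IsScalarTower R R' S'] [Algebra.IsPushout R S R' S']
    {M M' : Type u} [AddCommGroup M] [Module S M] [Module R M] [IsScalarTower R S M] [Module.Finite S M]
    [AddCommGroup M'] [Module S' M'] [Module R' M'] [IsScalarTower R' S' M'] [Module S M'] [IsScalarTower S S' M']
    (f : M →ₗ[S] M') (hf : IsBaseChange S' f) (I : Ideal R)
    (hI : (∀ (q : Ideal S) [q.IsPrime], q.comap (algebraMap R S) = IsLocalRing.maximalIdeal R →
        Module.Flat (R ⧸ I) ((R ⧸ I) ⊗[R] LocalizedModule q.primeCompl M)))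
    (hmin : ∀ J : Ideal R, (∀ (q : Ideal S) [q.IsPrime], q.comap (algebraMap R S) = IsLocalRing.maximalIdeal R →
        Module.Flat (R ⧸ J) ((R ⧸ J) ⊗[R] LocalizedModule q.primeCompl M)) → I ≤ J) :
    (∀ (q' : Ideal S') [q'.IsPrime], q'.comap (algebraMap R' S') = IsLocalRing.maximalIdeal R' → FlatCA.FlatAt R' q' M') ↔
      I ≤ RingHom.ker (algebraMap R R') := by
  classical
  constructor
  swap
  · intro hle q' _ hq'
    refine flatAt_of_lTensor (R := R) f hf q' fun N P _ _ _ _ _ _ _ _ u hu => ?_
    let _ : Algebra (R ⧸ I) R' := (Ideal.Quotient.lift I (algebraMap R R') fun x hx => hle hx).toAlgebra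
    haveI : IsScalarTower R (R ⧸ I) R' := .of_algebraMap_eq fun _ => rfl
    letI : Module (R ⧸ I) N := Module.compHom N (algebraMap (R ⧸ I) R')
    haveI : IsScalarTower R (R ⧸ I) N := .of_algebraMap_smul fun a x => algebraMap_smul R' a x
    letI : Module (R ⧸ I) P := Module.compHom P (algebraMap (R ⧸ I) R')
    haveI : IsScalarTower R (R ⧸ I) P := .of_algebraMap_smul fun a x => algebraMap_smul R' a x
    let u' : N →ₗ[R ⧸ I] P :=
      { u with map_smul' := fun a x => u.map_smul (algebraMap (R ⧸ I) R' a) x }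
    have hq : (q'.comap (algebraMap S S')).comap (algebraMap R S) = maximalIdeal R := by
      rw [Ideal.comap_comap, ← IsScalarTower.algebraMap_eq, IsScalarTower.algebraMap_eq R R' S', ← Ideal.comap_comap, hq']
      exact ((maximalIdeal.isMaximal R).eq_of_le (Ideal.comap_ne_top _ (maximalIdeal.isMaximal R').ne_top)
        (fun x hx => map_nonunit (algebraMap R R') x hx)).symm
    have := hI _ hq
    exact (rTensor_baseChange_injective_iff (R := R) _ u').1
      (Module.Flat.rTensor_preserves_injective_linearMap u' hu)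
  intro hfl
  -- finite presentation over the new base
  haveI : Algebra.FinitePresentation R S := Algebra.FinitePresentation.of_finiteType.1 inferInstance
  haveI : IsNoetherianRing S := Algebra.FiniteType.isNoetherianRing R S
  haveI : Module.FinitePresentation S M := Module.finitePresentation_of_finite S M
  haveI : Algebra.IsPushout R R' S S' := .symm inferInstance
  haveI : Algebra.FinitePresentation R' S' :=
    Algebra.FinitePresentation.equiv (Algebra.IsPushout.equiv R R' S S')
  haveI : Module.FinitePresentation S' M' := Module.FinitePresentation.of_equiv hf.equiv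
  -- an element cutting out an open neighbourhood of the closed fibre
  obtain ⟨a, ha⟩ := (PrimeSpectrum.isClosed_iff_zeroLocus_ideal _).1
    (FlatCrit65.isOpen_flat_locus_module (R := R') (S := S') (M := M')).isClosed_compl
  have htop : a ⊔ (maximalIdeal R').map (algebraMap R' S') = ⊤ := by
    by_contra hne
    obtain ⟨Q, hQ, hle⟩ := Ideal.exists_le_maximal _ hne
    have hover : Q.comap (algebraMap R' S') = maximalIdeal R' :=
      ((maximalIdeal.isMaximal R').eq_of_le (Ideal.comap_ne_top _ hQ.ne_top)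
        (Ideal.map_le_iff_le_comap.1 (le_sup_right.trans hle))).symm
    have hmem : (⟨Q, hQ.isPrime⟩ : PrimeSpectrum S') ∈ PrimeSpectrum.zeroLocus (a : Set S') :=
      (le_sup_left.trans hle : a ≤ Q)
    rw [← ha] at hmem
    exact hmem (hfl Q hover)
  obtain ⟨g, hga, b, hb, hgb⟩ := Submodule.mem_sup.1 ((Ideal.eq_top_iff_one _).1 htop)
  have hspan : Submodule.span R' (Set.range (algebraMap S S')) = ⊤ := by
    rw [eq_top_iff]
    intro y hy₀
    clear hy₀
    have hb' : IsBaseChange R' (IsScalarTower.toAlgHom R S S').toLinearMap := Algebra.IsPushout.out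
    induction y using hb'.inductionOn with
    | zero => exact zero_mem _
    | tmul z => exact Submodule.subset_span ⟨z, rfl⟩
    | smul r z hz => exact Submodule.smul_mem _ r hz
    | add y z hy hz => exact add_mem hy hz
  have hb2 : b ∈ maximalIdeal R' • Submodule.span R' (Set.range (algebraMap S S')) := by
    rw [hspan, Ideal.smul_top_eq_map]
    exact hb
  obtain ⟨cc, hcc, hsum⟩ := (Submodule.mem_ideal_smul_span_iff_exists_sum _ (algebraMap S S') b).1 hb2
  let k := cc.support.card
  let ι := cc.support.equivFin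
  let s : Fin k → S := fun i => (ι.symm i).1
  let c : Fin k → R' := fun i => cc (ι.symm i).1
  have hg : gT R' S' s c = g := by
    rw [gT, eq_sub_of_add_eq hgb, ← hsum, Finsupp.sum, ← Finset.sum_coe_sort cc.support, ← ι.symm.sum_comp]
  have hK' : Kill (R := R) M s R' c := kill_of_flatAt s c f hf fun q _ hgq => by
    by_contra hn
    rw [hg] at hgq
    have hmem : (⟨q, ‹_›⟩ : PrimeSpectrum S') ∈
        {q : PrimeSpectrum S' | Module.Flat R' (LocalizedModule q.asIdeal.primeCompl M')}ᶜ := hn
    rw [ha] at hmem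
    exact hgq (hmem hga)
  -- the universal situation over a polynomial ring
  let R₀ := MvPolynomial (Fin k) R
  letI : Algebra R₀ R' := (MvPolynomial.aeval c).toRingHom.toAlgebra
  haveI : IsScalarTower R R₀ R' := .of_algebraMap_eq fun r => ((MvPolynomial.aeval c).commutes r).symm
  let x₀ : Fin k → R₀ := fun i => MvPolynomial.X i
  have hx₀ : ∀ i, algebraMap R₀ R' (x₀ i) = c i := fun i => MvPolynomial.aeval_X c i
  obtain ⟨C, hC, hstage⟩ := exists_stage' (M := M) s R₀ R' x₀ c hx₀ hK'
  -- localise the stage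
  haveI : Algebra.FiniteType R₀ C := (Subalgebra.fg_iff_finiteType C).mp hC
  haveI : IsNoetherianRing C := Algebra.FiniteType.isNoetherianRing R₀ C
  let p : Ideal C := (maximalIdeal R').comap C.val.toRingHom
  haveI : p.IsPrime := Ideal.IsPrime.comap _
  let R₁ := Localization.AtPrime p
  haveI : IsNoetherianRing R₁ := IsLocalization.isNoetherianRing p.primeCompl _ inferInstance
  haveI : IsScalarTower R R₀ R₁ := .of_algebraMap_eq fun r => by
    rw [IsScalarTower.algebraMap_apply R C R₁, IsScalarTower.algebraMap_apply R R₀ C,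
      ← IsScalarTower.algebraMap_apply R₀ C R₁]
  let c₁ : Fin k → R₁ := fun i => algebraMap R₀ R₁ (x₀ i)
  have hK₁ : Kill (R := R) M s R₁ c₁ := hstage R₁ c₁ fun i => rfl
  have hc₁ : ∀ i, c₁ i ∈ maximalIdeal R₁ := fun i => by
    show algebraMap R₀ R₁ (x₀ i) ∈ _
    rw [IsScalarTower.algebraMap_apply R₀ C R₁, IsLocalization.AtPrime.to_map_mem_maximal_iff R₁ p]
    show C.val (algebraMap R₀ C (x₀ i)) ∈ maximalIdeal R'
    rw [AlgHom.commutes, hx₀]
    exact hcc _
  haveI : IsLocalHom (algebraMap R R₁) := ⟨fun r hr => by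
    by_contra hn
    have hm : algebraMap R R' r ∈ maximalIdeal R' := map_nonunit (algebraMap R R') r hn
    rw [IsScalarTower.algebraMap_apply R C R₁] at hr
    refine (IsLocalization.AtPrime.isUnit_to_map_iff R₁ p (algebraMap R C r)).1 hr ?_
    show C.val (algebraMap R C r) ∈ maximalIdeal R'
    rwa [show C.val (algebraMap R C r) = algebraMap R R' r from
      ((C.val).restrictScalars R).commutes r]⟩
  -- apply the noetherian case
  have hle : I ≤ RingHom.ker (algebraMap R R₁) := le_ker_of_kill' s I hI hmin R₁ c₁ hc₁ hK₁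
  intro r hr
  have hr₁ := RingHom.mem_ker.1 (hle hr)
  rw [IsScalarTower.algebraMap_apply R C R₁] at hr₁
  obtain ⟨t, ht⟩ := (IsLocalization.map_eq_zero_iff p.primeCompl R₁ _).1 hr₁
  have h := congrArg C.val ht
  rw [map_mul, map_zero, show C.val (algebraMap R C r) = algebraMap R R' r from
    ((C.val).restrictScalars R).commutes r] at h
  exact RingHom.mem_ker.2 ((isUnit_iff_exists_inv.2 (isUnit_iff_exists_inv.1
    (notMem_maximalIdeal.1 (show C.val t.1 ∉ maximalIdeal R' from t.2)))).mul_right_eq_zero.1 h)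

end Groth.Agent.Hens22.FlatUniv
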