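import Groth.Agent.Hens22.Truncation
import Mathlib.RingTheory.Etale.Basic

/-!
Infinitesimal lifting for algebras killed by an ideal versus formal smoothness of truncations.
-/

set_option autoImplicit false
universe u

namespace Groth.Agent.Hens22

variable {A : Type u} [CommRing A] (J : Ideal A) {B : Type u} [CommRing B] [Algebra A B]

theorem eq_zero_of_map_eq_bot {E : Type u} [CommRing E] [Algebra A E]
    (hE : J.map (algebraMap A E) = ⊥) : ∀ a ∈ J, algebraMap A E a = 0 := fun _ ha =>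
  (Ideal.mem_bot).1 (hE ▸ Ideal.mem_map_of_mem (algebraMap A E) ha)

/-- Maps to algebras killed by `J` descend to the truncation. -/
theorem exists_descend {C : Type u} [CommRing C] [Algebra A C] [Algebra (A ⧸ J) C]
    [IsScalarTower A (A ⧸ J) C] (u : B →ₐ[A] C) :
    ∃ u' : (B ⧸ J.map (algebraMap A B)) →ₐ[A ⧸ J] C,
      ∀ b, u' (Ideal.Quotient.mk _ b) = u b := by
  have hle : ∀ b ∈ J.map (algebraMap A B), u.toRingHom b = 0 := by
    intro b hb
    refine RingHom.mem_ker.1 ((Ideal.map_le_iff_le_comap.2 fun a ha => ?_ :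
      J.map (algebraMap A B) ≤ RingHom.ker u.toRingHom) hb)
    show u (algebraMap A B a) = 0
    rw [u.commutes, IsScalarTower.algebraMap_apply A (A ⧸ J) C, Ideal.Quotient.algebraMap_eq,
      Ideal.Quotient.eq_zero_iff_mem.2 ha, map_zero]
  have hc : ∀ x : A ⧸ J, Ideal.Quotient.lift _ u.toRingHom hle
      (algebraMap (A ⧸ J) (B ⧸ J.map (algebraMap A B)) x) = algebraMap (A ⧸ J) C x := by
    intro x
    obtain ⟨a, rfl⟩ := Ideal.Quotient.mk_surjective x
    show u (algebraMap A B a) = _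
    rw [u.commutes, IsScalarTower.algebraMap_apply A (A ⧸ J) C]
    rfl
  exact ⟨{ Ideal.Quotient.lift _ u.toRingHom hle with commutes' := hc }, fun b => rfl⟩

theorem exists_lift_of_formallySmooth
    [Algebra.FormallySmooth (A ⧸ J) (B ⧸ J.map (algebraMap A B))] {E C : Type u} [CommRing E]
    [CommRing C] [Algebra A E] [Algebra A C] (hE : J.map (algebraMap A E) = ⊥)
    (hC : J.map (algebraMap A C) = ⊥) (p : E →ₐ[A] C) (hp : Function.Surjective p)
    (hker : IsNilpotent (RingHom.ker p)) (u : B →ₐ[A] C) : ∃ v : B →ₐ[A] E, p.comp v = u := by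
  let _ : Algebra (A ⧸ J) E :=
    (Ideal.Quotient.lift J (algebraMap A E) (eq_zero_of_map_eq_bot J hE)).toAlgebra
  let _ : Algebra (A ⧸ J) C :=
    (Ideal.Quotient.lift J (algebraMap A C) (eq_zero_of_map_eq_bot J hC)).toAlgebra
  have : IsScalarTower A (A ⧸ J) E := IsScalarTower.of_algebraMap_eq fun _ => rfl
  have : IsScalarTower A (A ⧸ J) C := IsScalarTower.of_algebraMap_eq fun _ => rfl
  obtain ⟨u', hu'⟩ := exists_descend J u
  let p' : E →ₐ[A ⧸ J] C := AlgHom.extendScalarsOfSurjective Ideal.Quotient.mk_surjective p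
  let v' := Algebra.FormallySmooth.liftOfSurjective u' p' hp hker
  refine ⟨(v'.restrictScalars A).comp (Ideal.Quotient.mkₐ A (J.map (algebraMap A B))), ?_⟩
  refine AlgHom.ext fun b => ?_
  show p' (v' (Ideal.Quotient.mk _ b)) = u b
  rw [← hu']
  exact Algebra.FormallySmooth.liftOfSurjective_apply u' p' hp hker _

theorem lift_unique_of_formallyUnramified
    [Algebra.FormallyUnramified (A ⧸ J) (B ⧸ J.map (algebraMap A B))] {E C : Type u} [CommRing E]
    [CommRing C] [Algebra A E] [Algebra A C] (hE : J.map (algebraMap A E) = ⊥)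
    (p : E →ₐ[A] C) (hker : IsNilpotent (RingHom.ker p)) (v₁ v₂ : B →ₐ[A] E)
    (h : p.comp v₁ = p.comp v₂) : v₁ = v₂ := by
  let _ : Algebra (A ⧸ J) E :=
    (Ideal.Quotient.lift J (algebraMap A E) (eq_zero_of_map_eq_bot J hE)).toAlgebra
  have : IsScalarTower A (A ⧸ J) E := IsScalarTower.of_algebraMap_eq fun _ => rfl
  obtain ⟨w₁, hw₁⟩ := exists_descend J v₁
  obtain ⟨w₂, hw₂⟩ := exists_descend J v₂
  have hw : w₁ = w₂ := by
    refine Algebra.FormallyUnramified.lift_unique (RingHom.ker p) hker _ _ (AlgHom.ext fun x => ?_)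
    obtain ⟨b, rfl⟩ := Ideal.Quotient.mk_surjective x
    show Ideal.Quotient.mk (RingHom.ker p) (w₁ _) = Ideal.Quotient.mk (RingHom.ker p) (w₂ _)
    rw [hw₁, hw₂, Ideal.Quotient.eq, RingHom.mem_ker, map_sub, sub_eq_zero]
    exact DFunLike.congr_fun h b
  exact AlgHom.ext fun b => by rw [← hw₁, ← hw₂, hw]

variable (B) in
/-- The square zero lifting test. -/
theorem comp_of_lift (P : ∀ {E C : Type u} [CommRing E] [CommRing C] [Algebra A E] [Algebra A C],
      (E →ₐ[A] C) → (B →ₐ[A] C) → Prop)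
    (h : ∀ (E C : Type u) [CommRing E] [CommRing C] [Algebra A E] [Algebra A C],
        J.map (algebraMap A E) = ⊥ → J.map (algebraMap A C) = ⊥ →
        ∀ (p : E →ₐ[A] C), Function.Surjective p → (∃ M : ℕ, 1 ≤ M ∧ RingHom.ker p ^ M = ⊥) →
        ∀ u : B →ₐ[A] C, P p u)
    ⦃T : Type u⦄ [CommRing T] [Algebra A T] [Algebra (A ⧸ J) T] [IsScalarTower A (A ⧸ J) T]
    (K : Ideal T) (hK : K ^ 2 = ⊥) (g : B →ₐ[A] T ⧸ K) : P (Ideal.Quotient.mkₐ A K) g := by
  refine h T (T ⧸ K) ?_ ?_ _ Ideal.Quotient.mk_surjective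
    ⟨2, one_le_two, by rw [show RingHom.ker (Ideal.Quotient.mkₐ A K) = K from Ideal.mk_ker]; exact hK⟩ g
  · refine le_bot_iff.1 (Ideal.map_le_iff_le_comap.2 fun a ha => ?_)
    rw [Ideal.mem_comap, Ideal.mem_bot, IsScalarTower.algebraMap_apply A (A ⧸ J) T,
      Ideal.Quotient.algebraMap_eq, Ideal.Quotient.eq_zero_iff_mem.2 ha, map_zero]
  · refine le_bot_iff.1 (Ideal.map_le_iff_le_comap.2 fun a ha => ?_)
    rw [Ideal.mem_comap, Ideal.mem_bot, IsScalarTower.algebraMap_apply A (A ⧸ J) (T ⧸ K),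
      Ideal.Quotient.algebraMap_eq, Ideal.Quotient.eq_zero_iff_mem.2 ha, map_zero]

theorem formallySmooth_truncation_of_lift
    (h : ∀ (E C : Type u) [CommRing E] [CommRing C] [Algebra A E] [Algebra A C],
        J.map (algebraMap A E) = ⊥ → J.map (algebraMap A C) = ⊥ →
        ∀ (p : E →ₐ[A] C), Function.Surjective p → (∃ M : ℕ, 1 ≤ M ∧ RingHom.ker p ^ M = ⊥) →
        ∀ u : B →ₐ[A] C, ∃ v : B →ₐ[A] E, p.comp v = u) :
    Algebra.FormallySmooth (A ⧸ J) (B ⧸ J.map (algebraMap A B)) := by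
  refine Algebra.FormallySmooth.of_comp_surjective fun T _ _ K hK g => ?_
  let _ : Algebra A T := Algebra.compHom T (Ideal.Quotient.mk J)
  have : IsScalarTower A (A ⧸ J) T := IsScalarTower.of_algebraMap_eq fun _ => rfl
  obtain ⟨v, hv⟩ := comp_of_lift J B (fun p u => ∃ v, p.comp v = u) h K hK
    ((g.restrictScalars A).comp (Ideal.Quotient.mkₐ A _))
  obtain ⟨v', hv'⟩ := exists_descend J v
  refine ⟨v', AlgHom.ext fun x => ?_⟩
  obtain ⟨b, rfl⟩ := Ideal.Quotient.mk_surjective x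
  show Ideal.Quotient.mk K (v' _) = _
  rw [hv']
  exact DFunLike.congr_fun hv b

theorem formallyEtale_truncation_of_lift
    (h : ∀ (E C : Type u) [CommRing E] [CommRing C] [Algebra A E] [Algebra A C],
        J.map (algebraMap A E) = ⊥ → J.map (algebraMap A C) = ⊥ →
        ∀ (p : E →ₐ[A] C), Function.Surjective p → (∃ M : ℕ, 1 ≤ M ∧ RingHom.ker p ^ M = ⊥) →
        ∀ u : B →ₐ[A] C, ∃! v : B →ₐ[A] E, p.comp v = u) :
    Algebra.FormallyEtale (A ⧸ J) (B ⧸ J.map (algebraMap A B)) := by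
  refine Algebra.FormallyEtale.iff_comp_bijective.2 fun T _ _ K hK => ?_
  let _ : Algebra A T := Algebra.compHom T (Ideal.Quotient.mk J)
  have : IsScalarTower A (A ⧸ J) T := IsScalarTower.of_algebraMap_eq fun _ => rfl
  refine ⟨fun g₁ g₂ hg => ?_, fun g => ?_⟩
  · have hx := (comp_of_lift J B (fun p u => ∃! v, p.comp v = u) h K hK
      (((Ideal.Quotient.mkₐ (A ⧸ J) K).comp g₁).restrictScalars A |>.comp (Ideal.Quotient.mkₐ A _))).unique
      (y₁ := (g₁.restrictScalars A).comp (Ideal.Quotient.mkₐ A _))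
      (y₂ := (g₂.restrictScalars A).comp (Ideal.Quotient.mkₐ A _))
      (AlgHom.ext fun b => rfl)
      (AlgHom.ext fun b => (DFunLike.congr_fun hg (Ideal.Quotient.mk _ b)).symm)
    refine AlgHom.ext fun x => ?_
    obtain ⟨b, rfl⟩ := Ideal.Quotient.mk_surjective x
    exact DFunLike.congr_fun hx b
  · obtain ⟨v, hv, -⟩ := comp_of_lift J B (fun p u => ∃! v, p.comp v = u) h K hK
      ((g.restrictScalars A).comp (Ideal.Quotient.mkₐ A _))
    obtain ⟨v', hv'⟩ := exists_descend J v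
    refine ⟨v', AlgHom.ext fun x => ?_⟩
    obtain ⟨b, rfl⟩ := Ideal.Quotient.mk_surjective x
    show Ideal.Quotient.mk K (v' _) = _
    rw [hv']
    exact DFunLike.congr_fun hv b

end Groth.Agent.Hens22
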