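import Groth.Agent.Hens22.GlueSheets
import Mathlib.RingTheory.Etale.Basic
import Mathlib.RingTheory.Smooth.Flat
import Mathlib.RingTheory.Flat.FaithfullyFlat.Algebra
import Mathlib.LinearAlgebra.DirectSum.Finsupp

/-!
Gluing sections of a quasi-coherent module on etale neighbourhoods along a henselian pair.
-/

set_option autoImplicit false
universe u

open TensorProduct Polynomial

noncomputable section

namespace Groth.Agent.Hens22.Glue

variable {A : Type u} [CommRing A] {I : Ideal A} {ι : Type u} (g : ι → A) (B : ι → Type u)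
  [∀ i, CommRing (B i)] [∀ i, Algebra A (B i)] [∀ i, Algebra.Etale A (B i)]
  {M : Type u} [AddCommGroup M] [Module A M]

theorem sheets_compat [HenselianRing A I] {K : Type u} [Field K] [IsAlgClosed K] [Algebra A K]
    (hcov : I ⊔ Ideal.span (Set.range g) = ⊤) (hpt : ∀ i, HasPt I (B i) (g i))
    (huniq : ∀ i, UniqPt I (B i)) (m : ∀ i, B i ⊗[A] M) (hag : ∀ i j, Agree I (m i) (m j))
    {q q' : Ideal (AbsCl (A := A) K)} [q.IsPrime] [q'.IsPrime]
    (hq : I.map (algebraMap A (AbsCl (A := A) K)) ≤ q)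
    (hq' : I.map (algebraMap A (AbsCl (A := A) K)) ≤ q') {i j : ι} {φ : B i →ₐ[A] K}
    {φ' : B j →ₐ[A] K} (h : Sheet q φ) (h' : Sheet q' φ') : Compat φ φ' (m i) (m j) := by
  classical
  let R := AbsCl (A := A) K
  let IR := I.map (algebraMap A R)
  have : Algebra.IsIntegral A R := ⟨fun x => (isIntegral_algHom_iff R.val Subtype.val_injective).1 x.2⟩
  have hR : HenselianRing R IR := henselianRing_of_isIntegral I R
  let pt : PrimeSpectrum (R ⧸ IR) → Ideal R := fun x => x.asIdeal.comap (Ideal.Quotient.mk IR)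
  have hprime : ∀ x, (pt x).IsPrime := fun x => Ideal.comap_isPrime _ _
  have hle : ∀ x, IR ≤ pt x := fun x r hr => by
    show Ideal.Quotient.mk IR r ∈ x.asIdeal
    rw [Ideal.Quotient.eq_zero_iff_mem.2 hr]
    exact x.asIdeal.zero_mem
  have hsurj : ∀ (p : Ideal R) [p.IsPrime], IR ≤ p → ∃ x, pt x = p := fun p _ hp => by
    have : (p.map (Ideal.Quotient.mk IR)).IsPrime :=
      Ideal.map_isPrime_of_surjective Ideal.Quotient.mk_surjective (by rwa [Ideal.mk_ker])
    refine ⟨⟨_, this⟩, ?_⟩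
    show (p.map (Ideal.Quotient.mk IR)).comap (Ideal.Quotient.mk IR) = p
    rw [Ideal.comap_map_of_surjective _ Ideal.Quotient.mk_surjective, ← RingHom.ker_eq_comap_bot,
      Ideal.mk_ker, sup_eq_left.2 hp]
  have hex : ∀ (p : Ideal R) [p.IsPrime], IR ≤ p → ∃ k, algebraMap A R (g k) ∉ p := fun p hp' hp => by
    by_contra hc
    push Not at hc
    have : (⊤ : Ideal A) ≤ p.comap (algebraMap A R) := by
      rw [← hcov]
      refine sup_le (Ideal.map_le_iff_le_comap.1 hp) (Ideal.span_le.2 ?_)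
      rintro _ ⟨k, rfl⟩
      exact hc k
    exact hp'.ne_top (Ideal.eq_top_iff_one _ |>.2 (by simpa using this (Submodule.mem_top (x := (1 : A)))))
  let P : PrimeSpectrum (R ⧸ IR) → Prop := fun x =>
    ∀ (k : ι) (θ : B k →ₐ[A] K), @Sheet A _ K _ _ _ (B k) _ _ (pt x) (hprime x) θ →
      Compat φ θ (m i) (m k)
  have hloc : ∀ x, ∃ U : Set (PrimeSpectrum (R ⧸ IR)), IsOpen U ∧ x ∈ U ∧
      ∀ y ∈ U, ∀ z ∈ U, P y → P z := by
    intro x
    have := hprime x
    obtain ⟨k, hk⟩ := hex (pt x) (hle x)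
    obtain ⟨θ, hθ⟩ := exists_sheet (K := K) (hpt k) (hle x) hk
    obtain ⟨c, hc, hcs⟩ := sheet_nhd hθ
    refine ⟨(PrimeSpectrum.basicOpen (Ideal.Quotient.mk IR c) : Set (PrimeSpectrum (R ⧸ IR))),
      (PrimeSpectrum.basicOpen _).2, hc, fun y hy z hz hPy => ?_⟩
    have := hprime y
    have := hprime z
    have hθy : Sheet (pt y) θ := hcs _ hy
    have hθz : Sheet (pt z) θ := hcs _ hz
    have hPθ := hPy k θ hθy
    intro l ω hω
    have hkl : Compat θ ω (m k) (m l) := compat_of_sheet (hle z) hθz hω (hag k l)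
    have hii : Compat φ φ (m i) (m i) := compat_of_sheet hq h h (hag i i)
    exact compat_trans (compat_symm hii hPθ) hkl
  have hopen : ∀ b : Prop, IsOpen {x | P x ↔ b} := fun b => isOpen_iff_forall_mem_open.2 fun x hx => by
    obtain ⟨U, hU, hxU, hUP⟩ := hloc x
    exact ⟨U, fun y hy => ⟨fun hp => hx.1 (hUP y hy x hxU hp), fun hb => hUP x hxU y hy (hx.2 hb)⟩,
      hU, hxU⟩
  have hclopen : IsClopen {x | P x} := by
    refine ⟨isOpen_compl_iff.1 ?_, ?_⟩
    · convert hopen False using 1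
      ext x
      simp
    · convert hopen True using 1
      ext x
      simp
  obtain ⟨e, he, hset⟩ := PrimeSpectrum.exists_idempotent_basicOpen_eq_of_isClopen hclopen
  have he01 : e = 0 ∨ e = 1 := by
    obtain ⟨e₀, rfl⟩ := Ideal.Quotient.mk_surjective e
    obtain ⟨a, ha, haI⟩ := hR.is_henselian (X ^ 2 - X) (monic_X_pow_sub (by simp)) e₀ (by
        rw [eval_sub, eval_pow, eval_X, ← Ideal.Quotient.eq, sq, map_mul]
        exact he) (by
        simp only [derivative_sub, derivative_X_pow, derivative_X, eval_sub, eval_mul, eval_C,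
          eval_pow, eval_X, eval_one, map_sub, map_mul, map_one, map_pow]
        refine IsUnit.of_mul_eq_one (2 * Ideal.Quotient.mk IR e₀ - 1) ?_
        simp only [Nat.cast_ofNat, map_ofNat, pow_one]
        linear_combination 4 * he.eq)
    have ha' : a * (a - 1) = 0 := by
      simp only [IsRoot.def, eval_sub, eval_pow, eval_X] at ha
      linear_combination ha
    rw [← Ideal.Quotient.eq.2 haI]
    rcases mul_eq_zero.1 ha' with h0 | h0
    · exact Or.inl (by rw [h0, map_zero])
    · exact Or.inr (by rw [sub_eq_zero.1 h0, map_one])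
  obtain ⟨x₀, hx₀⟩ := hsurj q hq
  subst hx₀
  have hP₀ : P x₀ := fun k θ hθ => compat_of_sheet hq h hθ (hag i k)
  obtain ⟨x', hx'⟩ := hsurj q' hq'
  subst hx'
  have hP' : x' ∈ {x | P x} := by
    have hP₀' : x₀ ∈ {x | P x} := hP₀
    rw [hset] at hP₀' ⊢
    rcases he01 with rfl | rfl
    · simp at hP₀'
    · simp
  exact hP' j φ' h'

theorem kill_of_good [HenselianRing A I] (hcov : I ⊔ Ideal.span (Set.range g) = ⊤)
    (hu : ∀ i, IsUnit (algebraMap A (B i) (g i))) (hpt : ∀ i, HasPt I (B i) (g i))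
    (huniq : ∀ i, UniqPt I (B i)) (m : ∀ i, B i ⊗[A] M) (hag : ∀ i j, Agree I (m i) (m j)) (i j : ι)
    {K : Type u} [Field K] [IsAlgClosed K] [Algebra A K] (χ : B i ⊗[A] B j →ₐ[A] K)
    (hi : ∀ b : B i, b - 1 ∈ I.map (algebraMap A (B i)) →
      χ (b ⊗ₜ[A] 1) ≠ 0)
    (hj : ∀ b : B j, b - 1 ∈ I.map (algebraMap A (B j)) →
      χ (1 ⊗ₜ[A] b) ≠ 0) :
    Kill χ.toRingHom (diff M (m i) (m j)) := by
  obtain ⟨q, _, hq, -, hs⟩ := exists_sheet_of_disjoint (hpt i) (huniq i) (hu i)
    (χ.comp Algebra.TensorProduct.includeLeft) hi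
  obtain ⟨q', _, hq', -, hs'⟩ := exists_sheet_of_disjoint (hpt j) (huniq j) (hu j)
    (χ.comp Algebra.TensorProduct.includeRight) hj
  have hc := sheets_compat g B hcov hpt huniq m hag hq hq' hs hs'
  have he : Algebra.TensorProduct.lift (χ.comp Algebra.TensorProduct.includeLeft)
      (χ.comp Algebra.TensorProduct.includeRight) (fun _ _ => Commute.all _ _) = χ := by
    refine Algebra.TensorProduct.ext' fun x y => ?_
    rw [Algebra.TensorProduct.lift_tmul, AlgHom.comp_apply, AlgHom.comp_apply, ← map_mul]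
    simp
  rw [Compat, he] at hc
  exact hc

variable (I) in
/-- The elements congruent to `1` modulo `I`. -/
def oneAdd (T : Type u) [CommRing T] [Algebra A T] : Submonoid T :=
  MonoidHom.mker (Ideal.Quotient.mk (I.map (algebraMap A T))).toMonoidHom

theorem mem_oneAdd {T : Type u} [CommRing T] [Algebra A T] {b : T} :
    b ∈ oneAdd I T ↔ b - 1 ∈ I.map (algebraMap A T) := by
  rw [oneAdd, MonoidHom.mem_mker]
  show Ideal.Quotient.mk _ b = 1 ↔ _
  rw [← map_one (Ideal.Quotient.mk (I.map (algebraMap A T))), Ideal.Quotient.eq]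

theorem exists_kill_pair [HenselianRing A I] (hcov : I ⊔ Ideal.span (Set.range g) = ⊤)
    (hu : ∀ i, IsUnit (algebraMap A (B i) (g i))) (hpt : ∀ i, HasPt I (B i) (g i))
    (huniq : ∀ i, UniqPt I (B i)) (m : ∀ i, B i ⊗[A] M) (hag : ∀ i j, Agree I (m i) (m j)) (i j : ι) :
    ∃ a ∈ oneAdd I (B i), ∃ b ∈ oneAdd I (B j), (a ⊗ₜ[A] b : B i ⊗[A] B j) • diff M (m i) (m j) = 0 := by
  let T := B i ⊗[A] B j
  let S : Submonoid T := (oneAdd I (B i)).map (Algebra.TensorProduct.includeLeft : B i →ₐ[A] T).toRingHom.toMonoidHom ⊔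
    (oneAdd I (B j)).map (Algebra.TensorProduct.includeRight : B j →ₐ[A] T).toRingHom.toMonoidHom
  let Ann : Ideal T := LinearMap.ker (LinearMap.toSpanSingleton T (T ⊗[A] M) (diff M (m i) (m j)))
  by_cases hd : Disjoint (Ann : Set T) S
  · obtain ⟨p, hp, hAp, hdp⟩ := Ideal.exists_le_prime_disjoint Ann S hd
    let K := AlgebraicClosure (FractionRing (T ⧸ p))
    let χ : T →ₐ[A] K := IsScalarTower.toAlgHom A T K
    have hker : ∀ t, χ t = 0 ↔ t ∈ p := fun t => by
      show algebraMap T K t = 0 ↔ _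
      rw [IsScalarTower.algebraMap_apply T (T ⧸ p) K,
        IsScalarTower.algebraMap_apply (T ⧸ p) (FractionRing (T ⧸ p)) K, map_eq_zero, map_eq_zero_iff _
        (IsFractionRing.injective (T ⧸ p) (FractionRing (T ⧸ p))), Ideal.Quotient.algebraMap_eq,
        Ideal.Quotient.eq_zero_iff_mem]
    have hk := kill_of_good g B hcov hu hpt huniq m hag i j χ
      (fun b hb h0 => Set.disjoint_left.1 hdp ((hker _).1 h0)
        (Submonoid.mem_sup_left ⟨b, mem_oneAdd.2 hb, rfl⟩))
      (fun b hb h0 => Set.disjoint_left.1 hdp ((hker _).1 h0)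
        (Submonoid.mem_sup_right ⟨b, mem_oneAdd.2 hb, rfl⟩))
    obtain ⟨t, ht, h0⟩ := hk
    exact absurd ((hker t).2 (hAp h0)) ht
  · obtain ⟨t, htA, htS⟩ := Set.not_disjoint_iff.1 hd
    obtain ⟨_, ⟨a, ha, rfl⟩, _, ⟨b, hb, rfl⟩, rfl⟩ := Submonoid.mem_sup.1 htS
    refine ⟨a, ha, b, hb, ?_⟩
    have := LinearMap.mem_ker.1 htA
    rw [show (a ⊗ₜ[A] b : B i ⊗[A] B j) = (a ⊗ₜ[A] 1) * (1 ⊗ₜ[A] b) by
      rw [Algebra.TensorProduct.tmul_mul_tmul, mul_one, one_mul]]
    exact this

/-- Compatible sections near `V(I)` come from a global one. -/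
theorem exists_glue [HenselianRing A I] [Fintype ι] (hcov : I ⊔ Ideal.span (Set.range g) = ⊤)
    (hu : ∀ i, IsUnit (algebraMap A (B i) (g i))) (hpt : ∀ i, HasPt I (B i) (g i))
    (huniq : ∀ i, UniqPt I (B i)) (m : ∀ i, B i ⊗[A] M) (hag : ∀ i j, Agree I (m i) (m j)) :
    ∃ x : M, ∀ i, ∃ s ∈ oneAdd I (B i), s • ((1 : B i) ⊗ₜ[A] x - m i) = 0 := by
  classical
  choose a ha b hb hab using exists_kill_pair g B hcov hu hpt huniq m hag
  let s : ∀ i, B i := fun i => (∏ j, a i j) * ∏ j, b j i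
  have hs : ∀ i, s i ∈ oneAdd I (B i) := fun i =>
    mul_mem (prod_mem fun j _ => ha i j) (prod_mem fun j _ => hb j i)
  let B' : ι → Type u := fun i => Localization.Away (s i)
  let loc : ∀ i, B i →ₐ[A] B' i := fun i => IsScalarTower.toAlgHom A (B i) (B' i)
  let P := ∀ i, B' i
  have : ∀ i, Module.Flat A (B' i) := fun i => by
    have : Module.Flat (B i) (B' i) := IsLocalization.flat _ (Submonoid.powers (s i))
    exact Module.Flat.trans A (B i) (B' i)
  let e : P ≃ₗ[A] DirectSum ι B' := (DirectSum.linearEquivFunOnFintype A ι B').symm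
  have : Module.Flat A P := Module.Flat.of_linearEquiv e
  have : Module.FaithfullyFlat A P := by
    refine ⟨fun {p} hp htop => ?_⟩
    let F := A ⧸ p
    let _ : Field F := Ideal.Quotient.field p
    have hIp : I ≤ p := (HenselianRing.jac (I := I)).trans (sInf_le ⟨bot_le, hp⟩)
    have hI : I ≤ RingHom.ker (algebraMap A F) := by rwa [Ideal.Quotient.algebraMap_eq, Ideal.mk_ker]
    obtain ⟨i, hi⟩ : ∃ i, g i ∉ p := by
      by_contra hc
      push Not at hc
      exact hp.ne_top (top_le_iff.1 (hcov ▸ sup_le hIp (Ideal.span_le.2 (by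
        rintro _ ⟨i, rfl⟩
        exact hc i))))
    obtain ⟨σ⟩ := hpt i F hI (by rwa [Ideal.Quotient.algebraMap_eq, ne_eq, Ideal.Quotient.eq_zero_iff_mem])
    have hσ : σ (s i) = 1 := by
      have h := mem_oneAdd.1 (hs i)
      have h2 : σ (s i - 1) = 0 := by
        have hm := Ideal.mem_map_of_mem σ.toRingHom h
        rw [Ideal.map_map, AlgHom.toRingHom_eq_coe, σ.comp_algebraMap] at hm
        rw [(Ideal.map_eq_bot_iff_le_ker (algebraMap A F)).2 hI] at hm
        exact Ideal.mem_bot.1 hm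
      rwa [map_sub, map_one, sub_eq_zero] at h2
    let τ : B' i →ₐ[A] F := IsLocalization.liftAlgHom (M := Submonoid.powers (s i)) (f := σ) fun y => by
      obtain ⟨n, hn⟩ := y.2
      rw [← hn, map_pow, hσ, one_pow]
      exact isUnit_one
    let π : P →ₐ[A] F := τ.comp (Pi.evalAlgHom A B' i)
    rw [Ideal.smul_top_eq_map, Submodule.restrictScalars_eq_top_iff] at htop
    have h1 := Ideal.mem_map_of_mem π.toRingHom (htop.symm ▸ Submodule.mem_top : (1 : P) ∈ p.map (algebraMap A P))
    rw [Ideal.map_map, AlgHom.toRingHom_eq_coe, π.comp_algebraMap, Ideal.Quotient.algebraMap_eq, Ideal.map_quotient_self, map_one] at h1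
    exact one_ne_zero (Ideal.mem_bot.1 h1)
  let π : ∀ i, P →ₐ[A] B' i := fun i => Pi.evalAlgHom A B' i
  let σ : ∀ i, B' i →ₗ[A] P := fun i => LinearMap.single A B' i
  let x : P ⊗[A] M := ∑ i, (σ i).rTensor M (push M (loc i) (m i))
  have hπ : ∀ i, push M (π i) x = push M (loc i) (m i) := fun i => by
    rw [map_sum, Finset.sum_eq_single i]
    · rw [← LinearMap.comp_apply, ← LinearMap.rTensor_comp]
      rw [show (π i).toLinearMap ∘ₗ σ i = LinearMap.id from LinearMap.ext fun y =>
        Pi.single_eq_same (M := B') i y, LinearMap.rTensor_id_apply]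
    · intro j _ hji
      rw [← LinearMap.comp_apply, ← LinearMap.rTensor_comp]
      rw [show (π i).toLinearMap ∘ₗ σ j = 0 from LinearMap.ext fun y =>
        Pi.single_eq_of_ne (M := B') (Ne.symm hji) y, LinearMap.rTensor_zero, LinearMap.zero_apply]
    · simp
  have hd0 : diff M x x = 0 := by
    have hz : ∀ i j, push M (Algebra.TensorProduct.map (π i) (π j)) (diff M x x) = 0 := fun i j => by
      have h1 : (Algebra.TensorProduct.map (π i) (π j)).comp Algebra.TensorProduct.includeRight =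
          Algebra.TensorProduct.includeRight.comp (π j) := AlgHom.ext fun y => by simp
      have h2 : (Algebra.TensorProduct.map (π i) (π j)).comp Algebra.TensorProduct.includeLeft =
          Algebra.TensorProduct.includeLeft.comp (π i) := AlgHom.ext fun y => by simp
      have h3 : push M (Algebra.TensorProduct.map (π i) (π j)) (diff M x x) =
          push M (Algebra.TensorProduct.map (loc i) (loc j)) (diff M (m i) (m j)) := by
        rw [push_diff, push_diff, h1, h2, ← push_comp, ← push_comp, hπ, hπ, push_comp, push_comp,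
          Algebra.TensorProduct.map_comp_includeLeft, Algebra.TensorProduct.map_comp_includeRight]
      rw [h3]
      have hmul : (a i j ⊗ₜ[A] b i j : B i ⊗[A] B j) ∣ s i ⊗ₜ[A] s j := by
        obtain ⟨c, hc⟩ := dvd_mul_of_dvd_left (Finset.dvd_prod_of_mem (a i) (Finset.mem_univ j)) (∏ k, b k i)
        obtain ⟨d, hd⟩ := dvd_mul_of_dvd_right (Finset.dvd_prod_of_mem (fun k => b k j) (Finset.mem_univ i)) (∏ k, a j k)
        exact ⟨c ⊗ₜ d, by rw [Algebra.TensorProduct.tmul_mul_tmul, ← hc, ← hd]⟩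
      obtain ⟨c, hc⟩ := hmul
      have h4 := congrArg (push M (Algebra.TensorProduct.map (loc i) (loc j)))
        (show (s i ⊗ₜ[A] s j : B i ⊗[A] B j) • diff M (m i) (m j) = 0 by
          rw [hc, mul_comm, mul_smul, hab, smul_zero])
      rw [push_smul, map_zero] at h4
      refine (IsUnit.smul_eq_zero ?_).1 h4
      rw [Algebra.TensorProduct.map_tmul, ← mul_one ((loc i) (s i)), ← one_mul ((loc j) (s j)),
        ← Algebra.TensorProduct.tmul_mul_tmul]
      exact ((IsLocalization.Away.algebraMap_isUnit (S := B' i) (s i)).map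
        (Algebra.TensorProduct.includeLeft : B' i →ₐ[A] B' i ⊗[A] B' j)).mul
        ((IsLocalization.Away.algebraMap_isUnit (S := B' j) (s j)).map
        (Algebra.TensorProduct.includeRight : B' j →ₐ[A] B' i ⊗[A] B' j))
    have hid : ∑ i, ∑ j, (TensorProduct.map (σ i) (σ j)) ∘ₗ
        (Algebra.TensorProduct.map (π i) (π j)).toLinearMap = LinearMap.id (R := A) (M := P ⊗[A] P) := by
      refine TensorProduct.ext' fun y z => ?_
      have hsum : ∀ w : P, ∑ k, σ k (π k w) = w := fun w => Finset.univ_sum_single w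
      simp only [LinearMap.coe_sum, Finset.sum_apply, LinearMap.comp_apply, AlgHom.toLinearMap_apply,
        Algebra.TensorProduct.map_tmul, TensorProduct.map_tmul, LinearMap.id_apply, ← tmul_sum,
        ← sum_tmul, hsum]
    rw [← LinearMap.rTensor_id_apply M (P ⊗[A] P) (diff M x x), ← hid]
    show LinearMap.rTensorHom M (∑ i, ∑ j, _) _ = 0
    simp only [map_sum, LinearMap.coe_sum, Finset.sum_apply]
    refine Finset.sum_eq_zero fun i _ => Finset.sum_eq_zero fun j _ => ?_
    show LinearMap.rTensor M (_ ∘ₗ _) _ = 0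
    rw [LinearMap.rTensor_comp_apply]
    exact (congrArg _ (hz i j)).trans (map_zero _)
  rw [diff, sub_eq_zero] at hd0
  obtain ⟨y, hy⟩ : ∃ y : M, (1 : P) ⊗ₜ[A] y = x := exists_descent P x hd0.symm
  refine ⟨y, fun i => ?_⟩
  have h1 : push M (loc i) ((1 : B i) ⊗ₜ[A] y - m i) = 0 := by
    rw [map_sub, ← hπ i, ← hy]
    simp [π, loc]
  let e := AlgebraTensorModule.cancelBaseChange A (B i) (B' i) (B' i) M
  have he : ∀ z : B i ⊗[A] M, e (1 ⊗ₜ z) = push M (loc i) z := by
    intro z
    induction z using TensorProduct.induction_on with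
    | zero => simp
    | tmul u v => simp [e, push, loc, Algebra.smul_def]
    | add u v hu hv => simp [tmul_add, map_add, hu, hv]
  have h2 : (1 : B' i) ⊗ₜ[B i] ((1 : B i) ⊗ₜ[A] y - m i) = 0 := e.injective (by rw [he, h1, map_zero])
  have : Module.Flat (B i) (B' i) := IsLocalization.flat _ (Submonoid.powers (s i))
  have h3 := mem_map_ker_toSpanSingleton _ _ h2
  rw [← map_one (algebraMap (B i) (B' i)),
    IsLocalization.algebraMap_mem_map_algebraMap_iff (Submonoid.powers (s i))] at h3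
  obtain ⟨_, ⟨n, rfl⟩, hn⟩ := h3
  rw [mul_one] at hn
  exact ⟨s i ^ n, pow_mem (hs i) n, hn⟩

end Groth.Agent.Hens22.Glue
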