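import Mathlib.RingTheory.Flat.Basic
import Mathlib.RingTheory.Flat.Stability
import Mathlib.RingTheory.Flat.FaithfullyFlat.Algebra
import Mathlib.RingTheory.TensorProduct.Maps
import Mathlib.RingTheory.Ideal.Quotient.Operations
import Mathlib.LinearAlgebra.TensorProduct.Tower
import Mathlib.LinearAlgebra.TensorProduct.Quotient

/-!
Elements of a base changed module killed away from a prime.
-/

set_option autoImplicit false
universe u

open TensorProduct

noncomputable section

namespace Groth.Agent.Hens22.Glue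

variable {A : Type u} [CommRing A] (M : Type u) [AddCommGroup M] [Module A M]

/-- The map on base changed modules attached to a map of algebras. -/
abbrev push {T T' : Type u} [CommRing T] [Algebra A T] [CommRing T'] [Algebra A T'] (f : T →ₐ[A] T') :
    T ⊗[A] M →ₗ[A] T' ⊗[A] M :=
  LinearMap.rTensor M f.toLinearMap

variable {M}

theorem push_smul {T T' : Type u} [CommRing T] [Algebra A T] [CommRing T'] [Algebra A T']
    (f : T →ₐ[A] T') (t : T) (y : T ⊗[A] M) : push M f (t • y) = f t • push M f y := by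
  induction y using TensorProduct.induction_on with
  | zero => simp
  | tmul x m => simp [push, smul_tmul', map_mul]
  | add x y hx hy => simp [smul_add, map_add, hx, hy]

theorem push_comp {T T' T'' : Type u} [CommRing T] [Algebra A T] [CommRing T'] [Algebra A T']
    [CommRing T''] [Algebra A T''] (f : T →ₐ[A] T') (g : T' →ₐ[A] T'') (y : T ⊗[A] M) :
    push M g (push M f y) = push M (g.comp f) y := by
  rw [push, push, push, AlgHom.comp_toLinearMap, LinearMap.rTensor_comp_apply]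

theorem push_id {T : Type u} [CommRing T] [Algebra A T] (y : T ⊗[A] M) :
    push M (AlgHom.id A T) y = y := by
  rw [push, AlgHom.toLinearMap_id, LinearMap.rTensor_id_apply]

/-- `y` dies in the localisation at the prime `ker χ`. -/
def Kill {T : Type u} [CommRing T] [Algebra A T] {K : Type u} [CommRing K] (χ : T →+* K)
    (y : T ⊗[A] M) : Prop :=
  ∃ t : T, χ t ≠ 0 ∧ t • y = 0

theorem kill_push {T T' : Type u} [CommRing T] [Algebra A T] [CommRing T'] [Algebra A T']
    (f : T →ₐ[A] T') {K : Type u} [CommRing K] (χ : T →+* K) (χ' : T' →+* K)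
    (hχ : ∀ t, χ' (f t) = χ t) {y : T ⊗[A] M} (h : Kill χ y) : Kill χ' (push M f y) := by
  obtain ⟨t, ht, h0⟩ := h
  exact ⟨f t, by rwa [hχ], by rw [← push_smul, h0, map_zero]⟩

theorem kill_sub {T : Type u} [CommRing T] [Algebra A T] {K : Type u} [CommRing K] [IsDomain K]
    (χ : T →+* K) {y z : T ⊗[A] M} (hy : Kill χ y) (hz : Kill χ z) : Kill χ (y - z) := by
  obtain ⟨t, ht, ht0⟩ := hy
  obtain ⟨s, hs, hs0⟩ := hz
  refine ⟨t * s, by rw [map_mul]; exact mul_ne_zero ht hs, ?_⟩
  rw [smul_sub, mul_comm t s, mul_smul, ht0, smul_zero, zero_sub, neg_eq_zero, mul_comm s t,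
    mul_smul, hs0, smul_zero]

/-- The annihilator of an element is stable under flat base change. -/
theorem mem_map_ker_toSpanSingleton {T T' : Type u} [CommRing T] [CommRing T'] [Algebra T T']
    [Module.Flat T T'] {N : Type u} [AddCommGroup N] [Module T N] (y : N) (u : T')
    (h : u ⊗ₜ[T] y = (0 : T' ⊗[T] N)) :
    u ∈ Ideal.map (algebraMap T T') (LinearMap.ker (LinearMap.toSpanSingleton T N y)) := by
  let Ann : Ideal T := LinearMap.ker (LinearMap.toSpanSingleton T N y)
  let j : (T ⧸ Ann) →ₗ[T] N := Submodule.liftQ Ann (LinearMap.toSpanSingleton T N y) le_rfl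
  have hj : Function.Injective j := LinearMap.ker_eq_bot.1 (Submodule.ker_liftQ_eq_bot _ _ _ le_rfl)
  have hinj := Module.Flat.lTensor_preserves_injective_linearMap (M := T') j hj
  have h1 : u ⊗ₜ[T] (Ideal.Quotient.mk Ann 1) = (0 : T' ⊗[T] (T ⧸ Ann)) := by
    refine hinj ?_
    rw [LinearMap.lTensor_tmul, map_zero]
    have : j (Ideal.Quotient.mk Ann 1) = y := by
      show LinearMap.toSpanSingleton T N y 1 = y
      simp
    rw [this, h]
  have h2 := congrArg (TensorProduct.tensorQuotEquivQuotSMul T' Ann) h1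
  rw [map_zero, TensorProduct.tensorQuotEquivQuotSMul_tmul_mk, one_smul,
    Submodule.Quotient.mk_eq_zero, Ideal.smul_top_eq_map] at h2
  exact h2

/-- Killing descends along flat maps. -/
theorem kill_descend {T T' : Type u} [CommRing T] [Algebra A T] [CommRing T'] [Algebra A T']
    [Algebra T T'] [IsScalarTower A T T'] [Module.Flat T T'] {K : Type u} [CommRing K] [IsDomain K]
    (χ : T →+* K) (χ' : T' →+* K) (hχ : ∀ t, χ' (algebraMap T T' t) = χ t) {y : T ⊗[A] M}
    (h : Kill χ' (push M (IsScalarTower.toAlgHom A T T') y)) : Kill χ y := by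
  obtain ⟨u, hu, h0⟩ := h
  let e := AlgebraTensorModule.cancelBaseChange A T T' T' M
  have he : ∀ z : T ⊗[A] M, e (1 ⊗ₜ z) = push M (IsScalarTower.toAlgHom A T T') z := by
    intro z
    induction z using TensorProduct.induction_on with
    | zero => simp
    | tmul x m => simp [e, push, Algebra.smul_def]
    | add x z hx hz => simp [tmul_add, map_add, hx, hz]
  have h1 : u ⊗ₜ[T] y = (0 : T' ⊗[T] (T ⊗[A] M)) := by
    apply e.injective
    rw [map_zero, ← mul_one u, ← smul_eq_mul, ← smul_tmul', map_smul, he, h0]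
  have h2 := mem_map_ker_toSpanSingleton y u h1
  by_contra hne
  have hle : (LinearMap.ker (LinearMap.toSpanSingleton T (T ⊗[A] M) y) : Ideal T) ≤ RingHom.ker χ := by
    intro t ht
    by_contra ht'
    exact hne ⟨t, ht', ht⟩
  refine hu (RingHom.mem_ker.1 ?_)
  refine (Ideal.map_le_iff_le_comap.2 fun t ht => ?_) h2
  simpa [hχ] using hle ht

variable (M) in
/-- The difference of two local sections on the overlap. -/
def diff {B B' : Type u} [CommRing B] [Algebra A B] [CommRing B'] [Algebra A B'] (m : B ⊗[A] M)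
    (m' : B' ⊗[A] M) : (B ⊗[A] B') ⊗[A] M :=
  push M Algebra.TensorProduct.includeRight m' - push M Algebra.TensorProduct.includeLeft m

theorem push_diff {B B' T : Type u} [CommRing B] [Algebra A B] [CommRing B'] [Algebra A B']
    [CommRing T] [Algebra A T] (f : B ⊗[A] B' →ₐ[A] T) (m : B ⊗[A] M) (m' : B' ⊗[A] M) :
    push M f (diff M m m') = push M (f.comp Algebra.TensorProduct.includeRight) m' -
      push M (f.comp Algebra.TensorProduct.includeLeft) m := by
  rw [diff, map_sub, push_comp, push_comp]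

/-- Two sections agree at a pair of compatible points. -/
def Compat {B B' K : Type u} [CommRing B] [Algebra A B] [CommRing B'] [Algebra A B'] [CommRing K]
    [Algebra A K] (φ : B →ₐ[A] K) (φ' : B' →ₐ[A] K) (m : B ⊗[A] M) (m' : B' ⊗[A] M) : Prop :=
  Kill (Algebra.TensorProduct.lift φ φ' (fun _ _ => Commute.all _ _)).toRingHom (diff M m m')

theorem compat_trans {B₀ B₁ B₂ K : Type u} [CommRing B₀] [Algebra A B₀] [Module.Flat A B₀]
    [CommRing B₁] [Algebra A B₁] [CommRing B₂] [Algebra A B₂] [CommRing K] [IsDomain K] [Algebra A K]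
    {φ₀ : B₀ →ₐ[A] K} {φ₁ : B₁ →ₐ[A] K} {φ₂ : B₂ →ₐ[A] K}
    {m₀ : B₀ ⊗[A] M} {m₁ : B₁ ⊗[A] M} {m₂ : B₂ ⊗[A] M}
    (h₁ : Compat φ₀ φ₁ m₀ m₁) (h₂ : Compat φ₀ φ₂ m₀ m₂) : Compat φ₁ φ₂ m₁ m₂ := by
  let T := (B₁ ⊗[A] B₂) ⊗[A] B₀
  let χ₁₂ := Algebra.TensorProduct.lift φ₁ φ₂ (fun _ _ => Commute.all _ _)
  let χ : T →ₐ[A] K := Algebra.TensorProduct.lift χ₁₂ φ₀ (fun _ _ => Commute.all _ _)
  let i₀ : B₀ →ₐ[A] T := Algebra.TensorProduct.includeRight
  let i₁₂ : B₁ ⊗[A] B₂ →ₐ[A] T := Algebra.TensorProduct.includeLeft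
  let i₁ : B₁ →ₐ[A] T := i₁₂.comp Algebra.TensorProduct.includeLeft
  let i₂ : B₂ →ₐ[A] T := i₁₂.comp Algebra.TensorProduct.includeRight
  let f₁ : B₀ ⊗[A] B₁ →ₐ[A] T := Algebra.TensorProduct.lift i₀ i₁ (fun _ _ => Commute.all _ _)
  let f₂ : B₀ ⊗[A] B₂ →ₐ[A] T := Algebra.TensorProduct.lift i₀ i₂ (fun _ _ => Commute.all _ _)
  have hf₁ : χ.comp f₁ = Algebra.TensorProduct.lift φ₀ φ₁ (fun _ _ => Commute.all _ _) := by
    refine Algebra.TensorProduct.ext' fun x y => ?_
    show χ (f₁ (x ⊗ₜ y)) = _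
    rw [Algebra.TensorProduct.lift_tmul, Algebra.TensorProduct.lift_tmul, map_mul]
    refine congrArg₂ (· * ·) ?_ ?_
    · show χ (1 ⊗ₜ x) = φ₀ x
      rw [Algebra.TensorProduct.lift_tmul, map_one, one_mul]
    · show χ ((y ⊗ₜ 1) ⊗ₜ 1) = _
      rw [Algebra.TensorProduct.lift_tmul, map_one, mul_one, Algebra.TensorProduct.lift_tmul, map_one,
        mul_one]
  have hf₂ : χ.comp f₂ = Algebra.TensorProduct.lift φ₀ φ₂ (fun _ _ => Commute.all _ _) := by
    refine Algebra.TensorProduct.ext' fun x y => ?_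
    show χ (f₂ (x ⊗ₜ y)) = _
    rw [Algebra.TensorProduct.lift_tmul, Algebra.TensorProduct.lift_tmul, map_mul]
    refine congrArg₂ (· * ·) ?_ ?_
    · show χ (1 ⊗ₜ x) = φ₀ x
      rw [Algebra.TensorProduct.lift_tmul, map_one, one_mul]
    · show χ ((1 ⊗ₜ y) ⊗ₜ 1) = _
      rw [Algebra.TensorProduct.lift_tmul, map_one, mul_one, Algebra.TensorProduct.lift_tmul, map_one,
        one_mul]
  have k₁ := kill_push f₁ _ χ.toRingHom (fun t => DFunLike.congr_fun hf₁ t) h₁
  have k₂ := kill_push f₂ _ χ.toRingHom (fun t => DFunLike.congr_fun hf₂ t) h₂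
  have key := kill_sub χ.toRingHom k₂ k₁
  have hid : push M f₂ (diff M m₀ m₂) - push M f₁ (diff M m₀ m₁) = push M i₁₂ (diff M m₁ m₂) := by
    simp only [push_diff, f₁, f₂, Algebra.TensorProduct.lift_comp_includeLeft,
      Algebra.TensorProduct.lift_comp_includeRight', i₁, i₂]
    abel
  rw [hid] at key
  refine kill_descend (T' := T) _ χ.toRingHom (fun t => ?_) key
  show χ (t ⊗ₜ 1) = χ₁₂ t
  rw [Algebra.TensorProduct.lift_tmul, map_one, mul_one]

theorem compat_symm {B₁ B₂ K : Type u} [CommRing B₁] [Algebra A B₁] [Module.Flat A B₁]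
    [CommRing B₂] [Algebra A B₂] [CommRing K] [IsDomain K] [Algebra A K]
    {φ₁ : B₁ →ₐ[A] K} {φ₂ : B₂ →ₐ[A] K} {m₁ : B₁ ⊗[A] M} {m₂ : B₂ ⊗[A] M}
    (h₁ : Compat φ₁ φ₁ m₁ m₁) (h₂ : Compat φ₁ φ₂ m₁ m₂) : Compat φ₂ φ₁ m₂ m₁ :=
  compat_trans h₂ h₁

section Descent

variable {R : Type u} [CommRing R] (S : Type u) [CommRing S] [Algebra R S] [Module.FaithfullyFlat R S]
  {N : Type u} [AddCommGroup N] [Module R N]

/-- Amitsur exactness in degree zero. -/
theorem exists_descent (x : S ⊗[R] N)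
    (h : LinearMap.rTensor N (Algebra.TensorProduct.includeLeft : S →ₐ[R] S ⊗[R] S).toLinearMap x =
      LinearMap.rTensor N (Algebra.TensorProduct.includeRight : S →ₐ[R] S ⊗[R] S).toLinearMap x) :
    ∃ y : N, (1 : S) ⊗ₜ[R] y = x := by
  let ι : N →ₗ[R] S ⊗[R] N := TensorProduct.mk R S N 1
  let Q := LinearMap.range ι
  let F : (S ⊗[R] S) ⊗[R] N →ₗ[R] S ⊗[R] ((S ⊗[R] N) ⧸ Q) :=
    (LinearMap.lTensor S Q.mkQ).comp (TensorProduct.assoc R S S N).toLinearMap
  have h1 : ∀ z, F (LinearMap.rTensor N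
      (Algebra.TensorProduct.includeLeft : S →ₐ[R] S ⊗[R] S).toLinearMap z) = 0 := by
    intro z
    induction z using TensorProduct.induction_on with
    | zero => simp
    | tmul s m =>
      have h0 : Q.mkQ ((1 : S) ⊗ₜ[R] m) = 0 := (Submodule.Quotient.mk_eq_zero _).2 ⟨m, rfl⟩
      simp only [Submodule.mkQ_apply] at h0
      simp [F, h0]
    | add a b ha hb => simp only [map_add, ha, hb, add_zero]
  have h2 : ∀ z, F (LinearMap.rTensor N
      (Algebra.TensorProduct.includeRight : S →ₐ[R] S ⊗[R] S).toLinearMap z) = (1 : S) ⊗ₜ[R] Q.mkQ z := by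
    intro z
    induction z using TensorProduct.induction_on with
    | zero => simp
    | tmul s m => simp [F]
    | add a b ha hb => simp only [map_add, ha, hb, TensorProduct.tmul_add]
  have h3 : (1 : S) ⊗ₜ[R] Q.mkQ x = 0 := by rw [← h2, ← h, h1]
  have := Module.FaithfullyFlat.tensorProduct_mk_injective (A := R) (B := S) ((S ⊗[R] N) ⧸ Q)
    (a₁ := Q.mkQ x) (a₂ := 0) (by simpa using h3)
  obtain ⟨y, hy⟩ := (Submodule.Quotient.mk_eq_zero _).1 this
  exact ⟨y, hy⟩

end Descent

end Groth.Agent.Hens22.Glue
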