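import Groth.Agent.Hens22.GlueKill
import Groth.Agent.Hens22.EtaleLift
import Groth.Agent.Hens22.Integral
import Mathlib.FieldTheory.IsAlgClosed.AlgebraicClosure
import Mathlib.RingTheory.IntegralClosure.IntegrallyClosed
import Mathlib.RingTheory.Localization.Integral
import Mathlib.RingTheory.Spectrum.Prime.Topology
import Mathlib.RingTheory.Ideal.GoingUp
import Mathlib.RingTheory.LocalRing.ResidueField.Basic

/-!
Sheets of etale neighbourhoods over a domain whose monic polynomials split.
-/

set_option autoImplicit false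
universe u

open TensorProduct Polynomial

noncomputable section

namespace Groth.Agent.Hens22.Glue

variable {A : Type u} [CommRing A] (K : Type u) [Field K] [IsAlgClosed K] [Algebra A K]

/-- The integral closure of `A` in an algebraically closed field. -/
abbrev AbsCl : Subalgebra A K := integralClosure A K

/-- Its local rings. -/
abbrev Loc (q : Ideal (AbsCl (A := A) K)) [q.IsPrime] : Type u := Localization.AtPrime q

variable {K}

theorem isUnit_val {q : Ideal (AbsCl (A := A) K)} [q.IsPrime] (s : q.primeCompl) :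
    IsUnit ((AbsCl (A := A) K).val (s : AbsCl (A := A) K)) := by
  refine IsUnit.mk0 _ fun h => s.2 ?_
  have : (s : AbsCl (A := A) K) = 0 := Subtype.ext h
  rw [this]
  exact q.zero_mem

/-- The inclusion of a local ring into the field. -/
def toK (q : Ideal (AbsCl (A := A) K)) [q.IsPrime] : Loc K q →ₐ[A] K :=
  IsLocalization.liftAlgHom (M := q.primeCompl) (f := (AbsCl (A := A) K).val) isUnit_val

theorem toK_algebraMap (q : Ideal (AbsCl (A := A) K)) [q.IsPrime] (r : AbsCl (A := A) K) :
    toK q (algebraMap _ (Loc K q) r) = (r : K) :=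
  IsLocalization.lift_eq (M := q.primeCompl) (g := (AbsCl (A := A) K).val.toRingHom) isUnit_val r

theorem toK_injective (q : Ideal (AbsCl (A := A) K)) [q.IsPrime] : Function.Injective (toK q) :=
  IsLocalization.lift_injective_iff (M := q.primeCompl) isUnit_val |>.2 fun a b =>
    ⟨fun h => congrArg _ (IsLocalization.injective (Loc K q) q.primeCompl_le_nonZeroDivisors h),
      fun h => congrArg _ (Subtype.ext h)⟩

theorem exists_preimage_of_isIntegral (q : Ideal (AbsCl (A := A) K)) [q.IsPrime] (x : K)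
    (hx : letI := (toK q).toRingHom.toAlgebra; IsIntegral (Loc K q) x) : ∃ y, toK q y = x := by
  let _ := (toK q).toRingHom.toAlgebra
  have : IsScalarTower (AbsCl (A := A) K) (Loc K q) K :=
    IsScalarTower.of_algebraMap_eq fun r => (toK_algebraMap q r).symm
  obtain ⟨s, hs⟩ := IsIntegral.exists_multiple_integral_of_isLocalization q.primeCompl x hx
  have hA : IsIntegral A ((s : AbsCl (A := A) K) • x) :=
    isIntegral_trans (R := A) _ hs
  obtain ⟨r, hr⟩ : ∃ r : AbsCl (A := A) K, (r : K) = (s : AbsCl (A := A) K) • x := ⟨⟨_, hA⟩, rfl⟩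
  refine ⟨IsLocalization.mk' _ r s, ?_⟩
  have h0 : ((s : AbsCl (A := A) K) : K) ≠ 0 := (isUnit_val s).ne_zero
  refine mul_left_cancel₀ h0 ?_
  rw [← toK_algebraMap q (s : AbsCl (A := A) K), ← map_mul, IsLocalization.mk'_spec', toK_algebraMap, hr]
  rw [toK_algebraMap]
  rfl

instance henselianRing_loc (q : Ideal (AbsCl (A := A) K)) [q.IsPrime] :
    HenselianRing (Loc K q) (IsLocalRing.maximalIdeal (Loc K q)) where
  jac := (IsLocalRing.jacobson_eq_maximalIdeal (⊥ : Ideal (Loc K q)) bot_ne_top).ge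
  is_henselian p hp a₀ h₁ h₂ := by
    let _ := (toK q).toRingHom.toAlgebra
    let pK := p.map (toK q).toRingHom
    have hpK : pK.Monic := hp.map _
    have hs : pK.Splits := IsAlgClosed.splits pK
    have hroot : ∀ r ∈ pK.roots, ∃ y, toK q y = r := fun r hr => by
      refine exists_preimage_of_isIntegral q r ⟨p, hp, ?_⟩
      rw [← Polynomial.eval_map]
      exact (mem_roots hpK.ne_zero).1 hr
    choose! σ hσ using hroot
    have hprod : p = (pK.roots.map fun r => X - C (σ r)).prod := by
      refine Polynomial.map_injective (toK q).toRingHom (toK_injective q) ?_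
      rw [Polynomial.map_multiset_prod, Multiset.map_map]
      refine (hs.eq_prod_roots_of_monic hpK).trans ?_
      refine congrArg _ (Multiset.map_congr rfl fun r hr => ?_)
      simp [Polynomial.map_sub, hσ r hr]
    have h₁' := h₁
    rw [hprod, Polynomial.eval_multiset_prod, Multiset.map_map] at h₁'
    obtain ⟨z, hz, hzm⟩ :=
      ((IsLocalRing.maximalIdeal.isMaximal (Loc K q)).isPrime.multiset_prod_mem_iff_exists_mem _).1 h₁'
    obtain ⟨r, hr, rfl⟩ := Multiset.mem_map.1 hz
    simp only [Function.comp_apply, eval_sub, eval_X, eval_C] at hzm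
    refine ⟨σ r, ?_, by rw [← neg_sub]; exact neg_mem hzm⟩
    show p.eval (σ r) = 0
    rw [hprod, Polynomial.eval_multiset_prod, Multiset.map_map]
    refine Multiset.prod_eq_zero (Multiset.mem_map.2 ⟨r, hr, ?_⟩)
    simp

variable {I : Ideal A} {B B' : Type u} [CommRing B] [Algebra A B] [CommRing B'] [Algebra A B']

/-- `φ` is a sheet of `B` at `q`: it has values in the local ring at `q`. -/
def Sheet (q : Ideal (AbsCl (A := A) K)) [q.IsPrime] (φ : B →ₐ[A] K) : Prop :=
  ∃ ψ : B →ₐ[A] Loc K q, (toK q).comp ψ = φ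

variable (I B) in
/-- Two points of `B` over `V(I)` with values in a field agree. -/
def UniqPt : Prop :=
  ∀ (F : Type u) [Field F] [Algebra A F] (x y : B →ₐ[A] F), I ≤ RingHom.ker (algebraMap A F) → x = y

variable (I B) in
/-- `B` has a point over each point of `V(I) ∩ D(g)`. -/
def HasPt (g : A) : Prop :=
  ∀ (F : Type u) [Field F] [Algebra A F], I ≤ RingHom.ker (algebraMap A F) → algebraMap A F g ≠ 0 →
    Nonempty (B →ₐ[A] F)

/-- The residue field of a local ring kills `I` at points of `V(I)`. -/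
theorem le_ker_residue {q : Ideal (AbsCl (A := A) K)} [q.IsPrime]
    (hq : I.map (algebraMap A (AbsCl (A := A) K)) ≤ q) :
    I ≤ RingHom.ker (algebraMap A (IsLocalRing.ResidueField (Loc K q))) := by
  intro a ha
  rw [RingHom.mem_ker, IsScalarTower.algebraMap_apply A (Loc K q) (IsLocalRing.ResidueField (Loc K q)),
    IsLocalRing.ResidueField.algebraMap_eq, IsLocalRing.residue_eq_zero_iff,
    IsScalarTower.algebraMap_apply A (AbsCl (A := A) K) (Loc K q)]
  exact (IsLocalization.AtPrime.to_map_mem_maximal_iff (Loc K q) q _).2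
    (hq (Ideal.mem_map_of_mem _ ha))

theorem psi_unique [Algebra.Etale A B] (huniq : UniqPt I B) {q : Ideal (AbsCl (A := A) K)} [q.IsPrime]
    (hq : I.map (algebraMap A (AbsCl (A := A) K)) ≤ q) {T : Type u} [CommRing T] [IsLocalRing T]
    [Algebra A T] (j : Loc K q →ₐ[A] T) [IsLocalHom j.toRingHom] (ψ ψ' : B →ₐ[A] T) : ψ = ψ' := by
  let r := IsScalarTower.toAlgHom A T (IsLocalRing.ResidueField T)
  have h0 : I ≤ RingHom.ker (algebraMap A (IsLocalRing.ResidueField T)) := fun a ha => by
    have h1 := le_ker_residue hq ha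
    rw [RingHom.mem_ker, IsScalarTower.algebraMap_apply A (Loc K q)
      (IsLocalRing.ResidueField (Loc K q)), IsLocalRing.ResidueField.algebraMap_eq,
      IsLocalRing.residue_eq_zero_iff] at h1
    rw [RingHom.mem_ker, IsScalarTower.algebraMap_apply A T (IsLocalRing.ResidueField T),
      IsLocalRing.ResidueField.algebraMap_eq, IsLocalRing.residue_eq_zero_iff, ← j.commutes]
    exact fun hu => h1 (isUnit_of_map_unit j.toRingHom _ hu)
  refine algHom_ext_of_sub_mem_jacobson B ψ ψ' fun b => ?_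
  rw [IsLocalRing.jacobson_eq_maximalIdeal (⊥ : Ideal T) bot_ne_top, ← IsLocalRing.residue_eq_zero_iff,
    map_sub, sub_eq_zero]
  exact DFunLike.congr_fun (huniq _ (r.comp ψ) (r.comp ψ') h0) b

theorem sheet_unique [Algebra.Etale A B] (huniq : UniqPt I B) {q : Ideal (AbsCl (A := A) K)}
    [q.IsPrime] (hq : I.map (algebraMap A (AbsCl (A := A) K)) ≤ q) {φ φ' : B →ₐ[A] K}
    (h : Sheet q φ) (h' : Sheet q φ') : φ = φ' := by
  obtain ⟨ψ, rfl⟩ := h
  obtain ⟨ψ', rfl⟩ := h'
  have : IsLocalHom (AlgHom.id A (Loc K q)).toRingHom := ⟨fun _ h => h⟩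
  rw [psi_unique huniq hq (AlgHom.id A (Loc K q)) ψ ψ']

theorem exists_sheet [Algebra.Etale A B] {g : A} (hpt : HasPt I B g)
    {q : Ideal (AbsCl (A := A) K)} [q.IsPrime] (hq : I.map (algebraMap A (AbsCl (A := A) K)) ≤ q)
    (hg : algebraMap A (AbsCl (A := A) K) g ∉ q) : ∃ φ : B →ₐ[A] K, Sheet q φ := by
  have h1 : algebraMap A (IsLocalRing.ResidueField (Loc K q)) g ≠ 0 := by
    rw [IsScalarTower.algebraMap_apply A (Loc K q) (IsLocalRing.ResidueField (Loc K q)),
      IsLocalRing.ResidueField.algebraMap_eq, ne_eq, IsLocalRing.residue_eq_zero_iff,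
      IsScalarTower.algebraMap_apply A (AbsCl (A := A) K) (Loc K q)]
    exact fun h => hg ((IsLocalization.AtPrime.to_map_mem_maximal_iff (Loc K q) q _).1 h)
  obtain ⟨σ⟩ := hpt _ (le_ker_residue hq) h1
  obtain ⟨f, _⟩ := exists_lift (B := Loc K q) (IsLocalRing.maximalIdeal (Loc K q)) B σ
  exact ⟨(toK q).comp f, f, rfl⟩

theorem sheet_nhd [Algebra.Etale A B] {q : Ideal (AbsCl (A := A) K)} [q.IsPrime] {φ : B →ₐ[A] K}
    (h : Sheet q φ) : ∃ c : AbsCl (A := A) K, c ∉ q ∧
      ∀ (q' : Ideal (AbsCl (A := A) K)) [q'.IsPrime], c ∉ q' → Sheet q' φ := by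
  obtain ⟨ψ, rfl⟩ := h
  obtain ⟨s, hs⟩ := Algebra.FiniteType.out (R := A) (A := B)
  choose r d hrd using fun b : B => IsLocalization.exists_mk'_eq q.primeCompl (ψ b)
  refine ⟨∏ b ∈ s, (d b : AbsCl (A := A) K), ?_, fun q' _ hq' => ?_⟩
  · exact prod_mem (S := q.primeCompl) fun b _ => (d b).2
  · have hd : ∀ b ∈ s, (d b : AbsCl (A := A) K) ∉ q' := fun b hb hbq =>
      hq' (by
        obtain ⟨w, hw⟩ := Finset.dvd_prod_of_mem (fun b => (d b : AbsCl (A := A) K)) hb
        rw [hw]
        exact q'.mul_mem_right _ hbq)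
    have hrange : ((toK q).comp ψ).range ≤ (toK q').range := by
      rw [← Algebra.map_top, ← hs, AlgHom.map_adjoin]
      refine Algebra.adjoin_le ?_
      rintro _ ⟨b, hb, rfl⟩
      refine ⟨IsLocalization.mk' _ (r b) (⟨d b, hd b hb⟩ : q'.primeCompl), ?_⟩
      have h0 : ((d b : AbsCl (A := A) K) : K) ≠ 0 := (isUnit_val (d b)).ne_zero
      refine mul_left_cancel₀ h0 ?_
      have e := congrArg (toK q') (IsLocalization.mk'_spec' (Loc K q') (r b)
        (⟨d b, hd b hb⟩ : q'.primeCompl))
      rw [map_mul, toK_algebraMap, toK_algebraMap] at e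
      rw [AlgHom.toRingHom_eq_coe, RingHom.coe_coe]
      refine e.trans ?_
      show _ = ((d b : AbsCl (A := A) K) : K) * toK q (ψ b)
      rw [← toK_algebraMap q (d b : AbsCl (A := A) K), ← map_mul, ← hrd b, IsLocalization.mk'_spec', toK_algebraMap]
    refine ⟨(AlgEquiv.ofInjective (toK q') (toK_injective q')).symm.toAlgHom.comp
      ((Subalgebra.inclusion hrange).comp ((toK q).comp ψ).rangeRestrict), AlgHom.ext fun b => ?_⟩
    exact congrArg Subtype.val ((AlgEquiv.ofInjective (toK q') (toK_injective q')).apply_symm_apply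
      (Subalgebra.inclusion hrange (((toK q).comp ψ).rangeRestrict b)))

variable {M : Type u} [AddCommGroup M] [Module A M]

variable (I) in
/-- Sections agreeing over `V(I)`. -/
def Agree (m : B ⊗[A] M) (m' : B' ⊗[A] M) : Prop :=
  ∀ (F : Type u) [Field F] [Algebra A F] (χ : B ⊗[A] B' →ₐ[A] F),
    I ≤ RingHom.ker (algebraMap A F) → Kill χ.toRingHom (diff M m m')

theorem compat_of_sheet {q : Ideal (AbsCl (A := A) K)} [q.IsPrime]
    (hq : I.map (algebraMap A (AbsCl (A := A) K)) ≤ q) {φ : B →ₐ[A] K} {φ' : B' →ₐ[A] K}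
    (h : Sheet q φ) (h' : Sheet q φ') {m : B ⊗[A] M} {m' : B' ⊗[A] M} (hag : Agree I m m') :
    Compat φ φ' m m' := by
  obtain ⟨ψ, rfl⟩ := h
  obtain ⟨ψ', rfl⟩ := h'
  let χ := Algebra.TensorProduct.lift ψ ψ' (fun _ _ => Commute.all _ _)
  let r := IsScalarTower.toAlgHom A (Loc K q) (IsLocalRing.ResidueField (Loc K q))
  obtain ⟨t, ht, h0⟩ := hag _ (r.comp χ) (le_ker_residue hq)
  have hu : IsUnit (χ t) := IsLocalRing.notMem_maximalIdeal.1 fun hm =>
    ht ((IsLocalRing.residue_eq_zero_iff _).2 hm)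
  have hK : (toK q).comp χ = Algebra.TensorProduct.lift ((toK q).comp ψ) ((toK q).comp ψ')
      (fun _ _ => Commute.all _ _) := by
    refine Algebra.TensorProduct.ext' fun x y => ?_
    simp [χ]
  refine ⟨t, ?_, h0⟩
  show Algebra.TensorProduct.lift _ _ _ t ≠ 0
  rw [← hK]
  exact (hu.map (toK q)).ne_zero

/-- A point whose closure meets `V(I)` is a sheet. -/
theorem exists_sheet_of_disjoint [Algebra.Etale A B] {g : A} (hpt : HasPt I B g) (huniq : UniqPt I B)
    (hu : IsUnit (algebraMap A B g)) (χ : B →ₐ[A] K)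
    (hdis : ∀ b : B, b - 1 ∈ I.map (algebraMap A B) → χ b ≠ 0) :
    ∃ (q : Ideal (AbsCl (A := A) K)) (_ : q.IsPrime), I.map (algebraMap A (AbsCl (A := A) K)) ≤ q ∧
      algebraMap A (AbsCl (A := A) K) g ∉ q ∧ Sheet q χ := by
  let _ := χ.toRingHom.toAlgebra
  have hne : RingHom.ker χ.toRingHom ⊔ I.map (algebraMap A B) ≠ ⊤ := fun htop => by
    obtain ⟨x, hx, y, hy, hxy⟩ := Submodule.mem_sup.1
      ((htop.symm ▸ Submodule.mem_top : (1 : B) ∈ RingHom.ker χ.toRingHom ⊔ I.map (algebraMap A B)))
    refine hdis x ?_ hx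
    rw [show x - 1 = -y by rw [← hxy]; ring]
    exact neg_mem hy
  obtain ⟨n, hn, hle⟩ := Ideal.exists_le_maximal _ hne
  let C := integralClosure B K
  have hker : RingHom.ker (algebraMap B C) ≤ n := fun b hb => hle (Ideal.mem_sup_left (by
    show algebraMap B K b = 0
    exact congrArg Subtype.val (hb : algebraMap B C b = 0)))
  obtain ⟨N, -, hN, hNn⟩ := Ideal.exists_ideal_over_prime_of_isIntegral (S := C) n (⊥ : Ideal C) (by
    rwa [← RingHom.ker_eq_comap_bot])
  have : IsScalarTower A B K := IsScalarTower.of_algebraMap_eq fun a => (χ.commutes a).symm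
  let inc : AbsCl (A := A) K →ₐ[A] C :=
    { toFun := fun x => ⟨(x : K), x.2.tower_top⟩
      map_one' := rfl
      map_mul' := fun _ _ => rfl
      map_zero' := rfl
      map_add' := fun _ _ => rfl
      commutes' := fun _ => Subtype.ext rfl }
  let q := N.comap inc.toRingHom
  have : q.IsPrime := Ideal.comap_isPrime _ N
  have hgn : algebraMap A B g ∉ n := fun h => hn.ne_top (n.eq_top_of_isUnit_mem h hu)
  have hq : I.map (algebraMap A (AbsCl (A := A) K)) ≤ q := Ideal.map_le_iff_le_comap.2 fun a ha => by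
    show inc (algebraMap A _ a) ∈ N
    rw [inc.commutes, IsScalarTower.algebraMap_apply A B C, ← Ideal.mem_comap, hNn]
    exact hle (Ideal.mem_sup_right (Ideal.mem_map_of_mem _ ha))
  have hg : algebraMap A (AbsCl (A := A) K) g ∉ q := fun h => hgn (by
    have h' : inc (algebraMap A _ g) ∈ N := h
    rw [inc.commutes, IsScalarTower.algebraMap_apply A B C, ← Ideal.mem_comap, hNn] at h'
    exact h')
  obtain ⟨φ, hφ⟩ := exists_sheet hpt hq hg
  refine ⟨q, inferInstance, hq, hg, ?_⟩
  obtain ⟨ψ, rfl⟩ := hφ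
  suffices χ = (toK q).comp ψ from ⟨ψ, this.symm⟩
  let T := Localization.AtPrime N
  have hC : ∀ c : N.primeCompl, IsUnit (C.val (c : C)) := fun c => IsUnit.mk0 _ fun h => c.2 (by
    rw [show (c : C) = 0 from Subtype.ext h]
    exact N.zero_mem)
  let ev : T →ₐ[A] K := IsLocalization.liftAlgHom (M := N.primeCompl) (f := C.val.restrictScalars A) hC
  let j : Loc K q →ₐ[A] T := IsLocalization.liftAlgHom (M := q.primeCompl)
    (f := (IsScalarTower.toAlgHom A C T).comp inc) fun s =>
      IsLocalization.map_units T (⟨inc s, s.2⟩ : N.primeCompl)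
  have : IsLocalHom j.toRingHom := by
    refine ⟨fun x hx => ?_⟩
    obtain ⟨r, s, rfl⟩ := IsLocalization.exists_mk'_eq q.primeCompl x
    rw [IsLocalization.AtPrime.isUnit_mk'_iff (Loc K q) q]
    intro hr
    have h1 : j.toRingHom (IsLocalization.mk' _ r s) * j.toRingHom (algebraMap _ _ (s : AbsCl (A := A) K)) =
        algebraMap C T (inc r) := by
      rw [← map_mul, IsLocalization.mk'_spec]
      exact IsLocalization.lift_eq _ r
    have h2 := hx.mul ((IsLocalization.map_units (Loc K q) s).map j.toRingHom)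
    rw [h1, IsLocalization.AtPrime.isUnit_to_map_iff T N] at h2
    exact h2 hr
  have hev : ∀ x, ev (algebraMap C T x) = (x : K) := fun x => IsLocalization.lift_eq _ x
  have hcomp : ev.comp j = toK q := by
    refine IsLocalization.algHom_ext q.primeCompl (AlgHom.ext fun r => ?_)
    show ev (j (algebraMap _ (Loc K q) r)) = toK q (algebraMap _ _ r)
    rw [toK_algebraMap, show j (algebraMap _ (Loc K q) r) = algebraMap C T (inc r) from
      IsLocalization.lift_eq _ r, hev]
    rfl
  let χT : B →ₐ[A] T := IsScalarTower.toAlgHom A B T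
  have h2 := psi_unique huniq hq j (j.comp ψ) χT
  rw [← hcomp, AlgHom.comp_assoc, h2]
  refine AlgHom.ext fun b => ?_
  show χ b = ev (algebraMap B T b)
  rw [IsScalarTower.algebraMap_apply B C T, hev]
  rfl

end Groth.Agent.Hens22.Glue
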