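import Groth.Agent.Hens22.SphBasic
import Mathlib.RingTheory.Flat.Localization
import Mathlib.RingTheory.RingHom.Flat

/-!
The stalk maps of affine Henselian spectra and of Henselizations along closed subsets are flat.
-/

set_option autoImplicit false
universe u

open CategoryTheory Opposite TopologicalSpace AlgebraicGeometry HensSch TopCat

noncomputable section

namespace Groth.Agent.Hens22.Sph

variable {A : Type u} [CommRing A] {I : Ideal A} {X : LocallyRingedSpace.{u}} {π : X ⟶ specLRS A}

theorem stalkMap_toStalk (x : X) (a : A) :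
    π.stalkMap x (StructureSheaf.toStalk A (π.base x) a) = stk π x a :=
  LocallyRingedSpace.stalkMap_germ_apply π ⊤ x trivial _

variable (hX : IsSph A I X π)
include hX

theorem flat_stalkMap (x : X) : (π.stalkMap x).hom.Flat := by
  let p : PrimeSpectrum A := π.base x
  let S : Type u := (Spec.structureSheaf A).presheaf.stalk p
  let T : Type u := X.presheaf.stalk x
  let _ : Algebra S T := (π.stalkMap x).hom.toAlgebra
  let _ : Algebra A T := (stk π x).toAlgebra
  let _ : Algebra A S := (StructureSheaf.toStalk A (π.base x)).hom.toAlgebra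
  have : IsLocalization p.asIdeal.primeCompl S := StructureSheaf.IsLocalization.to_stalk A p
  have : IsScalarTower A S T := IsScalarTower.of_algebraMap_eq fun a => (stalkMap_toStalk x a).symm
  have : Module.Flat A T := flat_stk hX x
  show Module.Flat S T
  exact (Module.flat_iff_of_isLocalization S p.asIdeal.primeCompl T).2 this

omit hX in
theorem flat_stalkMap_henselization {X : Scheme.{u}} {Y : Set X} {Xh : LocallyRingedSpace.{u}}
    {ι : Xh ⟶ X.toLocallyRingedSpace} (hh : IsHenselizationAlong X Y Xh ι) (z : Xh) :
    (ι.stalkMap z).hom.Flat := by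
  obtain ⟨B, _, j, _, hxj, V, v, _, π, hv, hcomm, hsph⟩ :=
    hh.2.2.2 (ι.base z) (hh.2.2.1 ▸ Set.mem_range_self z)
  obtain ⟨w, rfl⟩ : z ∈ Set.range v.base := hv ▸ hxj
  have : (RingHom.toMorphismProperty RingHom.Flat).RespectsIso :=
    RingHom.toMorphismProperty_respectsIso_iff.1 RingHom.Flat.respectsIso
  have hiso : ∀ (a b : X) (h : a ⤳ b), a = b → (X.presheaf.stalkSpecializes h).hom.Flat := by
    rintro a b h rfl
    rw [TopCat.Presheaf.stalkSpecializes_refl]
    exact RingHom.Flat.id _
  have key : (RingHom.toMorphismProperty RingHom.Flat) ((v ≫ ι).stalkMap w) := by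
    have h1 : (RingHom.toMorphismProperty RingHom.Flat) ((π ≫ j.toLRSHom).stalkMap w) := by
      rw [LocallyRingedSpace.stalkMap_comp]
      exact (MorphismProperty.cancel_left_of_respectsIso _ _ _).2 (flat_stalkMap hsph w)
    rw [LocallyRingedSpace.stalkMap_congr_hom _ _ hcomm]
    exact RingHom.Flat.comp (hiso _ _ _ (congrArg (fun k => k.base w) hcomm).symm) h1
  rw [LocallyRingedSpace.stalkMap_comp] at key
  exact (MorphismProperty.cancel_right_of_respectsIso (RingHom.toMorphismProperty RingHom.Flat)
    (ι.stalkMap (v.base w)) (v.stalkMap w)).1 key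

end Groth.Agent.Hens22.Sph
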