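import Groth.Agent.Hens22.SphUniv
import Groth.Agent.Hens22.Integral
import Groth.Agent.Hens22.PullFlat
import Groth.Agent.S1994
import Groth.Agent.FF71.Sections
import Mathlib.AlgebraicGeometry.Noetherian

/-!
The stalks of the Henselization of a scheme over a pair are Henselizations of pairs.
-/

set_option autoImplicit false
set_option backward.isDefEq.respectTransparency.types false
universe u

open CategoryTheory Opposite TopologicalSpace AlgebraicGeometry HensSch TopCat

noncomputable section

namespace Groth.Agent.Hens22.StalkHens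

/-- Being a Henselization of a pair, checked on a presentation. -/
theorem isPairHenselization_of_presentation {R B C T : Type u} [CommRing R] [CommRing B]
    [CommRing C] [CommRing T] [Algebra R B] (K : Ideal R) (J : Ideal C) (ψ : C →+* R)
    (N : Ideal T) [HenselianRing T N] (e : B ≃+* T)
    (hJ : J.map ψ ≤ K.radical) (hepi : ∀ {D : Type u} [CommRing D] (f g : R →+* D),
      f.comp ψ = g.comp ψ → f = g)
    (hK : ∀ r ∈ K, e (algebraMap R B r) ∈ N)
    (huniv : ∀ (D : Type u) [CommRing D] (L : Ideal D) [HenselianRing D L] (g : C →+* D),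
      J.map g ≤ L → (∀ c, IsUnit (ψ c) → IsUnit (g c)) →
        ∃! τ : T →+* D, τ.comp ((e.toRingHom.comp (algebraMap R B)).comp ψ) = g) :
    Hens2.IsPairHenselization R K B := by
  refine ⟨?_, fun D _ L f hD hL => ?_⟩
  · have h : K.map (algebraMap R B) ≤ N.map e.symm.toRingHom := by
      refine Ideal.map_le_iff_le_comap.2 fun r hr => ?_
      have h1 := Ideal.mem_map_of_mem e.symm.toRingHom (hK r hr)
      simpa using h1
    have := henselianRing_of_surjective N e.symm.toRingHom e.symm.surjective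
    exact henselianRing_of_le h
  · have := henselianRing_radical L
    have hle : J.map (f.comp ψ) ≤ L.radical := by
      rw [← Ideal.map_map]
      exact ((Ideal.map_mono hJ).trans (Ideal.map_radical_le f)).trans (Ideal.radical_mono hL)
    obtain ⟨τ, hτ, hτu⟩ := huniv D L.radical (f.comp ψ) hle fun c hc => hc.map f
    refine ⟨τ.comp e.toRingHom, hepi _ _ ?_, fun g hg => ?_⟩
    · rw [← hτ]
      rfl
    · have h2 : g.comp e.symm.toRingHom = τ := by
        refine hτu _ ?_
        rw [← hg]
        ext c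
        simp
      rw [← h2]
      ext b
      simp

variable {A : Type u} [CommRing A] (X : Scheme.{u}) [X.Over (Spec (CommRingCat.of A))]

/-- The scalars in a local ring. -/
def cA (x : X) : A →+* (X.presheaf.stalk x : Type u) :=
  (X.presheaf.germ ⊤ x trivial).hom.comp (FF71.rA A X ⊤)

theorem cA_eq {V : X.Opens} {x : X} (hx : x ∈ V) (a : A) :
    cA X x a = X.presheaf.germ V x hx (FF71.rA A X V a) := by
  rw [← FF71.resO_rA A X (le_top : V ≤ ⊤)]
  exact (QC70.germ_resO (le_top : V ≤ ⊤) hx (FF71.rA A X ⊤ a)).symm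

theorem rA_top_apply (a : A) : FF71.rA A X ⊤ a =
    (X ↘ Spec (CommRingCat.of A)).appTop ((Scheme.ΓSpecIso (CommRingCat.of A)).inv a) := by
  show X.presheaf.map (homOfLE (le_top : (⊤ : X.Opens) ≤ ⊤)).op _ = _
  rw [show (homOfLE (le_top : (⊤ : X.Opens) ≤ ⊤)).op = 𝟙 _ from rfl, X.presheaf.map_id]
  rfl

variable {X}

/-- The scalars of a chart. -/
theorem stalkMap_cA {C : Type u} [CommRing C] (j : Spec (CommRingCat.of C) ⟶ X)
    (c : CommRingCat.of A ⟶ CommRingCat.of C) (hc : Spec.map c = j ≫ (X ↘ Spec (CommRingCat.of A)))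
    (q : specLRS C) (a : A) :
    j.toLRSHom.stalkMap q (cA X (j.base q) a) =
      (specLRS C).presheaf.germ ⊤ q trivial ((Scheme.ΓSpecIso (CommRingCat.of C)).inv (c a)) := by
  show j.stalkMap q (X.presheaf.germ ⊤ (j.base q) trivial (FF71.rA A X ⊤ a)) = _
  rw [rA_top_apply, Scheme.Hom.germ_stalkMap_apply]
  refine congrArg ((specLRS C).presheaf.germ ⊤ q trivial) ?_
  have h1 : ((Spec.map c).appTop) ((Scheme.ΓSpecIso (CommRingCat.of A)).inv a) =
      (Scheme.ΓSpecIso (CommRingCat.of C)).inv (c a) := by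
    have := congrArg (fun k => k a) (Scheme.ΓSpecIso_inv_naturality c)
    exact this.symm
  rw [hc, Scheme.Hom.comp_appTop] at h1
  exact h1

variable (I : Ideal A) {Xh : LocallyRingedSpace.{u}} {ι : Xh ⟶ X.toLocallyRingedSpace}

/-- The ideal of the closed fibre in a local ring. -/
abbrev Ix (x : X) : Ideal (X.presheaf.stalk x) := I.map (cA X x)

theorem isPairHenselization_stalk
    (hh : IsHenselizationAlong X
      ((X ↘ Spec (CommRingCat.of A)).base ⁻¹' PrimeSpectrum.zeroLocus (I : Set A)) Xh ι) (y : Xh) :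
    Hens2.IsPairHenselization (X.presheaf.stalk (PullFlat.pt ι y)) (Ix I (PullFlat.pt ι y))
      (PullFlat.anStalk y) := by
  obtain ⟨C, _, j, _, hxj, V, v, _, π, hv, hcomm, hsph⟩ :=
    hh.2.2.2 (ι.base y) (hh.2.2.1 ▸ Set.mem_range_self y)
  obtain ⟨w, rfl⟩ : y ∈ Set.range v.base := hv ▸ hxj
  let Y : Set X := (X ↘ Spec (CommRingCat.of A)).base ⁻¹' PrimeSpectrum.zeroLocus (I : Set A)
  let J : Ideal C := PrimeSpectrum.vanishingIdeal (j.base ⁻¹' Y)
  let R := X.presheaf.stalk (PullFlat.pt ι (v.base w))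
  have hxP := Univ.mem_P_of ι j hcomm w
  let ψ : C →+* R := (X.presheaf.germ (Univ.P j) _ hxP).hom.comp
    ((LocallyRingedSpace.IsOpenImmersion.invApp j.toLRSHom ⊤).hom.comp
      (Scheme.ΓSpecIso (CommRingCat.of C)).inv.hom)
  let c := Spec.preimage (j ≫ (X ↘ Spec (CommRingCat.of A)))
  have hc : Spec.map c = j ≫ (X ↘ Spec (CommRingCat.of A)) := Spec.map_preimage _
  have hψc : ∀ a, ψ (c a) = cA X (PullFlat.pt ι (v.base w)) a := by
    intro a
    have hb := Univ.base_comm ι j hcomm w
    have key : ∀ (x : X) (q : specLRS C) (hq : j.base q = x) (hx : x ∈ Univ.P j),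
        X.presheaf.germ (Univ.P j) x hx (Univ.tA j (c a)) = cA X x a := by
      intro x q hq hx
      subst hq
      haveI : IsIso (j.toLRSHom.stalkMap q) := LocallyRingedSpace.IsOpenImmersion.stalk_iso (f := j.toLRSHom) q
      refine (ConcreteCategory.bijective_of_isIso (j.toLRSHom.stalkMap q)).1 ?_
      exact (Univ.stalkMap_tA j q (c a)).trans (stalkMap_cA j c hc q a).symm
    exact key _ (π.base w) hb.symm hxP
  have hJ : J = (I.map c.hom).radical := by
    rw [← PrimeSpectrum.vanishingIdeal_zeroLocus_eq_radical]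
    refine congrArg PrimeSpectrum.vanishingIdeal ?_
    rw [Ideal.map, PrimeSpectrum.zeroLocus_span, ← PrimeSpectrum.preimage_comap_zeroLocus]
    refine Set.ext fun q => ?_
    exact iff_of_eq (congrArg (fun (k : Spec (CommRingCat.of C) ⟶ Spec (CommRingCat.of A)) =>
      k.base q ∈ PrimeSpectrum.zeroLocus (R := A) (I : Set A)) hc.symm)
  haveI := HensN.henselianRing_stalk_of_hasRoots (HensN.hasRoots_of_isSph hsph) w
  let e : PullFlat.anStalk (v.base w) ≃+* (V.presheaf.stalk w : Type u) :=
    (asIso (v.stalkMap w)).commRingCatIsoToRingEquiv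
  have hstk : (e.toRingHom.comp (algebraMap R (PullFlat.anStalk (v.base w)))).comp ψ =
      Sph.stk π w := RingHom.ext fun b => Univ.stalkMap_comm ι j hcomm w b
  refine isPairHenselization_of_presentation (Ix I (PullFlat.pt ι (v.base w))) J ψ (HensN.Nz w) e
    ?_ (fun {D} _ f g hfg => ?_) (fun r hr => ?_) (fun D _ L _ g hg hu => ?_)
  · rw [hJ]
    refine (Ideal.map_radical_le ψ).trans (Ideal.radical_mono ?_)
    rw [Ideal.map_map]
    exact le_of_eq (congrArg (fun k => I.map k) (RingHom.ext hψc))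
  · exact congrArg CommRingCat.Hom.hom (Univ.hom_ext_chart j _ (π.base w)
      (Univ.base_comm ι j hcomm w).symm hxP (CommRingCat.ofHom f) (CommRingCat.ofHom g)
      (RingHom.congr_fun hfg))
  · refine (Ideal.map_le_iff_le_comap.2 fun a ha => ?_ :
      Ix I (PullFlat.pt ι (v.base w)) ≤ (HensN.Nz w).comap
        (e.toRingHom.comp (algebraMap R (PullFlat.anStalk (v.base w))))) hr
    rw [Ideal.mem_comap, Ideal.mem_comap, ← hψc, ← RingHom.comp_apply, hstk]
    have h1 : w ∈ dOpen π (1 : C) := by rw [← Sph.isUnit_stk_iff, map_one]; exact isUnit_one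
    rw [← Sph.germ_secMap π h1]
    refine HensN.germ_mem_Nz h1 (HensN.mem_N.2 fun w' hw' => ?_)
    rw [Sph.germ_secMap]
    refine Sph.not_isUnit_stk hsph w' ?_
    show c a ∈ J
    rw [hJ]
    exact Ideal.le_radical (Ideal.mem_map_of_mem c.hom ha)
  · rw [hstk]
    refine HensN.existsUnique_fromStalk hsph w L g hg fun f hf => hu f ?_
    have h2 := (Sph.isUnit_stk_iff π w f).2 hf
    rw [← hstk] at h2
    have : IsLocalHom (algebraMap R (PullFlat.anStalk (v.base w))) :=
      LocallyRingedSpace.isLocalHomStalkMap ι (v.base w)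
    exact isUnit_of_map_unit _ _ ((MulEquiv.isUnit_map (f := e)).1 h2)

variable [IsNoetherianRing A] [IsLocallyNoetherian X]
  (hh : IsHenselizationAlong X
    ((X ↘ Spec (CommRingCat.of A)).base ⁻¹' PrimeSpectrum.zeroLocus (I : Set A)) Xh ι)
include hh

theorem isNoetherianRing_stalk (y : Xh) : IsNoetherianRing (PullFlat.anStalk y) :=
  S1994.isNoetherianRing_pairHens _ (isPairHenselization_stalk I hh y)

omit [IsNoetherianRing A] [IsLocallyNoetherian X] in
theorem Ix_le_maximalIdeal (y : Xh) :
    (Ix I (PullFlat.pt ι y)).map (algebraMap _ (PullFlat.anStalk y)) ≤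
      IsLocalRing.maximalIdeal (PullFlat.anStalk y) :=
  (isPairHenselization_stalk I hh y).1.jac.trans
    (IsLocalRing.jacobson_eq_maximalIdeal (⊥ : Ideal (PullFlat.anStalk y)) bot_ne_top).le

end Groth.Agent.Hens22.StalkHens
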