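import Groth.Agent.Hens22.PullStalk
import Groth.Agent.Hens22.StalkHens
import Groth.Agent.Hens22.SphFlat
import Groth.Agent.FF71.ModPow
import Groth.Agent.QC70.Finite
import Groth.Agent.QC70.StalkLoc
import Mathlib.RingTheory.Filtration
import Mathlib.AlgebraicGeometry.Morphisms.Proper

/-!
Global sections of coherent modules and of their inverse images on the Henselization.
-/

set_option autoImplicit false
set_option maxSynthPendingDepth 6
set_option backward.isDefEq.respectTransparency.types false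
universe u

noncomputable section

open AlgebraicGeometry CategoryTheory TopologicalSpace Opposite TensorProduct HensSch
open Groth.Agent.QC70 (germM germM_res germM_exist germM_smul stalkMapM stalkMapM_germ stalkLinear)
open Groth.Agent.Hens22.PullFlat (pt anStalk anPsh germP pre eta theta psi)
open Groth.Agent.Hens22.StalkHens (cA Ix)

namespace Groth.Agent.Hens22.HensCoh

section Algebra

variable {R B : Type u} [CommRing R] [CommRing B] [Algebra R B] {K : Ideal R}

theorem bijective_one_tmul {N : Type u} [AddCommGroup N] [Module R N]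
    (hKB : Function.Bijective
      (Ideal.quotientMap (K.map (algebraMap R B)) (algebraMap R B) Ideal.le_comap_map))
    (hkill : ∀ r ∈ K, ∀ m : N, r • m = 0) :
    Function.Bijective fun m : N => ((1 : B) ⊗ₜ[R] m : B ⊗[R] N) := by
  let e := RingEquiv.ofBijective _ hKB
  refine ⟨fun m m' h => ?_, fun t => ?_⟩
  · let σ : B →ₗ[R] R ⧸ K :=
      { toFun := fun b => e.symm (Ideal.Quotient.mk _ b)
        map_add' := fun a b => by rw [map_add, map_add]
        map_smul' := fun r b => by
          rw [RingHom.id_apply, Algebra.smul_def r b, map_mul, map_mul, Algebra.smul_def]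
          congr 1
          rw [RingEquiv.symm_apply_eq]
          rfl }
    have hσ : σ 1 = 1 := by
      show e.symm (Ideal.Quotient.mk _ (1 : B)) = 1
      rw [map_one, map_one]
    have h2 := congrArg (fun t => TensorProduct.quotTensorEquivQuotSMul N K (σ.rTensor N t)) h
    simp only [LinearMap.rTensor_tmul, hσ] at h2
    rw [show (1 : R ⧸ K) = Ideal.Quotient.mk K 1 from rfl,
      TensorProduct.quotTensorEquivQuotSMul_mk_tmul, TensorProduct.quotTensorEquivQuotSMul_mk_tmul,
      one_smul, one_smul, Submodule.Quotient.eq] at h2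
    have hbot : K • (⊤ : Submodule R N) = ⊥ :=
      le_bot_iff.1 (Submodule.smul_le.2 fun r hr x _ => (Submodule.mem_bot R).2 (hkill r hr x))
    rw [hbot, Submodule.mem_bot, sub_eq_zero] at h2
    exact h2
  · induction t using TensorProduct.induction_on with
    | zero => exact ⟨0, tmul_zero _ _⟩
    | add a b ha hb =>
      obtain ⟨x, rfl⟩ := ha
      obtain ⟨y, rfl⟩ := hb
      exact ⟨x + y, tmul_add _ _ _⟩
    | tmul b m =>
      obtain ⟨q, hq⟩ := hKB.2 (Ideal.Quotient.mk _ b)
      obtain ⟨r, rfl⟩ := Ideal.Quotient.mk_surjective q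
      rw [Ideal.quotientMap_mk, Ideal.Quotient.eq] at hq
      have hz : ∀ j ∈ K.map (algebraMap R B), ∀ n : N, (j ⊗ₜ[R] n : B ⊗[R] N) = 0 := by
        intro j hj
        induction hj using Submodule.span_induction with
        | mem j hj =>
          obtain ⟨k, hk, rfl⟩ := hj
          intro n
          rw [Algebra.algebraMap_eq_smul_one, smul_tmul, hkill k hk, tmul_zero]
        | zero => exact fun n => zero_tmul _ n
        | add a c _ _ ha hc => exact fun n => by rw [add_tmul, ha, hc, add_zero]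
        | smul a c _ hc =>
          intro n
          rw [show (a • c) ⊗ₜ[R] n = a • (c ⊗ₜ[R] n) from rfl, hc, smul_zero]
      refine ⟨r • m, ?_⟩
      have h1 := hz _ hq m
      rw [sub_tmul, sub_eq_zero, Algebra.algebraMap_eq_smul_one, smul_tmul] at h1
      exact h1

theorem mem_smul_of_lTensor_eq_zero {M N : Type u} [AddCommGroup M] [Module R M] [AddCommGroup N]
    [Module R N] (f : M →ₗ[R] N) (hf : Function.Surjective f)
    (hker : ∀ m, f m = 0 → m ∈ K • (⊤ : Submodule R M)) (t : B ⊗[R] M)
    (ht : f.lTensor B t = 0) :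
    t ∈ K.map (algebraMap R B) • (⊤ : Submodule B (B ⊗[R] M)) := by
  have hex : Function.Exact (LinearMap.ker f).subtype f := LinearMap.exact_subtype_ker_map f
  obtain ⟨w, rfl⟩ := (lTensor_exact B hex hf t).1 ht
  clear ht
  induction w using TensorProduct.induction_on with
  | zero => rw [map_zero]; exact zero_mem _
  | add a b ha hb => rw [map_add]; exact add_mem ha hb
  | tmul b k =>
    rw [LinearMap.lTensor_tmul]
    refine Submodule.smul_induction_on
      (p := fun m => b ⊗ₜ[R] m ∈ K.map (algebraMap R B) • (⊤ : Submodule B (B ⊗[R] M)))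
      (hker _ k.2) (fun r hr m _ => ?_) fun x y hx hy => ?_
    · rw [tmul_smul, ← algebraMap_smul B r (b ⊗ₜ[R] m)]
      exact Submodule.smul_mem_smul (Ideal.mem_map_of_mem _ hr) trivial
    · rw [tmul_add]; exact add_mem hx hy

end Algebra

variable {A : Type u} [CommRing A] {X : Scheme.{u}} [X.Over (Spec (CommRingCat.of A))] (I : Ideal A)

theorem germM_surjective_modPowπ (F : X.Modules) (n : ℕ) (x : X) :
    Function.Surjective (stalkMapM (Formal.modPowπ I n F) x) :=
  haveI : Epi (Formal.modPowπ I n F) := inferInstanceAs (Epi (Limits.cokernel.π _))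
  QC70.surjective_stalkMapM_of_epi _ x

theorem stalk_killed (F : X.Modules) (n : ℕ) (x : X) :
    ∀ r ∈ Ix I x ^ n, ∀ e : (Formal.modPow I n F).presheaf.stalk x, r • e = 0 := by
  intro r hr e
  obtain ⟨e', rfl⟩ := germM_surjective_modPowπ I F n x e
  obtain ⟨W, hW, s, rfl⟩ := germM_exist e'
  rw [Ix, ← Ideal.map_pow] at hr
  induction hr using Submodule.span_induction with
  | mem r hr =>
    obtain ⟨a, ha, rfl⟩ := hr
    rw [stalkMapM_germ, StalkHens.cA_eq X hW, ← germM_smul, ← Scheme.Modules.Hom.app_smul,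
      ← FF71.smulMod_app, ← ConcreteCategory.comp_apply, ← Scheme.Modules.Hom.comp_app,
      FF71.modPowπ_smul_eq_zero I F n ha]
    exact QC70.germM_zero _
  | zero => exact zero_smul _ _
  | add a b _ _ ha hb => rw [add_smul, ha, hb, add_zero]
  | smul a b _ hb => rw [smul_eq_mul, mul_smul, hb, smul_zero]

theorem stalk_ker [IsNoetherianRing A] (F : X.Modules) [F.IsQuasicoherent] (n : ℕ) (x : X)
    (e : F.presheaf.stalk x) (he : stalkMapM (Formal.modPowπ I n F) x e = 0) :
    e ∈ Ix I x ^ n • (⊤ : Submodule (X.presheaf.stalk x) (F.presheaf.stalk x)) := by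
  obtain ⟨W, hW, s, rfl⟩ := germM_exist e
  rw [stalkMapM_germ] at he
  obtain ⟨W', hW', hxW', h0⟩ := QC70.germM_eq_zero he
  obtain ⟨V, hV, hxV, hVW⟩ := exists_isAffineOpen_mem_and_subset hxW'
  have h1 : (Formal.modPowπ I n F).app V (QC70.res F (le_trans hVW hW') s) = 0 := by
    rw [← QC70.res_res hW' hVW, QC70.app_res, QC70.app_res, h0, QC70.res_zero]
  have hmem := FF71.mem_secI_of_modPowπ_eq_zero I F n hV h1
  rw [← germM_res (le_trans hVW hW') hxV s]
  refine FF71.secI_induction (P := fun y => germM F V x hxV y ∈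
    Ix I x ^ n • (⊤ : Submodule (X.presheaf.stalk x) (F.presheaf.stalk x))) ?_ ?_ ?_ hmem
  · rw [QC70.germM_zero]; exact zero_mem _
  · intro a b ha hb; rw [QC70.germM_add]; exact add_mem ha hb
  · intro a ha m
    rw [germM_smul, ← StalkHens.cA_eq X hxV]
    refine Submodule.smul_mem_smul ?_ trivial
    rw [Ix, ← Ideal.map_pow]
    exact Ideal.mem_map_of_mem _ ha

theorem finite_stalk {F : X.Modules} (hF : Coh.IsCoh F) (x : X) :
    Module.Finite (X.presheaf.stalk x) (F.presheaf.stalk x) := by
  haveI := hF.1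
  haveI := hF.2
  obtain ⟨U, hU, hx, -⟩ := exists_isAffineOpen_mem_and_subset (x := x) (U := ⊤) trivial
  haveI := QC70.finite_sections_of_isFiniteType F hU
  obtain ⟨S, hS⟩ := Module.Finite.fg_top (R := Γ(X, U)) (M := Γ(F, U))
  classical
  refine Module.finite_def.2 ⟨S.image (fun s => germM F U x hx s), eq_top_iff.2 fun e _ => ?_⟩
  obtain ⟨a, t, ha, he⟩ := QC70.stalk_exists_smul
    (QC70.isLocAt_of_isQuasicoherent (M := F) (U := U) hU) hU hx e
  obtain ⟨v, hv⟩ := QC70.isUnit_germ ha
  have h1 : germM F U x hx t ∈ Submodule.span (X.presheaf.stalk x)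
      ((S.image fun s => germM F U x hx s : Finset _) : Set (F.presheaf.stalk x)) := by
    have ht : t ∈ Submodule.span Γ(X, U) (S : Set Γ(F, U)) := hS ▸ trivial
    clear he
    induction ht using Submodule.span_induction with
    | mem s hs => exact Submodule.subset_span (Finset.mem_image_of_mem _ hs)
    | zero => rw [QC70.germM_zero]; exact zero_mem _
    | add a b _ _ ha hb => rw [QC70.germM_add]; exact add_mem ha hb
    | smul r b _ hb => rw [germM_smul]; exact Submodule.smul_mem _ _ hb
  rw [← he, ← hv] at h1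
  have h2 := Submodule.smul_mem _ ((v⁻¹ : (X.presheaf.stalk x)ˣ) : X.presheaf.stalk x) h1
  rwa [smul_smul, Units.inv_mul, one_smul] at h2

variable {Xh : LocallyRingedSpace.{u}} {ι : Xh ⟶ X.toLocallyRingedSpace}
  (hh : IsHenselizationAlong X
    ((X ↘ Spec (CommRingCat.of A)).base ⁻¹' PrimeSpectrum.zeroLocus (I : Set A)) Xh ι)
include hh

omit [X.Over (Spec (CommRingCat.of A))] hh in
theorem exists_glue {M : X.Modules} (e : ∀ x : X, M.presheaf.stalk x)
    (h : ∀ x : X, ∃ (W : X.Opens) (_ : x ∈ W) (s : Γ(M, W)),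
      ∀ (x' : X) (hx' : x' ∈ W), germM M W x' hx' s = e x') :
    ∃ s : Γ(M, ⊤), ∀ x : X, germM M ⊤ x trivial s = e x := by
  choose W hxW s hs using h
  let Msh : TopCat.Sheaf AddCommGrpCat.{u} X.carrier := ⟨M.presheaf, M.isSheaf⟩
  obtain ⟨t, ht, -⟩ := TopCat.Sheaf.existsUnique_gluing' Msh W ⊤ (fun x => homOfLE le_top) (fun x _ => Opens.mem_iSup.2 ⟨x, hxW x⟩) s (fun i j => by
      refine TopCat.Presheaf.section_ext Msh _ _ _ fun x hx => ?_
      refine (M.presheaf.germ_res_apply _ x hx (s i)).trans ?_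
      refine Eq.trans ?_ (M.presheaf.germ_res_apply _ x hx (s j)).symm
      exact (hs i x hx.1).trans (hs j x hx.2).symm)
  refine ⟨t, fun x => ?_⟩
  rw [← hs x x (hxW x), ← ht x]
  exact (M.presheaf.germ_res_apply _ x _ t).symm

theorem bijective_toStalk (F : X.Modules) (n : ℕ) (z : Xh) :
    Function.Bijective fun e : (Formal.modPow I n F).presheaf.stalk (pt ι z) =>
      theta ι (Formal.modPow I n F) z (1 ⊗ₜ e) :=
  have h1 := quotientMap_pow_bijective (StalkHens.isPairHenselization_stalk I hh z) n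
  (PullFlat.theta_bijective ι (Formal.modPow I n F) z).comp
    (bijective_one_tmul (K := Ix I (pt ι z) ^ n) h1 (stalk_killed I F n (pt ι z)))

theorem eta_surjective_modPow (F : X.Modules) (n : ℕ)
    (u : ((pullMod ι).obj (Formal.modPow I n F)).val.obj (op (pre ι ⊤))) :
    ∃ s : Γ(Formal.modPow I n F, ⊤), eta ι (Formal.modPow I n F) ⊤ s = u := by
  classical
  let Fn := Formal.modPow I n F
  have hex : ∀ z : Xh, ∃ e, theta ι Fn z (1 ⊗ₜ e) = germP ((pullMod ι).obj Fn) (pre ι ⊤) z trivial u :=
    fun z => (bijective_toStalk I hh F n z).2 (germP _ (pre ι ⊤) z trivial u)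
  choose ε hε using hex
  have hεeq : ∀ (z : Xh) (W : X.Opens) (hz : pt ι z ∈ W) (t : Γ(Fn, W)),
      germP _ (pre ι W) z hz (eta ι Fn W t) = germP _ (pre ι ⊤) z trivial u →
        ε z = germM Fn W (pt ι z) hz t := fun z W hz t h => by
    refine (bijective_toStalk I hh F n z).1 ?_
    exact (hε z).trans (h.symm.trans (PullFlat.theta_one_germ ι Fn hz t).symm)
  let e : ∀ x : X, Fn.presheaf.stalk x := fun x =>
    if h : ∃ z, pt ι z = x then h.choose_spec ▸ ε h.choose else 0
  have he : ∀ z, e (pt ι z) = ε z := by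
    intro z
    have h : ∃ z', pt ι z' = pt ι z := ⟨z, rfl⟩
    show dite _ _ _ = _
    rw [dif_pos h]
    have key : ∀ (z' : Xh) (q : pt ι z' = pt ι z), q ▸ ε z' = ε z := by
      intro z' q
      obtain rfl := hh.2.1.injective q
      rfl
    exact key _ h.choose_spec
  have hzero : ∀ x : X, x ∉ Set.range ι.base → ∀ m : Fn.presheaf.stalk x, m = 0 := by
    intro x hx m
    rw [hh.2.2.1] at hx
    obtain ⟨a, haI, ha⟩ : ∃ a ∈ I, a ∉ ((X ↘ Spec (CommRingCat.of A)).base x).asIdeal := by
      by_contra hne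
      push Not at hne
      exact hx hne
    have hu : IsUnit (cA X x a) := by
      have h1 : IsUnit ((Spec (CommRingCat.of A)).presheaf.germ ⊤ ((X ↘ Spec (CommRingCat.of A)).base x)
          trivial ((Scheme.ΓSpecIso (CommRingCat.of A)).inv a)) := by
        refine ((Spec (CommRingCat.of A)).mem_basicOpen _ _ _).1 ?_
        rw [show (Spec (CommRingCat.of A)).basicOpen ((Scheme.ΓSpecIso (CommRingCat.of A)).inv a) =
          PrimeSpectrum.basicOpen a from basicOpen_eq_of_affine (R := CommRingCat.of A) a]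
        exact ha
      have h2 := h1.map ((X ↘ Spec (CommRingCat.of A)).stalkMap x).hom
      rw [Scheme.Hom.germ_stalkMap_apply] at h2
      show IsUnit (X.presheaf.germ ⊤ x trivial (FF71.rA A X ⊤ a))
      rw [StalkHens.rA_top_apply]
      exact h2
    have h0 := stalk_killed I F n x (cA X x a ^ n) (Ideal.pow_mem_pow (Ideal.mem_map_of_mem _ haI) n) m
    exact ((hu.pow n).smul_eq_zero).1 h0
  obtain ⟨s, hs⟩ := exists_glue e fun x => by
    by_cases hx : x ∈ Set.range ι.base
    · obtain ⟨z, rfl⟩ := hx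
      obtain ⟨W, hW, t, ht⟩ := germM_exist (ε z)
      have h1 : germP _ (pre ι W) z hW (eta ι Fn W t) = germP _ (pre ι ⊤) z trivial u := by
        rw [← PullFlat.theta_one_germ, ht, hε]
      obtain ⟨O', h₁, h₂, hzO', hagree⟩ := PullFlat.germP_eq h1
      obtain ⟨O, hO, hpre⟩ := (hh.2.1.isInducing.isOpen_iff).1 O'.2
      have hzO : pt ι z ∈ O := by
        show z ∈ ι.base ⁻¹' O
        rw [hpre]
        exact hzO'
      refine ⟨W ⊓ ⟨O, hO⟩, ⟨hW, hzO⟩, QC70.res Fn inf_le_left t, fun x' hx' => ?_⟩
      rw [germM_res inf_le_left hx']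
      by_cases hr : x' ∈ Set.range ι.base
      · obtain ⟨z', rfl⟩ := hr
        have hz' : z' ∈ ι.base ⁻¹' O := hx'.2
        rw [hpre] at hz'
        show _ = e (pt ι z')
        rw [he]
        exact (hεeq z' W hx'.1 t (hagree z' hz')).symm
      · rw [hzero x' hr (e x')]
        exact hzero x' hr _
    · refine ⟨⟨(Set.range ι.base)ᶜ, by rw [hh.2.2.1]; exact hh.1.isOpen_compl⟩, hx, 0, fun x' hx' => ?_⟩
      rw [QC70.germM_zero, hzero x' hx' (e x')]
  refine ⟨s, PullFlat.germP_section_ext _ _ fun z hz => ?_⟩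
  rw [← PullFlat.theta_one_germ]
  show theta ι Fn z (1 ⊗ₜ germM Fn ⊤ (pt ι z) trivial s) = _
  rw [hs, he, hε]

variable [IsProper (X ↘ Spec (CommRingCat.of A))] [HenselianRing A I]

theorem exists_specializes (p : X) : ∃ z : Xh, p ⤳ pt ι z := by
  haveI : CompactSpace X := QuasiCompact.compactSpace_of_compactSpace (X ↘ Spec (CommRingCat.of A))
  obtain ⟨q, hq, hqcl⟩ := IsClosed.exists_closed_singleton (isClosed_closure (s := {p}))
    ⟨p, subset_closure rfl⟩
  have hmem : q ∈ Set.range ι.base := by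
    rw [hh.2.2.1]
    let f := X ↘ Spec (CommRingCat.of A)
    have hcl : IsClosed ({f.base q} : Set (PrimeSpectrum A)) := by
      have := f.isClosedMap _ hqcl
      rwa [Set.image_singleton] at this
    have hmax := (PrimeSpectrum.isClosed_singleton_iff_isMaximal _).1 hcl
    intro a ha
    have h1 := HenselianRing.jac (I := I) ha
    rw [Ideal.jacobson, Submodule.mem_sInf] at h1
    exact h1 _ ⟨bot_le, hmax⟩
  obtain ⟨z, rfl⟩ := hmem
  exact ⟨z, specializes_iff_mem_closure.2 hq⟩

theorem eta_eq_zero (F : X.Modules) (s : Γ(F, ⊤)) (h : eta ι F ⊤ s = 0) : s = 0 := by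
  have hflat := Sph.flat_stalkMap_henselization hh
  refine QC70.section_ext F _ _ fun p _ => ?_
  obtain ⟨z, hz⟩ := exists_specializes I hh p
  have h1 : germM F ⊤ (pt ι z) trivial s = 0 := by
    haveI := PullFlat.faithfullyFlat_anStalk z hflat
    refine (injective_iff_map_eq_zero (TensorProduct.mk (X.presheaf.stalk (pt ι z)) (anStalk z)
      (F.presheaf.stalk (pt ι z)) 1)).1 (Module.FaithfullyFlat.tensorProduct_mk_injective _) _ ?_
    refine PullFlat.theta_injective ι F z ?_
    rw [TensorProduct.mk_apply, PullFlat.theta_one_germ, h, map_zero]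
    exact PullFlat.germP_zero _
  obtain ⟨W, hW, hzW, h0⟩ := QC70.germM_eq_zero h1
  refine ⟨W, le_top, hz.mem_open W.2 hzW, ?_⟩
  rw [QC70.res_zero]
  exact h0

end Groth.Agent.Hens22.HensCoh
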