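import Groth.Agent.Hens22.HensGlobal
import Groth.Agent.QC70.HomCoh

/-!
The inverse image on the Henselization is full on coherent modules.
-/

set_option autoImplicit false
set_option maxSynthPendingDepth 6
set_option backward.isDefEq.respectTransparency.types false
universe u

noncomputable section

open AlgebraicGeometry CategoryTheory TopologicalSpace Opposite TensorProduct HensSch
open Groth.Agent.QC70 (germM germM_res germM_exist germM_smul stalkMapM stalkMapM_germ stalkLinear homMod ofSec)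
open Groth.Agent.Hens22.PullFlat (pt anStalk anPsh germP pre eta theta psi)

namespace Groth.Agent.Hens22.HensFull

variable {X : Scheme.{u}} (F G : X.Modules)

theorem exists_ev₁ (x : X) {W : X.Opens} (hx : x ∈ W) (φ : Γ(homMod F G, W)) :
    ∃ l : F.presheaf.stalk x →ₗ[X.presheaf.stalk x] G.presheaf.stalk x,
      ∀ (V : X.Opens) (hV : V ≤ W) (hxV : x ∈ V) (s : Γ(F, V)),
        l (germM F V x hxV s) = germM G V x hxV ((ofSec φ).app V hV s) := by
  obtain ⟨l, hl⟩ := PullFlat.exists_ofGermM (M := F) (x := x)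
    (fun V hxV s => germM G (V ⊓ W) x ⟨hxV, hx⟩
      ((ofSec φ).app (V ⊓ W) inf_le_right (QC70.res F inf_le_left s)))
    (fun U V h hxV s => by
      rw [← germM_res (le_inf (inf_le_left.trans h) inf_le_right : V ⊓ W ≤ U ⊓ W) ⟨hxV, hx⟩,
        ← (ofSec φ).app_res, QC70.res_res, QC70.res_res])
    (fun U hxU s t => by rw [QC70.res_add, map_add, QC70.germM_add])
    (fun U hxU r s => by rw [QC70.res_smul, map_smul, germM_smul, QC70.germ_resO])
  refine ⟨l, fun V hV hxV s => ?_⟩
  rw [hl, (ofSec φ).app_res hV inf_le_left, germM_res]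

/-- The value of a local morphism on stalks. -/
def ev₁ (x : X) {W : X.Opens} (hx : x ∈ W) (φ : Γ(homMod F G, W)) :
    F.presheaf.stalk x →ₗ[X.presheaf.stalk x] G.presheaf.stalk x :=
  (exists_ev₁ F G x hx φ).choose

theorem ev₁_germ {x : X} {W : X.Opens} (hx : x ∈ W) (φ : Γ(homMod F G, W)) {V : X.Opens}
    (hV : V ≤ W) (hxV : x ∈ V) (s : Γ(F, V)) :
    ev₁ F G x hx φ (germM F V x hxV s) = germM G V x hxV ((ofSec φ).app V hV s) :=
  (exists_ev₁ F G x hx φ).choose_spec V hV hxV s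

theorem ev₁_ext {x : X} (l l' : F.presheaf.stalk x →ₗ[X.presheaf.stalk x] G.presheaf.stalk x)
    {W : X.Opens} (hx : x ∈ W)
    (h : ∀ (V : X.Opens) (_ : V ≤ W) (hxV : x ∈ V) (s : Γ(F, V)),
      l (germM F V x hxV s) = l' (germM F V x hxV s)) : l = l' := by
  refine LinearMap.ext fun e => ?_
  obtain ⟨V, hV, s, rfl⟩ := germM_exist e
  rw [← germM_res (inf_le_left : V ⊓ W ≤ V) ⟨hV, hx⟩ s]
  exact h _ inf_le_right _ _

theorem exists_evalStalk (x : X) :
    ∃ E : (homMod F G).presheaf.stalk x →ₗ[X.presheaf.stalk x]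
        (F.presheaf.stalk x →ₗ[X.presheaf.stalk x] G.presheaf.stalk x),
      ∀ (W : X.Opens) (hx : x ∈ W) (φ : Γ(homMod F G, W)),
        E (germM (homMod F G) W x hx φ) = ev₁ F G x hx φ := by
  refine PullFlat.exists_ofGermM (fun W hx φ => ev₁ F G x hx φ) (fun U V h hxV φ => ?_)
    (fun U hxU φ φ' => ?_) (fun U hxU r φ => ?_)
  · refine ev₁_ext F G _ _ hxV fun V' hV' hxV' s => ?_
    rw [ev₁_germ F G hxV _ hV' hxV' s, ev₁_germ F G (h hxV) φ (hV'.trans h) hxV' s,
      QC70.homMod_res_app]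
  · refine ev₁_ext F G _ _ hxU fun V' hV' hxV' s => ?_
    rw [LinearMap.add_apply, ev₁_germ F G hxU _ hV' hxV' s, ev₁_germ F G hxU _ hV' hxV' s,
      ev₁_germ F G hxU _ hV' hxV' s, ← QC70.germM_add]
    rfl
  · refine ev₁_ext F G _ _ hxU fun V' hV' hxV' s => ?_
    rw [LinearMap.smul_apply, ev₁_germ F G hxU _ hV' hxV' s, ev₁_germ F G hxU _ hV' hxV' s,
      ← QC70.germ_resO hV' hxV', ← germM_smul]
    rfl

/-- Evaluation on stalks. -/
def evalStalk (x : X) : (homMod F G).presheaf.stalk x →ₗ[X.presheaf.stalk x]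
    (F.presheaf.stalk x →ₗ[X.presheaf.stalk x] G.presheaf.stalk x) :=
  (exists_evalStalk F G x).choose

theorem evalStalk_germ {x : X} {W : X.Opens} (hx : x ∈ W) (φ : Γ(homMod F G, W)) {V : X.Opens}
    (hV : V ≤ W) (hxV : x ∈ V) (s : Γ(F, V)) :
    evalStalk F G x (germM (homMod F G) W x hx φ) (germM F V x hxV s) =
      germM G V x hxV ((ofSec φ).app V hV s) := by
  rw [show evalStalk F G x (germM (homMod F G) W x hx φ) = ev₁ F G x hx φ from
    (exists_evalStalk F G x).choose_spec W hx φ]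
  exact ev₁_germ F G hx φ hV hxV s

variable [IsLocallyNoetherian X] [F.IsQuasicoherent] [F.IsFiniteType] [G.IsQuasicoherent]

omit [IsLocallyNoetherian X] [G.IsQuasicoherent] in
theorem exists_gens (x : X) : ∃ (U : X.Opens) (hU : IsAffineOpen U) (_ : x ∈ U)
    (S : Finset Γ(F, U)), Submodule.span Γ(X, U) (S : Set Γ(F, U)) = ⊤ := by
  obtain ⟨U, hU, hx, -⟩ := exists_isAffineOpen_mem_and_subset (x := x) (U := ⊤) trivial
  haveI := QC70.finite_sections_of_isFiniteType F hU
  obtain ⟨S, hS⟩ := Module.Finite.fg_top (R := Γ(X, U)) (M := Γ(F, U))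
  exact ⟨U, hU, hx, S, hS⟩

omit [IsLocallyNoetherian X] [G.IsQuasicoherent] [F.IsFiniteType] in
theorem span_germ_eq_top {x : X} {U : X.Opens} (hU : IsAffineOpen U) (hx : x ∈ U)
    (S : Finset Γ(F, U)) (hS : Submodule.span Γ(X, U) (S : Set Γ(F, U)) = ⊤) :
    Submodule.span (X.presheaf.stalk x) ((fun s => germM F U x hx s) '' (S : Set Γ(F, U))) = ⊤ := by
  refine eq_top_iff.2 fun e _ => ?_
  obtain ⟨a, t, ha, he⟩ := QC70.stalk_exists_smul
    (QC70.isLocAt_of_isQuasicoherent (M := F) (U := U) hU) hU hx e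
  obtain ⟨v, hv⟩ := QC70.isUnit_germ ha
  have h1 : germM F U x hx t ∈ Submodule.span (X.presheaf.stalk x)
      ((fun s => germM F U x hx s) '' (S : Set Γ(F, U))) := by
    have ht : t ∈ Submodule.span Γ(X, U) (S : Set Γ(F, U)) := hS ▸ trivial
    clear he
    induction ht using Submodule.span_induction with
    | mem s hs => exact Submodule.subset_span ⟨s, hs, rfl⟩
    | zero => rw [QC70.germM_zero]; exact zero_mem _
    | add a b _ _ ha hb => rw [QC70.germM_add]; exact add_mem ha hb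
    | smul r b _ hb => rw [germM_smul]; exact Submodule.smul_mem _ _ hb
  rw [← he, ← hv] at h1
  have h2 := Submodule.smul_mem _ ((v⁻¹ : (X.presheaf.stalk x)ˣ) : X.presheaf.stalk x) h1
  rwa [smul_smul, Units.inv_mul, one_smul] at h2

theorem evalStalk_bijective (x : X) : Function.Bijective (evalStalk F G x) := by
  obtain ⟨U, hU, hx, S, hS⟩ := exists_gens F x
  refine ⟨(injective_iff_map_eq_zero _).2 fun e he => ?_, fun l => ?_⟩
  · obtain ⟨W, hxW, φ, rfl⟩ := germM_exist e
    obtain ⟨V, hV, hxV, hVW⟩ := exists_isAffineOpen_mem_and_subset (show x ∈ W ⊓ U from ⟨hxW, hx⟩)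
    have hVW' : V ≤ W := le_trans hVW inf_le_left
    have hVU : V ≤ U := le_trans hVW inf_le_right
    have hex : ∀ s : S, ∃ (W' : X.Opens) (hW' : W' ≤ V), x ∈ W' ∧
        QC70.res G hW' ((ofSec φ).app V hVW' (QC70.res F hVU (s : Γ(F, U)))) = 0 := fun s => by
      refine QC70.germM_eq_zero (hx := hxV) ?_
      rw [← evalStalk_germ F G hxW φ hVW' hxV, he]
      rfl
    choose W' hW' hxW' h0 using hex
    let O : X.Opens := Finset.univ.inf W' ⊓ V
    have hxO : x ∈ O := ⟨by
      show x ∈ ((Finset.univ.inf W' : X.Opens) : Set X)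
      rw [Opens.coe_finset_inf, Finset.inf_set_eq_iInter]
      simp only [Function.comp_apply, Set.mem_iInter, SetLike.mem_coe, Finset.mem_univ, forall_true_left]
      exact hxW', hxV⟩
    obtain ⟨O', hO', hxO', hO'O⟩ := exists_isAffineOpen_mem_and_subset hxO
    have hO'V : O' ≤ V := le_trans hO'O inf_le_right
    have hz : ∀ (T : X.Opens) (hT : T ≤ O') (t : Γ(F, T)),
        (ofSec φ).app T (hT.trans (hO'V.trans hVW')) t = 0 := by
      intro T hT t
      refine QC70.section_ext G _ _ fun q hq => ?_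
      have key : germM G T q hq ((ofSec φ).app T (hT.trans (hO'V.trans hVW')) t) = 0 := by
        rw [← evalStalk_germ F G ((hT.trans (hO'V.trans hVW')) hq) φ (hT.trans (hO'V.trans hVW')) hq]
        have hall : ∀ e : F.presheaf.stalk q,
            evalStalk F G q (germM (homMod F G) W q ((hT.trans (hO'V.trans hVW')) hq) φ) e = 0 := by
          intro e
          have hspan := span_germ_eq_top F hU ((hT.trans (hO'V.trans hVU)) hq) S hS
          have he' : e ∈ Submodule.span (X.presheaf.stalk q)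
              ((fun s => germM F U q ((hT.trans (hO'V.trans hVU)) hq) s) '' (S : Set Γ(F, U))) :=
            hspan ▸ trivial
          induction he' using Submodule.span_induction with
          | mem m hm =>
            obtain ⟨s, hs, rfl⟩ := hm
            beta_reduce
            have hqV : q ∈ V := hO'V (hT hq)
            rw [← germM_res hVU hqV s, evalStalk_germ F G _ φ hVW' hqV]
            have hqW' : q ∈ W' ⟨s, hs⟩ := (Finset.inf_le (f := W') (Finset.mem_univ ⟨s, hs⟩)) (hO'O (hT hq)).1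
            rw [← germM_res (hW' ⟨s, hs⟩) hqW', h0 ⟨s, hs⟩]
            exact QC70.germM_zero _
          | zero => exact map_zero _
          | add a b _ _ ha hb => rw [map_add, ha, hb, add_zero]
          | smul r b _ hb => rw [map_smul, hb, smul_zero]
        exact hall _
      obtain ⟨T', hT', hqT', h1⟩ := QC70.germM_eq_zero key
      exact ⟨T', hT', hqT', h1.trans (QC70.res_zero hT').symm⟩
    rw [← germM_res (hO'V.trans hVW') hxO']
    rw [show QC70.res (homMod F G) (hO'V.trans hVW') φ = 0 from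
      QC70.HomOn.ext' fun T hT t => hz T hT t]
    exact QC70.germM_zero _
  · have := IsLocallyNoetherian.component_noetherian (⟨U, hU⟩ : X.affineOpens)
    haveI := QC70.finite_sections_of_isFiniteType F hU
    haveI : Module.FinitePresentation Γ(X, U) Γ(F, U) := Module.finitePresentation_of_finite _ _
    obtain ⟨a, h, hxa, hh⟩ := QC70.exists_lift_stalk hU hx
      (QC70.isLocAt_of_isQuasicoherent (M := G) (U := U) hU) l
    obtain ⟨v, hv⟩ := QC70.isUnit_germ hxa
    refine ⟨((v⁻¹ : (X.presheaf.stalk x)ˣ) : X.presheaf.stalk x) •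
      germM (homMod F G) U x hx ((QC70.homSecEquiv hU).symm h), ?_⟩
    rw [map_smul]
    refine LinearMap.ext_on (span_germ_eq_top F hU hx S hS) ?_
    rintro _ ⟨s, -, rfl⟩
    rw [LinearMap.smul_apply, evalStalk_germ F G hx _ le_rfl hx]
    rw [show (ofSec ((QC70.homSecEquiv (N := G) hU).symm h)).app U le_rfl s = h s from
      LinearMap.congr_fun ((QC70.homSecEquiv (N := G) hU).apply_symm_apply h) s, hh, ← hv, smul_smul,
      Units.inv_mul, one_smul]

variable {Xh : LocallyRingedSpace.{u}} (ι : Xh ⟶ X.toLocallyRingedSpace)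
  (hflat : ∀ z : Xh, (ι.stalkMap z).hom.Flat)
include hflat

theorem exists_E (z : Xh) :
    ∃ E : (anPsh ((pullMod ι).obj (homMod F G))).stalk z →ₗ[anStalk z]
        ((anPsh ((pullMod ι).obj F)).stalk z →ₗ[anStalk z] (anPsh ((pullMod ι).obj G)).stalk z),
      Function.Bijective E ∧ ∀ (e : (homMod F G).presheaf.stalk (pt ι z)) (m : F.presheaf.stalk (pt ι z)),
        E (psi ι (homMod F G) z e) (psi ι F z m) = psi ι G z (evalStalk F G (pt ι z) e m) := by
  let R := X.presheaf.stalk (pt ι z)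
  let B := anStalk z
  haveI : Module.Flat R B := hflat z
  haveI : Module.Finite R (F.presheaf.stalk (pt ι z)) := by
    obtain ⟨U, hU, hx, S, hS⟩ := exists_gens F (pt ι z)
    classical
    refine Module.finite_def.2 ⟨S.image (fun s => germM F U (pt ι z) hx s), ?_⟩
    rw [Finset.coe_image]
    exact span_germ_eq_top F hU hx S hS
  haveI : Module.FinitePresentation R (F.presheaf.stalk (pt ι z)) := Module.finitePresentation_of_finite _ _
  have ibc := Module.FinitePresentation.isBaseChange_map (R := R) (F.presheaf.stalk (pt ι z))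
    (G.presheaf.stalk (pt ι z)) B
  let e₀ := LinearEquiv.ofBijective (evalStalk F G (pt ι z)) (evalStalk_bijective F G (pt ι z))
  let θH := LinearEquiv.ofBijective (theta ι (homMod F G) z) (PullFlat.theta_bijective ι _ z)
  let θF := LinearEquiv.ofBijective (theta ι F z) (PullFlat.theta_bijective ι _ z)
  let θG := LinearEquiv.ofBijective (theta ι G z) (PullFlat.theta_bijective ι _ z)
  let Φ := θH.symm ≪≫ₗ (LinearEquiv.baseChange R B _ _ e₀) ≪≫ₗ ibc.equiv
  let E' : _ →ₗ[B] ((anPsh ((pullMod ι).obj F)).stalk z →ₗ[B] (anPsh ((pullMod ι).obj G)).stalk z) :=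
    { toFun := fun e => θG.toLinearMap ∘ₗ (Φ e) ∘ₗ θF.symm.toLinearMap
      map_add' := fun a b => by rw [map_add, LinearMap.add_comp, LinearMap.comp_add]
      map_smul' := fun r a => by rw [map_smul, LinearMap.smul_comp, LinearMap.comp_smul, RingHom.id_apply] }
  refine ⟨E', ⟨fun a b h => Φ.injective (LinearMap.ext fun t => θG.injective ?_), fun l => ?_⟩, fun e m => ?_⟩
  · have h1 := LinearMap.congr_fun h (θF t)
    simpa [E'] using h1
  · refine ⟨Φ.symm (θG.symm.toLinearMap ∘ₗ l ∘ₗ θF.toLinearMap), LinearMap.ext fun t => ?_⟩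
    simp [E']
  · have hH : θH.symm (psi ι (homMod F G) z e) = (1 : B) ⊗ₜ[R] e := by
      rw [LinearEquiv.symm_apply_eq, LinearEquiv.ofBijective_apply, PullFlat.theta_tmul, one_smul]
    have hF : θF.symm (psi ι F z m) = (1 : B) ⊗ₜ[R] m := by
      rw [LinearEquiv.symm_apply_eq, LinearEquiv.ofBijective_apply, PullFlat.theta_tmul, one_smul]
    show θG (Φ (psi ι (homMod F G) z e) (θF.symm (psi ι F z m))) = _
    rw [hF, show Φ (psi ι (homMod F G) z e) = ibc.equiv ((LinearEquiv.baseChange R B _ _ e₀) (θH.symm (psi ι (homMod F G) z e)))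
      from rfl, hH, LinearEquiv.baseChange_tmul, IsBaseChange.equiv_tmul, one_smul]
    show theta ι G z ((LinearMap.baseChange B (e₀ e)) (1 ⊗ₜ[R] m)) = _
    rw [LinearMap.baseChange_tmul, PullFlat.theta_tmul, one_smul]
    rfl

/-- Evaluation on the stalks of the inverse images. -/
def evE (z : Xh) : (anPsh ((pullMod ι).obj (homMod F G))).stalk z →ₗ[anStalk z]
    ((anPsh ((pullMod ι).obj F)).stalk z →ₗ[anStalk z] (anPsh ((pullMod ι).obj G)).stalk z) :=
  (exists_E F G ι hflat z).choose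

theorem evE_bijective (z : Xh) : Function.Bijective (evE F G ι hflat z) :=
  (exists_E F G ι hflat z).choose_spec.1

theorem evE_germ {z : Xh} {W : X.Opens} (hz : pt ι z ∈ W) (φ : Γ(homMod F G, W)) {V : X.Opens}
    (hV : V ≤ W) (hzV : pt ι z ∈ V) (s : Γ(F, V)) :
    evE F G ι hflat z (germP _ (pre ι W) z hz (eta ι (homMod F G) W φ))
        (germP _ (pre ι V) z hzV (eta ι F V s)) =
      germP _ (pre ι V) z hzV (eta ι G V ((ofSec φ).app V hV s)) := by
  rw [← PullFlat.psi_germ, ← PullFlat.psi_germ, ← PullFlat.psi_germ,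
    ← evalStalk_germ F G hz φ hV hzV]
  exact (exists_E F G ι hflat z).choose_spec.2 _ _

omit hflat [IsLocallyNoetherian X] [G.IsQuasicoherent] in
theorem linearMap_ext_germ {z : Xh} {U : X.Opens} (hU : IsAffineOpen U) (hz : pt ι z ∈ U)
    (S : Finset Γ(F, U)) (hS : Submodule.span Γ(X, U) (S : Set Γ(F, U)) = ⊤)
    {N : Type u} [AddCommGroup N] [Module (anStalk z) N]
    (l l' : (anPsh ((pullMod ι).obj F)).stalk z →ₗ[anStalk z] N)
    (h : ∀ s ∈ S, l (germP _ (pre ι U) z hz (eta ι F U s)) =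
      l' (germP _ (pre ι U) z hz (eta ι F U s))) : l = l' := by
  refine LinearMap.ext fun e => ?_
  obtain ⟨t, rfl⟩ := PullFlat.theta_surjective ι F z e
  induction t using TensorProduct.induction_on with
  | zero => simp only [map_zero]
  | add a b ha hb => simp only [map_add, ha, hb]
  | tmul b m =>
    rw [PullFlat.theta_tmul, map_smul, map_smul]
    refine congrArg (b • ·) ?_
    have hm : m ∈ Submodule.span (X.presheaf.stalk (pt ι z))
        ((fun s => germM F U (pt ι z) hz s) '' (S : Set Γ(F, U))) :=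
      span_germ_eq_top F hU hz S hS ▸ trivial
    induction hm using Submodule.span_induction with
    | mem m hm =>
      obtain ⟨s, hs, rfl⟩ := hm
      rw [PullFlat.psi_germ]
      exact h s hs
    | zero => rw [map_zero, map_zero, map_zero]
    | add a c _ _ ha hc => rw [map_add, map_add, map_add, ha, hc]
    | smul r c _ hc =>
      rw [map_smul, ← algebraMap_smul (anStalk z) r (psi ι F z c), map_smul, map_smul, hc]

/-- A representative of an element of a stalk of the inverse image of `𝓗om` with locally given values. -/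
theorem exists_values (z : Xh) (e : (anPsh ((pullMod ι).obj (homMod F G))).stalk z) :
    ∃ (O : Opens Xh) (hz : z ∈ O) (u : ((pullMod ι).obj (homMod F G)).val.obj (op O)),
      germP _ O z hz u = e ∧
      ∀ (V : X.Opens) (s : Γ(F, V)), pt ι z ∈ V → ∃ (O' : Opens Xh) (_ : z ∈ O') (hOO : O' ≤ O)
        (hOV : O' ≤ pre ι V) (w : ((pullMod ι).obj G).val.obj (op O')),
        ∀ (z' : Xh) (hz' : z' ∈ O'), germP _ O' z' hz' w =
          evE F G ι hflat z' (germP _ O z' (hOO hz') u)
            (germP _ (pre ι V) z' (hOV hz') (eta ι F V s)) := by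
  obtain ⟨t, rfl⟩ := PullFlat.theta_surjective ι (homMod F G) z e
  induction t using TensorProduct.induction_on with
  | zero =>
    refine ⟨⊤, trivial, 0, by rw [PullFlat.germP_zero, map_zero], fun V s hV =>
      ⟨pre ι V, hV, le_top, le_rfl, 0, fun z' hz' => ?_⟩⟩
    rw [PullFlat.germP_zero, PullFlat.germP_zero, map_zero, LinearMap.zero_apply]
  | add a b ha hb =>
    obtain ⟨O₁, hz₁, u₁, he₁, hw₁⟩ := ha
    obtain ⟨O₂, hz₂, u₂, he₂, hw₂⟩ := hb
    let r₁ : ((pullMod ι).obj (homMod F G)).val.obj (op (O₁ ⊓ O₂)) := ((pullMod ι).obj (homMod F G)).val.map (homOfLE (inf_le_left : O₁ ⊓ O₂ ≤ O₁)).op u₁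
    let r₂ : ((pullMod ι).obj (homMod F G)).val.obj (op (O₁ ⊓ O₂)) := ((pullMod ι).obj (homMod F G)).val.map (homOfLE (inf_le_right : O₁ ⊓ O₂ ≤ O₂)).op u₂
    refine ⟨O₁ ⊓ O₂, ⟨hz₁, hz₂⟩, r₁ + r₂, ?_, fun V s hV => ?_⟩
    · rw [PullFlat.germP_add, PullFlat.germP_res, PullFlat.germP_res, he₁, he₂, map_add]
    · obtain ⟨P₁, hzP₁, hPO₁, hPV₁, w₁, hw₁'⟩ := hw₁ V s hV
      obtain ⟨P₂, hzP₂, hPO₂, hPV₂, w₂, hw₂'⟩ := hw₂ V s hV
      let q₁ : ((pullMod ι).obj G).val.obj (op (P₁ ⊓ P₂)) :=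
        ((pullMod ι).obj G).val.map (homOfLE (inf_le_left : P₁ ⊓ P₂ ≤ P₁)).op w₁
      let q₂ : ((pullMod ι).obj G).val.obj (op (P₁ ⊓ P₂)) :=
        ((pullMod ι).obj G).val.map (homOfLE (inf_le_right : P₁ ⊓ P₂ ≤ P₂)).op w₂
      refine ⟨P₁ ⊓ P₂, ⟨hzP₁, hzP₂⟩, inf_le_inf hPO₁ hPO₂, inf_le_left.trans hPV₁,
        q₁ + q₂, fun z' hz' => ?_⟩
      rw [PullFlat.germP_add, PullFlat.germP_res, PullFlat.germP_res, hw₁' z' hz'.1, hw₂' z' hz'.2,
        PullFlat.germP_add, PullFlat.germP_res, PullFlat.germP_res, map_add, LinearMap.add_apply]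
  | tmul b m =>
    obtain ⟨W, hW, φ, rfl⟩ := germM_exist m
    obtain ⟨O₀, hzO₀, c, rfl⟩ := TopCat.Presheaf.exists_germ_eq Xh.presheaf b
    let c' := Xh.presheaf.map (homOfLE (inf_le_left : O₀ ⊓ pre ι W ≤ O₀)).op c
    let η' : ((pullMod ι).obj (homMod F G)).val.obj (op (O₀ ⊓ pre ι W)) :=
      ((pullMod ι).obj (homMod F G)).val.map (homOfLE (inf_le_right : O₀ ⊓ pre ι W ≤ pre ι W)).op
      (eta ι (homMod F G) W φ)
    refine ⟨O₀ ⊓ pre ι W, ⟨hzO₀, hW⟩,
      HSMul.hSMul (α := (ModSite.ringSh Xh.sheaf).obj.obj (op (O₀ ⊓ pre ι W))) c' η', ?_, fun V s hV => ?_⟩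
    · rw [PullFlat.germP_smul, PullFlat.germP_res, PullFlat.theta_tmul, PullFlat.psi_germ]
      exact congrArg (· • _) (Xh.presheaf.germ_res_apply _ _ _ c)
    · let V' : X.Opens := V ⊓ W
      let val := eta ι G V' ((ofSec φ).app V' inf_le_right (QC70.res F inf_le_left s))
      let P := O₀ ⊓ pre ι V'
      let val' : ((pullMod ι).obj G).val.obj (op P) :=
        ((pullMod ι).obj G).val.map (homOfLE (inf_le_right : P ≤ pre ι V')).op val
      refine ⟨P, ⟨hzO₀, hV, hW⟩, fun z' h => ⟨h.1, h.2.2⟩, fun z' h => h.2.1,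
        HSMul.hSMul (α := (ModSite.ringSh Xh.sheaf).obj.obj (op P))
          (Xh.presheaf.map (homOfLE (inf_le_left : P ≤ O₀)).op c) val', fun z' hz' => ?_⟩
      rw [PullFlat.germP_smul, PullFlat.germP_res, PullFlat.germP_smul, PullFlat.germP_res, map_smul,
        LinearMap.smul_apply]
      refine congrArg₂ (· • ·) ?_ ?_
      · exact (Xh.presheaf.germ_res_apply _ _ _ c).trans (Xh.presheaf.germ_res_apply _ _ _ c).symm
      · have hin : z' ∈ pre ι V' := hz'.2
        rw [← evE_germ F G ι hflat (hz'.2.2 : pt ι z' ∈ W) φ inf_le_right hin,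
          PullFlat.eta_res, PullFlat.germP_res]

theorem exists_glueP {M : ModSite.Mod Xh.sheaf} (e : ∀ z : Xh, (anPsh M).stalk z)
    (h : ∀ z : Xh, ∃ (W : Opens Xh) (_ : z ∈ W) (s : M.val.obj (op W)),
      ∀ (z' : Xh) (hz' : z' ∈ W), germP M W z' hz' s = e z') :
    ∃ s : M.val.obj (op ⊤), ∀ z : Xh, germP M ⊤ z trivial s = e z := by
  choose W hxW s hs using h
  let Msh : TopCat.Sheaf AddCommGrpCat.{u} Xh.toTopCat := ⟨anPsh M, M.isSheaf⟩
  obtain ⟨t, ht, -⟩ := TopCat.Sheaf.existsUnique_gluing' Msh W ⊤ (fun x => homOfLE le_top)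
    (fun x _ => Opens.mem_iSup.2 ⟨x, hxW x⟩) s (fun i j => by
      refine TopCat.Presheaf.section_ext Msh _ _ _ fun x hx => ?_
      refine ((anPsh M).germ_res_apply _ x hx (s i)).trans ?_
      refine Eq.trans ?_ ((anPsh M).germ_res_apply _ x hx (s j)).symm
      exact (hs i x hx.1).trans (hs j x hx.2).symm)
  refine ⟨t, fun x => ?_⟩
  rw [← hs x x (hxW x), ← ht x]
  exact ((anPsh M).germ_res_apply _ x _ t).symm

theorem exists_hom (h : (pullMod ι).obj F ⟶ (pullMod ι).obj G) :
    ∃ u : ((pullMod ι).obj (homMod F G)).val.obj (op (pre ι ⊤)),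
      ∀ z : Xh, evE F G ι hflat z (germP _ (pre ι ⊤) z trivial u) = PullFlat.stalkLinP h z := by
  choose ε hε using fun z : Xh => (evE_bijective F G ι hflat z).2 (PullFlat.stalkLinP h z)
  obtain ⟨u, hu⟩ := exists_glueP ι hflat ε fun z => by
    obtain ⟨U, hU, hzU, S, hS⟩ := exists_gens F (pt ι z)
    obtain ⟨O, hzO, u, hu, hval⟩ := exists_values F G ι hflat z (ε z)
    have hnb : ∀ s : S, ∃ (Q : Opens Xh) (_ : z ∈ Q) (hQO : Q ≤ O) (hQU : Q ≤ pre ι U),
        ∀ (z' : Xh) (hz' : z' ∈ Q),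
          evE F G ι hflat z' (germP _ O z' (hQO hz') u) (germP _ (pre ι U) z' (hQU hz') (eta ι F U (s : Γ(F, U)))) =
            PullFlat.stalkLinP h z' (germP _ (pre ι U) z' (hQU hz') (eta ι F U (s : Γ(F, U)))) := by
      intro s
      obtain ⟨P, hzP, hPO, hPU, w, hw⟩ := hval U s hzU
      have heq : germP _ P z hzP w =
          germP _ (pre ι U) z hzU (h.val.app (op (pre ι U)) (eta ι F U (s : Γ(F, U)))) := by
        rw [hw z hzP, ← PullFlat.stalkLinP_germ]
        exact LinearMap.congr_fun ((congrArg (evE F G ι hflat z) hu).trans (hε z)) _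
      obtain ⟨Q, h₁, h₂, hzQ, hagree⟩ := PullFlat.germP_eq heq
      refine ⟨Q, hzQ, h₁.trans hPO, h₂, fun z' hz' => ?_⟩
      rw [PullFlat.stalkLinP_germ, ← hw z' (h₁ hz')]
      exact hagree z' hz'
    choose Q hzQ hQO hQU hQ using hnb
    let W : Opens Xh := Finset.univ.inf Q ⊓ (O ⊓ pre ι U)
    refine ⟨W, ⟨?_, hzO, hzU⟩, ((pullMod ι).obj (homMod F G)).val.map
      (homOfLE (inf_le_right.trans inf_le_left : W ≤ O)).op u, fun z' hz' => ?_⟩
    · show z ∈ ((Finset.univ.inf Q : Opens Xh) : Set Xh)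
      rw [Opens.coe_finset_inf, Finset.inf_set_eq_iInter]
      simp only [Function.comp_apply, Set.mem_iInter, SetLike.mem_coe, Finset.mem_univ, forall_true_left]
      exact hzQ
    · rw [PullFlat.germP_res]
      refine (evE_bijective F G ι hflat z').1 ?_
      rw [hε z']
      refine linearMap_ext_germ F ι hU hz'.2.2 S hS _ _ fun s hs => ?_
      exact hQ ⟨s, hs⟩ z' ((Finset.inf_le (f := Q) (Finset.mem_univ ⟨s, hs⟩)) hz'.1)
  exact ⟨u, fun z => (congrArg (evE F G ι hflat z) (hu z)).trans (hε z)⟩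

theorem exists_map_eq (h : (pullMod ι).obj F ⟶ (pullMod ι).obj G)
    (hsurj : Function.Surjective (eta ι (homMod F G) ⊤)) :
    ∃ φ : F ⟶ G, (pullMod ι).map φ = h := by
  obtain ⟨u, hu⟩ := exists_hom F G ι hflat h
  obtain ⟨φ, rfl⟩ := hsurj u
  refine ⟨(ofSec φ).toHom, ((pullPushAdj ι).homEquiv _ _).injective ?_⟩
  refine ((pullPushAdj ι).homEquiv_unit _ _ _).trans (Eq.trans ?_ ((pullPushAdj ι).homEquiv_unit _ _ _).symm)
  refine Scheme.Modules.hom_ext _ _ fun W => AddCommGrpCat.hom_ext (AddMonoidHom.ext fun s => ?_)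
  show ((pullMod ι).map (ofSec φ).toHom).val.app (op (pre ι W)) (eta ι F W s) =
    h.val.app (op (pre ι W)) (eta ι F W s)
  refine PullFlat.germP_section_ext _ _ fun z hz => ?_
  rw [← PullFlat.eta_naturality, ← PullFlat.stalkLinP_germ, ← hu z,
    evE_germ F G ι hflat (W := ⊤) (z := z) trivial φ le_top hz s]
  rfl

end Groth.Agent.Hens22.HensFull
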