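import Groth.Agent.Hens22.HensCoh
import Groth.Agent.FF71.Main
import Groth.Agent.Crv77.Sections

/-!
Global sections of coherent modules on a proper scheme and on its Henselization agree.
-/

set_option autoImplicit false
set_option maxSynthPendingDepth 6
set_option backward.isDefEq.respectTransparency.types false
universe u

noncomputable section

open AlgebraicGeometry CategoryTheory TopologicalSpace Opposite TensorProduct HensSch
open Groth.Agent.QC70 (germM germM_res germM_exist germM_smul stalkMapM stalkMapM_germ stalkLinear)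
open Groth.Agent.Hens22.PullFlat (pt anStalk anPsh germP pre eta theta psi)
open Groth.Agent.Hens22.StalkHens (cA Ix)

namespace Groth.Agent.Hens22.HensCoh

variable {A : Type u} [CommRing A] [IsNoetherianRing A] {X : Scheme.{u}}
  [X.Over (Spec (CommRingCat.of A))] [IsProper (X ↘ Spec (CommRingCat.of A))]
  (I : Ideal A) [HenselianRing A I] [IsAdicComplete I A]
  {Xh : LocallyRingedSpace.{u}} {ι : Xh ⟶ X.toLocallyRingedSpace}
  (hh : IsHenselizationAlong X
    ((X ↘ Spec (CommRingCat.of A)).base ⁻¹' PrimeSpectrum.zeroLocus (I : Set A)) Xh ι)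
include hh

omit [IsNoetherianRing A] [IsAdicComplete I A] in
theorem eta_injective (F : X.Modules) : Function.Injective (eta ι F ⊤) := by
  let η : Γ(F, ⊤) →+ ((pullMod ι).obj F).val.obj (op (pre ι ⊤)) :=
    AddMonoidHom.mk' (eta ι F ⊤) fun a b => PullFlat.eta_add ι F a b
  exact (injective_iff_map_eq_zero η).2 fun s hs => eta_eq_zero I hh F s hs

theorem eta_surjective {F : X.Modules} (hF : Coh.IsCoh F)
    (u : ((pullMod ι).obj F).val.obj (op (pre ι ⊤))) : ∃ s : Γ(F, ⊤), eta ι F ⊤ s = u := by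
  haveI := hF.1
  haveI := LocallyOfFiniteType.isLocallyNoetherian (X ↘ Spec (CommRingCat.of A))
  let un : ∀ n, ((pullMod ι).obj (Formal.modPow I n F)).val.obj (op (pre ι ⊤)) := fun n =>
    ((pullMod ι).map (Formal.modPowπ I n F)).val.app (op (pre ι ⊤)) u
  have hex : ∀ n, ∃ s, eta ι (Formal.modPow I (n + 1) F) ⊤ s = un (n + 1) := fun n =>
    eta_surjective_modPow I hh F (n + 1) (un (n + 1))
  choose sn hsn using hex
  let xn : ∀ n, Formal.HHmodPow I F 0 n := fun n => (Crv77.sec _).symm (sn n)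
  have hcompat : ∀ n, (Formal.modPowTrans I (n + 1) F).app ⊤ (sn (n + 1)) = sn n := by
    intro n
    refine eta_injective I hh _ ?_
    rw [PullFlat.eta_naturality, hsn, hsn]
    show (((pullMod ι).map (Formal.modPowπ I (n + 1 + 1) F)) ≫
      (pullMod ι).map (Formal.modPowTrans I (n + 1) F)).val.app (op (pre ι ⊤)) u = _
    have e := ((pullMod ι).map_comp (Formal.modPowπ I (n + 1 + 1) F)
      (Formal.modPowTrans I (n + 1) F)).symm.trans
      (congrArg (fun k => (pullMod ι).map k) (Formal.modPowπ_trans I (n + 1) F))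
    exact congrArg (fun k => k.val.app (op (pre ι ⊤)) u) e
  have hmem : xn ∈ Formal.HHlim I F 0 := fun n => (Crv77.sec _).injective (by
    refine (Crv77.sec_hmap A (Formal.modPowTrans I (n + 1) F) (xn (n + 1))).trans ?_
    show (Formal.modPowTrans I (n + 1) F).app ⊤ (Crv77.sec _ ((Crv77.sec _).symm (sn (n + 1)))) =
      Crv77.sec _ ((Crv77.sec _).symm (sn n))
    rw [AddEquiv.apply_symm_apply, AddEquiv.apply_symm_apply]
    exact hcompat n)
  obtain ⟨x, hx⟩ := (FF71.toHHlim_bijective I F hF 0).2 ⟨xn, hmem⟩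
  have hs : ∀ n, (Formal.modPowπ I (n + 1) F).app ⊤ (Crv77.sec F x) = sn n := by
    intro n
    refine ((Crv77.sec_hmap A (Formal.modPowπ I (n + 1) F) x).symm).trans ?_
    have h1 : Formal.toHHmodPow I F 0 n x = xn n := congrArg (fun w => w.1 n) hx
    exact (congrArg (Crv77.sec _) h1).trans ((Crv77.sec _).apply_symm_apply (sn n))
  refine ⟨Crv77.sec F x, ?_⟩
  refine PullFlat.germP_section_ext _ _ fun z hz => ?_
  obtain ⟨d₁, hd₁⟩ := PullFlat.theta_surjective ι F z
    (germP ((pullMod ι).obj F) (pre ι ⊤) z hz (eta ι F ⊤ (Crv77.sec F x)))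
  obtain ⟨d₂, hd₂⟩ := PullFlat.theta_surjective ι F z (germP ((pullMod ι).obj F) (pre ι ⊤) z hz u)
  rw [← hd₁, ← hd₂]
  refine congrArg _ (sub_eq_zero.1 ?_)
  haveI := finite_stalk hF (pt ι z)
  haveI := StalkHens.isNoetherianRing_stalk I hh z
  have hK := StalkHens.Ix_le_maximalIdeal I hh z
  have hne : (Ix I (pt ι z)).map (algebraMap _ (anStalk z)) ≠ ⊤ := fun h =>
    (IsLocalRing.maximalIdeal.isMaximal (anStalk z)).ne_top (top_le_iff.1 (h ▸ hK))
  rw [← Submodule.mem_bot (anStalk z), ← Ideal.iInf_pow_smul_eq_bot_of_isLocalRing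
    (M := anStalk z ⊗[X.presheaf.stalk (pt ι z)] F.presheaf.stalk (pt ι z)) _ hne, Submodule.mem_iInf]
  intro n
  have key : ∀ k, (stalkLinear (Formal.modPowπ I (k + 1) F) (pt ι z)).lTensor (anStalk z) (d₁ - d₂) = 0 := by
    intro k
    refine PullFlat.theta_injective ι _ z ?_
    rw [← PullFlat.theta_natural, map_zero, map_sub, map_sub, hd₁, hd₂,
      PullFlat.stalkLinP_germ, PullFlat.stalkLinP_germ, ← PullFlat.eta_naturality, hs, hsn, sub_self]
  have h2 := mem_smul_of_lTensor_eq_zero (K := Ix I (pt ι z) ^ (n + 1))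
    (stalkLinear (Formal.modPowπ I (n + 1) F) (pt ι z))
    (germM_surjective_modPowπ I F (n + 1) (pt ι z)) (stalk_ker I F (n + 1) (pt ι z)) (d₁ - d₂) (key n)
  rw [Ideal.map_pow] at h2
  exact Submodule.smul_mono_left (Ideal.pow_le_pow_right (Nat.le_succ n)) h2

theorem eta_bijective {F : X.Modules} (hF : Coh.IsCoh F) : Function.Bijective (eta ι F ⊤) :=
  ⟨eta_injective I hh F, eta_surjective I hh hF⟩

end Groth.Agent.Hens22.HensCoh
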