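import Groth.Agent.Hens22.SphBasic
import Mathlib.Topology.Sheaves.SheafCondition.UniqueGluing

/-!
On a Henselian scheme the sections vanishing everywhere form Henselian pairs.
-/

set_option autoImplicit false
universe u

open CategoryTheory Opposite TopologicalSpace AlgebraicGeometry HensSch TopCat Polynomial

noncomputable section

namespace Groth.Agent.Hens22.HensN

variable {Z : LocallyRingedSpace.{u}}

/-- The sections vanishing at every point. -/
def N (Z : LocallyRingedSpace.{u}) (W : Opens Z.toTopCat) : Ideal (Z.presheaf.obj (op W) : Type u) :=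
  ⨅ z : W, (IsLocalRing.maximalIdeal (Z.presheaf.stalk z.1)).comap (Z.presheaf.germ W z.1 z.2).hom

theorem mem_N {W : Opens Z.toTopCat} {s : Z.presheaf.obj (op W)} :
    s ∈ N Z W ↔ ∀ (z : Z) (hz : z ∈ W), ¬ IsUnit (Z.presheaf.germ W z hz s) := by
  simp only [N, Ideal.mem_iInf, Ideal.mem_comap]
  exact ⟨fun h z hz => h ⟨z, hz⟩, fun h z => h z.1 z.2⟩

theorem mem_N_iff_basicOpen {W : Opens Z.toTopCat} {s : Z.presheaf.obj (op W)} :
    s ∈ N Z W ↔ Z.toRingedSpace.basicOpen s = ⊥ := by
  rw [mem_N]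
  constructor
  · intro h
    refine Opens.ext (Set.ext fun z => ⟨fun hz => ?_, fun hz => hz.elim⟩)
    obtain ⟨hzW, hu⟩ := hz
    exact absurd hu (h z hzW)
  · intro h z hz hu
    have : z ∈ Z.toRingedSpace.basicOpen s := ⟨hz, hu⟩
    rw [h] at this
    exact this.elim

theorem isUnit_iff_germ {W : Opens Z.toTopCat} {s : Z.presheaf.obj (op W)} :
    IsUnit s ↔ ∀ (z : Z) (hz : z ∈ W), IsUnit (Z.presheaf.germ W z hz s) :=
  ⟨fun h z hz => h.map _, fun h => Z.toRingedSpace.isUnit_of_isUnit_germ W s h⟩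

theorem jac_N (W : Opens Z.toTopCat) : N Z W ≤ Ideal.jacobson ⊥ := fun s hs => by
  refine Ideal.mem_jacobson_bot.2 fun y => ?_
  rw [isUnit_iff_germ]
  intro z hz
  have hm : Z.presheaf.germ W z hz s ∈ IsLocalRing.maximalIdeal _ :=
    (IsLocalRing.mem_maximalIdeal _).2 (mem_N.1 hs z hz)
  rw [map_add, map_mul, map_one]
  refine IsLocalRing.notMem_maximalIdeal.1 fun h => ?_
  have h1 := sub_mem h (Ideal.mul_mem_right (Z.presheaf.germ W z hz y) _ hm)
  rw [add_sub_cancel_left] at h1
  exact (IsLocalRing.maximalIdeal.isMaximal _).ne_top ((Ideal.eq_top_iff_one _).2 h1)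

theorem N_res {V W : Opens Z.toTopCat} (h : W ≤ V) {s : Z.presheaf.obj (op V)} (hs : s ∈ N Z V) :
    Z.presheaf.map (homOfLE h).op s ∈ N Z W := by
  rw [mem_N]
  intro z hz
  rw [Z.presheaf.germ_res_apply]
  exact mem_N.1 hs z (h hz)

/-- Simple roots lift, as a property of an open. -/
def HasRoots (W : Opens Z.toTopCat) : Prop :=
  ∀ (p : (Z.presheaf.obj (op W) : Type u)[X]) (a₀ : Z.presheaf.obj (op W)), p.Monic →
    p.eval a₀ ∈ N Z W → IsUnit (p.derivative.eval a₀) → ∃ a, p.eval a = 0 ∧ a - a₀ ∈ N Z W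

theorem henselianRing_of_hasRoots {W : Opens Z.toTopCat} (h : HasRoots W) :
    HenselianRing (Z.presheaf.obj (op W) : Type u) (N Z W) where
  jac := jac_N W
  is_henselian p hp a₀ h₁ h₂ := h p a₀ hp h₁ (isUnit_of_map_isUnit (jac_N W) h₂)

theorem root_unique {W : Opens Z.toTopCat} (p : (Z.presheaf.obj (op W) : Type u)[X])
    {a₀ a b : Z.presheaf.obj (op W)} (hd : IsUnit (p.derivative.eval a₀)) (ha : p.eval a = 0)
    (hb : p.eval b = 0) (haN : a - a₀ ∈ N Z W) (hbN : b - a₀ ∈ N Z W) : a = b := by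
  obtain ⟨k, hk⟩ := p.binomExpansion a (b - a)
  rw [add_sub_cancel, ha, hb, zero_add, show p.derivative.eval a * (b - a) + k * (b - a) ^ 2 =
    (b - a) * (p.derivative.eval a + k * (b - a)) by ring] at hk
  have hN : (p.derivative.eval a + k * (b - a)) - p.derivative.eval a₀ ∈ N Z W := by
    rw [add_sub_right_comm]
    refine add_mem ?_ (Ideal.mul_mem_left _ _ ?_)
    · obtain ⟨c, hc⟩ := p.derivative.evalSubFactor a a₀
      rw [hc]
      exact Ideal.mul_mem_left _ _ haN
    · simpa using sub_mem hbN haN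
  have hu : IsUnit (p.derivative.eval a + k * (b - a)) :=
    isUnit_of_map_isUnit (I := N Z W) (jac_N W) (by
      rw [Ideal.Quotient.eq.2 hN]
      exact hd.map _)
  exact (sub_eq_zero.1 ((hu.mul_left_eq_zero).1 hk.symm)).symm

theorem hasRoots_of_cover {W : Opens Z.toTopCat}
    (h : ∀ z ∈ W, ∃ V ≤ W, z ∈ V ∧ HasRoots V) : HasRoots W := by
  intro p a₀ hp h₁ h₂
  choose V hVW hzV hV using fun z : W => h z.1 z.2
  let r : ∀ z : W, (Z.presheaf.obj (op W) : Type u) →+* (Z.presheaf.obj (op (V z)) : Type u) :=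
    fun z => (Z.presheaf.map (homOfLE (hVW z)).op).hom
  have hroot := fun z : W => hV z (p.map (r z)) (r z a₀) (hp.map _)
    (by rw [Polynomial.eval_map_apply]; exact N_res (hVW z) h₁)
    (by rw [Polynomial.derivative_map, Polynomial.eval_map_apply]; exact h₂.map _)
  choose a ha haN using hroot
  obtain ⟨t₀, ht, -⟩ := Z.sheaf.existsUnique_gluing' V W (fun z => homOfLE (hVW z))
    (fun z hz => Opens.mem_iSup.2 ⟨⟨z, hz⟩, hzV ⟨z, hz⟩⟩) a (fun i j => by
      let W' := V i ⊓ V j
      let ri : (Z.presheaf.obj (op (V i)) : Type u) →+* (Z.presheaf.obj (op W') : Type u) :=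
        (Z.presheaf.map (homOfLE inf_le_left).op).hom
      let rj : (Z.presheaf.obj (op (V j)) : Type u) →+* (Z.presheaf.obj (op W') : Type u) :=
        (Z.presheaf.map (homOfLE inf_le_right).op).hom
      have hcomp : ri.comp (r i) = rj.comp (r j) := RingHom.ext fun s => by
        show Z.presheaf.map _ (Z.presheaf.map _ s) = Z.presheaf.map _ (Z.presheaf.map _ s)
        rw [← CommRingCat.comp_apply, ← CommRingCat.comp_apply, ← Z.presheaf.map_comp, ← Z.presheaf.map_comp]
        rfl
      have ea := RingHom.congr_fun hcomp a₀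
      simp only [RingHom.comp_apply] at ea
      show ri (a i) = rj (a j)
      refine root_unique (p.map (ri.comp (r i))) (a₀ := ri (r i a₀)) ?_ ?_ ?_ ?_ ?_
      · rw [Polynomial.derivative_map, ← RingHom.comp_apply, Polynomial.eval_map_apply]
        exact h₂.map _
      · rw [← Polynomial.map_map, Polynomial.eval_map_apply, ha, map_zero]
      · rw [hcomp, ← Polynomial.map_map, Polynomial.eval_map_apply, ha, map_zero]
      · rw [← map_sub]
        exact N_res inf_le_left (haN i)
      · rw [ea, ← map_sub]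
        exact N_res inf_le_right (haN j))
  let t : (Z.presheaf.obj (op W) : Type u) := t₀
  refine ⟨t, ?_, ?_⟩
  · refine TopCat.Presheaf.section_ext Z.sheaf W _ _ fun z hz => ?_
    show Z.presheaf.germ W z hz (p.eval t) = Z.presheaf.germ W z hz 0
    rw [map_zero, ← Z.presheaf.germ_res_apply (homOfLE (hVW ⟨z, hz⟩)) z (hzV ⟨z, hz⟩)]
    show Z.presheaf.germ _ z _ (r ⟨z, hz⟩ (p.eval t)) = 0
    rw [← Polynomial.eval_map_apply, show r ⟨z, hz⟩ t = a ⟨z, hz⟩ from ht ⟨z, hz⟩, ha, map_zero]
  · rw [mem_N]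
    intro z hz
    rw [← Z.presheaf.germ_res_apply (homOfLE (hVW ⟨z, hz⟩)) z (hzV ⟨z, hz⟩)]
    show ¬ IsUnit (Z.presheaf.germ _ z _ (r ⟨z, hz⟩ (t - a₀)))
    rw [map_sub, show r ⟨z, hz⟩ t = a ⟨z, hz⟩ from ht ⟨z, hz⟩]
    exact mem_N.1 (haN ⟨z, hz⟩) z _

/-- On an affine Henselian spectrum. -/
theorem N_eq_radical {A : Type u} [CommRing A] {I : Ideal A} {U : LocallyRingedSpace.{u}}
    {π : U ⟶ specLRS A} (hU : IsSph A I U π) (f : A) :
    N U (dOpen π f) = (I.map (secMap π (PrimeSpectrum.basicOpen f))).radical := by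
  have hle : I.map (secMap π (PrimeSpectrum.basicOpen f)) ≤ N U (dOpen π f) := by
    rw [Ideal.map_le_iff_le_comap]
    intro a ha
    rw [Ideal.mem_comap, mem_N]
    intro z hz
    rw [Sph.germ_secMap]
    exact Sph.not_isUnit_stk hU z ha
  refine le_antisymm (fun s hs => ?_) (fun s hs => ?_)
  · obtain ⟨a, n, h⟩ := Sph.away_rep (hU.2.2 f) s
    have hfa : f * a ∈ I.radical := by
      rw [← PrimeSpectrum.vanishingIdeal_zeroLocus_eq_radical, PrimeSpectrum.mem_vanishingIdeal]
      intro q hq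
      obtain ⟨x, rfl⟩ := hU.2.1.symm ▸ hq
      by_contra hne
      have hu : IsUnit (Sph.stk π x (f * a)) := (Sph.isUnit_stk_iff π x _).2 hne
      rw [map_mul, IsUnit.mul_iff] at hu
      have hx : x ∈ dOpen π f := (Sph.isUnit_stk_iff π x f).1 hu.1
      have h1 := hle h
      rw [mem_N] at h1
      have h2 := (IsLocalRing.mem_maximalIdeal _).2 (h1 x hx)
      have h3 : U.presheaf.germ _ x hx s ∈ IsLocalRing.maximalIdeal _ :=
        (IsLocalRing.mem_maximalIdeal _).2 (mem_N.1 hs x hx)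
      rw [map_sub, map_mul, map_pow, Sph.germ_secMap, Sph.germ_secMap] at h2
      have h4 := sub_mem (Ideal.mul_mem_left _ (Sph.stk π x f ^ n) h3) h2
      rw [sub_sub_cancel] at h4
      exact (IsLocalRing.mem_maximalIdeal _).1 h4 hu.2
    let φ := secMap π (PrimeSpectrum.basicOpen f)
    have h1 : φ f * φ a ∈ (I.map φ).radical := by
      rw [← map_mul]
      exact Ideal.map_radical_le φ (Ideal.mem_map_of_mem φ hfa)
    have hu : IsUnit (φ f) := (hU.2.2 f).1
    rw [Ideal.unit_mul_mem_iff_mem _ hu] at h1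
    have h2 := add_mem (Ideal.le_radical h) h1
    rw [sub_add_cancel, Ideal.unit_mul_mem_iff_mem _ (hu.pow n)] at h2
    exact h2
  · obtain ⟨k, hk⟩ := hs
    rw [mem_N]
    intro z hz hu
    exact mem_N.1 (hle hk) z hz (by rw [map_pow]; exact hu.pow k)

theorem hasRoots_dOpen {A : Type u} [CommRing A] {I : Ideal A} {U : LocallyRingedSpace.{u}}
    {π : U ⟶ specLRS A} (hU : IsSph A I U π) (f : A) : HasRoots (dOpen π f) := by
  intro p a₀ hp h₁ h₂
  have := (hU.2.2 f).2.1
  have := henselianRing_radical (I.map (secMap π (PrimeSpectrum.basicOpen f)))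
  rw [N_eq_radical hU f] at h₁ ⊢
  exact HenselianRing.is_henselian p hp a₀ h₁ (h₂.map _)

theorem basicOpen_map_eqToHom {U : LocallyRingedSpace.{u}} {V W : Opens U.toTopCat} (e : V = W)
    (s : U.presheaf.obj (op V)) :
    U.toRingedSpace.basicOpen (U.presheaf.map (eqToHom (congrArg op e)) s) = U.toRingedSpace.basicOpen s := by
  subst e
  simp

/-- Henselian schemes have roots on every open. -/
theorem hasRoots_of_isHensScheme (hZ : IsHensScheme Z) (W : Opens Z.toTopCat) : HasRoots W := by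
  refine hasRoots_of_cover fun z hz => ?_
  obtain ⟨U, i, _, hzi, A, _, I, π, _, -, hU⟩ := hZ z
  obtain ⟨u, rfl⟩ := hzi
  obtain ⟨f, huf, hfW⟩ := Sph.exists_dOpen hU (U := (Opens.map i.base).obj W) (x := u) hz
  let D : Opens Z.toTopCat := (LocallyRingedSpace.IsOpenImmersion.opensFunctor i).obj (dOpen π f)
  refine ⟨D, fun y hy => by obtain ⟨x, hx, rfl⟩ := hy; exact hfW hx, ⟨u, huf, rfl⟩, ?_⟩
  have hpre : dOpen π f = (Opens.map i.base).obj D :=
    (Opens.ext (Set.preimage_image_eq _
      (PresheafedSpace.IsOpenImmersion.base_open (f := i.toHom)).injective)).symm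
  let e : (U.presheaf.obj (op (dOpen π f)) : Type u) ≃+* (Z.presheaf.obj (op D) : Type u) :=
    (asIso (LocallyRingedSpace.IsOpenImmersion.invApp i (dOpen π f))).commRingCatIsoToRingEquiv
  have he : ∀ s : U.presheaf.obj (op (dOpen π f)), e s ∈ N Z D ↔ s ∈ N U (dOpen π f) := by
    intro s
    have h1 : (Opens.map i.base).obj (Z.toRingedSpace.basicOpen (e s)) =
        U.toRingedSpace.basicOpen s := by
      rw [LocallyRingedSpace.preimage_basicOpen]
      have h2 : i.c.app (op D) (e s) = U.presheaf.map (eqToHom (congrArg op hpre)) s := by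
        show (LocallyRingedSpace.IsOpenImmersion.invApp i (dOpen π f) ≫ i.c.app (op D)) s = _
        rw [LocallyRingedSpace.IsOpenImmersion.invApp_app]
      erw [h2]
      exact basicOpen_map_eqToHom hpre s
    rw [mem_N_iff_basicOpen, mem_N_iff_basicOpen, ← h1]
    constructor
    · intro h
      rw [h]
      rfl
    · intro h
      refine Opens.ext (Set.ext fun y => ⟨fun hy => ?_, fun hy => hy.elim⟩)
      obtain ⟨x, -, rfl⟩ := (Z.toRingedSpace.basicOpen_le (e s)) hy
      have hx : x ∈ (Opens.map i.base).obj (Z.toRingedSpace.basicOpen (e s)) := hy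
      rw [h] at hx
      exact hx.elim
  intro p a₀ hp h₁ h₂
  obtain ⟨a, ha, haN⟩ := hasRoots_dOpen hU f (p.map e.symm.toRingHom) (e.symm a₀) (hp.map _) (by
      rw [← he, show e.symm a₀ = e.symm.toRingHom a₀ from rfl, Polynomial.eval_map_apply]
      simpa using h₁) (by
      rw [Polynomial.derivative_map, show e.symm a₀ = e.symm.toRingHom a₀ from rfl,
        Polynomial.eval_map_apply]
      exact h₂.map _)
  refine ⟨e a, e.symm.injective ?_, ?_⟩
  · rw [map_zero]
    show e.symm.toRingHom (p.eval (e a)) = 0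
    rw [← Polynomial.eval_map_apply]
    simpa using ha
  · rw [← he, map_sub] at haN
    simpa using haN

end Groth.Agent.Hens22.HensN
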