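import Groth.Agent.Hens22.PairOps
import Mathlib.RingTheory.Etale.Basic

/-!
Henselian finitely presented maps: quotients and descent of finite data.
-/

set_option autoImplicit false
universe u

noncomputable section

namespace Groth.Agent.Hens22

variable {A : Type u} [CommRing A] {I : Ideal A}

/-- A quotient of a henselization by a finitely generated ideal is a henselization of a finitely
presented algebra. -/
theorem exists_fp_of_quotient {R P B : Type u} [CommRing R] [CommRing P] [CommRing B]
    [Algebra A R] [Algebra R P] [Algebra A P] [IsScalarTower A R P] [Algebra A B]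
    [Algebra.FinitePresentation A R]
    (hP : Hens2.IsPairHenselization R (I.map (algebraMap A R)) P) (φ : P →ₐ[A] B)
    (hφ : Function.Surjective φ) (hfg : (RingHom.ker φ).FG) :
    ∃ (T : Type u) (_ : CommRing T) (_ : Algebra A T) (_ : Algebra T B) (_ : IsScalarTower A T B),
      Algebra.FinitePresentation A T ∧ Hens2.IsPairHenselization T (I.map (algebraMap A T)) B := by
  classical
  obtain ⟨m, k, hk⟩ := Submodule.fg_iff_exists_fin_generating_family.1 hfg
  obtain ⟨R', _, _, _, hR', ι, s, hs⟩ := exists_stage hP k
  let _ : Algebra R' P := ι.toRingHom.toAlgebra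
  have : IsScalarTower R R' P := IsScalarTower.of_algebraMap_eq fun r => (ι.commutes r).symm
  let _ : Algebra A R' := ((algebraMap R R').comp (algebraMap A R)).toAlgebra
  have : IsScalarTower A R R' := IsScalarTower.of_algebraMap_eq fun _ => rfl
  have : IsScalarTower A R' P := IsScalarTower.of_algebraMap_eq fun a => by
    rw [IsScalarTower.algebraMap_apply A R P, IsScalarTower.algebraMap_apply A R R',
      ← IsScalarTower.algebraMap_apply R R' P]
  have : Algebra.FinitePresentation A R' := Algebra.FinitePresentation.trans A R R'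
  have hP' : Hens2.IsPairHenselization R' (I.map (algebraMap A R')) P := by
    have := isPairHenselization_of_bijective hP R' hR'
    rwa [Ideal.map_map, ← IsScalarTower.algebraMap_eq] at this
  let K : Ideal R' := Ideal.span (Set.range s)
  have hKk : RingHom.ker φ = K.map (algebraMap R' P) := by
    rw [Ideal.map_span, ← Set.range_comp, ← hk]
    congr 1
    exact congrArg Set.range (funext fun i => (hs i).symm)
  let ψ : R' ⧸ K →ₐ[A] B := Ideal.Quotient.liftₐ K (φ.comp (IsScalarTower.toAlgHom A R' P))
    (fun x hx => RingHom.mem_ker.1 (hKk ▸ Ideal.mem_map_of_mem (algebraMap R' P) hx : _ ∈ RingHom.ker φ))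
  let _ : Algebra (R' ⧸ K) B := ψ.toRingHom.toAlgebra
  refine ⟨R' ⧸ K, inferInstance, inferInstance, inferInstance,
    IsScalarTower.of_algebraMap_eq fun a => (ψ.commutes a).symm,
    Algebra.FinitePresentation.quotient ⟨Finset.univ.image s, by simp [K]⟩, ?_⟩
  have h := isPairHenselization_quotient hP' K (Ideal.Quotient.mk K) φ.toRingHom
    Ideal.Quotient.mk_surjective Ideal.mk_ker hφ hKk (RingHom.ext fun x => rfl)
  rwa [Ideal.map_map] at h

/-- Henselizations of finitely presented algebras are quotients of henselized polynomial rings. -/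
theorem exists_presentation_of_fp {R B : Type u} [CommRing R] [CommRing B]
    [Algebra A R] [Algebra R B] [Algebra A B] [IsScalarTower A R B]
    [Algebra.FinitePresentation A R]
    (hB : Hens2.IsPairHenselization R (I.map (algebraMap A R)) B) :
    ∃ (n : ℕ) (P : Type u) (_ : CommRing P) (_ : Algebra (MvPolynomial (Fin n) A) P) (_ : Algebra A P)
      (_ : IsScalarTower A (MvPolynomial (Fin n) A) P),
      Hens2.IsPairHenselization (MvPolynomial (Fin n) A)
        (I.map (algebraMap A (MvPolynomial (Fin n) A))) P ∧
      ∃ φ : P →ₐ[A] B, Function.Surjective φ ∧ (RingHom.ker φ).FG := by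
  obtain ⟨n, p, hp, hfg⟩ := Algebra.FinitePresentation.out (R := A) (A := R)
  set Q := MvPolynomial (Fin n) A
  obtain ⟨P, _, _, hP, -⟩ := exists_isPairHenselization (I.map (algebraMap A Q))
  let _ : Algebra A P := ((algebraMap Q P).comp (algebraMap A Q)).toAlgebra
  have : IsScalarTower A Q P := IsScalarTower.of_algebraMap_eq fun _ => rfl
  let K := RingHom.ker p.toRingHom
  let _ : Algebra R (P ⧸ K.map (algebraMap Q P)) :=
    ((Ideal.quotientMap (K.map (algebraMap Q P)) (algebraMap Q P) Ideal.le_comap_map).comp
      (Ideal.quotientKerAlgEquivOfSurjective hp).symm.toRingEquiv.toRingHom).toAlgebra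
  have hcomm : (Ideal.Quotient.mk (K.map (algebraMap Q P))).comp (algebraMap Q P) =
      (algebraMap R (P ⧸ K.map (algebraMap Q P))).comp p.toRingHom := RingHom.ext fun x => by
    show _ = Ideal.quotientMap (K.map (algebraMap Q P)) (algebraMap Q P) Ideal.le_comap_map
      ((Ideal.quotientKerAlgEquivOfSurjective hp).symm (p x))
    rw [show (Ideal.quotientKerAlgEquivOfSurjective hp).symm (p x) = Ideal.Quotient.mk _ x from
      (AlgEquiv.symm_apply_eq _).2 rfl]
    rfl
  have h := isPairHenselization_quotient hP K p.toRingHom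
    (Ideal.Quotient.mk (K.map (algebraMap Q P))) hp rfl Ideal.Quotient.mk_surjective Ideal.mk_ker
    hcomm
  rw [Ideal.map_map, show p.toRingHom.comp (algebraMap A Q) = algebraMap A R from p.comp_algebraMap] at h
  obtain ⟨e⟩ := exists_algEquiv h hB
  let φ : P →ₐ[A] B :=
    { e.toRingEquiv.toRingHom.comp (Ideal.Quotient.mk (K.map (algebraMap Q P))) with
      commutes' := fun a => by
        show e (Ideal.Quotient.mk (K.map (algebraMap Q P)) (algebraMap Q P (algebraMap A Q a))) = _
        rw [show Ideal.Quotient.mk (K.map (algebraMap Q P)) (algebraMap Q P (algebraMap A Q a)) =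
            algebraMap R _ (p (algebraMap A Q a)) from RingHom.congr_fun hcomm _,
          AlgHom.commutes, AlgEquiv.commutes, ← IsScalarTower.algebraMap_apply] }
  refine ⟨n, P, inferInstance, inferInstance, inferInstance, inferInstance, hP, φ,
    e.surjective.comp Ideal.Quotient.mk_surjective, ?_⟩
  have hker : RingHom.ker φ = K.map (algebraMap Q P) := by
    ext x
    rw [RingHom.mem_ker]
    show e (Ideal.Quotient.mk _ x) = 0 ↔ _
    rw [EmbeddingLike.map_eq_zero_iff, Ideal.Quotient.eq_zero_iff_mem]
  rw [hker]
  exact hfg.map _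

/-- The henselization of a base change along a henselization. -/
theorem isPairHenselization_of_pushout {R B S C : Type u} [CommRing R] [CommRing B] [CommRing S]
    [CommRing C] [Algebra A R] [Algebra R B] [Algebra R S] [Algebra A S] [IsScalarTower A R S]
    [Algebra S C] [Algebra B C] [Algebra R C] [IsScalarTower R B C] [IsScalarTower R S C]
    (hB : Hens2.IsPairHenselization R (I.map (algebraMap A R)) B)
    (hhens : HenselianRing C ((I.map (algebraMap A S)).map (algebraMap S C)))
    (huniv : ∀ (D : Type u) [CommRing D] (L : Ideal D), HenselianRing D L →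
      ∀ (g : B →+* D) (f : S →+* D), f.comp (algebraMap R S) = g.comp (algebraMap R B) →
        I.map (f.comp (algebraMap A S)) ≤ L →
        ∃! h : C →+* D, h.comp (algebraMap B C) = g ∧ h.comp (algebraMap S C) = f) :
    Hens2.IsPairHenselization S (I.map (algebraMap A S)) C := by
  refine ⟨hhens, fun D _ L f hD hL => ?_⟩
  rw [Ideal.map_map] at hL
  have hR : (I.map (algebraMap A R)).map (f.comp (algebraMap R S)) ≤ L := by
    rwa [Ideal.map_map, RingHom.comp_assoc, ← IsScalarTower.algebraMap_eq]
  obtain ⟨g, hg, hgu⟩ := hB.2 D L (f.comp (algebraMap R S)) hD hR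
  obtain ⟨h, ⟨hh1, hh2⟩, hhu⟩ := huniv D L hD g f hg.symm hL
  refine ⟨h, hh2, fun h' hh' => hhu h' ⟨hgu _ ?_, hh'⟩⟩
  show (h'.comp (algebraMap B C)).comp (algebraMap R B) = f.comp (algebraMap R S)
  rw [RingHom.comp_assoc, ← IsScalarTower.algebraMap_eq, IsScalarTower.algebraMap_eq R S C,
    ← RingHom.comp_assoc, hh']

end Groth.Agent.Hens22
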