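import Groth.Agent.Hens22.Hfp
import Mathlib.RingTheory.FinitePresentation
import Mathlib.RingTheory.MvPolynomial.Basic

/-!
Composition of henselian finitely presented maps, and maps between them.
-/

set_option autoImplicit false
universe u

noncomputable section

open TensorProduct

namespace Groth.Agent.Hens22

variable {A : Type u} [CommRing A] {I : Ideal A}

/-- A finite set of elements of the henselization comes from one trivial etale neighbourhood. -/
theorem exists_stage_finset {R : Type u} [CommRing R] {J : Ideal R} {B : Type u} [CommRing B]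
    [Algebra R B] (hB : Hens2.IsPairHenselization R J B) (s : Finset B) :
    ∃ (R' : Type u) (_ : CommRing R') (_ : Algebra R R') (_ : Algebra.Etale R R'),
      Function.Bijective
        (Ideal.quotientMap (J.map (algebraMap R R')) (algebraMap R R') Ideal.le_comap_map) ∧
      ∃ φ : R' →ₐ[R] B, (s : Set B) ⊆ Set.range φ := by
  obtain ⟨R', a, b, c, h, φ, t, ht⟩ := exists_stage hB (fun i => (s.equivFin.symm i : B))
  refine ⟨R', a, b, c, h, φ, fun x hx => ⟨t (s.equivFin ⟨x, hx⟩), ?_⟩⟩
  rw [ht]; simp

/-- A finitely presented algebra over a henselization descends. -/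
theorem exists_fp_of_pairHens_fp {R B S C : Type u} [CommRing R] [CommRing B] [CommRing S] [CommRing C]
    [Algebra A R] [Algebra.FinitePresentation A R] [Algebra R B] [Algebra A B] [IsScalarTower A R B]
    [Algebra B S] [Algebra A S] [IsScalarTower A B S] [Algebra.FinitePresentation B S]
    [Algebra S C] [Algebra B C] [Algebra A C] [IsScalarTower B S C] [IsScalarTower A B C]
    (hB : Hens2.IsPairHenselization R (I.map (algebraMap A R)) B)
    (hC : Hens2.IsPairHenselization S (I.map (algebraMap A S)) C) :
    ∃ (T : Type u) (_ : CommRing T) (_ : Algebra A T) (_ : Algebra T C) (_ : IsScalarTower A T C),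
      Algebra.FinitePresentation A T ∧ Hens2.IsPairHenselization T (I.map (algebraMap A T)) C := by
  classical
  obtain ⟨n, p, hp, G, hG⟩ := Algebra.FinitePresentation.out (R := B) (A := S)
  obtain ⟨R', _, _, _, hR', φ, hcoe⟩ :=
    exists_stage_finset hB (G.biUnion fun g => MvPolynomial.coeffs g)
  let _ : Algebra R' B := φ.toRingHom.toAlgebra
  have : IsScalarTower R R' B := IsScalarTower.of_algebraMap_eq fun r => (φ.commutes r).symm
  let _ : Algebra A R' := ((algebraMap R R').comp (algebraMap A R)).toAlgebra
  have : IsScalarTower A R R' := IsScalarTower.of_algebraMap_eq fun _ => rfl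
  have : IsScalarTower A R' B := IsScalarTower.of_algebraMap_eq fun a => by
    rw [IsScalarTower.algebraMap_apply A R B, IsScalarTower.algebraMap_apply A R R',
      ← IsScalarTower.algebraMap_apply R R' B]
  have : Algebra.FinitePresentation A R' := Algebra.FinitePresentation.trans A R R'
  have hB' : Hens2.IsPairHenselization R' (I.map (algebraMap A R')) B := by
    have := isPairHenselization_of_bijective hB R' hR'
    rwa [Ideal.map_map, ← IsScalarTower.algebraMap_eq] at this
  have hlift : ∀ g ∈ G, ∃ g' : MvPolynomial (Fin n) R', MvPolynomial.map (algebraMap R' B) g' = g := by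
    intro g hg
    refine MvPolynomial.mem_range_map_iff_coeffs_subset.2 fun c hc => hcoe ?_
    exact Finset.mem_coe.2 (Finset.mem_biUnion.2 ⟨g, hg, hc⟩)
  choose g' hg' using hlift
  let K : Ideal (MvPolynomial (Fin n) R') := Ideal.span (Set.range fun g : G => g' g.1 g.2)
  let ev : MvPolynomial (Fin n) R' →+* S := p.toRingHom.comp (MvPolynomial.map (algebraMap R' B))
  have hevK : ∀ x ∈ K, ev x = 0 := by
    intro x hx
    have h1 : K ≤ RingHom.ker ev := Ideal.span_le.2 fun y hy => by
      obtain ⟨g, rfl⟩ := hy
      show p (MvPolynomial.map (algebraMap R' B) (g' g.1 g.2)) = 0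
      rw [hg']
      exact RingHom.mem_ker.1 (hG ▸ Ideal.subset_span g.2 : _ ∈ RingHom.ker p.toRingHom)
    exact h1 hx
  let _ : Algebra (MvPolynomial (Fin n) R' ⧸ K) S := (Ideal.Quotient.lift K ev hevK).toAlgebra
  let _ : Algebra (MvPolynomial (Fin n) R' ⧸ K) C :=
    ((algebraMap S C).comp (Ideal.Quotient.lift K ev hevK)).toAlgebra
  let _ : Algebra R' C := ((algebraMap B C).comp (algebraMap R' B)).toAlgebra
  have : IsScalarTower R' B C := IsScalarTower.of_algebraMap_eq fun _ => rfl
  have hev : ∀ r : R', ev (MvPolynomial.C r) = algebraMap B S (algebraMap R' B r) := fun r => by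
    show p (MvPolynomial.map (algebraMap R' B) (MvPolynomial.C r)) = _
    rw [MvPolynomial.map_C]; exact p.commutes _
  have : IsScalarTower R' (MvPolynomial (Fin n) R' ⧸ K) C := IsScalarTower.of_algebraMap_eq
      (R := R') (S := MvPolynomial (Fin n) R' ⧸ K) (A := C) fun r => by
    show algebraMap B C (algebraMap R' B r) = algebraMap S C (ev (MvPolynomial.C r))
    rw [hev, IsScalarTower.algebraMap_apply B S C]
  have hAC : ∀ a, algebraMap A C a = algebraMap (MvPolynomial (Fin n) R' ⧸ K) C
      (algebraMap A (MvPolynomial (Fin n) R' ⧸ K) a) := fun a => by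
    rw [IsScalarTower.algebraMap_apply A R' (MvPolynomial (Fin n) R' ⧸ K) a,
      ← IsScalarTower.algebraMap_apply R' (MvPolynomial (Fin n) R' ⧸ K) C,
      IsScalarTower.algebraMap_apply A B C, IsScalarTower.algebraMap_apply A R' B,
      IsScalarTower.algebraMap_apply R' B C]
  have : IsScalarTower A (MvPolynomial (Fin n) R' ⧸ K) C := IsScalarTower.of_algebraMap_eq hAC
  have hfp : Algebra.FinitePresentation A (MvPolynomial (Fin n) R' ⧸ K) := by
    have : Algebra.FinitePresentation R' (MvPolynomial (Fin n) R' ⧸ K) :=
      Algebra.FinitePresentation.quotient ⟨Finset.univ.image (fun g : G => g' g.1 g.2), by simp [K]⟩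
    exact Algebra.FinitePresentation.trans A R' _
  refine ⟨_, inferInstance, inferInstance, inferInstance, inferInstance, hfp, ?_⟩
  refine isPairHenselization_of_pushout hB' ?_ fun D _ L hD g f hfg hL => ?_
  · have := hC.1
    have hScomp : (algebraMap S C).comp (algebraMap A S) = algebraMap A C := RingHom.ext fun a => by
      rw [RingHom.comp_apply, IsScalarTower.algebraMap_apply A B S,
        ← IsScalarTower.algebraMap_apply B S C, ← IsScalarTower.algebraMap_apply]
    rwa [Ideal.map_map, hScomp,
      show algebraMap A C = (algebraMap (MvPolynomial (Fin n) R' ⧸ K) C).comp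
        (algebraMap A (MvPolynomial (Fin n) R' ⧸ K)) from RingHom.ext hAC, ← Ideal.map_map] at this
  · let x : Fin n → D := fun i => f (Ideal.Quotient.mk K (MvPolynomial.X i))
    have hev₂ : (MvPolynomial.eval₂Hom g x).comp (MvPolynomial.map (algebraMap R' B)) =
        f.comp (Ideal.Quotient.mk K) := by
      refine MvPolynomial.ringHom_ext (fun r => ?_) fun i => ?_
      · simp only [RingHom.comp_apply, MvPolynomial.map_C, MvPolynomial.eval₂Hom_C]
        exact (RingHom.congr_fun hfg r).symm
      · simp [x]
    have hker : RingHom.ker p.toRingHom ≤ RingHom.ker (MvPolynomial.eval₂Hom g x) := by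
      rw [← hG, Submodule.span_le]
      intro q hq
      rw [SetLike.mem_coe, RingHom.mem_ker, ← hg' q hq]
      refine (RingHom.congr_fun hev₂ _).trans ?_
      rw [RingHom.comp_apply, Ideal.Quotient.eq_zero_iff_mem.2 (Ideal.subset_span (Set.mem_range_self (⟨q, hq⟩ : G))),
        map_zero]
    let fS : S →+* D := RingHom.liftOfSurjective p.toRingHom hp ⟨_, hker⟩
    have hfS : ∀ q, fS (p q) = MvPolynomial.eval₂Hom g x q :=
      fun q => RingHom.liftOfRightInverse_comp_apply _ _ _ _ q
    have hfSB : fS.comp (algebraMap B S) = g := RingHom.ext fun b => by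
      rw [RingHom.comp_apply, ← p.commutes, hfS]; simp
    obtain ⟨h, hh, hhu⟩ := hC.2 D L fS hD (by
      rw [Ideal.map_map, IsScalarTower.algebraMap_eq A B S, ← RingHom.comp_assoc, hfSB,
        IsScalarTower.algebraMap_eq A R' B, ← RingHom.comp_assoc, ← hfg, RingHom.comp_assoc,
        ← IsScalarTower.algebraMap_eq]
      exact hL)
    refine ⟨h, ⟨?_, ?_⟩, fun k hk => hhu k ?_⟩
    · rw [IsScalarTower.algebraMap_eq B S C, ← RingHom.comp_assoc, hh, hfSB]
    · refine Ideal.Quotient.ringHom_ext (RingHom.ext fun q => ?_)
      show h (algebraMap S C (ev q)) = f (Ideal.Quotient.mk K q)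
      rw [show h (algebraMap S C (ev q)) = fS (ev q) from RingHom.congr_fun hh _]
      exact (hfS _).trans (RingHom.congr_fun hev₂ q)
    · refine RingHom.ext fun s => ?_
      obtain ⟨q, rfl⟩ := hp s
      rw [hfS]
      refine RingHom.congr_fun (MvPolynomial.ringHom_ext (f := (k.comp (algebraMap S C)).comp p.toRingHom)
        (g := MvPolynomial.eval₂Hom g x) (fun b => ?_) fun i => ?_) q
      · show k (algebraMap S C (p (algebraMap B _ b))) = MvPolynomial.eval₂Hom g x (MvPolynomial.C b)
        rw [MvPolynomial.eval₂Hom_C, AlgHom.commutes, ← IsScalarTower.algebraMap_apply]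
        exact RingHom.congr_fun hk.1 b
      · show k (algebraMap S C (p (MvPolynomial.X i))) = MvPolynomial.eval₂Hom g x (MvPolynomial.X i)
        rw [MvPolynomial.eval₂Hom_X']
        refine Eq.trans ?_ (RingHom.congr_fun hk.2 (Ideal.Quotient.mk K (MvPolynomial.X i)))
        show _ = k (algebraMap S C (ev (MvPolynomial.X i)))
        rw [show ev (MvPolynomial.X i) = p (MvPolynomial.X i) by
          show p (MvPolynomial.map _ (MvPolynomial.X i)) = _
          rw [MvPolynomial.map_X]]

/-- An algebra map between henselian finitely presented algebras is henselian finitely presented. -/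
theorem exists_fp_of_algHom {R B S C : Type u} [CommRing R] [CommRing B] [CommRing S] [CommRing C]
    [Algebra A R] [Algebra.FiniteType A R] [Algebra R B] [Algebra A B] [IsScalarTower A R B]
    [Algebra A S] [Algebra.FinitePresentation A S] [Algebra S C] [Algebra A C] [IsScalarTower A S C]
    [Algebra B C] [IsScalarTower A B C]
    (hB : Hens2.IsPairHenselization R (I.map (algebraMap A R)) B)
    (hC : Hens2.IsPairHenselization S (I.map (algebraMap A S)) C) :
    ∃ (T : Type u) (_ : CommRing T) (_ : Algebra B T) (_ : Algebra T C) (_ : IsScalarTower B T C),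
      Algebra.FinitePresentation B T ∧
      Hens2.IsPairHenselization T ((I.map (algebraMap A B)).map (algebraMap B T)) C := by
  classical
  obtain ⟨n, p, hp⟩ := Algebra.FiniteType.iff_quotient_mvPolynomial''.1
    (inferInstance : Algebra.FiniteType A R)
  obtain ⟨S', _, _, _, hS', φ, s, hs⟩ := exists_stage hC
    (fun i => algebraMap B C (algebraMap R B (p (MvPolynomial.X i))))
  let _ : Algebra S' C := φ.toRingHom.toAlgebra
  have : IsScalarTower S S' C := IsScalarTower.of_algebraMap_eq fun r => (φ.commutes r).symm
  let _ : Algebra A S' := ((algebraMap S S').comp (algebraMap A S)).toAlgebra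
  have : IsScalarTower A S S' := IsScalarTower.of_algebraMap_eq fun _ => rfl
  have : IsScalarTower A S' C := IsScalarTower.of_algebraMap_eq fun a => by
    rw [IsScalarTower.algebraMap_apply A S C, IsScalarTower.algebraMap_apply A S S',
      ← IsScalarTower.algebraMap_apply S S' C]
  have : Algebra.FinitePresentation A S' := Algebra.FinitePresentation.trans A S S'
  have hC' : Hens2.IsPairHenselization S' (I.map (algebraMap A S')) C := by
    have := isPairHenselization_of_bijective hC S' hS'
    rwa [Ideal.map_map, ← IsScalarTower.algebraMap_eq] at this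
  let K : Ideal (B ⊗[A] S') := Ideal.span (Set.range fun i =>
    algebraMap R B (p (MvPolynomial.X i)) ⊗ₜ[A] (1 : S') - (1 : B) ⊗ₜ[A] s i)
  let ev : B ⊗[A] S' →ₐ[B] C :=
    Algebra.TensorProduct.lift (Algebra.ofId B C) (IsScalarTower.toAlgHom A S' C)
      fun _ _ => Commute.all _ _
  have hev : ∀ x ∈ K, ev x = 0 := by
    intro x hx
    have h1 : K ≤ RingHom.ker ev := Ideal.span_le.2 fun y hy => by
      obtain ⟨i, rfl⟩ := hy
      show ev _ = 0
      rw [map_sub, Algebra.TensorProduct.lift_tmul, Algebra.TensorProduct.lift_tmul]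
      simp only [map_one, mul_one, one_mul, Algebra.ofId_apply, IsScalarTower.coe_toAlgHom']
      rw [show algebraMap S' C (s i) = _ from hs i, sub_self]
    exact h1 hx
  let q : (B ⊗[A] S') ⧸ K →ₐ[B] C := Ideal.Quotient.liftₐ K ev hev
  let _ : Algebra ((B ⊗[A] S') ⧸ K) C := q.toRingHom.toAlgebra
  have hT : IsScalarTower B ((B ⊗[A] S') ⧸ K) C :=
    IsScalarTower.of_algebraMap_eq fun b => (q.commutes b).symm
  refine ⟨(B ⊗[A] S') ⧸ K, inferInstance, inferInstance, inferInstance, hT,
    Algebra.FinitePresentation.quotient ⟨Finset.univ.image (fun i =>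
      algebraMap R B (p (MvPolynomial.X i)) ⊗ₜ[A] (1 : S') - (1 : B) ⊗ₜ[A] s i), by simp [K]⟩, ?_⟩
  have hAC : I.map (algebraMap A C) =
      ((I.map (algebraMap A B)).map (algebraMap B ((B ⊗[A] S') ⧸ K))).map
        (algebraMap ((B ⊗[A] S') ⧸ K) C) := by
    rw [Ideal.map_map, Ideal.map_map, ← IsScalarTower.algebraMap_eq,
      ← IsScalarTower.algebraMap_eq]
  refine ⟨?_, fun D _ L f hD hL => ?_⟩
  · have := hC'.1
    rwa [Ideal.map_map, ← IsScalarTower.algebraMap_eq, hAC] at this
  rw [Ideal.map_map, Ideal.map_map] at hL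
  let fm : B ⊗[A] S' →+* D := f.comp (Ideal.Quotient.mk K)
  let gB : B →+* D := fm.comp (Algebra.TensorProduct.includeLeftRingHom)
  let gS : S' →+* D := fm.comp (Algebra.TensorProduct.includeRight (R := A) (A := B)).toRingHom
  have hgA : gS.comp (algebraMap A S') = gB.comp (algebraMap A B) := RingHom.ext fun a => by
    show fm ((1 : B) ⊗ₜ[A] algebraMap A S' a) = fm (algebraMap A B a ⊗ₜ[A] (1 : S'))
    rw [Algebra.algebraMap_eq_smul_one, Algebra.algebraMap_eq_smul_one, smul_tmul]
  have hgB : gB = f.comp (algebraMap B ((B ⊗[A] S') ⧸ K)) := RingHom.ext fun b => rfl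
  have hgx : ∀ i, gB (algebraMap R B (p (MvPolynomial.X i))) = gS (s i) := by
    intro i
    rw [← sub_eq_zero]
    show fm (_ ⊗ₜ[A] (1 : S')) - fm ((1 : B) ⊗ₜ[A] s i) = 0
    rw [← map_sub]
    show f (Ideal.Quotient.mk K _) = 0
    rw [Ideal.Quotient.eq_zero_iff_mem.2 (Ideal.subset_span (Set.mem_range_self i)), map_zero]
  have hLA : I.map (gB.comp (algebraMap A B)) ≤ L := by
    rw [hgB, RingHom.comp_assoc]
    exact hL
  obtain ⟨h, hh, hhu⟩ := hC'.2 D L gS hD (by rw [Ideal.map_map, hgA]; exact hLA)
  have hhB : h.comp (algebraMap B C) = gB := by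
    refine pairHens_ringHom_ext hB L _ _ ?_ ?_
    · have key : ((h.comp (algebraMap B C)).comp (algebraMap R B)).comp p.toRingHom =
          (gB.comp (algebraMap R B)).comp p.toRingHom := by
        refine MvPolynomial.ringHom_ext (fun a => ?_) fun i => ?_
        · show h (algebraMap B C (algebraMap R B (p (algebraMap A _ a)))) =
            gB (algebraMap R B (p (algebraMap A _ a)))
          rw [p.commutes, ← IsScalarTower.algebraMap_apply A R B, ← IsScalarTower.algebraMap_apply A B C,
            IsScalarTower.algebraMap_apply A S' C]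
          exact (RingHom.congr_fun hh _).trans (RingHom.congr_fun hgA a)
        · show h (algebraMap B C (algebraMap R B (p (MvPolynomial.X i)))) = _
          rw [show algebraMap B C (algebraMap R B (p (MvPolynomial.X i))) = algebraMap S' C (s i) from
            (hs i).symm]
          exact (RingHom.congr_fun hh _).trans (hgx i).symm
      refine RingHom.ext fun x => ?_
      obtain ⟨x, rfl⟩ := hp x
      exact RingHom.congr_fun key x
    · rw [Ideal.map_map, RingHom.comp_assoc, ← IsScalarTower.algebraMap_eq, RingHom.comp_assoc,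
        ← IsScalarTower.algebraMap_eq, IsScalarTower.algebraMap_eq A S' C, ← RingHom.comp_assoc, hh, hgA]
      exact hLA
  refine ⟨h, ?_, fun k hk => hhu k ?_⟩
  · refine Ideal.Quotient.ringHom_ext (RingHom.ext fun x => ?_)
    show h (ev x) = fm x
    induction x with
    | zero => simp
    | add a b ha hb => rw [map_add, map_add, map_add, ha, hb]
    | tmul b t =>
      have e1 : fm (b ⊗ₜ[A] t) = gB b * gS t := by
        show fm _ = fm _ * fm _
        rw [← map_mul]; simp
      rw [e1, Algebra.TensorProduct.lift_tmul, map_mul]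
      congr 1
      · exact RingHom.congr_fun hhB b
      · exact RingHom.congr_fun hh t
  · refine RingHom.ext fun t => ?_
    have h1 := RingHom.congr_fun hk (Ideal.Quotient.mk K ((1 : B) ⊗ₜ[A] t))
    show k (algebraMap S' C t) = fm ((1 : B) ⊗ₜ[A] t)
    refine Eq.trans ?_ h1
    show _ = k (ev ((1 : B) ⊗ₜ[A] t))
    rw [Algebra.TensorProduct.lift_tmul, map_one, one_mul]
    rfl

end Groth.Agent.Hens22
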