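import Groth.Agent.Hens22.DirLim
import Groth.Agent.Hens22.Hfp
import Mathlib.RingTheory.Adjoin.FG
import Mathlib.RingTheory.FiniteType

/-!
Algebras whose functor of points commutes with direct limits of henselian pairs are henselian
finitely presented.
-/

set_option autoImplicit false
universe u

noncomputable section

namespace Groth.Agent.Hens22

/-- The condition that maps out of `B` commute with direct limits of henselian pairs. -/
def CommutesWithLimits (A : Type u) [CommRing A] (I : Ideal A) (B : Type u) [CommRing B]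
    [Algebra A B] : Prop :=
  ∀ (κ : Type u) [Preorder κ] [IsDirectedOrder κ] [Nonempty κ]
    (Ra : κ → Type u) [∀ a, CommRing (Ra a)] [∀ a, Algebra A (Ra a)]
    [∀ a, HenselianRing (Ra a) (I.map (algebraMap A (Ra a)))]
    (t : ∀ a b : κ, a ≤ b → (Ra a →+* Ra b)) [DirectedSystem Ra (fun a b hab => t a b hab)],
    (∀ (a b : κ) (hab : a ≤ b), (t a b hab).comp (algebraMap A (Ra a)) = algebraMap A (Ra b)) →
    ∀ [Algebra A (DirectLimit Ra t)],
    (∀ (a : κ) (x : A), algebraMap A (DirectLimit Ra t) x =
      DirectLimit.Ring.of Ra t a (algebraMap A (Ra a) x)) →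
    ∀ χ : B →ₐ[A] DirectLimit Ra t, ∃ (a : κ) (φ : B →ₐ[A] Ra a),
        ∀ x : B, DirectLimit.Ring.of Ra t a (φ x) = χ x

variable {A : Type u} [CommRing A] {I : Ideal A} {B : Type u} [CommRing B] [Algebra A B]

section Subalgebras

variable (I) (B)

/-- The finitely generated subalgebras. -/
abbrev sub (s : Finset B) : Subalgebra A B := Algebra.adjoin A (s : Set B)

/-- A henselization of a finitely generated subalgebra. -/
abbrev HS (s : Finset B) : Type u :=
  Henz21.H (sub (A := A) B s) (sub (A := A) B s ⧸ I.map (algebraMap A (sub (A := A) B s)))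

theorem isPairHens_HS (s : Finset B) :
    Hens2.IsPairHenselization (sub (A := A) B s) (I.map (algebraMap A (sub (A := A) B s))) (HS I B s) :=
  isPairHenselization_H _

instance algHS (s : Finset B) : Algebra A (HS I B s) :=
  ((algebraMap (sub (A := A) B s) (HS I B s)).comp (algebraMap A (sub (A := A) B s))).toAlgebra

instance towerHS (s : Finset B) : IsScalarTower A (sub (A := A) B s) (HS I B s) :=
  IsScalarTower.of_algebraMap_eq fun _ => rfl

instance henselHS (s : Finset B) : HenselianRing (HS I B s) (I.map (algebraMap A (HS I B s))) := by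
  have := (isPairHens_HS I B s).1
  rwa [Ideal.map_map] at this

end Subalgebras

/-- A map out of a finitely generated subalgebra extends uniquely to the henselization. -/
theorem existsUnique_HS_lift (s : Finset B) {C : Type u} [CommRing C] [Algebra A C]
    [hC : HenselianRing C (I.map (algebraMap A C))] (f : sub (A := A) B s →ₐ[A] C) :
    ∃! g : HS I B s →+* C, g.comp (algebraMap (sub (A := A) B s) (HS I B s)) = f.toRingHom :=
  (isPairHens_HS I B s).2 C _ f.toRingHom hC (by
    rw [Ideal.map_map, show f.toRingHom.comp (algebraMap A (sub (A := A) B s)) = algebraMap A C from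
      f.comp_algebraMap])

variable [hBh : HenselianRing B (I.map (algebraMap A B))]

set_option maxHeartbeats 1000000 in
/-- Step one: `B` is a quotient of a henselized finite type algebra. -/
theorem exists_surjection_of_commutes (h : CommutesWithLimits A I B) :
    ∃ (s : Finset B) (π : HS I B s →ₐ[A] B), Function.Surjective π := by
  classical
  choose T hT hTu using fun (s s' : Finset B) (hs : s ≤ s') => existsUnique_HS_lift (I := I) s
    ((IsScalarTower.toAlgHom A (sub (A := A) B s') (HS I B s')).comp
      (Subalgebra.inclusion (Algebra.adjoin_mono (Finset.coe_subset.2 hs))))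
  have hTapp : ∀ (s s' : Finset B) (hs : s ≤ s') (x : sub (A := A) B s),
      T s s' hs (algebraMap _ (HS I B s) x) =
        algebraMap _ (HS I B s') (Subalgebra.inclusion (Algebra.adjoin_mono (Finset.coe_subset.2 hs)) x) :=
    fun s s' hs x => RingHom.congr_fun (hT s s' hs) x
  have : DirectedSystem (HS I B) (fun s s' hs => T s s' hs) := by
    refine ⟨fun s x => ?_, fun {s₃ s₂ s₁} h12 h23 x => ?_⟩
    · refine RingHom.congr_fun ((hTu s s le_rfl (RingHom.id _) ?_).symm) x
      refine RingHom.ext fun y => ?_
      show algebraMap _ _ y = algebraMap _ _ _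
      congr 1
    · refine RingHom.congr_fun (hTu _ _ (h12.trans h23) ((T _ _ h23).comp (T _ _ h12)) ?_) x
      refine RingHom.ext fun y => ?_
      show T _ _ h23 (T _ _ h12 (algebraMap _ _ y)) = _
      rw [hTapp, hTapp]
      rfl
  let L := DirectLimit (HS I B) T
  let _ : Algebra A L := ((DirectLimit.Ring.of (HS I B) T ∅).comp (algebraMap A (HS I B ∅))).toAlgebra
  have ht : ∀ (s s' : Finset B) (hs : s ≤ s'),
      (T s s' hs).comp (algebraMap A (HS I B s)) = algebraMap A (HS I B s') := by
    intro s s' hs
    refine RingHom.ext fun a => ?_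
    show T s s' hs (algebraMap (sub (A := A) B s) (HS I B s) (algebraMap A (sub (A := A) B s) a)) = _
    rw [hTapp, AlgHom.commutes]
    rfl
  have halg : ∀ (s : Finset B) (a : A), algebraMap A L a =
      DirectLimit.Ring.of (HS I B) T s (algebraMap A (HS I B s) a) := by
    intro s a
    obtain ⟨u, h1, h2⟩ := exists_ge_ge (∅ : Finset B) s
    show DirectLimit.Ring.of (HS I B) T ∅ (algebraMap A (HS I B ∅) a) = _
    rw [← of_t ∅ u h1, ← of_t s u h2, t_algebraMap ht, t_algebraMap ht]
  -- the tautological map
  let jb : B → L := fun b => DirectLimit.Ring.of (HS I B) T {b}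
    (algebraMap _ _ (⟨b, Algebra.subset_adjoin (Finset.mem_singleton_self b)⟩ : sub (A := A) B {b}))
  have hjb : ∀ (s : Finset B) (x : sub (A := A) B s),
      DirectLimit.Ring.of (HS I B) T s (algebraMap _ _ x) = jb x := by
    intro s x
    obtain ⟨u, h1, h2⟩ := exists_ge_ge s ({(x : B)} : Finset B)
    show _ = DirectLimit.Ring.of (HS I B) T _ _
    rw [← of_t s u h1, ← of_t _ u h2, hTapp, hTapp]
    rfl
  have hjb1 : jb 1 = 1 := by
    refine ((hjb ∅ 1).symm).trans ?_
    rw [map_one, map_one]
  have hjb0 : jb 0 = 0 := by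
    refine ((hjb ∅ 0).symm).trans ?_
    rw [map_zero, map_zero]
  have hmul : ∀ x y : B, jb (x * y) = jb x * jb y := fun x y => by
    let x' : sub (A := A) B {x, y} := ⟨x, Algebra.subset_adjoin (by simp)⟩
    let y' : sub (A := A) B {x, y} := ⟨y, Algebra.subset_adjoin (by simp)⟩
    refine ((hjb _ (x' * y')).symm).trans ?_
    rw [map_mul, map_mul, hjb, hjb]
  have hadd : ∀ x y : B, jb (x + y) = jb x + jb y := fun x y => by
    let x' : sub (A := A) B {x, y} := ⟨x, Algebra.subset_adjoin (by simp)⟩
    let y' : sub (A := A) B {x, y} := ⟨y, Algebra.subset_adjoin (by simp)⟩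
    refine ((hjb _ (x' + y')).symm).trans ?_
    rw [map_add, map_add, hjb, hjb]
  have hcomm : ∀ a : A, jb (algebraMap A B a) = algebraMap A L a := fun a =>
    ((hjb ∅ (algebraMap A (sub (A := A) B ∅) a)).symm).trans (halg ∅ a).symm
  let jr : B →+* L :=
    { toFun := jb, map_one' := hjb1, map_mul' := hmul, map_zero' := hjb0, map_add' := hadd }
  let j : B →ₐ[A] L := { jr with commutes' := hcomm }
  choose P hP hPu using fun s => existsUnique_HS_lift (I := I) s (sub (A := A) B s).val
  have hPT : ∀ (s s' : Finset B) (hs : s ≤ s') (x : HS I B s), P s' (T s s' hs x) = P s x := by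
    intro s s' hs x
    refine RingHom.congr_fun (hPu s ((P s').comp (T s s' hs)) ?_) x
    refine RingHom.ext fun y => ?_
    show P s' (T s s' hs (algebraMap _ _ y)) = _
    rw [hTapp]
    exact RingHom.congr_fun (hP s') _
  let p : L →+* B := DirectLimit.Ring.lift (HS I B) T B P hPT
  have hpj : ∀ b : B, p (jb b) = b := fun b => by
    show P {b} (algebraMap _ _ _) = b
    exact RingHom.congr_fun (hP {b}) _
  obtain ⟨s, φ, hφ⟩ := h (Finset B) (HS I B) T ht halg j
  have hPa : ∀ a : A, P s (algebraMap A (HS I B s) a) = algebraMap A B a := fun a =>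
    RingHom.congr_fun (hP s) (algebraMap A (sub (A := A) B s) a)
  let π : HS I B s →ₐ[A] B := { P s with commutes' := hPa }
  refine ⟨s, π, fun b => ⟨φ b, ?_⟩⟩
  show P s (φ b) = b
  rw [show P s (φ b) = p (DirectLimit.Ring.of (HS I B) T s (φ b)) from rfl, hφ]
  exact hpj b

/-- Algebras whose points commute with limits are henselian finitely presented. -/
theorem exists_fp_of_commutes (h : CommutesWithLimits A I B) :
    ∃ (R : Type u) (_ : CommRing R) (_ : Algebra A R) (_ : Algebra R B) (_ : IsScalarTower A R B),
      Algebra.FinitePresentation A R ∧ Hens2.IsPairHenselization R (I.map (algebraMap A R)) B := by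
  classical
  obtain ⟨s, π₀, hπ₀⟩ := exists_surjection_of_commutes h
  have : Algebra.FiniteType A (sub (A := A) B s) :=
    (Subalgebra.fg_iff_finiteType _).1 (Subalgebra.fg_adjoin_finset s)
  -- replace it by a henselized polynomial ring
  obtain ⟨n, q, hq⟩ := Algebra.FiniteType.iff_quotient_mvPolynomial''.1
    (inferInstance : Algebra.FiniteType A (sub (A := A) B s))
  let Q := MvPolynomial (Fin n) A
  let P := Henz21.H Q (Q ⧸ I.map (algebraMap A Q))
  have hP : Hens2.IsPairHenselization Q (I.map (algebraMap A Q)) P := isPairHenselization_H _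
  let _ : Algebra A P := ((algebraMap Q P).comp (algebraMap A Q)).toAlgebra
  have : IsScalarTower A Q P := IsScalarTower.of_algebraMap_eq fun _ => rfl
  let e : Q →ₐ[A] HS I B s := (IsScalarTower.toAlgHom A (sub (A := A) B s) (HS I B s)).comp q
  obtain ⟨g, hg, -⟩ := hP.2 (HS I B s) _ e.toRingHom (henselHS I B s) (by
    rw [Ideal.map_map, show e.toRingHom.comp (algebraMap A Q) = algebraMap A (HS I B s) from
      e.comp_algebraMap])
  have hga : ∀ a : A, g (algebraMap A P a) = algebraMap A (HS I B s) a := fun a =>
    (RingHom.congr_fun hg _).trans (e.commutes a)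
  let gA : P →ₐ[A] HS I B s := { g with commutes' := hga }
  have hgs : Function.Surjective g := by
    -- the henselization of a quotient is the quotient of the henselization
    let K := RingHom.ker q.toRingHom
    have hle : K.map (algebraMap Q P) ≤ RingHom.ker g := Ideal.map_le_iff_le_comap.2 fun k hk => by
      show g (algebraMap Q P k) = 0
      rw [show g (algebraMap Q P k) = e k from RingHom.congr_fun hg k]
      show algebraMap _ (HS I B s) (q k) = 0
      rw [show q k = 0 from RingHom.mem_ker.1 hk, map_zero]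
    let _ : Algebra (sub (A := A) B s) (P ⧸ K.map (algebraMap Q P)) :=
      ((Ideal.quotientMap (K.map (algebraMap Q P)) (algebraMap Q P) Ideal.le_comap_map).comp
        (Ideal.quotientKerAlgEquivOfSurjective hq).symm.toRingEquiv.toRingHom).toAlgebra
    have hcomm : (Ideal.Quotient.mk (K.map (algebraMap Q P))).comp (algebraMap Q P) =
        (algebraMap (sub (A := A) B s) (P ⧸ K.map (algebraMap Q P))).comp q.toRingHom :=
      RingHom.ext fun x => by
        show _ = Ideal.quotientMap (K.map (algebraMap Q P)) (algebraMap Q P) Ideal.le_comap_map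
          ((Ideal.quotientKerAlgEquivOfSurjective hq).symm (q x))
        rw [show (Ideal.quotientKerAlgEquivOfSurjective hq).symm (q x) = Ideal.Quotient.mk _ x from
          (AlgEquiv.symm_apply_eq _).2 rfl]
        rfl
    have hh := isPairHenselization_quotient hP K q.toRingHom
      (Ideal.Quotient.mk (K.map (algebraMap Q P))) hq rfl Ideal.Quotient.mk_surjective Ideal.mk_ker hcomm
    rw [Ideal.map_map, show q.toRingHom.comp (algebraMap A Q) = algebraMap A _ from q.comp_algebraMap] at hh
    obtain ⟨E⟩ := exists_algEquiv hh (isPairHens_HS I B s)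
    have heq : g = E.toRingEquiv.toRingHom.comp (Ideal.Quotient.mk (K.map (algebraMap Q P))) := by
      refine pairHens_ringHom_ext hP (hC := henselHS I B s) (I.map (algebraMap A (HS I B s))) _ _ ?_ ?_
      · rw [hg]
        refine RingHom.ext fun x => ?_
        show algebraMap _ (HS I B s) (q x) = E (Ideal.Quotient.mk _ (algebraMap Q P x))
        rw [show Ideal.Quotient.mk (K.map (algebraMap Q P)) (algebraMap Q P x) =
          algebraMap (sub (A := A) B s) _ (q x) from RingHom.congr_fun hcomm x, AlgEquiv.commutes]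
      · rw [hg, Ideal.map_map, show e.toRingHom.comp (algebraMap A Q) = algebraMap A (HS I B s) from
          e.comp_algebraMap]
    rw [heq]
    exact E.surjective.comp Ideal.Quotient.mk_surjective
  let π : P →ₐ[A] B := π₀.comp gA
  have hπ : Function.Surjective π := hπ₀.comp hgs
  have hPh : HenselianRing P (I.map (algebraMap A P)) := by
    have := hP.1; rwa [Ideal.map_map] at this
  -- truncate the kernel
  let κ := Finset (RingHom.ker π)
  let K : κ → Ideal P := fun F => Ideal.span ((fun x : RingHom.ker π => (x : P)) '' F)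
  have hK : Monotone K := fun F F' h => Ideal.span_mono (Set.image_mono (Finset.coe_subset.2 h))
  let G : κ → Type u := fun F => P ⧸ K F
  let t : ∀ F F' : κ, F ≤ F' → (G F →+* G F') := fun F F' h => Ideal.Quotient.factor (hK h)
  have : DirectedSystem G (fun F F' h => t F F' h) := by
    refine ⟨fun F x => ?_, fun {F₁ F₂ F₃} h₁ h₂ x => ?_⟩
    · obtain ⟨x, rfl⟩ := Ideal.Quotient.mk_surjective x; rfl
    · obtain ⟨x, rfl⟩ := Ideal.Quotient.mk_surjective x; rfl
  have hG : ∀ F, HenselianRing (G F) (I.map (algebraMap A (G F))) := fun F => by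
    have := henselianRing_quotient (I.map (algebraMap A P)) (K F)
    rwa [Ideal.map_map] at this
  let L := DirectLimit G t
  let _ : Algebra A L := ((DirectLimit.Ring.of G t ∅).comp (algebraMap A (G ∅))).toAlgebra
  have ht : ∀ (F F' : κ) (h : F ≤ F'), (t F F' h).comp (algebraMap A (G F)) = algebraMap A (G F') :=
    fun F F' h => rfl
  have halg : ∀ (F : κ) (a : A), algebraMap A L a = DirectLimit.Ring.of G t F (algebraMap A (G F) a) := by
    intro F a
    show DirectLimit.Ring.of G t ∅ (algebraMap A (G ∅) a) = _
    rw [← of_t ∅ F (Finset.empty_subset F)]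
    rfl
  let iota : P →ₐ[A] L :=
    { (DirectLimit.Ring.of G t ∅).comp (Ideal.Quotient.mk (K ∅)) with commutes' := fun a => rfl }
  have hiota : ∀ z, π z = 0 → iota z = 0 := by
    intro z hz
    show DirectLimit.Ring.of G t ∅ (Ideal.Quotient.mk (K ∅) z) = 0
    rw [← of_t ∅ ({⟨z, hz⟩} : κ) (Finset.empty_subset _)]
    show DirectLimit.Ring.of G t _ (Ideal.Quotient.mk (K {⟨z, hz⟩}) z) = 0
    rw [Ideal.Quotient.eq_zero_iff_mem.2 (Ideal.subset_span
      (Set.mem_image_of_mem _ (Finset.mem_coe.2 (Finset.mem_singleton_self _)))), map_zero]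
  have hiota' : RingHom.ker π ≤ RingHom.ker iota := fun z hz => hiota z hz
  let j : B →ₐ[A] L := AlgHom.liftOfSurjective π hπ iota hiota'
  obtain ⟨F, φ, hφ⟩ := h κ G t ht halg j
  let πF : G F →ₐ[A] B := Ideal.Quotient.liftₐ (K F) π (fun z hz => by
    refine RingHom.mem_ker.1 ((Ideal.span_le.2 ?_ : K F ≤ RingHom.ker π) hz)
    rintro _ ⟨x, -, rfl⟩
    exact x.2)
  let pL : L →+* B := DirectLimit.Ring.lift G t B (fun F => (Ideal.Quotient.lift (K F) π.toRingHom
    (fun z hz => by
      refine RingHom.mem_ker.1 ((Ideal.span_le.2 ?_ : K F ≤ RingHom.ker π) hz)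
      rintro _ ⟨x, -, rfl⟩
      exact x.2)))
    (fun F F' h x => by obtain ⟨x, rfl⟩ := Ideal.Quotient.mk_surjective x; rfl)
  have hsec : ∀ b, πF (φ b) = b := fun b => by
    have h1 : pL (DirectLimit.Ring.of G t F (φ b)) = πF (φ b) := by
      obtain ⟨z, hz⟩ := Ideal.Quotient.mk_surjective (φ b)
      rw [← hz]; rfl
    rw [← h1, hφ]
    obtain ⟨z, rfl⟩ := hπ b
    refine (congrArg pL (AlgHom.liftOfSurjective_apply π hπ iota hiota' z)).trans ?_
    rfl
  have hπF : Function.Surjective πF := fun b => ⟨φ b, hsec b⟩
  obtain ⟨T, _, _, _, _, hTfp, hT⟩ := exists_fp_of_quotient hP (Ideal.Quotient.mkₐ A (K F))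
    Ideal.Quotient.mk_surjective
    (by
      rw [show RingHom.ker (Ideal.Quotient.mkₐ A (K F)) = K F from Ideal.mk_ker]
      exact Submodule.fg_span ((Finset.finite_toSet F).image _))
  obtain ⟨m, r, hr⟩ := Algebra.FiniteType.iff_quotient_mvPolynomial''.1
    (inferInstance : Algebra.FiniteType A T)
  let y : Fin m → G F := fun i => algebraMap T (G F) (r (MvPolynomial.X i))
  let K' : Ideal (G F) := Ideal.span (Set.range fun i => y i - φ (πF (y i)))
  have hK' : K' = RingHom.ker πF := by
    refine le_antisymm (Ideal.span_le.2 ?_) fun z hz => ?_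
    · rintro _ ⟨i, rfl⟩
      show πF _ = 0
      rw [map_sub, hsec, sub_self]
    let f₁ : G F →ₐ[A] G F ⧸ K' := Ideal.Quotient.mkₐ A K'
    let f₂ : G F →ₐ[A] G F ⧸ K' := (f₁.comp φ).comp πF
    have hhQ : HenselianRing (G F ⧸ K') (I.map (algebraMap A (G F ⧸ K'))) := by
      have := hG F
      have := henselianRing_quotient (I.map (algebraMap A (G F))) K'
      rwa [Ideal.map_map] at this
    have heq : (f₁ : G F →+* G F ⧸ K') = (f₂ : G F →+* G F ⧸ K') := by
      refine pairHens_ringHom_ext hT (hC := hhQ) (I.map (algebraMap A (G F ⧸ K'))) _ _ ?_ ?_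
      · have key : (f₁.comp (IsScalarTower.toAlgHom A T (G F))).comp r =
            (f₂.comp (IsScalarTower.toAlgHom A T (G F))).comp r := by
          refine MvPolynomial.algHom_ext fun i => ?_
          show f₁ (y i) = f₁ (φ (πF (y i)))
          exact Ideal.Quotient.eq.2 (Ideal.subset_span ⟨i, rfl⟩)
        refine RingHom.ext fun x => ?_
        obtain ⟨x, rfl⟩ := hr x
        exact DFunLike.congr_fun key x
      · rw [Ideal.map_map, RingHom.comp_assoc, ← IsScalarTower.algebraMap_eq,
          show (f₁ : G F →+* G F ⧸ K').comp (algebraMap A (G F)) = algebraMap A _ from f₁.comp_algebraMap]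
    have h2 : f₁ z = f₂ z := RingHom.congr_fun heq z
    rw [show f₂ z = f₁ (φ (πF z)) from rfl, show πF z = 0 from hz, map_zero, map_zero] at h2
    exact Ideal.Quotient.eq_zero_iff_mem.1 h2
  exact exists_fp_of_quotient hT πF hπF (hK' ▸ Submodule.fg_span (Set.finite_range _))

end Groth.Agent.Hens22
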