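import Groth.Agent.Hens22.AwayLim

/-!
Being henselian finitely presented is local on the henselian spectrum.
-/

set_option autoImplicit false
universe u

noncomputable section

namespace Groth.Agent.Hens22.AwayLim

open HensSch TensorProduct

section Glue

variable {A : Type u} [CommRing A] {I : Ideal A} {κ : Type u} [Preorder κ]
  {Ra : κ → Type u} [∀ a, CommRing (Ra a)] [∀ a, Algebra A (Ra a)]
  [∀ a, HenselianRing (Ra a) (I.map (algebraMap A (Ra a)))]
  {t : ∀ a b : κ, a ≤ b → (Ra a →+* Ra b)} {a₀ : κ} {n : ℕ} (c : Fin n → Ra a₀) (a : K a₀)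
  (hcov : Ideal.span (Set.range fun i => cc t (c i) a) = ⊤)

include hcov in
theorem sup_cov : I.map (algebraMap A (Ra a.1)) ⊔
    Ideal.span (Set.range fun i : ULift.{u} (Fin n) => cc t (c i.down) a) = ⊤ := by
  rw [show (Set.range fun i : ULift.{u} (Fin n) => cc t (c i.down) a) = Set.range fun i => cc t (c i) a from
    Function.Surjective.range_comp (g := fun i => cc t (c i) a) ULift.down_surjective, hcov, sup_top_eq]

include hcov in
theorem ext_of_cover (x y : Ra a.1) (h : ∀ i, iota I t (c i) a x = iota I t (c i) a y) : x = y := by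
  rw [← sub_eq_zero]
  refine Glue.eq_zero_of_forall_away (I := I.map (algebraMap A (Ra a.1)))
    (fun i : ULift.{u} (Fin n) => cc t (c i.down) a) (sup_cov c a hcov) (fun i => G I t (c i.down) a)
    (fun i => hAway I t _ a) _ fun i => ?_
  apply (TensorProduct.rid (Ra a.1) (G I t (c i.down) a)).injective
  rw [TensorProduct.rid_tmul, map_zero, Algebra.smul_def, mul_one, map_sub, sub_eq_zero]
  exact h i.down

include hcov in
theorem glue_of_cover [DirectedSystem Ra (fun a b h => t a b h)] (m : ∀ i, G I t (c i) a)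
    (hm : ∀ i j, res I (c i) (c i * c j) (dvd_mul_right _ _) a (m i) =
      res I (c j) (c i * c j) (dvd_mul_left _ _) a (m j)) :
    ∃ y : Ra a.1, ∀ i, iota I t (c i) a y = m i := by
  let σ : ∀ i j : ULift.{u} (Fin n), G I t (c i.down) a →ₐ[Ra a.1] G I t (c i.down * c j.down) a :=
    fun i j => { (res I (c i.down) (c i.down * c j.down) (dvd_mul_right _ _) a).toRingHom with
      commutes' := res_iota _ _ _ a }
  let τ : ∀ i j : ULift.{u} (Fin n), G I t (c j.down) a →ₐ[Ra a.1] G I t (c i.down * c j.down) a :=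
    fun i j => { (res I (c j.down) (c i.down * c j.down) (dvd_mul_left _ _) a).toRingHom with
      commutes' := res_iota _ _ _ a }
  obtain ⟨y, hy⟩ := Glue.exists_glue_away (I := I.map (algebraMap A (Ra a.1))) (M := Ra a.1)
    (fun i : ULift.{u} (Fin n) => cc t (c i.down) a) (sup_cov c a hcov) (fun i => G I t (c i.down) a)
    (fun i => hAway I t _ a) (fun i j => G I t (c i.down * c j.down) a)
    (fun i j => by
      have := hAway I t (c i.down * c j.down) a
      rwa [show cc t (c i.down * c j.down) a = cc t (c i.down) a * cc t (c j.down) a from map_mul _ _ _] at this)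
    σ τ (fun i => m i.down ⊗ₜ 1) (fun i j => by
      show σ i j (m i.down) ⊗ₜ[Ra a.1] (1 : Ra a.1) = τ i j (m j.down) ⊗ₜ 1
      exact congrArg (· ⊗ₜ[Ra a.1] (1 : Ra a.1)) (hm i.down j.down))
  refine ⟨y, fun i => ?_⟩
  have := congrArg (TensorProduct.rid (Ra a.1) (G I t (c i) a)) (hy ⟨i⟩)
  rw [TensorProduct.rid_tmul, TensorProduct.rid_tmul, one_smul, Algebra.smul_def, mul_one] at this
  exact this

end Glue

set_option maxHeartbeats 1000000 in
theorem commutes_of_cover {A : Type u} [CommRing A] {I : Ideal A} {B : Type u} [CommRing B] [Algebra A B]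
    {n : ℕ} (f : Fin n → B) (hf : Ideal.span (Set.range f) = ⊤)
    (H : Fin n → Type u) [∀ i, CommRing (H i)] [∀ i, Algebra A (H i)] [∀ i, Algebra B (H i)]
    [∀ i, IsScalarTower A B (H i)]
    (hH : ∀ i, IsHensAway B (I.map (algebraMap A B)) (f i) (H i) (algebraMap B (H i)))
    (R : Fin n → Type u) [∀ i, CommRing (R i)] [∀ i, Algebra A (R i)]
    [∀ i, Algebra.FinitePresentation A (R i)] [∀ i, Algebra (R i) (H i)]
    [∀ i, IsScalarTower A (R i) (H i)]
    (hR : ∀ i, Hens2.IsPairHenselization (R i) (I.map (algebraMap A (R i))) (H i)) :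
    CommutesWithLimits A I B := by
  classical
  intro κ _ _ _ Ra _ _ _ t _ ht _ halg χ
  have hI : ∀ {C : Type u} [CommRing C] [Algebra A C] (g : B →ₐ[A] C),
      (I.map (algebraMap A B)).map g.toRingHom ≤ I.map (algebraMap A C) := fun g => by
    rw [Ideal.map_map, AlgHom.toRingHom_eq_coe, g.comp_algebraMap]
  let jB : ∀ i, B →ₐ[A] H i := fun i => IsScalarTower.toAlgHom A B (H i)
  have liftH : ∀ i {C : Type u} [CommRing C] [Algebra A C] [HenselianRing C (I.map (algebraMap A C))]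
      (g : B →ₐ[A] C), IsUnit (g (f i)) → ∃ k : H i →ₐ[A] C, k.comp (jB i) = g := by
    intro i C _ _ hC g hg
    obtain ⟨k, hk, -⟩ := (hH i).2.2 C _ g.toRingHom hC (hI g) hg
    refine ⟨{ k with commutes' := fun x => ?_ }, AlgHom.coe_ringHom_injective hk⟩
    show k (algebraMap A (H i) x) = _
    rw [IsScalarTower.algebraMap_apply A B (H i)]
    exact (RingHom.congr_fun hk _).trans (g.commutes x)
  have extH : ∀ i {C : Type u} [CommRing C] [Algebra A C] [HenselianRing C (I.map (algebraMap A C))]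
      (k k' : H i →ₐ[A] C), (∀ x, k (jB i x) = k' (jB i x)) → k = k' := by
    intro i C _ _ hC k k' h
    exact AlgHom.coe_ringHom_injective (((hH i).2.2 C _ (k.comp (jB i)).toRingHom hC (hI _)
      ((hH i).1.map k)).unique rfl (RingHom.ext fun x => (h x).symm))
  have extR : ∀ i {C : Type u} [CommRing C] [Algebra A C] [HenselianRing C (I.map (algebraMap A C))]
      (k k' : H i →ₐ[A] C), (∀ r, k (algebraMap (R i) (H i) r) = k' (algebraMap (R i) (H i) r)) → k = k' := by
    intro i C _ _ hC k k' h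
    refine AlgHom.coe_ringHom_injective (Hens22.pairHens_ringHom_ext (hR i) (I.map (algebraMap A C))
      (k : H i →+* C) k' (RingHom.ext h) ?_)
    rw [Ideal.map_map, RingHom.comp_assoc, ← IsScalarTower.algebraMap_eq,
      show (k : H i →+* C).comp (algebraMap A (H i)) = algebraMap A C from k.comp_algebraMap]
  obtain ⟨a₀, c, hc⟩ := Hens22.dirLim_exists_of_fin (t := t) fun i => χ (f i)
  choose u hu using fun d : Ra a₀ => exists_u I ht halg d
  have huf : ∀ (d : Ra a₀) i (a : K a₀),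
      u d (χ (f i)) = ofA I ht d a (iota I t d a (cc t (c i) a)) := fun d i a => by
    rw [← hc, ← Hens22.of_t (t := t) a₀ a.1 a.2, hu]
  have hself : ∀ i, IsUnit (u (c i) (χ (f i))) := fun i => by
    rw [huf (c i) i ⟨a₀, le_rfl⟩]
    exact (isUnit_iota I t (c i) _).map _
  choose g hg using fun i => liftH i ((u (c i)).comp χ) (hself i)
  -- the maps out of the pieces come from a stage
  have hstage : ∀ i, ∃ a, ∃ φ : H i →ₐ[A] G I t (c i) a, ∀ x, ofA I ht (c i) a (φ x) = g i x := by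
    intro i
    obtain ⟨a, φ₀, hφ₀⟩ := Hens22.dirLim_exists_algHom (hTr ht (c i)) (halgLc ht (c i))
      ((g i).comp (IsScalarTower.toAlgHom A (R i) (H i)))
    obtain ⟨k, hk, -⟩ := (hR i).2 (G I t (c i) a) _ φ₀.toRingHom (hensG I t (c i) a) (by
      rw [Ideal.map_map, AlgHom.toRingHom_eq_coe, φ₀.comp_algebraMap])
    let φ : H i →ₐ[A] G I t (c i) a :=
      { k with
        commutes' := fun x => by
          show k (algebraMap A (H i) x) = _
          rw [IsScalarTower.algebraMap_apply A (R i) (H i)]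
          exact (RingHom.congr_fun hk _).trans (φ₀.commutes x) }
    refine ⟨a, φ, fun x => DFunLike.congr_fun (extR i ((ofA I ht (c i) a).comp φ) (g i) fun r => ?_) x⟩
    show ofA I ht (c i) a (k (algebraMap (R i) (H i) r)) = _
    rw [show k (algebraMap (R i) (H i) r) = φ₀ r from RingHom.congr_fun hk r]
    exact hφ₀ r
  choose ai φ hφ using hstage
  -- the cover
  obtain ⟨ac, hac⟩ : ∃ ac : K a₀, ∀ a, ac ≤ a → Ideal.span (Set.range fun i => cc t (c i) a) = ⊤ := by
    obtain ⟨r, hr⟩ := Ideal.mem_span_range_iff_exists_fun.1 ((Ideal.eq_top_iff_one _).1 hf)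
    obtain ⟨a', r', hr'⟩ := Hens22.dirLim_exists_of_fin (t := t) fun i => χ (r i)
    obtain ⟨b, h1, h2⟩ := exists_ge_ge a₀ a'
    have h0 : DirectLimit.Ring.of Ra t b (∑ i, t a' b h2 (r' i) * t a₀ b h1 (c i)) =
        DirectLimit.Ring.of Ra t b 1 := by
      have := congrArg χ hr
      simp only [map_sum, map_mul, map_one, smul_eq_mul] at this ⊢
      rw [← this]
      refine Finset.sum_congr rfl fun i _ => ?_
      rw [Hens22.of_t, Hens22.of_t, hr', hc]
    obtain ⟨b', hb', heq⟩ := (Hens22.dirLim_eq_iff _ _).1 h0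
    refine ⟨⟨b', h1.trans hb'⟩, fun a ha => ?_⟩
    have := congrArg (t b' a.1 ha) heq
    simp only [map_sum, map_mul, map_one] at this
    rw [Ideal.eq_top_iff_one, ← this]
    refine Ideal.sum_mem _ fun i _ => Ideal.mul_mem_left _ _ (Ideal.subset_span ⟨i, ?_⟩)
    show t a₀ a.1 a.2 (c i) = _
    rw [Hens22.t_trans (t := t), Hens22.t_trans (t := t)]
  obtain ⟨a₁, ha₁⟩ : ∃ a₁, ∀ i, ai i ≤ a₁ := Finite.exists_le ai
  obtain ⟨a₁', ha₁', hca⟩ := exists_ge_ge a₁ ac
  let Φ : ∀ i, H i →ₐ[A] G I t (c i) a₁' := fun i =>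
    (T I ht (c i) (ai i) a₁' ((ha₁ i).trans ha₁')).comp (φ i)
  have hΦ : ∀ i x, ofA I ht (c i) a₁' (Φ i (jB i x)) = u (c i) (χ x) := fun i x => by
    show ofA I ht (c i) a₁' (T I ht (c i) _ _ _ (φ i (jB i x))) = _
    rw [ofA_T, hφ]
    exact DFunLike.congr_fun (hg i) x
  -- restrictions to overlaps
  have hres : ∀ (i : Fin n) (d : Ra a₀) (hd : c i ∣ d) (x : B),
      ofA I ht d a₁' (res I (c i) d hd a₁' (Φ i (jB i x))) = u d (χ x) := by
    intro i d hd x
    obtain ⟨a', y, hy⟩ := Hens22.dirLim_exists_of (t := t) (χ x)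
    obtain ⟨b, h1, h2⟩ := exists_ge_ge a₁'.1 a'
    let bK : K a₀ := ⟨b, a₁'.2.trans h1⟩
    have hxb : χ x = DirectLimit.Ring.of Ra t bK.1 (t a' b h2 y) := by
      rw [Hens22.of_t, hy]
    have h0 : ofA I ht (c i) bK (T I ht (c i) a₁' bK h1 (Φ i (jB i x))) =
        ofA I ht (c i) bK (iota I t (c i) bK (t a' b h2 y)) := by
      rw [ofA_T, hΦ, hxb, hu]
    obtain ⟨e, he, heq⟩ := eventually_eq ht (c i) _ _ h0
    have h3 := congrArg (res I (c i) d hd e) heq
    rw [res_T ht, res_T ht, res_T ht, res_iota] at h3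
    have h4 := congrArg (ofA I ht d e) h3
    rw [ofA_T, ofA_T, ofA_T] at h4
    rw [h4, hxb, hu]
  have hagree : ∀ p : Fin n × Fin n, ∃ b, ∃ h : a₁' ≤ b, ∀ x : B,
      T I ht (c p.1 * c p.2) a₁' b h (res I (c p.1) _ (dvd_mul_right _ _) a₁' (Φ p.1 (jB p.1 x))) =
      T I ht (c p.1 * c p.2) a₁' b h (res I (c p.2) _ (dvd_mul_left _ _) a₁' (Φ p.2 (jB p.2 x))) := by
    rintro ⟨i, j⟩
    dsimp only
    let d := c i * c j
    let q : B →ₐ[A] G I t d a₁' := ((res I (c j) d (dvd_mul_left _ _) a₁').comp (Φ j)).comp (jB j)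
    have hq0 : ofA I ht d a₁' (q (f i)) = ofA I ht d a₁' (iota I t d a₁' (cc t (c i) a₁')) :=
      (hres j d _ (f i)).trans (huf d i a₁')
    obtain ⟨b, hb, heq⟩ := eventually_eq ht d _ _ hq0
    have hunit : IsUnit (T I ht d a₁' b hb (q (f i))) := by
      rw [heq, T_iota, cc_map t (c i) hb]
      exact isUnit_of_dvd_unit (map_dvd _ (map_dvd _ (dvd_mul_right (c i) (c j)))) (isUnit_iota I t d b)
    obtain ⟨k, hk⟩ := liftH i ((T I ht d a₁' b hb).comp q) hunit
    let k' : H i →ₐ[A] G I t d b :=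
      (T I ht d a₁' b hb).comp ((res I (c i) d (dvd_mul_right _ _) a₁').comp (Φ i))
    have hlim : (ofA I ht d b).comp k = (ofA I ht d b).comp k' := extH i _ _ fun x => by
      rw [AlgHom.comp_apply, AlgHom.comp_apply,
        show k (jB i x) = T I ht d a₁' b hb (q x) from DFunLike.congr_fun hk x]
      show ofA I ht d b (T I ht d a₁' b hb (q x)) = ofA I ht d b (T I ht d a₁' b hb _)
      rw [ofA_T, ofA_T]
      exact (hres j d _ x).trans (hres i d _ x).symm
    obtain ⟨e, he, hr⟩ := Hens22.dirLim_algHom_eq (hTr ht d)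
      (k.comp (IsScalarTower.toAlgHom A (R i) (H i))) (k'.comp (IsScalarTower.toAlgHom A (R i) (H i)))
      (fun r => DFunLike.congr_fun hlim _)
    have hkk : (T I ht d b e he).comp k = (T I ht d b e he).comp k' := extR i _ _ hr
    refine ⟨e, hb.trans he, fun x => ?_⟩
    have h1 := DFunLike.congr_fun hkk (jB i x)
    rw [AlgHom.comp_apply, AlgHom.comp_apply,
      show k (jB i x) = T I ht d a₁' b hb (q x) from DFunLike.congr_fun hk x] at h1
    rw [show k' (jB i x) = T I ht d a₁' b hb (res I (c i) d _ a₁' (Φ i (jB i x))) from rfl,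
      T_trans, T_trans] at h1
    exact h1.symm
  choose bp hbp hbpx using hagree
  obtain ⟨a₂, ha₂⟩ := Finite.exists_le bp
  obtain ⟨a₃, h23, h13⟩ := exists_ge_ge a₂ a₁'
  let Ψ : ∀ i, B →ₐ[A] G I t (c i) a₃ := fun i => ((T I ht (c i) a₁' a₃ h13).comp (Φ i)).comp (jB i)
  have hcov3 := hac a₃ (hca.trans h13)
  have hglue : ∀ x : B, ∃ y : Ra a₃.1, ∀ i, iota I t (c i) a₃ y = Ψ i x := fun x =>
    glue_of_cover c a₃ hcov3 (fun i => Ψ i x) fun i j => by
      show res I (c i) (c i * c j) _ a₃ (T I ht (c i) a₁' a₃ h13 (Φ i (jB i x))) =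
        res I (c j) (c i * c j) _ a₃ (T I ht (c j) a₁' a₃ h13 (Φ j (jB j x)))
      rw [res_T ht, res_T ht]
      have h := congrArg (T I ht (c i * c j) (bp (i, j)) a₃ ((ha₂ _).trans h23)) (hbpx (i, j) x)
      rw [T_trans, T_trans] at h
      exact h
  choose ψ hψ using hglue
  have huniq : ∀ x y, (∀ i, iota I t (c i) a₃ y = Ψ i x) → ψ x = y := fun x y h =>
    ext_of_cover (I := I) c a₃ hcov3 _ _ fun i => (hψ x i).trans (h i).symm
  let ψr : B →ₐ[A] Ra a₃.1 :=
    { toFun := ψ
      map_one' := huniq _ _ fun i => by rw [map_one, map_one]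
      map_zero' := huniq _ _ fun i => by rw [map_zero, map_zero]
      map_mul' := fun x y => huniq _ _ fun i => by rw [map_mul, map_mul, hψ, hψ]
      map_add' := fun x y => huniq _ _ fun i => by rw [map_add, map_add, hψ, hψ]
      commutes' := fun x => huniq _ _ fun i => by rw [AlgHom.commutes, AlgHom.commutes] }
  refine ⟨a₃.1, ψr, fun x => ?_⟩
  obtain ⟨a', y, hy⟩ := Hens22.dirLim_exists_of (t := t) (χ x)
  obtain ⟨b, h1, h2⟩ := exists_ge_ge a₃.1 a'
  let bK : K a₀ := ⟨b, a₃.2.trans h1⟩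
  have hloc : ∀ i, ∃ e, ∃ he : bK ≤ e, iota I t (c i) e (t bK.1 e.1 he (t a₃.1 b h1 (ψ x))) =
      iota I t (c i) e (t bK.1 e.1 he (t a' b h2 y)) := by
    intro i
    have h0 : ofA I ht (c i) bK (iota I t (c i) bK (t a₃.1 b h1 (ψ x))) =
        ofA I ht (c i) bK (iota I t (c i) bK (t a' b h2 y)) := by
      rw [show t a₃.1 b h1 (ψ x) = t a₃.1 bK.1 h1 (ψ x) from rfl, ofA_iota ht (c i) (a := a₃) (b := bK) h1,
        hψ, ← hu, Hens22.of_t, hy]
      show ofA I ht (c i) a₃ (T I ht (c i) a₁' a₃ h13 (Φ i (jB i x))) = _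
      rw [ofA_T, hΦ]
    obtain ⟨e, he, heq⟩ := eventually_eq ht (c i) _ _ h0
    rw [T_iota, T_iota] at heq
    exact ⟨e, he, heq⟩
  choose ei hei heieq using hloc
  obtain ⟨e, he⟩ := Finite.exists_le ei
  obtain ⟨e', hee, hbe⟩ := exists_ge_ge e bK
  have hfin : t bK.1 e'.1 hbe (t a₃.1 b h1 (ψ x)) = t bK.1 e'.1 hbe (t a' b h2 y) := by
    refine ext_of_cover (I := I) c e' (hac e' ((hca.trans h13).trans (show a₃ ≤ e' from h1.trans hbe)))
      _ _ fun i => ?_
    have h := congrArg (T I ht (c i) (ei i) e' ((he i).trans hee)) (heieq i)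
    rw [T_iota, T_iota, Hens22.t_trans (t := t) (hei i), Hens22.t_trans (t := t) (hei i)] at h
    exact h
  show DirectLimit.Ring.of Ra t a₃.1 (ψ x) = χ x
  have h := congrArg (DirectLimit.Ring.of Ra t e'.1) hfin
  rw [Hens22.of_t, Hens22.of_t, Hens22.of_t, Hens22.of_t, hy] at h
  exact h

end Groth.Agent.Hens22.AwayLim
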