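import Groth.Agent.Hens22.ExtAnn
import Mathlib.RingTheory.Kaehler.Basic
import Mathlib.RingTheory.Smooth.Basic
import Mathlib.RingTheory.Smooth.Kaehler
import Mathlib.RingTheory.Smooth.Locus
import Mathlib.RingTheory.Etale.Kaehler
import Mathlib.LinearAlgebra.TensorProduct.Pi

/-!
The singular ideal of a hypersurface in a smooth algebra.
-/

set_option autoImplicit false
universe u

open scoped TensorProduct
open KaehlerDifferential

noncomputable section

namespace Groth.Agent.Hens22

variable {R : Type u} [CommRing R]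

theorem locallyStd_of_rank (M : Type u) [AddCommGroup M] [Module R M] [Module.Finite R M]
    [Module.Projective R M] (n : ℕ) (hn : ∀ p : PrimeSpectrum R, Module.rankAtStalk M p = n) :
    LocallyStd (R := R) n M := by
  classical
  intro P hP
  let S := P.primeCompl
  have : Module.FinitePresentation R M := Module.finitePresentation_of_projective R M
  have : Module.Free (Localization S) (LocalizedModule S M) := Module.free_of_flat_of_isLocalRing
  have hr : Module.finrank (Localization S) (LocalizedModule S M) = n := hn ⟨P, hP⟩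
  let bM : Module.Basis (Fin n) (Localization S) (LocalizedModule S M) :=
    (Module.finBasis (Localization S) (LocalizedModule S M)).reindex (finCongr hr)
  let mk := LocalizedModule.mkLinearMap S M
  let f : (Fin n → R) →ₗ[R] (Fin n → Localization S) :=
    LinearMap.pi fun i => (Algebra.linearMap R (Localization S)).comp (LinearMap.proj i)
  have : IsLocalizedModule S f := inferInstanceAs (IsLocalizedModule S (LinearMap.pi _))
  let E : LocalizedModule S M ≃ₗ[R] (Fin n → Localization S) := bM.equivFun.restrictScalars R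
  obtain ⟨U, s₁, hU⟩ := Module.FinitePresentation.exists_lift_of_isLocalizedModule S f
    (E.toLinearMap.comp mk)
  obtain ⟨T, s₂, hT⟩ := Module.FinitePresentation.exists_lift_of_isLocalizedModule S mk
    (E.symm.toLinearMap.comp f)
  have hU' : ∀ x, f (U x) = s₁ • E (mk x) := fun x => LinearMap.congr_fun hU x
  have hT' : ∀ x, mk (T x) = s₂ • E.symm (f x) := fun x => LinearMap.congr_fun hT x
  let E' : (Fin n → Localization S) ≃ₗ[R] LocalizedModule S M := E.symm
  obtain ⟨t₁, ht₁⟩ := Module.Finite.exists_smul_of_comp_eq_of_isLocalizedModule S mk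
    (T.comp U) ((s₂ * s₁ : S) • LinearMap.id) (LinearMap.ext fun x => by
      show mk (T (U x)) = mk ((s₂ * s₁ : S) • x)
      rw [hT', hU', Submonoid.smul_def, Submonoid.smul_def, Submonoid.smul_def, map_smul, map_smul,
        smul_smul, LinearEquiv.symm_apply_apply]
      rfl)
  obtain ⟨t₂, ht₂⟩ := Module.Finite.exists_smul_of_comp_eq_of_isLocalizedModule S f
    (U.comp T) ((s₂ * s₁ : S) • LinearMap.id) (LinearMap.ext fun x => by
      show f (U (T x)) = f ((s₂ * s₁ : S) • x)
      rw [hU', hT', Submonoid.smul_def, Submonoid.smul_def, Submonoid.smul_def, map_smul, map_smul,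
        smul_smul, LinearEquiv.apply_symm_apply, mul_comm]
      rfl)
  refine ⟨(t₁ * t₂ * (s₂ * s₁) : S).1, (t₁ * t₂ * (s₂ * s₁)).2, T, ((t₁ * t₂ : S) : R) • U, ?_, ?_⟩
  · refine LinearMap.ext fun x => ?_
    have h := LinearMap.congr_fun ht₁ x
    simp only [LinearMap.smul_apply, LinearMap.comp_apply, LinearMap.id_apply, Submonoid.smul_def,
      Submonoid.coe_mul, map_smul] at h ⊢
    rw [mul_comm (t₁ : R), mul_smul, h]
    simp only [smul_smul]
    ring_nf
  · refine LinearMap.ext fun x => ?_
    have h := LinearMap.congr_fun ht₂ x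
    simp only [LinearMap.smul_apply, LinearMap.comp_apply, LinearMap.id_apply, Submonoid.smul_def,
      Submonoid.coe_mul, map_smul] at h ⊢
    rw [mul_smul, h]
    simp only [smul_smul]
    ring_nf

theorem LocallyStd.baseChange {B : Type u} [CommRing B] [Algebra B R] {M : Type u} [AddCommGroup M]
    [Module B M] {n : ℕ} (h : LocallyStd (R := B) n M) : LocallyStd (R := R) n (R ⊗[B] M) := by
  classical
  intro P hP
  obtain ⟨s, hs, T, U, h1, h2⟩ := h (P.comap (algebraMap B R)) inferInstance
  let e : R ⊗[B] (Fin n → B) ≃ₗ[R] (Fin n → R) := TensorProduct.piScalarRight B R R (Fin n)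
  refine ⟨algebraMap B R s, hs, (T.baseChange R).comp e.symm.toLinearMap,
    e.toLinearMap.comp (U.baseChange R), ?_, ?_⟩
  · refine LinearMap.ext fun x => ?_
    simp only [LinearMap.comp_apply, LinearEquiv.coe_coe, LinearEquiv.symm_apply_apply]
    rw [← LinearMap.comp_apply, ← LinearMap.baseChange_comp, h1, LinearMap.baseChange_smul,
      LinearMap.baseChange_id, LinearMap.smul_apply, LinearMap.smul_apply, algebraMap_smul]
  · refine LinearMap.ext fun x => ?_
    simp only [LinearMap.comp_apply, LinearEquiv.coe_coe]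
    rw [← LinearMap.comp_apply (U.baseChange R), ← LinearMap.baseChange_comp, h2,
      LinearMap.baseChange_smul, LinearMap.baseChange_id, LinearMap.smul_apply, LinearMap.id_apply,
      LinearMap.smul_apply, LinearMap.id_apply, ← algebraMap_smul R s, map_smul, e.apply_symm_apply]

variable {A B : Type u} [CommRing A] [CommRing B] [Algebra A B] [Algebra B R] [Algebra A R]
  [IsScalarTower A B R] [Algebra.Smooth A B]

theorem annihilator_kaehler_hypersurface (n : ℕ)
    (hn : ∀ p : PrimeSpectrum B, Module.rankAtStalk (Ω[B⁄A]) p = n)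
    (g : B) (hsurj : Function.Surjective (algebraMap B R))
    (hker : RingHom.ker (algebraMap B R) = Ideal.span {g}) :
    (⋀[R]^n (Ω[R⁄A])).annihilator =
      Ideal.span (Set.range fun φ : Ω[B⁄A] →ₗ[B] B => algebraMap B R (φ (D A B g))) := by
  classical
  let M := R ⊗[B] Ω[B⁄A]
  let v : M := 1 ⊗ₜ D A B g
  let μ : M →ₗ[R] Ω[R⁄A] := KaehlerDifferential.mapBaseChange A B R
  have hμ : LinearMap.ker μ = Submodule.span R {v} := by
    have hex := exact_kerCotangentToTensor_mapBaseChange A B R hsurj
    refine le_antisymm (fun x hx => ?_) ?_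
    · obtain ⟨y, rfl⟩ := (hex x).1 hx
      obtain ⟨⟨z, hz⟩, rfl⟩ := Ideal.toCotangent_surjective _ y
      obtain ⟨b, rfl⟩ := Ideal.mem_span_singleton'.1 (hker ▸ hz)
      refine Submodule.mem_span_singleton.2 ⟨algebraMap B R b, ?_⟩
      rw [kerCotangentToTensor_toCotangent, Derivation.leibniz, TensorProduct.tmul_add,
        TensorProduct.tmul_smul, TensorProduct.tmul_smul, ← algebraMap_smul R g,
        show algebraMap B R g = 0 from RingHom.mem_ker.1 (hker ▸ Ideal.mem_span_singleton_self g),
        zero_smul, add_zero, algebraMap_smul]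
    · rw [Submodule.span_singleton_le_iff_mem, LinearMap.mem_ker]
      exact (hex v).2 ⟨Ideal.toCotangent _ ⟨g, hker ▸ Ideal.mem_span_singleton_self g⟩,
        kerCotangentToTensor_toCotangent A B R _⟩
  let e : (M ⧸ Submodule.span R {v}) ≃ₗ[R] Ω[R⁄A] :=
    (Submodule.quotEquivOfEq _ _ hμ.symm).trans
      (LinearMap.quotKerEquivOfSurjective μ (KaehlerDifferential.mapBaseChange_surjective A B R hsurj))
  have hann : (⋀[R]^n (Ω[R⁄A])).annihilator = (⋀[R]^n (M ⧸ Submodule.span R {v})).annihilator := by
    refine LinearEquiv.annihilator_eq (LinearEquiv.ofLinear (exteriorPower.map n e.symm.toLinearMap)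
      (exteriorPower.map n e.toLinearMap) ?_ ?_)
    · rw [← exteriorPower.map_comp, e.symm_comp, exteriorPower.map_id]
    · rw [← exteriorPower.map_comp, e.comp_symm, exteriorPower.map_id]
  rw [hann, annihilator_extPower_quotient n (LocallyStd.baseChange (locallyStd_of_rank _ n hn)) v]
  refine le_antisymm (Ideal.span_le.2 ?_) (Ideal.span_le.2 ?_)
  · rintro _ ⟨ψ, rfl⟩
    obtain ⟨φ, hφ⟩ := Module.projective_lifting_property (Algebra.linearMap B R)
      ((ψ.restrictScalars B).comp (TensorProduct.mk B R (Ω[B⁄A]) 1)) hsurj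
    exact Ideal.subset_span ⟨φ, LinearMap.congr_fun hφ (D A B g)⟩
  · rintro _ ⟨φ, rfl⟩
    refine Ideal.subset_span ⟨(TensorProduct.AlgebraTensorModule.rid B R R).toLinearMap.comp
      (φ.baseChange R), ?_⟩
    show TensorProduct.AlgebraTensorModule.rid B R R (φ.baseChange R (1 ⊗ₜ D A B g)) = _
    simp [Algebra.algebraMap_eq_smul_one]

/-- Smoothness of a hypersurface at a prime. -/
theorem formallySmooth_localization_iff (g : B) (hg : IsSMulRegular B g)
    (hsurj : Function.Surjective (algebraMap B R))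
    (hker : RingHom.ker (algebraMap B R) = Ideal.span {g}) (p : Ideal R) [p.IsPrime] :
    Algebra.FormallySmooth A (Localization.AtPrime p) ↔
      ∃ φ : Ω[B⁄A] →ₗ[B] B, algebraMap B R (φ (D A B g)) ∉ p := by
  classical
  let q := p.comap (algebraMap B R)
  let Bq := Localization.AtPrime q
  let Rp := Localization.AtPrime p
  have hmap : Algebra.algebraMapSubmonoid R q.primeCompl = p.primeCompl := by
    ext x
    refine ⟨fun ⟨y, hy, hyx⟩ => hyx ▸ hy, fun hx => ?_⟩
    obtain ⟨y, rfl⟩ := hsurj x
    exact ⟨y, hx, rfl⟩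
  let _ : Algebra Bq Rp := (IsLocalization.map Rp (algebraMap B R)
    (show q.primeCompl ≤ p.primeCompl.comap (algebraMap B R) from fun _ h => h)).toAlgebra
  have : IsScalarTower B Bq Rp := IsScalarTower.of_algebraMap_eq fun x => by
    rw [RingHom.algebraMap_toAlgebra, IsLocalization.map_eq, ← IsScalarTower.algebraMap_apply]
  have : IsScalarTower A Bq Rp := IsScalarTower.of_algebraMap_eq fun x => by
    rw [IsScalarTower.algebraMap_apply A B Bq, ← IsScalarTower.algebraMap_apply B Bq Rp,
      IsScalarTower.algebraMap_apply B R Rp, ← IsScalarTower.algebraMap_apply A B R,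
      ← IsScalarTower.algebraMap_apply A R Rp]
  have hlocB : Algebra.FormallySmooth B Bq := Algebra.FormallySmooth.of_isLocalization q.primeCompl
  have : Algebra.FormallySmooth A Bq := Algebra.FormallySmooth.comp A B Bq
  have hsurjq : Function.Surjective (algebraMap Bq Rp) := fun z => by
        obtain ⟨⟨r, s⟩, rfl⟩ := IsLocalization.mk'_surjective p.primeCompl z
        obtain ⟨r, rfl⟩ := hsurj r
        obtain ⟨s', hs'⟩ := hsurj s.1
        have hs'' : s' ∈ q.primeCompl := by show algebraMap B R s' ∉ p; rw [hs']; exact s.2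
        refine ⟨IsLocalization.mk' Bq r ⟨s', hs''⟩, ?_⟩
        rw [RingHom.algebraMap_toAlgebra, IsLocalization.map_mk']
        congr 1
        exact Subtype.ext hs'
  let g' : Bq := algebraMap B Bq g
  let I := RingHom.ker (algebraMap Bq Rp)
  have hg' : g' ∈ I := by
    rw [RingHom.mem_ker, ← IsScalarTower.algebraMap_apply, IsScalarTower.algebraMap_apply B R Rp,
      show algebraMap B R g = 0 by rw [← RingHom.mem_ker, hker]; exact Ideal.mem_span_singleton_self g,
      map_zero]
  have hI : ∀ z ∈ I, ∃ y, z = y * g' := fun z hz => by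
    obtain ⟨⟨b, s⟩, rfl⟩ := IsLocalization.mk'_surjective q.primeCompl z
    rw [RingHom.mem_ker, RingHom.algebraMap_toAlgebra, IsLocalization.map_mk',
      IsLocalization.mk'_eq_zero_iff] at hz
    obtain ⟨⟨r, hr⟩, hrb⟩ := hz
    obtain ⟨r, rfl⟩ := hsurj r
    obtain ⟨c, hc⟩ := Ideal.mem_span_singleton'.1 (hker ▸
      (show r * b ∈ RingHom.ker (algebraMap B R) from by rw [RingHom.mem_ker, map_mul]; exact hrb))
    refine ⟨IsLocalization.mk' Bq c (⟨r, hr⟩ * s), ?_⟩
    rw [mul_comm, IsLocalization.mul_mk'_eq_mk'_of_mul, mul_comm g, hc, IsLocalization.mk'_eq_iff_eq]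
    simp [mul_comm, mul_left_comm]
  have hreg : ∀ y : Bq, y * g' = 0 → y = 0 := fun y hy => by
    obtain ⟨⟨b, s⟩, rfl⟩ := IsLocalization.mk'_surjective q.primeCompl y
    rw [mul_comm, IsLocalization.mul_mk'_eq_mk'_of_mul, IsLocalization.mk'_eq_zero_iff] at hy
    obtain ⟨r, hr⟩ := hy
    rw [IsLocalization.mk'_eq_zero_iff]
    refine ⟨r, hg ?_⟩
    show g * ((r : B) * b) = g * 0
    rw [mul_zero, mul_left_comm, hr]
  let γ : I.Cotangent := I.toCotangent ⟨g', hg'⟩
  have hkill : LinearMap.ker (Algebra.linearMap Bq Rp) ≤ LinearMap.ker (LinearMap.toSpanSingleton Bq _ γ) := by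
    intro x hx
    obtain ⟨y, rfl⟩ := hI x hx
    rw [LinearMap.mem_ker, LinearMap.toSpanSingleton_apply, ← map_smul, Ideal.toCotangent_eq_zero]
    rw [pow_two]
    exact Ideal.mul_mem_mul hx hg'
  let r : Rp →ₗ[Bq] I.Cotangent := ((LinearMap.ker (Algebra.linearMap Bq Rp)).liftQ _ hkill).comp
    (LinearMap.quotKerEquivOfSurjective (Algebra.linearMap Bq Rp) hsurjq).symm.toLinearMap
  have hr : ∀ x : Bq, r (algebraMap Bq Rp x) = x • γ := fun x => by
    show (LinearMap.ker (Algebra.linearMap Bq Rp)).liftQ _ hkill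
      ((LinearMap.quotKerEquivOfSurjective _ hsurjq).symm (Algebra.linearMap Bq Rp x)) = _
    rw [LinearMap.quotKerEquivOfSurjective_symm_apply]
    rfl
  have hrbij : Function.Bijective r := by
    refine ⟨(injective_iff_map_eq_zero r).2 fun z hz => ?_, fun z => ?_⟩
    · obtain ⟨x, rfl⟩ := hsurjq z
      rw [hr, ← map_smul, Ideal.toCotangent_eq_zero] at hz
      have hle : I ≤ Ideal.span {g'} := fun w hw => Ideal.mem_span_singleton'.2
        ((hI w hw).imp fun _ h => h.symm)
      obtain ⟨c, hc⟩ := Ideal.mem_span_singleton'.1 (by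
        have h' := Ideal.pow_right_mono hle 2 hz
        rwa [Ideal.span_singleton_pow] at h' : (x * g' : Bq) ∈ Ideal.span {g' ^ 2})
      have : x = c * g' := by
        rw [← sub_eq_zero]
        refine hreg _ ?_
        rw [sub_mul, mul_assoc, ← pow_two, hc, sub_self]
      rw [this]
      exact RingHom.mem_ker.1 (I.mul_mem_left c hg')
    · obtain ⟨⟨w, hw⟩, rfl⟩ := I.toCotangent_surjective z
      obtain ⟨y, rfl⟩ := hI w hw
      refine ⟨algebraMap Bq Rp y, ?_⟩
      rw [hr, ← map_smul]
      rfl
  let ι : Ω[B⁄A] →ₗ[B] Ω[Bq⁄A] := KaehlerDifferential.map A A B Bq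
  have : IsLocalizedModule q.primeCompl ι := KaehlerDifferential.isLocalizedModule_map A B Bq q.primeCompl
  rw [Algebra.FormallySmooth.iff_split_injection (P := Bq) hsurjq]
  constructor
  · rintro ⟨l, hl⟩
    let e := LinearEquiv.ofBijective r hrbij
    let ψ : Ω[B⁄A] →ₗ[B] Rp := ((e.symm.toLinearMap.comp l).restrictScalars B).comp
      (((TensorProduct.mk Bq Rp (Ω[Bq⁄A]) 1).restrictScalars B).comp ι)
    have hψ : ψ (D A B g) = 1 := by
      have h1 : l (1 ⊗ₜ D A Bq g') = γ := by
        rw [← kerCotangentToTensor_toCotangent A Bq Rp ⟨g', hg'⟩]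
        exact LinearMap.congr_fun hl γ
      show e.symm (l (1 ⊗ₜ KaehlerDifferential.map A A B Bq (D A B g))) = 1
      rw [KaehlerDifferential.map_D, h1, LinearEquiv.symm_apply_eq]
      show γ = r 1
      rw [← map_one (algebraMap Bq Rp), hr, one_smul]
    have : IsLocalizedModule q.primeCompl (IsScalarTower.toAlgHom B R Rp).toLinearMap := by
      rw [isLocalizedModule_iff_isLocalization, hmap]
      infer_instance
    have : Module.FinitePresentation B Ω[B⁄A] := Module.finitePresentation_of_projective B _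
    obtain ⟨h, s, hs⟩ := Module.FinitePresentation.exists_lift_of_isLocalizedModule q.primeCompl
      (IsScalarTower.toAlgHom B R Rp).toLinearMap ψ
    obtain ⟨φ, hφ⟩ := Module.projective_lifting_property (Algebra.linearMap B R) h hsurj
    refine ⟨φ, fun hmem => ?_⟩
    have h2 : algebraMap R Rp (algebraMap B R (φ (D A B g))) = algebraMap R Rp (algebraMap B R s) := by
      rw [show algebraMap B R (φ (D A B g)) = h (D A B g) from LinearMap.congr_fun hφ _]
      rw [show algebraMap R Rp (h (D A B g)) = s • ψ (D A B g) from LinearMap.congr_fun hs _, hψ,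
        Submonoid.smul_def, ← Algebra.algebraMap_eq_smul_one, ← IsScalarTower.algebraMap_apply]
    have h3 := (IsLocalization.AtPrime.to_map_mem_maximal_iff Rp p _).2 hmem
    rw [h2] at h3
    exact s.2 ((IsLocalization.AtPrime.to_map_mem_maximal_iff Rp p _).1 h3)
  · rintro ⟨φ, hφ⟩
    let φq : Ω[Bq⁄A] →ₗ[Bq] Bq := (IsLocalizedModule.lift q.primeCompl ι
      ((Algebra.linearMap B Bq).comp φ) (IsLocalizedModule.map_units (Algebra.linearMap B Bq))).extendScalarsOfIsLocalization
      q.primeCompl Bq
    have hφq : φq (D A Bq g') = algebraMap B Bq (φ (D A B g)) := by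
      rw [show D A Bq g' = ι (D A B g) from (KaehlerDifferential.map_D A A B Bq g).symm]
      exact IsLocalizedModule.lift_apply q.primeCompl ι ((Algebra.linearMap B Bq).comp φ)
        (IsLocalizedModule.map_units (Algebra.linearMap B Bq)) _
    obtain ⟨c, hc⟩ := IsLocalization.map_units Bq (⟨φ (D A B g), hφ⟩ : q.primeCompl)
    let φ' : Ω[Bq⁄A] →ₗ[Bq] Bq := (↑c⁻¹ : Bq) • φq
    have hφ' : φ' (D A Bq g') = 1 := by
      show (↑c⁻¹ : Bq) * φq _ = 1
      rw [hφq, ← hc, Units.inv_mul]
    refine ⟨r.comp ((TensorProduct.rid Bq Rp).toLinearMap.comp (φ'.lTensor Rp)), ?_⟩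
    refine LinearMap.ext fun z => ?_
    obtain ⟨⟨w, hw⟩, rfl⟩ := I.toCotangent_surjective z
    obtain ⟨y, rfl⟩ := hI w hw
    simp only [LinearMap.comp_apply, LinearEquiv.coe_coe, LinearMap.id_apply]
    rw [kerCotangentToTensor_toCotangent, LinearMap.lTensor_tmul, TensorProduct.rid_tmul,
      ← Algebra.algebraMap_eq_smul_one, Derivation.leibniz, map_add, map_smul, map_smul, hφ', map_add]
    rw [show algebraMap Bq Rp (g' • φ' (D A Bq y)) = 0 by
      rw [smul_eq_mul, map_mul, RingHom.mem_ker.1 hg', zero_mul]]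
    rw [add_zero, smul_eq_mul, mul_one, hr, ← map_smul]
    rfl

end Groth.Agent.Hens22
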