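import Groth.Agent.Hens22.SmoothTorDim
import Groth.Agent.Hens22.Hypersurf

/-!
Periodicity and annihilation of `Tor` over a hypersurface.
-/

set_option autoImplicit false
universe u

open CategoryTheory CategoryTheory.Limits TensorProduct
open Groth.Agent.Hens22.TorDim

noncomputable section

namespace Groth.Agent.Hens22.HyperTor

variable {A B R : Type u} [CommRing A] [CommRing B] [CommRing R] [Algebra A B] [Algebra B R]
  {g : B} (hg : IsSMulRegular B g) (hsurj : Function.Surjective (algebraMap B R))
  (hker : RingHom.ker (algebraMap B R) = Ideal.span {g})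

include hker in
theorem g_smul {X : Type u} [AddCommGroup X] [Module R X] [Module B X] [IsScalarTower B R X] (x : X) :
    g • x = 0 := by
  have h : algebraMap B R g = 0 := RingHom.mem_ker.1 (hker.ge (Ideal.mem_span_singleton_self g))
  rw [← algebraMap_smul R g x, h, zero_smul]

include hg hsurj hker in
/-- Free modules over the quotient have flat dimension at most one. -/
theorem fdle_finsupp (κ : Type u) : FDle B (κ →₀ R) 1 := by
  classical
  let q : (κ →₀ B) →ₗ[B] (κ →₀ R) := Finsupp.mapRange.linearMap (Algebra.linearMap B R)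
  let μ : (κ →₀ B) →ₗ[B] (κ →₀ B) := g • LinearMap.id
  have hq : Function.Surjective q := Finsupp.mapRange_surjective _ (map_zero _) hsurj
  have hμ : Function.Injective μ := fun x y h => Finsupp.ext fun k => hg (DFunLike.congr_fun h k)
  have hex : Function.Exact μ q := by
    intro x
    constructor
    · intro h
      have : ∀ k, ∃ b, b * g = x k := fun k =>
        Ideal.mem_span_singleton'.1 (hker.le (RingHom.mem_ker.2 (DFunLike.congr_fun h k)))
      choose b hb using this
      refine ⟨Finsupp.onFinset x.support (fun k => if k ∈ x.support then b k else 0) (fun k hk => by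
        by_contra h'; simp [h'] at hk), Finsupp.ext fun k => ?_⟩
      show g * _ = _
      simp only [LinearMap.id_coe, id_eq, Finsupp.onFinset_apply]
      split_ifs with hk
      · rw [mul_comm, hb]
      · rw [mul_zero, Finsupp.notMem_support_iff.1 hk]
    · rintro ⟨y, rfl⟩
      refine Finsupp.ext fun k => ?_
      show algebraMap B R (g * y k) = 0
      rw [map_mul, RingHom.mem_ker.1 (hker.ge (Ideal.mem_span_singleton_self g)), zero_mul]
  exact (fdle_succ_iff hμ hex hq 0).2 (fdle_of_flat 0)

include hg hsurj hker in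
/-- A high syzygy has flat dimension one. -/
theorem exists_syzygy : ∀ (k : ℕ) (X : Type u) [AddCommGroup X] [Module R X] [Module B X]
    [IsScalarTower B R X] (d : ℕ), FDle B X (max (d + k) 1) →
    ∃ (L : Type u) (_ : AddCommGroup L) (_ : Module R L) (_ : Module B L) (_ : IsScalarTower B R L),
      FDle B L (max d 1) ∧
      ∀ (S : ModuleCat.{u} R) (i : ℕ), 0 < i → Nonempty (H (R := R) X S (i + k) ≅ H (R := R) L S i) := by
  classical
  intro k
  induction k with
  | zero =>
    intro X _ _ _ _ d h
    exact ⟨X, inferInstance, inferInstance, inferInstance, inferInstance, h, fun S i _ => ⟨Iso.refl _⟩⟩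
  | succ k ih =>
    intro X _ _ _ _ d h
    obtain ⟨L, _, _, _, _, hL, hiso⟩ := ih X (d + 1) (by rwa [show d + 1 + k = d + (k + 1) by omega])
    let π : (L →₀ R) →ₗ[R] L := Finsupp.linearCombination R id
    have hπ : Function.Surjective π := fun x => ⟨Finsupp.single x 1, by simp [π]⟩
    let K := LinearMap.ker π
    have hex : Function.Exact K.subtype π := LinearMap.exact_subtype_ker_map π
    refine ⟨K, inferInstance, inferInstance, inferInstance, inferInstance, ?_, fun S i hi => ?_⟩
    · intro S i hi
      have hF := fdle_finsupp hg hsurj hker L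
      obtain ⟨e⟩ := nonempty_shift (R := B) (K := K) (F := L →₀ R) (Y := L) (f := K.subtype.restrictScalars B) (g := π.restrictScalars B)
        (Submodule.injective_subtype _) hex hπ S i (hF S (i + 1) (by omega)) (hF S i (by omega))
      exact (hL S (i + 1) (by omega)).of_iso e.symm
    · obtain ⟨e₁⟩ := hiso S (i + 1) (Nat.succ_pos i)
      obtain ⟨e₂⟩ := nonempty_shift (R := R) (K := K) (F := L →₀ R) (Y := L) (f := K.subtype) (g := π) (Submodule.injective_subtype K) hex hπ S i
        (fdle_of_flat (X := L →₀ R) 0 S (i + 1) (Nat.succ_pos i)) (fdle_of_flat (X := L →₀ R) 0 S i hi)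
      exact ⟨eqToIso (by rw [Nat.add_comm k 1, ← Nat.add_assoc]) ≪≫ e₁ ≪≫ e₂⟩

section Periodic

variable {L : Type u} [AddCommGroup L] [Module R L] [Module B L] [IsScalarTower B R L]

include hg hsurj hker in
theorem periodic_and_killed [Algebra A R] [IsScalarTower A B R] (hL : FDle B L 1) (S : ModuleCat.{u} R)
    (i : ℕ) (hi : 0 < i) :
    Nonempty (H (R := R) L S (i + 2) ≅ H (R := R) L S i) ∧
      ∀ (D : Derivation A B B) (t : H (R := R) L S i), algebraMap B R (D g) • t = 0 := by
  classical
  let π : (L →₀ B) →ₗ[B] L := Finsupp.linearCombination B id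
  have hπ : Function.Surjective π := fun x => ⟨Finsupp.single x 1, by simp [π]⟩
  let K := LinearMap.ker π
  haveI : Module.Flat B K := fdle_zero_iff.1
    ((fdle_succ_iff (R := B) (K := K) (F := L →₀ B) (Y := L) (f := K.subtype) (g := π) (Submodule.injective_subtype K) (LinearMap.exact_subtype_ker_map π) hπ 0).1 hL)
  haveI : Module.Flat R (R ⊗[B] K) := Module.Flat.baseChange ..
  haveI : Module.Flat R (R ⊗[B] (L →₀ B)) := Module.Flat.baseChange ..
  have hone : ∀ {M : Type u} [AddCommMonoid M] [Module B M] (z : R ⊗[B] M), ∃ m : M, (1 : R) ⊗ₜ m = z := by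
    intro M _ _ z
    induction z using TensorProduct.induction_on with
    | zero => exact ⟨0, tmul_zero _ _⟩
    | add x y hx hy =>
      obtain ⟨a, rfl⟩ := hx; obtain ⟨b, rfl⟩ := hy
      exact ⟨a + b, tmul_add _ _ _⟩
    | tmul r m =>
      obtain ⟨b, rfl⟩ := hsurj r
      exact ⟨b • m, by rw [← smul_tmul, Algebra.smul_def, mul_one]⟩
  have hg0 : algebraMap B R g = 0 := RingHom.mem_ker.1 (hker.ge (Ideal.mem_span_singleton_self g))
  have hgt : ∀ {M : Type u} [AddCommMonoid M] [Module B M] (m : M), (1 : R) ⊗ₜ[B] (g • m) = 0 := by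
    intro M _ _ m
    rw [← smul_tmul, Algebra.smul_def, hg0, zero_mul, zero_tmul]
  -- vanishing in `R ⊗ F₀`
  let qF : R ⊗[B] (L →₀ B) →ₗ[B] (L →₀ R) := TensorProduct.lift
    (LinearMap.mk₂ B (fun r (z : L →₀ B) => r • (Finsupp.mapRange (algebraMap B R) (map_zero _) z))
      (fun r r' z => add_smul _ _ _) (fun b r z => smul_assoc _ _ _)
      (fun r z z' => by rw [Finsupp.mapRange_add (map_add _), smul_add])
      (fun b r z => by
        refine Finsupp.ext fun k => ?_
        simp only [Finsupp.smul_apply, Finsupp.mapRange_apply, smul_eq_mul, map_mul, Algebra.smul_def]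
        ring))
  have hzero : ∀ z : L →₀ B, (1 : R) ⊗ₜ[B] z = 0 → ∃ y, g • y = z := by
    intro z hz
    have h1 := congrArg qF hz
    rw [map_zero] at h1
    have h2 : ∀ k, ∃ b, g * b = z k := fun k => by
      have h3 := DFunLike.congr_fun h1 k
      simp only [qF, TensorProduct.lift.tmul, LinearMap.mk₂_apply, one_smul, Finsupp.mapRange_apply,
        Finsupp.zero_apply] at h3
      obtain ⟨b, hb⟩ := Ideal.mem_span_singleton'.1 (hker.le (RingHom.mem_ker.2 h3))
      exact ⟨b, by rw [mul_comm]; exact hb⟩
    choose b hb using h2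
    refine ⟨Finsupp.onFinset z.support (fun k => if k ∈ z.support then b k else 0) (fun k hk => by
      by_contra h'; simp [h'] at hk), Finsupp.ext fun k => ?_⟩
    show g * _ = _
    rw [Finsupp.onFinset_apply]
    split_ifs with hk
    · exact hb k
    · rw [mul_zero, Finsupp.notMem_support_iff.1 hk]
  -- the two short exact sequences
  let a : R ⊗[B] K →ₗ[R] R ⊗[B] (L →₀ B) := K.subtype.baseChange R
  let p : R ⊗[B] (L →₀ B) →ₗ[R] L := LinearMap.liftBaseChange R π
  have hp1 : ∀ z, p (1 ⊗ₜ z) = π z := fun z => by simp [p]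
  have ha1 : ∀ z : K, a (1 ⊗ₜ z) = 1 ⊗ₜ (z : L →₀ B) := fun z => by simp [a]
  let β₀ : (L →₀ B) →ₗ[B] R ⊗[B] K :=
    (TensorProduct.mk B R K 1).comp (LinearMap.codRestrict K (g • LinearMap.id) fun y => by
      show π (g • y) = 0
      rw [map_smul]
      exact g_smul (R := R) hker _)
  have hβker : LinearMap.ker π ≤ LinearMap.ker β₀ := fun y hy => by
    show (1 : R) ⊗ₜ[B] _ = 0
    exact (congrArg ((1 : R) ⊗ₜ[B] ·) (Subtype.ext rfl : _ = g • (⟨y, hy⟩ : K))).trans (hgt _)
  let eπ := π.quotKerEquivOfSurjective hπ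
  let β' : L →ₗ[B] R ⊗[B] K := (K.liftQ β₀ hβker).comp eπ.symm.toLinearMap
  have hβ' : ∀ y, β' (π y) = β₀ y := fun y => by
    show (K.liftQ β₀ hβker) (eπ.symm (π y)) = _
    rw [show eπ.symm (π y) = Submodule.Quotient.mk y from (LinearEquiv.symm_apply_eq eπ).2 rfl]
    rfl
  let β : L →ₗ[R] R ⊗[B] K := LinearMap.extendScalarsOfSurjective hsurj β'
  have hβ : ∀ y, β (π y) = β₀ y := hβ'
  have hβinj : Function.Injective β := by
    rw [injective_iff_map_eq_zero]
    intro x hx
    obtain ⟨y, rfl⟩ := hπ x
    rw [hβ] at hx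
    have h1 : (1 : R) ⊗ₜ[B] (g • y) = 0 := by
      have := congrArg a hx
      rwa [map_zero, show β₀ y = (1 : R) ⊗ₜ _ from rfl, ha1] at this
    -- `g y ∈ g K`
    obtain ⟨z, hz⟩ := hone (β₀ y)
    by_cases hy : y ∈ K
    · exact hy
    · exfalso
      apply hy
      have h2 : (1 : R) ⊗ₜ[B] (LinearMap.codRestrict K (g • LinearMap.id) (fun y => by
        show π (g • y) = 0
        rw [map_smul]
        exact g_smul (R := R) hker _) y) = 0 := hx
      -- write the element as a multiple of `g`
      have hex : ∃ w : K, g • w = LinearMap.codRestrict K (g • LinearMap.id) (fun y => by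
          show π (g • y) = 0
          rw [map_smul]
          exact g_smul (R := R) hker _) y := by
        have hmem := (TensorProduct.quotTensorEquivQuotSMul K (Ideal.span {g}))
        let eR : (B ⧸ Ideal.span {g}) ≃ₗ[B] R :=
          ((Ideal.quotientEquivAlgOfEq B hker.symm).trans
            (Ideal.quotientKerAlgEquivOfSurjective (f := Algebra.ofId B R) hsurj)).toLinearEquiv
        have h3 := congrArg ((TensorProduct.congr eR (LinearEquiv.refl B K)).symm) h2
        rw [map_zero, TensorProduct.congr_symm_tmul] at h3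
        have h4 := congrArg (TensorProduct.quotTensorEquivQuotSMul K (Ideal.span {g})) h3
        have h5 : eR.symm 1 = Ideal.Quotient.mk _ 1 := by
          rw [LinearEquiv.symm_apply_eq]
          exact (map_one (algebraMap B R)).symm
        rw [map_zero, h5] at h4
        erw [TensorProduct.quotTensorEquivQuotSMul_mk_tmul] at h4
        rw [one_smul, Submodule.Quotient.mk_eq_zero, Submodule.ideal_span_singleton_smul,
          Submodule.mem_smul_pointwise_iff_exists] at h4
        obtain ⟨w, -, hw⟩ := h4
        exact ⟨w, hw⟩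
      obtain ⟨w, hw⟩ := hex
      have h6 : g • (w : L →₀ B) = g • y := congrArg Subtype.val hw
      have h7 : (w : L →₀ B) = y := Finsupp.ext fun k => hg (DFunLike.congr_fun h6 k)
      exact h7 ▸ w.2
  let M := LinearMap.ker p
  have hpsurj : Function.Surjective p := fun x => by
    obtain ⟨y, rfl⟩ := hπ x
    exact ⟨1 ⊗ₜ y, hp1 y⟩
  have hap : ∀ z, p (a z) = 0 := fun z => by
    obtain ⟨w, rfl⟩ := hone z
    rw [ha1, hp1]
    exact w.2
  let a' : R ⊗[B] K →ₗ[R] M := a.codRestrict M hap
  have ha'surj : Function.Surjective a' := by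
    rintro ⟨z, hz⟩
    obtain ⟨y, rfl⟩ := hone z
    have hy : y ∈ K := by
      show π y = 0
      rw [← hp1]; exact hz
    exact ⟨1 ⊗ₜ ⟨y, hy⟩, Subtype.ext (ha1 _)⟩
  have hex1 : Function.Exact β a' := by
    intro z
    constructor
    · intro h
      obtain ⟨w, rfl⟩ := hone z
      have h1 : (1 : R) ⊗ₜ[B] (w : L →₀ B) = 0 := (ha1 w).symm.trans (congrArg Subtype.val h)
      obtain ⟨y, hy⟩ := hzero _ h1
      refine ⟨π y, (hβ y).trans ?_⟩
      exact congrArg ((1 : R) ⊗ₜ[B] ·) (Subtype.ext hy)
    · rintro ⟨x, rfl⟩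
      obtain ⟨y, rfl⟩ := hπ x
      rw [hβ]
      refine Subtype.ext ?_
      show a ((1 : R) ⊗ₜ[B] _) = 0
      rw [ha1]
      exact hgt y
  have hFl : ∀ j, 0 < j → IsZero (H (R := R) (R ⊗[B] K) S j) ∧ IsZero (H (R := R) (R ⊗[B] (L →₀ B)) S j) :=
    fun j hj => ⟨fdle_of_flat 0 S j hj, fdle_of_flat 0 S j hj⟩
  refine ⟨?_, fun D t => ?_⟩
  · obtain ⟨e₁⟩ := nonempty_shift (R := R) (K := M) (F := R ⊗[B] (L →₀ B)) (Y := L) (f := M.subtype) (g := p) (Submodule.injective_subtype M)
      (LinearMap.exact_subtype_ker_map p) hpsurj S (i + 1) (hFl _ (by omega)).2 (hFl _ (by omega)).2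
    obtain ⟨e₂⟩ := nonempty_shift (R := R) (K := L) (F := R ⊗[B] K) (Y := M) (f := β) (g := a') hβinj hex1 ha'surj S i
      (hFl _ (by omega)).1 (hFl _ hi).1
    exact ⟨e₁ ≪≫ e₂⟩
  · -- the homotopy given by a derivation
    let DF : (L →₀ B) → (L →₀ B) := fun z => z.mapRange D (map_zero D)
    let θ₀ : K →ₗ[B] L :=
      { toFun := fun z => π (DF z)
        map_add' := fun z w => by
          show π (DF ((z : L →₀ B) + w)) = _
          rw [show DF ((z : L →₀ B) + w) = DF z + DF w from Finsupp.mapRange_add (map_add D) _ _, map_add]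
        map_smul' := fun b z => by
          show π (DF (b • (z : L →₀ B))) = b • π (DF z)
          have e : DF (b • (z : L →₀ B)) = b • DF z + D b • (z : L →₀ B) := Finsupp.ext fun k => by
            show D (b • (z : L →₀ B) k) = b • D ((z : L →₀ B) k) + D b • (z : L →₀ B) k
            simp only [smul_eq_mul, D.leibniz]
            ring
          rw [e, map_add, map_smul, map_smul, show π (z : L →₀ B) = 0 from z.2, smul_zero, add_zero] }
    let θ : R ⊗[B] K →ₗ[R] L := LinearMap.liftBaseChange R θ₀
    have hθ : θ ∘ₗ β = algebraMap B R (D g) • LinearMap.id := by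
      refine LinearMap.ext fun x => ?_
      obtain ⟨y, rfl⟩ := hπ x
      show θ (β (π y)) = algebraMap B R (D g) • π y
      rw [hβ, algebraMap_smul]
      show θ ((1 : R) ⊗ₜ[B] _) = _
      rw [LinearMap.liftBaseChange_tmul, one_smul]
      show π (DF (g • y)) = _
      have e : DF (g • y) = g • DF y + D g • y := Finsupp.ext fun k => by
        show D (g • y k) = g • D (y k) + D g • y k
        simp only [smul_eq_mul, D.leibniz]
        ring
      rw [e, map_add, map_smul, map_smul, g_smul (R := R) hker, zero_add]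
    exact smul_eq_zero_of_factor _ β θ hθ S i hi t

end Periodic

end Groth.Agent.Hens22.HyperTor
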