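import Groth.Agent.Hens22.HyperTor
import Groth.Agent.Hens22.Hypersurf

/-!
`Tor` over a hypersurface in high degrees.
-/

set_option autoImplicit false
universe u

open CategoryTheory CategoryTheory.Limits MonoidalCategory TensorProduct KaehlerDifferential
open Groth.Agent.TorBal94 Groth.Agent.Hens22.TorDim Groth.Agent.Hens22.SmoothTorDim Groth.Agent.Hens22.HyperTor

noncomputable section

namespace Groth.Agent.Hens22.HyperTorMain

theorem isZero_H_of_subsingleton {R : Type u} [CommRing R] {X : Type u} [AddCommGroup X] [Module R X]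
    [Subsingleton X] (S : ModuleCat.{u} R) (i : ℕ) : IsZero (H (R := R) X S i) := by
  refine (HomologicalComplex.exactAt_iff_isZero_homology _ _).1 (ShortComplex.exact_of_isZero_X₂ _ ?_)
  haveI : Subsingleton ((cx (ModuleCat.of R X) S).sc i).X₂ :=
    inferInstanceAs (Subsingleton (X ⊗[R] ((projectiveResolution S).complex.X i)))
  exact ModuleCat.isZero_of_subsingleton _

variable {A B R : Type u} [CommRing A] [CommRing B] [CommRing R]
    [Algebra A B] [Algebra B R] [Algebra A R] [IsScalarTower A B R] [Algebra.Smooth A B] (n : ℕ)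
    (hn : ∀ p : PrimeSpectrum B, Module.rankAtStalk (Ω[B⁄A]) p = n)
    {g : B} (hg : IsSMulRegular B g) (hsurj : Function.Surjective (algebraMap B R))
    (hker : RingHom.ker (algebraMap B R) = Ideal.span {g})
    (m : ℕ) (M : ModuleCat.{u} R)
    (hM : ∀ (P : ModuleCat.{u} A) (i : ℕ), m < i →
      IsZero (((Tor (ModuleCat.{u} A) i).obj ((ModuleCat.restrictScalars (algebraMap A R)).obj M)).obj P))

include hn hg hsurj hker hM in
/-- Above the bound, `Tor` is two-periodic and killed by the derivatives of the equation. -/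
theorem main (S : ModuleCat.{u} R) (q : ℕ) (hq : m + n ≤ q) :
    Nonempty (((Tor (ModuleCat.{u} R) (q + 2)).obj M).obj S ≅ ((Tor (ModuleCat.{u} R) q).obj M).obj S) ∧
      ∀ (D : Derivation A B B) (t : (((Tor (ModuleCat.{u} R) q).obj M).obj S)),
        algebraMap B R (D g) • t = 0 := by
  classical
  letI : Module A M := Module.compHom M (algebraMap A R)
  haveI : IsScalarTower A R M := .of_algebraMap_smul fun a x => rfl
  letI : Module B M := Module.compHom M (algebraMap B R)
  haveI : IsScalarTower B R M := .of_algebraMap_smul fun b x => rfl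
  haveI : IsScalarTower A B M := .of_algebraMap_smul fun a x => by
    show algebraMap B R (algebraMap A B a) • x = algebraMap A R a • x
    rw [← IsScalarTower.algebraMap_apply]
  have hA : FDle A M m := fun P i hi => (isZero_tor_iff _ P i).1 (hM P i hi)
  have hB : FDle B M (m + n) := rel_bound (rel_smooth n hn) m M hA
  by_cases h0 : m + n = 0
  · rw [h0] at hB
    haveI : Module.Flat B M := fdle_zero_iff.1 hB
    haveI : Subsingleton M :=
      subsingleton_of_flat_of_smul_eq_zero hg fun x => g_smul (R := R) hker x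
    have hz : ∀ j, IsZero (((Tor (ModuleCat.{u} R) j).obj M).obj S) := fun j =>
      (isZero_H_of_subsingleton (X := M) S j).of_iso (torIso M S j)
    exact ⟨⟨(hz _).iso (hz _)⟩, fun D t =>
      haveI := ModuleCat.subsingleton_of_isZero (hz q); Subsingleton.elim _ _⟩
  · obtain ⟨k, hk⟩ : ∃ k, m + n = 1 + k := ⟨m + n - 1, by omega⟩
    obtain ⟨L, _, _, _, _, hL, hiso⟩ := exists_syzygy hg hsurj hker k M 1
      (hB.mono (by omega))
    obtain ⟨i, rfl⟩ : ∃ i, q = (i + 1) + k := ⟨q - 1 - k, by omega⟩
    obtain ⟨⟨e⟩, hkill⟩ := periodic_and_killed (A := A) hg hsurj hker (by simpa using hL) S (i + 1)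
      (Nat.succ_pos i)
    obtain ⟨e₀⟩ := hiso S (i + 1) (Nat.succ_pos i)
    obtain ⟨e₂⟩ := hiso S (i + 1 + 2) (by omega)
    refine ⟨⟨torIso M S _ ≪≫ eqToIso (by rw [Nat.add_right_comm]) ≪≫ e₂ ≪≫ e ≪≫ e₀.symm ≪≫
      (torIso M S _).symm⟩, fun D t => ?_⟩
    have hinj := (torIso (R := R) M S ((i + 1) + k) ≪≫ e₀).toLinearEquiv.injective
    apply hinj
    rw [map_smul, map_zero]
    exact hkill D _

end Groth.Agent.Hens22.HyperTorMain
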