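import Mathlib.RingTheory.Kaehler.Basic
import Mathlib.RingTheory.Kaehler.Polynomial
import Mathlib.RingTheory.Localization.AtPrime.Basic
import Mathlib.RingTheory.Localization.Finiteness
import Mathlib.RingTheory.Nakayama
import Mathlib.RingTheory.LocalRing.Module

/-!
Vanishing of localised differentials via a presentation.
-/

set_option autoImplicit false
universe u

noncomputable section

open KaehlerDifferential

namespace Groth.Agent.Hens22

variable {A P B : Type u} [CommRing A] [CommRing P] [CommRing B] [Algebra A P] [Algebra A B]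
  [Algebra P B] [IsScalarTower A P B]

theorem mem_span_sup_of_map_eq_zero (h : Function.Surjective (algebraMap P B)) {ω : Ω[P⁄A]}
    (hω : KaehlerDifferential.map A A P B ω = 0) :
    ω ∈ Submodule.span P (D A P '' (RingHom.ker (algebraMap P B) : Set P)) ⊔
      RingHom.ker (algebraMap P B) • (⊤ : Submodule P Ω[P⁄A]) := by
  have hω' : ω ∈ LinearMap.ker (KaehlerDifferential.map A A P B) := hω
  rw [KaehlerDifferential.ker_map_of_surjective A P B h] at hω'
  obtain ⟨x, hx, rfl⟩ := hω'
  let s : B → P := Function.surjInv h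
  have hs : ∀ b, algebraMap P B (s b) = b := Function.surjInv_eq h
  let y := Finsupp.mapDomain (algebraMap P B) x
  have hy : ∀ b, algebraMap P B (y b) = 0 := fun b => DFunLike.congr_fun hx b
  have h1 : Finsupp.linearCombination P (fun b => D A P (s b)) y ∈
      RingHom.ker (algebraMap P B) • (⊤ : Submodule P Ω[P⁄A]) := by
    rw [Finsupp.linearCombination_apply]
    exact Submodule.sum_mem _ fun b _ => Submodule.smul_mem_smul (hy b) trivial
  have h2 : Finsupp.linearCombination P (D A P) x - Finsupp.linearCombination P (fun b => D A P (s b)) y ∈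
      Submodule.span P (D A P '' (RingHom.ker (algebraMap P B) : Set P)) := by
    rw [Finsupp.linearCombination_mapDomain, Finsupp.linearCombination_apply,
      Finsupp.linearCombination_apply, ← Finsupp.sum_sub]
    refine Submodule.sum_mem _ fun a _ => ?_
    dsimp only [Function.comp_apply]
    rw [← smul_sub, ← map_sub]
    refine Submodule.smul_mem _ _ (Submodule.subset_span ⟨_, ?_, rfl⟩)
    rw [SetLike.mem_coe, RingHom.mem_ker, map_sub, hs, sub_self]
  rw [Submodule.mem_sup]
  exact ⟨_, h2, _, h1, sub_add_cancel _ _⟩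

theorem map_eq_zero_of_mem_span {ω : Ω[P⁄A]}
    (hω : ω ∈ Submodule.span P (D A P '' (RingHom.ker (algebraMap P B) : Set P))) :
    KaehlerDifferential.map A A P B ω = 0 := by
  refine (Submodule.span_le (p := LinearMap.ker (KaehlerDifferential.map A A P B))).2 ?_ hω
  rintro _ ⟨g, hg, rfl⟩
  rw [SetLike.mem_coe, LinearMap.mem_ker, KaehlerDifferential.map_D, RingHom.mem_ker.1 hg, map_zero]

theorem subsingleton_localized_iff [Module.Finite P Ω[P⁄A]]
    (h : Function.Surjective (algebraMap P B)) (q : Ideal B) [q.IsPrime] :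
    Subsingleton (LocalizedModule q.primeCompl Ω[B⁄A]) ↔
      Submodule.span (Localization.AtPrime (q.comap (algebraMap P B)))
        ((LocalizedModule.mkLinearMap (q.comap (algebraMap P B)).primeCompl Ω[P⁄A]) ''
          (D A P '' (RingHom.ker (algebraMap P B) : Set P))) = ⊤ := by
  let p := q.comap (algebraMap P B)
  let Rp := Localization.AtPrime p
  let mk := LocalizedModule.mkLinearMap p.primeCompl Ω[P⁄A]
  let N := Submodule.span P (D A P '' (RingHom.ker (algebraMap P B) : Set P))
  have hspan : Submodule.span Rp (mk '' (D A P '' (RingHom.ker (algebraMap P B) : Set P))) =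
      N.localized' Rp p.primeCompl mk := by
    rw [Submodule.localized'_span]
  show _ ↔ Submodule.span Rp (mk '' _) = ⊤
  rw [hspan, LocalizedModule.subsingleton_iff]
  constructor
  · intro H
    rw [eq_top_iff]
    refine Submodule.le_of_le_smul_of_le_jacobson_bot (I := IsLocalRing.maximalIdeal Rp)
      Module.Finite.fg_top (IsLocalRing.jacobson_eq_maximalIdeal ⊥ bot_ne_top).ge ?_
    intro z _
    obtain ⟨⟨ω, s⟩, rfl⟩ := IsLocalizedModule.mk'_surjective p.primeCompl mk z
    obtain ⟨t, ht, hω⟩ := H (KaehlerDifferential.map A A P B ω)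
    obtain ⟨r, rfl⟩ := h t
    have hr : r ∈ p.primeCompl := ht
    have hrω : KaehlerDifferential.map A A P B (r • ω) = 0 := by
      rw [map_smul, ← algebraMap_smul B]
      exact hω
    obtain ⟨n, hn, i, hi, hni⟩ := Submodule.mem_sup.1 (mem_span_sup_of_map_eq_zero h hrω)
    have hz : IsLocalizedModule.mk' mk ω s =
        IsLocalizedModule.mk' mk n (⟨r, hr⟩ * s) + IsLocalizedModule.mk' mk i (⟨r, hr⟩ * s) := by
      rw [← IsLocalizedModule.mk'_add, hni]
      exact (IsLocalizedModule.mk'_cancel_left mk ω ⟨r, hr⟩ s).symm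
    dsimp only [Function.uncurry_apply_pair]
    rw [hz]
    refine Submodule.add_mem_sup ⟨n, hn, _, rfl⟩ ?_
    have hmk := IsLocalizedModule.mk'_smul_mk' Rp mk 1 i (⟨r, hr⟩ * s) 1
    rw [one_smul, mul_one, IsLocalizedModule.mk'_one] at hmk
    rw [← hmk]
    refine Submodule.smul_mem _ _ ?_
    refine Submodule.smul_induction_on hi (fun a ha m _ => ?_) (fun a b ha hb => ?_)
    ·
      rw [map_smul, ← algebraMap_smul Rp a]
      refine Submodule.smul_mem_smul ?_ Submodule.mem_top
      rw [IsLocalization.AtPrime.to_map_mem_maximal_iff Rp p]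
      show algebraMap P B a ∈ q
      rw [RingHom.mem_ker.1 ha]
      exact zero_mem _
    · rw [map_add]; exact Submodule.add_mem _ ha hb
  · intro H m
    obtain ⟨ω, rfl⟩ := KaehlerDifferential.map_surjective_of_surjective A A P B h m
    obtain ⟨n, hn, s, hs⟩ : mk ω ∈ N.localized' Rp p.primeCompl mk := H ▸ Submodule.mem_top
    rw [IsLocalizedModule.mk'_eq_iff, ← mk.map_smul_of_tower,
      IsLocalizedModule.eq_iff_exists p.primeCompl] at hs
    obtain ⟨c, hc⟩ := hs
    refine ⟨algebraMap P B (c.1 * s.1), (c * s).2, ?_⟩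
    rw [algebraMap_smul, ← map_smul, mul_smul]
    simp only [Submonoid.smul_def] at hc
    rw [← hc, map_smul, map_eq_zero_of_mem_span hn, smul_zero]

end Groth.Agent.Hens22
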