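import Groth.Agent.Hens22.SphTilde
import Mathlib.Algebra.Category.ModuleCat.Presheaf.EpiMono
import Mathlib.Algebra.Category.ModuleCat.Sheaf.Abelian

/-!
A morphism of sheaves of modules bijective on a basis is an isomorphism.
-/

set_option autoImplicit false
set_option backward.isDefEq.respectTransparency.types false
universe u

open CategoryTheory Opposite TopologicalSpace AlgebraicGeometry HensSch TopCat

noncomputable section

namespace Groth.Agent.Hens22.Sph

variable {X : LocallyRingedSpace.{u}}

theorem isIso_of_bijective_basis {F G : ModSite.Mod X.sheaf} (h : F ⟶ G)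
    (hb : ∀ (x : X) (U : Opens X.toTopCat), x ∈ U →
      ∃ V ≤ U, x ∈ V ∧ Function.Bijective (h.val.app (op V)).hom) : IsIso h := by
  let Fs : TopCat.Sheaf AddCommGrpCat.{u} X.toTopCat := ⟨PullFlat.anPsh F, F.isSheaf⟩
  let Gs : TopCat.Sheaf AddCommGrpCat.{u} X.toTopCat := ⟨PullFlat.anPsh G, G.isSheaf⟩
  let hs : Fs ⟶ Gs := ⟨(PresheafOfModules.toPresheaf _).map h.val⟩
  have hnat : ∀ {U V : Opens X.toTopCat} (i : V ≤ U) (s : Sec F U),
      (h.val.app (op V)).hom (resS F i s) = resS G i ((h.val.app (op U)).hom s) :=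
    fun i s => PresheafOfModules.naturality_apply h.val _ _
  have hst : ∀ x : X, Function.Bijective ((TopCat.Presheaf.stalkFunctor AddCommGrpCat.{u} x).map hs.1) := by
    intro x
    have hgerm : ∀ (U : Opens X.toTopCat) (hx : x ∈ U) (s : Sec F U),
        (TopCat.Presheaf.stalkFunctor AddCommGrpCat.{u} x).map hs.1 (gS F U x hx s) =
          gS G U x hx ((h.val.app (op U)).hom s) := fun U hx s =>
      TopCat.Presheaf.stalkFunctor_map_germ_apply U x hx hs.1 s
    refine ⟨(injective_iff_map_eq_zero ((TopCat.Presheaf.stalkFunctor AddCommGrpCat.{u} x).map hs.1).hom).2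
      fun e he => ?_, fun e => ?_⟩
    · obtain ⟨U, hx, (s : Sec F U), rfl⟩ := (PullFlat.anPsh F).exists_germ_eq e
      have he' : gS G U x hx ((h.val.app (op U)).hom s) = (PullFlat.anPsh G).germ U x hx 0 :=
        (hgerm U hx s).symm.trans (he.trans (map_zero _).symm)
      obtain ⟨W, hxW, i₁, i₂, hW⟩ := (PullFlat.anPsh G).germ_eq x hx hx _ _ he'
      obtain ⟨V, hVW, hxV, hbij⟩ := hb x W hxW
      have h1 : (h.val.app (op V)).hom (resS F (hVW.trans i₁.le) s) = 0 := by
        rw [hnat]
        have h2 := congrArg (fun z => resS G hVW z) hW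
        refine Eq.trans ?_ (h2.trans ?_)
        · exact LinearMap.congr_fun (congrArg ModuleCat.Hom.hom (G.val.map_comp i₁.op (homOfLE hVW).op)) _
        · show resS G hVW ((G.val.map i₂.op).hom 0) = 0
          rw [map_zero, resS]
          exact map_zero _
      have h3 : resS F (hVW.trans i₁.le) s = 0 := hbij.1 (h1.trans (map_zero (h.val.app (op V)).hom).symm)
      show gS F U x hx s = 0
      rw [← gS_resS F (hVW.trans i₁.le) x hxV s, h3]
      exact map_zero _
    · obtain ⟨U, hx, (t : Sec G U), rfl⟩ := (PullFlat.anPsh G).exists_germ_eq e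
      obtain ⟨V, hVU, hxV, hbij⟩ := hb x U hx
      obtain ⟨s, hs'⟩ := hbij.2 (resS G hVU t)
      exact ⟨gS F V x hxV s, (hgerm V hxV s).trans ((congrArg _ hs').trans (gS_resS G hVU x hxV t))⟩
  have happ : ∀ U : Opens X.toTopCat, Function.Bijective (h.val.app (op U)).hom := fun U =>
    TopCat.Presheaf.app_bijective_of_stalkFunctor_map_bijective hs U fun x _ => hst x
  haveI hm : Mono h := (SheafOfModules.forget _).mono_of_mono_map
    (PresheafOfModules.mono_of_injective fun {U} => (happ U.unop).1)
  haveI he : Epi h := (SheafOfModules.forget _).epi_of_epi_map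
    (PresheafOfModules.epi_of_surjective fun {U} => (happ U.unop).2)
  exact isIso_of_mono_of_epi h

end Groth.Agent.Hens22.Sph
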