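import Mathlib.RingTheory.Unramified.LocalStructure
import Mathlib.AlgebraicGeometry.Morphisms.Etale

/-!
Standard etale algebras as open pieces of monogenic ones.
-/

set_option autoImplicit false
universe u

open CategoryTheory AlgebraicGeometry

noncomputable section

namespace Groth.Agent.Hens22

theorem isEtaleAt_of_etale {R A : Type u} [CommRing R] [CommRing A] [Algebra R A] [Algebra.Etale R A]
    (Q : Ideal A) [Q.IsPrime] : Algebra.IsEtaleAt R Q :=
  have : Algebra.FormallyEtale A (Localization.AtPrime Q) := .of_isLocalization Q.primeCompl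
  Algebra.FormallyEtale.comp R A _

theorem isOpenImmersion_lift {R A S T : Type u} [CommRing R] [CommRing A] [CommRing S] [CommRing T]
    [Algebra R A] [Algebra R T] [Algebra A T] [IsScalarTower R A T] [Algebra R S]
    (a : A) [IsLocalization.Away a T] (θ : A →ₐ[R] S)
    (hu : IsUnit (θ a)) (h : IsOpenImmersion (Spec.map (CommRingCat.ofHom θ.toRingHom))) :
    IsOpenImmersion (Spec.map (CommRingCat.ofHom
      (IsLocalization.Away.liftAlgHom (S := T) a (f := θ) hu).toRingHom)) := by
  have h1 : IsOpenImmersion (Spec.map (CommRingCat.ofHom (algebraMap A T))) :=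
    IsOpenImmersion.of_isLocalization a
  have h3 : CommRingCat.ofHom θ.toRingHom = CommRingCat.ofHom (algebraMap A T) ≫
      CommRingCat.ofHom (IsLocalization.Away.liftAlgHom (S := T) a (f := θ) hu).toRingHom := by
    ext z
    exact (IsLocalization.Away.lift_eq a hu z).symm
  rw [h3, Spec.map_comp] at h
  exact IsOpenImmersion.of_comp _ (Spec.map (CommRingCat.ofHom (algebraMap A T)))

/-- Open immersion of a standard etale algebra into `(R[t]/(p))[1/p']`. -/
theorem exists_monogenic {R : Type u} [CommRing R] (S : Type u) [CommRing S] [Algebra R S]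
    [Algebra.IsStandardEtale R S] : ∃ (p : Polynomial R) (_ : p.Monic)
      (ψ : Localization.Away (AdjoinRoot.mk p (Polynomial.derivative p)) →ₐ[R] S),
      IsOpenImmersion (Spec.map (CommRingCat.ofHom ψ.toRingHom)) := by
  obtain ⟨P⟩ := Algebra.IsStandardEtale.nonempty_standardEtalePresentation (R := R) (S := S)
  let e : Localization.Away (AdjoinRoot.mk P.f P.g) ≃ₐ[R] S :=
    P.P.equivAwayAdjoinRoot.symm.trans P.equivRing.symm
  let θ : AdjoinRoot P.f →ₐ[R] S := e.toAlgHom.comp
    (IsScalarTower.toAlgHom R (AdjoinRoot P.f) (Localization.Away (AdjoinRoot.mk P.f P.g)))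
  have hroot : θ (AdjoinRoot.root P.f) = P.x := by
    have h1 : P.P.equivAwayAdjoinRoot P.P.X =
        algebraMap _ (Localization.Away (AdjoinRoot.mk P.f P.g)) (AdjoinRoot.root P.f) := by
      simp [StandardEtalePair.equivAwayAdjoinRoot]
    show P.equivRing.symm (P.P.equivAwayAdjoinRoot.symm
      (algebraMap _ (Localization.Away (AdjoinRoot.mk P.f P.g)) (AdjoinRoot.root P.f))) = _
    rw [← h1, AlgEquiv.symm_apply_apply, P.equivRing_symm_X]
  have hu : IsUnit (θ (AdjoinRoot.mk P.f (Polynomial.derivative P.f))) := by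
    rw [← AdjoinRoot.aeval_eq, ← Polynomial.aeval_algHom_apply, hroot]
    exact P.hasMap.isUnit_derivative_f
  refine ⟨P.f, P.monic_f, IsLocalization.Away.liftAlgHom _ (f := θ) hu, ?_⟩
  have h1 : IsOpenImmersion (Spec.map (CommRingCat.ofHom (algebraMap (AdjoinRoot P.f)
      (Localization.Away (AdjoinRoot.mk P.f (Polynomial.derivative P.f)))))) :=
    IsOpenImmersion.of_isLocalization (AdjoinRoot.mk P.f (Polynomial.derivative P.f))
  have h2 : IsOpenImmersion (Spec.map (CommRingCat.ofHom θ.toRingHom)) := by
    have : IsOpenImmersion (Spec.map (CommRingCat.ofHom (algebraMap (AdjoinRoot P.f)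
        (Localization.Away (AdjoinRoot.mk P.f P.g))))) :=
      IsOpenImmersion.of_isLocalization (AdjoinRoot.mk P.f P.g)
    have : IsIso (CommRingCat.ofHom e.toRingEquiv.toRingHom) :=
      e.toRingEquiv.toCommRingCatIso.isIso_hom
    have heq : CommRingCat.ofHom θ.toRingHom = CommRingCat.ofHom (algebraMap (AdjoinRoot P.f)
        (Localization.Away (AdjoinRoot.mk P.f P.g))) ≫ CommRingCat.ofHom e.toRingEquiv.toRingHom := rfl
    rw [heq, Spec.map_comp]
    infer_instance
  exact isOpenImmersion_lift _ θ hu h2

/-- The ring map of a restriction to affine opens. -/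
theorem appLE_of_restrict {X Y : Scheme.{u}} {P : MorphismProperty Scheme.{u}}
    {Q : ∀ {R S : Type u} [CommRing R] [CommRing S], (R →+* S) → Prop} [HasRingHomProperty P Q]
    (f : X ⟶ Y) [MorphismProperty.HasOfPostcompProperty P P]
    {V : Y.Opens} (hV : IsAffineOpen V) {D : X.Opens} (hD : IsAffineOpen D) (e : D ≤ f ⁻¹ᵁ V)
    (hι : P V.ι) (h : P (D.ι ≫ f)) : Q (f.appLE V D e).hom := by
  rw [← Scheme.Hom.resLE_comp_ι f e] at h
  have h' := MorphismProperty.of_postcomp P _ _ hι h
  have : IsAffine D.toScheme := hD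
  have : IsAffine V.toScheme := hV
  rw [HasRingHomProperty.iff_of_isAffine (P := P)] at h'
  have : (RingHom.toMorphismProperty Q).RespectsIso :=
    RingHom.toMorphismProperty_respectsIso_iff.mp
      (HasRingHomProperty.isLocal_ringHomProperty P).respectsIso
  exact (MorphismProperty.arrow_mk_iso_iff (RingHom.toMorphismProperty Q)
    (arrowResLEAppIso f V D e)).mp h'

end Groth.Agent.Hens22
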