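import Mathlib.Geometry.RingedSpace.LocallyRingedSpace
import Mathlib.Topology.Sheaves.Stalks
import Mathlib.Topology.Sheaves.SheafCondition.UniqueGluing

/-!
Morphisms of locally ringed spaces from stalkwise data.
-/

set_option autoImplicit false
universe u

open CategoryTheory Opposite TopologicalSpace AlgebraicGeometry TopCat

noncomputable section

namespace Groth.Agent.Hens22.MorOfStalks

variable {Z Y : LocallyRingedSpace.{u}}

/-- A family of stalk maps is locally given by sections. -/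
def LocRep (b : Z.toTopCat ⟶ Y.toTopCat)
    (σ : ∀ z : Z, Y.presheaf.stalk (b z) ⟶ Z.presheaf.stalk z) : Prop :=
  ∀ (P : Opens Y.toTopCat) (s : Y.presheaf.obj (op P)) (z : Z) (_ : b z ∈ P),
    ∃ (W : Opens Z.toTopCat) (_ : z ∈ W) (hW : W ≤ (Opens.map b).obj P) (t : Z.presheaf.obj (op W)),
      ∀ (z' : Z) (hz' : z' ∈ W),
        Z.presheaf.germ W z' hz' t = σ z' (Y.presheaf.germ P (b z') (hW hz') s)

variable {b : Z.toTopCat ⟶ Y.toTopCat} {σ : ∀ z : Z, Y.presheaf.stalk (b z) ⟶ Z.presheaf.stalk z}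
  (hrep : LocRep b σ)

theorem glued_unique (P : Opens Y.toTopCat) {t t' : Z.presheaf.obj (op ((Opens.map b).obj P))}
    {s : Y.presheaf.obj (op P)}
    (h : ∀ (z : Z) (hz : z ∈ (Opens.map b).obj P),
      Z.presheaf.germ _ z hz t = σ z (Y.presheaf.germ P (b z) hz s))
    (h' : ∀ (z : Z) (hz : z ∈ (Opens.map b).obj P),
      Z.presheaf.germ _ z hz t' = σ z (Y.presheaf.germ P (b z) hz s)) : t = t' :=
  TopCat.Presheaf.section_ext Z.sheaf _ _ _ fun z hz => (h z hz).trans (h' z hz).symm

include hrep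

theorem exists_glued (P : Opens Y.toTopCat) (s : Y.presheaf.obj (op P)) :
    ∃ t : Z.presheaf.obj (op ((Opens.map b).obj P)), ∀ (z : Z) (hz : z ∈ (Opens.map b).obj P),
      Z.presheaf.germ _ z hz t = σ z (Y.presheaf.germ P (b z) hz s) := by
  choose W hzW hW t ht using fun z : ((Opens.map b).obj P : Opens Z.toTopCat) => hrep P s z.1 z.2
  obtain ⟨t', ht', -⟩ := Z.sheaf.existsUnique_gluing' W ((Opens.map b).obj P) (fun z => homOfLE (hW z))
    (fun z hz => Opens.mem_iSup.2 ⟨⟨z, hz⟩, hzW ⟨z, hz⟩⟩) t (fun i j => by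
      refine TopCat.Presheaf.section_ext Z.sheaf _ _ _ fun z hz => ?_
      refine (Z.presheaf.germ_res_apply _ z hz (t i)).trans ?_
      refine Eq.trans ?_ (Z.presheaf.germ_res_apply _ z hz (t j)).symm
      rw [ht i z hz.1, ht j z hz.2])
  refine ⟨t', fun z hz => ?_⟩
  rw [← Z.presheaf.germ_res_apply (homOfLE (hW ⟨z, hz⟩)) z (hzW ⟨z, hz⟩) t']
  exact (congrArg _ (ht' ⟨z, hz⟩)).trans (ht ⟨z, hz⟩ z (hzW ⟨z, hz⟩))

/-- The map on sections. -/
def appFun (P : Opens Y.toTopCat) (s : Y.presheaf.obj (op P)) :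
    Z.presheaf.obj (op ((Opens.map b).obj P)) :=
  (exists_glued hrep P s).choose

theorem appFun_germ (P : Opens Y.toTopCat) (s : Y.presheaf.obj (op P)) (z : Z)
    (hz : z ∈ (Opens.map b).obj P) :
    Z.presheaf.germ _ z hz (appFun hrep P s) = σ z (Y.presheaf.germ P (b z) hz s) :=
  (exists_glued hrep P s).choose_spec z hz

/-- The ring map on sections. -/
def appHom (P : Opens Y.toTopCat) :
    (Y.presheaf.obj (op P) : Type u) →+* (Z.presheaf.obj (op ((Opens.map b).obj P)) : Type u) where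
  toFun := appFun hrep P
  map_one' := glued_unique P (appFun_germ hrep P 1) fun z hz => by simp
  map_zero' := glued_unique P (appFun_germ hrep P 0) fun z hz => by simp
  map_mul' s t := glued_unique P (appFun_germ hrep P (s * t)) fun z hz => by
    simp [map_mul, appFun_germ hrep]
  map_add' s t := glued_unique P (appFun_germ hrep P (s + t)) fun z hz => by
    simp [map_add, appFun_germ hrep]

/-- The comorphism. -/
def comorph : Y.presheaf ⟶ b _* Z.presheaf where
  app P := CommRingCat.ofHom (appHom hrep P.unop)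
  naturality {P Q} i := by
    refine CommRingCat.hom_ext (RingHom.ext fun s => ?_)
    refine glued_unique Q.unop (appFun_germ hrep Q.unop (Y.presheaf.map i s)) fun z hz => ?_
    refine (Z.presheaf.germ_res_apply ((Opens.map b).map i.unop) z hz _).trans ?_
    refine (appFun_germ hrep P.unop s z (i.unop.le hz)).trans ?_
    exact congrArg (σ z) (Y.presheaf.germ_res_apply i.unop (b z) hz s).symm

/-- The morphism of presheafed spaces. -/
def morPS : Z.toPresheafedSpace.Hom Y.toPresheafedSpace where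
  base := b
  c := comorph hrep

theorem morPS_stalkMap (z : Z) : PresheafedSpace.Hom.stalkMap (morPS hrep) z = σ z := by
  refine TopCat.Presheaf.stalk_hom_ext _ fun P hz => ?_
  refine CommRingCat.hom_ext (RingHom.ext fun s => ?_)
  refine (PresheafedSpace.stalkMap_germ_apply (morPS hrep) P z hz s).trans ?_
  exact appFun_germ hrep P s z hz

/-- The morphism of locally ringed spaces with the given stalk maps. -/
def mor (hloc : ∀ z, IsLocalHom (σ z).hom) : Z ⟶ Y where
  toHom := morPS hrep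
  prop z := by rw [morPS_stalkMap]; exact hloc z

theorem mor_stalkMap (hloc : ∀ z, IsLocalHom (σ z).hom) (z : Z) : (mor hrep hloc).stalkMap z = σ z :=
  morPS_stalkMap hrep z

omit hrep in
/-- Morphisms with the same base and the same stalk maps are equal. -/
theorem hom_ext (h₁ h₂ : Z ⟶ Y) (hb : ∀ z, h₁.base z = h₂.base z)
    (hs : ∀ z : Z, Y.presheaf.stalkSpecializes (specializes_of_eq (hb z)) ≫ h₁.stalkMap z = h₂.stalkMap z) :
    h₁ = h₂ := by
  obtain ⟨⟨b₁, c₁⟩, p₁⟩ := h₁
  obtain ⟨⟨b₂, c₂⟩, p₂⟩ := h₂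
  obtain rfl : b₁ = b₂ := ConcreteCategory.hom_ext _ _ hb
  suffices c₁ = c₂ by subst this; rfl
  refine NatTrans.ext (funext fun P => CommRingCat.hom_ext (RingHom.ext fun s => ?_))
  refine TopCat.Presheaf.section_ext Z.sheaf _ _ _ fun z hz => ?_
  have h := congrArg (fun k => (Y.presheaf.germ P.unop (b₁ z) hz ≫ k) s) (hs z)
  simp only [TopCat.Presheaf.stalkSpecializes_refl, Category.id_comp] at h
  refine Eq.trans ?_ (h.trans ?_)
  · exact (LocallyRingedSpace.stalkMap_germ_apply ⟨⟨b₁, c₁⟩, p₁⟩ P.unop z hz s).symm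
  · exact LocallyRingedSpace.stalkMap_germ_apply ⟨⟨b₁, c₂⟩, p₂⟩ P.unop z hz s

end Groth.Agent.Hens22.MorOfStalks
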