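import Groth.Agent.Hens22.NodeSeries
import Groth.Agent.CAlg4.LocalQF
import Groth.Agent.Hensel20.LocalFinite

/-!
Sections of an algebra whose completion is a node, through a prescribed formal point.
-/

set_option autoImplicit false
set_option maxHeartbeats 1000000
universe u

noncomputable section

open IsLocalRing Polynomial

namespace Groth.Agent.Hens22.Node

/-- Unramified local algebras with trivial residue extension over a henselian local ring are quotients. -/
theorem surjective_of_unramified {R Q : Type u} [CommRing R] [IsLocalRing R]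
    [HenselianRing R (maximalIdeal R)] [CommRing Q] [IsLocalRing Q] [Algebra R Q]
    [Algebra.EssFiniteType R Q] (hm : (maximalIdeal R).map (algebraMap R Q) = maximalIdeal Q)
    (hres : ∀ q : Q, ∃ r, q - algebraMap R Q r ∈ maximalIdeal Q) :
    Function.Surjective (algebraMap R Q) := by
  haveI : IsLocalHom (algebraMap R Q) :=
    ((IsLocalRing.local_hom_TFAE (algebraMap R Q)).out 2 0).mp hm.le
  have hfinres : Module.Finite (ResidueField R) (ResidueField Q) := by
    refine Module.Finite.of_surjective (Algebra.linearMap (ResidueField R) (ResidueField Q)) fun x => ?_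
    obtain ⟨q, rfl⟩ := residue_surjective x
    obtain ⟨r, hr⟩ := hres q
    exact ⟨residue R r, (Ideal.Quotient.eq.2 hr).symm⟩
  have hdim : ringKrullDim (Q ⧸ (maximalIdeal R).map (algebraMap R Q)) = 0 := by
    rw [hm]
    exact ringKrullDim_eq_zero_of_field (ResidueField Q)
  obtain ⟨S', _, _, _, _, q, _, _, hloc⟩ := CAlg4.LocalQF.exists_finite_localization R Q hfinres hdim
  have hq : q = (maximalIdeal Q).comap (algebraMap S' Q) :=
    (IsLocalization.AtPrime.comap_maximalIdeal Q q).symm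
  haveI : q.LiesOver (maximalIdeal R) := ⟨by
    rw [hq]
    show _ = ((maximalIdeal Q).comap (algebraMap S' Q)).comap (algebraMap R S')
    rw [Ideal.comap_comap, ← IsScalarTower.algebraMap_eq]
    have h := ((IsLocalRing.local_hom_TFAE (algebraMap R Q)).out 0 4).mp ‹IsLocalHom (algebraMap R Q)›
    exact h.symm⟩
  haveI : Module.Finite R (Localization.AtPrime q) := Hensel20.finite_localization S' q
  let e : Localization.AtPrime q ≃ₐ[S'] Q := IsLocalization.algEquiv q.primeCompl _ _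
  haveI : Module.Finite R Q := Module.Finite.equiv (e.restrictScalars R).toLinearEquiv
  have htop : (⊤ : Submodule R Q) ≤ LinearMap.range (Algebra.linearMap R Q) := by
    refine Submodule.le_of_le_smul_of_le_jacobson_bot Module.Finite.fg_top (maximalIdeal_le_jacobson _) ?_
    intro x _
    obtain ⟨r, hr⟩ := hres x
    refine Submodule.mem_sup.2 ⟨algebraMap R Q r, ⟨r, rfl⟩, x - algebraMap R Q r, ?_, by ring⟩
    rw [Ideal.smul_top_eq_map, hm]
    exact hr
  intro x
  exact htop (Submodule.mem_top (x := x))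

section

variable {R : Type u} [CommRing R] [IsLocalRing R] {K : Type u} [CommRing K] [IsLocalRing K] [Algebra R K]
  (hmK : (maximalIdeal R).map (algebraMap R K) = maximalIdeal K)
  (hresK : ∀ a : K, ∃ r : R, a - algebraMap R K r ∈ maximalIdeal K)
  {d : K} (hd : d ∈ maximalIdeal K)

abbrev M0 (d : K) : Ideal (Kd d) := (maximalIdeal K).map (Ideal.Quotient.mk _)

include hd in
theorem mem_M0_of_not_isUnit {x : Kd d} (hx : ¬ IsUnit x) : x ∈ M0 d := by
  obtain ⟨a, rfl⟩ := Ideal.Quotient.mk_surjective x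
  exact Ideal.mem_map_of_mem _ ((mem_maximalIdeal _).2 fun h => hx (h.map _))

include hd in
theorem not_isUnit_of_mem_M0 {x : Kd d} (hx : x ∈ M0 d) : ¬ IsUnit x := by
  obtain ⟨a, ha, rfl⟩ := (Ideal.mem_map_iff_of_surjective _ Ideal.Quotient.mk_surjective).1 hx
  intro h
  obtain ⟨y, hy⟩ := h.exists_right_inv
  obtain ⟨b, rfl⟩ := Ideal.Quotient.mk_surjective y
  rw [← map_mul, ← map_one (Ideal.Quotient.mk (Ideal.span {d})), Ideal.Quotient.eq] at hy
  have h1 := Ideal.sub_mem _ (Ideal.mul_mem_right b _ ha) ((Ideal.span_singleton_le_iff_mem _).2 hd hy)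
  rw [sub_sub_cancel] at h1
  exact (mem_maximalIdeal _).1 h1 isUnit_one

include hd in
theorem isUnit_of_sub_mem_M0 {x y : Kd d} (hy : IsUnit y) (h : x - y ∈ M0 d) : IsUnit x := by
  by_contra hx
  have := Ideal.sub_mem _ (mem_M0_of_not_isUnit hd hx) h
  rw [sub_sub_cancel] at this
  exact not_isUnit_of_mem_M0 hd this hy

variable [IsLocalRing (P d)]

include hd in
theorem mem_max_iff (x : P d) : x ∈ maximalIdeal (P d) ↔ eps d x ∈ M0 d := by
  rw [mem_maximalIdeal, mem_nonunits_iff, isUnit_iff_eps d hd]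
  exact ⟨mem_M0_of_not_isUnit hd, not_isUnit_of_mem_M0 hd⟩

include hd in
theorem uN_mem : uN d ∈ maximalIdeal (P d) := by
  rw [mem_max_iff hd, eps_uN]; exact Ideal.zero_mem _

include hd in
theorem vN_mem : vN d ∈ maximalIdeal (P d) := by
  rw [mem_max_iff hd, eps_vN]; exact Ideal.zero_mem _

include hd hmK in
theorem max_le : maximalIdeal (P d) ≤
    (maximalIdeal R).map ((cN d).comp (algebraMap R K)) ⊔ Ideal.span {uN d, vN d} := by
  intro x hx
  obtain ⟨a, ha, hax⟩ :=
    (Ideal.mem_map_iff_of_surjective _ Ideal.Quotient.mk_surjective).1 ((mem_max_iff hd x).1 hx)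
  refine Submodule.mem_sup.2 ⟨cN d a, ?_, x - cN d a, eps_eq_zero d ?_, by ring⟩
  · rw [← Ideal.map_map, hmK]; exact Ideal.mem_map_of_mem _ ha
  · rw [map_sub, eps_cN, hax, sub_self]

include hd in
theorem lin_mem_of_sq {x : P d} (hx : x ∈ maximalIdeal (P d) ^ 2) (i : Fin 2) : lin d i x ∈ M0 d := by
  rw [pow_two] at hx
  refine Submodule.mul_induction_on hx (fun a ha b hb => ?_) fun a b ha hb => ?_
  · rw [lin_mul]
    exact Ideal.add_mem _ (Ideal.mul_mem_right _ _ ((mem_max_iff hd a).1 ha))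
      (Ideal.mul_mem_right _ _ ((mem_max_iff hd b).1 hb))
  · rw [map_add]; exact Ideal.add_mem _ ha hb

include hd hresK in
theorem exists_residue (x : P d) : ∃ r : R, x - cN d (algebraMap R K r) ∈ maximalIdeal (P d) := by
  obtain ⟨a, ha⟩ := Ideal.Quotient.mk_surjective (eps d x)
  obtain ⟨r, hr⟩ := hresK a
  refine ⟨r, ?_⟩
  rw [mem_max_iff hd, map_sub, eps_cN, ← ha, ← map_sub]
  exact Ideal.mem_map_of_mem _ hr

end

theorem exists_node_section {R : Type u} [CommRing R] [IsLocalRing R] [HenselianRing R (maximalIdeal R)]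
    {K : Type u} [CommRing K] [IsLocalRing K] [IsDomain K] [IsAdicComplete (maximalIdeal K) K] [Algebra R K]
    (hinj : Function.Injective (algebraMap R K))
    (hmK : (maximalIdeal R).map (algebraMap R K) = maximalIdeal K)
    (hresK : ∀ a : K, ∃ r : R, a - algebraMap R K r ∈ maximalIdeal K)
    (Δ t₁ t₂ : R) (hΔ : Δ ≠ 0) (ht₁ : t₁ ∈ maximalIdeal R) (ht₂ : t₂ ∈ maximalIdeal R) (ht : t₁ * t₂ = Δ)
    [IsLocalRing (P (algebraMap R K Δ))] [IsNoetherianRing (P (algebraMap R K Δ))]
    [IsAdicComplete (maximalIdeal (P (algebraMap R K Δ))) (P (algebraMap R K Δ))]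
    {C : Type u} [CommRing C] [IsLocalRing C] [Algebra R C] [IsLocalHom (algebraMap R C)]
    [Algebra.EssFiniteType R C] [Algebra C (P (algebraMap R K Δ))]
    [Module.FaithfullyFlat C (P (algebraMap R K Δ))]
    (hι : ∀ r : R, algebraMap C (P (algebraMap R K Δ)) (algebraMap R C r) =
      cN (algebraMap R K Δ) (algebraMap R K r))
    (hmap : (maximalIdeal C).map (algebraMap C (P (algebraMap R K Δ))) =
      maximalIdeal (P (algebraMap R K Δ)))
    (hdense : ∀ (x : P (algebraMap R K Δ)) (n : ℕ), ∃ c : C,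
      algebraMap C (P (algebraMap R K Δ)) c - x ∈ maximalIdeal (P (algebraMap R K Δ)) ^ n) :
    ∃ (g : C →ₐ[R] R) (χ : P (algebraMap R K Δ) →+* K) (w : Kˣ),
      (∀ x : C, χ (algebraMap C _ x) = algebraMap R K (g x)) ∧
      χ (uN (algebraMap R K Δ)) = algebraMap R K t₁ * w ∧
      χ (vN (algebraMap R K Δ)) = algebraMap R K t₂ * (w⁻¹ : Kˣ) := by
  classical
  let d := algebraMap R K Δ
  let mP := maximalIdeal (P d)
  let ι : C →+* P d := algebraMap C (P d)
  have hTm : ∀ r ∈ maximalIdeal R, algebraMap R K r ∈ maximalIdeal K := fun r hr => hmK ▸ Ideal.mem_map_of_mem _ hr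
  have hT₁ : algebraMap R K t₁ ∈ maximalIdeal K := hTm _ ht₁
  have hd : d ∈ maximalIdeal K := by
    show algebraMap R K Δ ∈ _
    rw [← ht, map_mul]; exact Ideal.mul_mem_right _ _ hT₁
  have hcomap : ∀ (J : Ideal C) (x : C), ι x ∈ J.map ι → x ∈ J := fun J x hx => by
    rw [← Ideal.comap_map_eq_self_of_faithfullyFlat (B := P d) J]; exact hx
  have hpow : ∀ n : ℕ, (maximalIdeal C ^ n).map ι = mP ^ n := fun n => by rw [Ideal.map_pow, hmap]
  -- approximations
  obtain ⟨a, ha⟩ := hdense (uN d) 2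
  obtain ⟨b, hb⟩ := hdense (vN d) 2
  have haP : ι a ∈ mP := by
    have := Ideal.add_mem _ (Ideal.pow_le_self two_ne_zero ha) (uN_mem hd)
    rwa [sub_add_cancel] at this
  have hbP : ι b ∈ mP := by
    have := Ideal.add_mem _ (Ideal.pow_le_self two_ne_zero hb) (vN_mem hd)
    rwa [sub_add_cancel] at this
  have haC : a ∈ maximalIdeal C := hcomap _ _ (by rw [hmap]; exact haP)
  have hbC : b ∈ maximalIdeal C := hcomap _ _ (by rw [hmap]; exact hbP)
  let J : Ideal C := (maximalIdeal R).map (algebraMap R C) ⊔ Ideal.span {a, b}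
  have hJle : J ≤ maximalIdeal C := by
    refine sup_le (Ideal.map_le_iff_le_comap.2 fun r hr => ?_) (Ideal.span_le.2 ?_)
    · exact map_nonunit (algebraMap R C) r hr
    · rintro x (rfl | rfl)
      · exact haC
      · exact hbC
  have hJP : mP ≤ J.map ι := by
    refine Submodule.le_of_le_smul_of_le_jacobson_bot (IsNoetherian.noetherian _)
      (maximalIdeal_le_jacobson _) ((max_le hmK hd).trans (sup_le ?_ (Ideal.span_le.2 ?_)))
    · refine le_sup_of_le_left ?_
      rw [show (cN d).comp (algebraMap R K) = ι.comp (algebraMap R C) from RingHom.ext fun r => (hι r).symm,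
        ← Ideal.map_map]
      exact Ideal.map_mono le_sup_left
    · have hsq : ∀ x ∈ mP ^ 2, x ∈ J.map ι ⊔ mP • mP := fun x hx => Submodule.mem_sup_right (by
        rw [smul_eq_mul, ← pow_two]; exact hx)
      rintro x (rfl | rfl)
      · rw [show uN d = ι a - (ι a - uN d) by ring]
        exact Ideal.sub_mem _ (Submodule.mem_sup_left
          (Ideal.mem_map_of_mem _ (Ideal.mem_sup_right (Ideal.subset_span (by simp))))) (hsq _ ha)
      · rw [show vN d = ι b - (ι b - vN d) by ring]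
        exact Ideal.sub_mem _ (Submodule.mem_sup_left
          (Ideal.mem_map_of_mem _ (Ideal.mem_sup_right (Ideal.subset_span (by simp))))) (hsq _ hb)
  have hmC : maximalIdeal C ≤ J := fun x hx => hcomap _ _ (hJP ((congrArg (fun L : Ideal (P d) => ι x ∈ L) hmap).mp (Ideal.mem_map_of_mem ι hx)))
  have hresC : ∀ x : C, ∃ r : R, x - algebraMap R C r ∈ maximalIdeal C := fun x => by
    obtain ⟨r, hr⟩ := exists_residue (R := R) hresK hd (ι x)
    refine ⟨r, hcomap _ _ ?_⟩
    rw [hmap, map_sub, hι]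
    exact hr
  -- differentials
  let Ω := KaehlerDifferential R C
  let D : Derivation R C Ω := KaehlerDifferential.D R C
  let L : (C × C) →ₗ[C] Ω :=
    (LinearMap.toSpanSingleton C Ω (D a)).coprod (LinearMap.toSpanSingleton C Ω (D b))
  have hLsurj : Function.Surjective L := by
    rw [← LinearMap.range_eq_top, eq_top_iff]
    have key : ∀ x ∈ J, D x ∈ LinearMap.range L ⊔ maximalIdeal C • (⊤ : Submodule C Ω) := by
      intro x hx
      obtain ⟨y, hy, z, hz, rfl⟩ := Submodule.mem_sup.1 hx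
      rw [map_add]
      refine Submodule.add_mem _ ?_ ?_
      · refine Submodule.span_induction (p := fun y _ => D y ∈ LinearMap.range L ⊔ maximalIdeal C • ⊤)
          (fun w hw => ?_) ?_ (fun u v _ _ hu hv => ?_) (fun c u hu hu' => ?_) hy
        · obtain ⟨r, -, rfl⟩ := hw
          rw [D.map_algebraMap]; exact Submodule.zero_mem _
        · rw [map_zero]; exact Submodule.zero_mem _
        · rw [map_add]; exact Submodule.add_mem _ hu hv
        · rw [smul_eq_mul, D.leibniz]
          exact Submodule.add_mem _ (Submodule.smul_mem _ _ hu') (Submodule.mem_sup_right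
            (Submodule.smul_mem_smul (hJle (Submodule.mem_sup_left hu)) trivial))
      · obtain ⟨p, q, rfl⟩ := Ideal.mem_span_pair.1 hz
        rw [map_add, D.leibniz, D.leibniz]
        refine Submodule.add_mem _ (Submodule.add_mem _ ?_ ?_) (Submodule.add_mem _ ?_ ?_)
        · exact Submodule.mem_sup_left ⟨(p, 0), by simp [L]⟩
        · exact Submodule.mem_sup_right (Submodule.smul_mem_smul haC trivial)
        · exact Submodule.mem_sup_left ⟨(0, q), by simp [L]⟩
        · exact Submodule.mem_sup_right (Submodule.smul_mem_smul hbC trivial)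
    refine Submodule.le_of_le_smul_of_le_jacobson_bot Module.Finite.fg_top (maximalIdeal_le_jacobson _) ?_
    intro z _
    have hz : z ∈ Submodule.span C (Set.range (KaehlerDifferential.D R C)) := by
      rw [KaehlerDifferential.span_range_derivation]; trivial
    refine Submodule.span_le.2 ?_ hz
    rintro _ ⟨x, rfl⟩
    obtain ⟨r, hr⟩ := hresC x
    have := key _ (hmC hr)
    rwa [map_sub, D.map_algebraMap, sub_zero] at this
  let K₀ := LinearMap.ker L
  let 𝔣 : Ideal C := K₀.map (LinearMap.fst C C C) ⊔ K₀.map (LinearMap.snd C C C)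
  -- vanishing of the relations at the critical section
  letI : Algebra C (Kd d) := ((eps d).comp ι).toAlgebra
  haveI : IsScalarTower R C (Kd d) := IsScalarTower.of_algebraMap_eq fun r => by
    show _ = eps d (ι (algebraMap R C r))
    rw [hι, eps_cN]
    rfl
  let E : Fin 2 → Derivation R C (Kd d) := fun i =>
    Derivation.mk'
      { toFun := fun c => lin d i (ι c)
        map_add' := fun x y => by rw [map_add, map_add]
        map_smul' := fun r x => by
          rw [Algebra.smul_def, map_mul, lin_mul, hι, lin_cN, mul_zero, add_zero, eps_cN, RingHom.id_apply,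
            Algebra.smul_def]
          rfl }
      fun x y => by
        show lin d i (ι (x * y)) = _
        rw [map_mul, lin_mul]
        rfl
  have hEapp : ∀ i c, E i c = lin d i (ι c) := fun i c => rfl
  have hEa : ∀ i, E i a - (if i = 0 then 1 else 0) ∈ M0 d := fun i => by
    rw [hEapp, ← lin_uN d i, ← map_sub]; exact lin_mem_of_sq hd ha i
  have hEb : ∀ i, E i b - (if i = 1 then 1 else 0) ∈ M0 d := fun i => by
    rw [hEapp, ← lin_vN d i, ← map_sub]; exact lin_mem_of_sq hd hb i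
  have hdetE : IsUnit (E 0 a * E 1 b - E 0 b * E 1 a) := by
    refine isUnit_of_sub_mem_M0 hd isUnit_one ?_
    have h1 : E 0 a - 1 ∈ M0 d := by simpa using hEa 0
    have h2 : E 1 a ∈ M0 d := by simpa using hEa 1
    have h3 : E 1 b - 1 ∈ M0 d := by simpa using hEb 1
    rw [show E 0 a * E 1 b - E 0 b * E 1 a - 1 = (E 0 a - 1) * E 1 b + (E 1 b - 1) - E 0 b * E 1 a by ring]
    exact Ideal.sub_mem _ (Ideal.add_mem _ (Ideal.mul_mem_right _ _ h1) h3) (Ideal.mul_mem_left _ _ h2)
  have hkerE : ∀ p ∈ K₀, eps d (ι p.1) = 0 ∧ eps d (ι p.2) = 0 := by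
    intro p hp
    have e : ∀ i, eps d (ι p.1) * E i a + eps d (ι p.2) * E i b = 0 := by
      intro i
      have := congrArg (E i).liftKaehlerDifferential (show L p = 0 from hp)
      simp only [L, LinearMap.coprod_apply, LinearMap.toSpanSingleton_apply, map_add, map_smul,
        map_zero] at this
      have e1 := (E i).liftKaehlerDifferential_comp_D a
      have e2 := (E i).liftKaehlerDifferential_comp_D b
      show p.1 • E i a + p.2 • E i b = 0
      exact (congrArg₂ (fun s t => p.1 • s + p.2 • t) e1.symm e2.symm).trans this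
    constructor
    · refine hdetE.mul_left_eq_zero.1 ?_
      linear_combination E 1 b * e 0 - E 0 b * e 1
    · refine hdetE.mul_left_eq_zero.1 ?_
      linear_combination E 0 a * e 1 - E 1 a * e 0
  have hfuv : 𝔣.map ι ≤ Ideal.span {uN d, vN d} := by
    refine Ideal.map_le_iff_le_comap.2 (sup_le ?_ ?_)
    · rintro _ ⟨p, hp, rfl⟩; exact eps_eq_zero d (hkerE p hp).1
    · rintro _ ⟨p, hp, rfl⟩; exact eps_eq_zero d (hkerE p hp).2
  have hfmax : 𝔣 ≤ maximalIdeal C := fun x hx => by
    refine hcomap _ _ ?_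
    rw [hmap]
    refine (Ideal.span_le.2 ?_) (hfuv (Ideal.mem_map_of_mem ι hx))
    rintro y (rfl | rfl)
    · exact uN_mem hd
    · exact vN_mem hd
  -- derivations to the critical locus
  let F := C ⧸ 𝔣
  let mk := Ideal.Quotient.mk 𝔣
  let mF : Ideal F := (maximalIdeal C).map mk
  let e := L.quotKerEquivOfSurjective hLsurj
  let Φ₁ : Ω →ₗ[C] F := (K₀.liftQ ((Submodule.mkQ 𝔣).comp (LinearMap.fst C C C)) fun p hp => by
    exact Ideal.Quotient.eq_zero_iff_mem.2 (Submodule.mem_sup_left ⟨p, hp, rfl⟩)).comp e.symm.toLinearMap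
  let Φ₂ : Ω →ₗ[C] F := (K₀.liftQ ((Submodule.mkQ 𝔣).comp (LinearMap.snd C C C)) fun p hp => by
    exact Ideal.Quotient.eq_zero_iff_mem.2 (Submodule.mem_sup_right ⟨p, hp, rfl⟩)).comp e.symm.toLinearMap
  let D₁ : Derivation R C F := Φ₁.compDer D
  let D₂ : Derivation R C F := Φ₂.compDer D
  have hesymm : ∀ p, e.symm (L p) = Submodule.Quotient.mk p := fun p =>
    (LinearEquiv.symm_apply_eq e).2 rfl
  have hDa : L (1, 0) = D a := by simp [L]
  have hDb : L (0, 1) = D b := by simp [L]
  have hD₁a : D₁ a = 1 := by show Φ₁ (D a) = 1; rw [← hDa]; simp only [Φ₁, LinearMap.comp_apply, LinearEquiv.coe_coe, hesymm]; rfl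
  have hD₁b : D₁ b = 0 := by show Φ₁ (D b) = 0; rw [← hDb]; simp only [Φ₁, LinearMap.comp_apply, LinearEquiv.coe_coe, hesymm]; rfl
  have hD₂a : D₂ a = 0 := by show Φ₂ (D a) = 0; rw [← hDa]; simp only [Φ₂, LinearMap.comp_apply, LinearEquiv.coe_coe, hesymm]; rfl
  have hD₂b : D₂ b = 1 := by show Φ₂ (D b) = 1; rw [← hDb]; simp only [Φ₂, LinearMap.comp_apply, LinearEquiv.coe_coe, hesymm]; rfl
  have hderiv : ∀ (DD : Derivation R C F) (n : ℕ) (x : C), x ∈ maximalIdeal C ^ (n + 1) → DD x ∈ mF ^ n := by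
    intro DD n
    induction n with
    | zero => intro x _; simp
    | succ n ih =>
      intro x hx
      rw [pow_succ] at hx
      refine Submodule.mul_induction_on hx (fun p hp q hq => ?_) fun p q hp hq => ?_
      · rw [DD.leibniz]
        refine Ideal.add_mem _ ?_ ?_
        · show mk p * DD q ∈ _
          refine Ideal.mul_mem_right _ _ ?_
          rw [← Ideal.map_pow]
          exact Ideal.mem_map_of_mem mk hp
        · show mk q * DD p ∈ _
          rw [pow_succ']
          exact Ideal.mul_mem_mul (Ideal.mem_map_of_mem mk hq) (ih p hp)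
      · rw [map_add]; exact Ideal.add_mem _ hp hq
  haveI : Nontrivial F := Ideal.Quotient.nontrivial_iff.2
    (ne_top_of_le_ne_top (maximalIdeal.isMaximal C).ne_top hfmax)
  haveI : IsLocalRing F := IsLocalRing.of_surjective' mk Ideal.Quotient.mk_surjective
  have hmF : mF ≤ maximalIdeal F := Ideal.map_le_iff_le_comap.2 fun x hx => by
    intro h
    obtain ⟨y, hy⟩ := h.exists_right_inv
    obtain ⟨z, rfl⟩ := Ideal.Quotient.mk_surjective y
    rw [← map_mul, ← map_one mk, Ideal.Quotient.eq] at hy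
    have := Ideal.sub_mem _ (Ideal.mul_mem_right z _ hx) (hfmax hy)
    rw [sub_sub_cancel] at this
    exact (mem_maximalIdeal _).1 this isUnit_one
  have huv : uN d ∈ 𝔣.map ι ∧ vN d ∈ 𝔣.map ι := by
    have hclose : ∀ n : ℕ, uN d ∈ 𝔣.map ι ⊔ mP ^ n ∧ vN d ∈ 𝔣.map ι ⊔ mP ^ n := by
      intro n
      rcases Nat.eq_zero_or_pos n with rfl | hn
      · simp
      obtain ⟨x, hx⟩ := hdense (uN d) (n + 1)
      obtain ⟨y, hy⟩ := hdense (vN d) (n + 1)
      have hn2 : 2 ≤ n + 1 := by omega
      have hxy : x * y - algebraMap R C Δ ∈ maximalIdeal C ^ (n + 1) := by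
        refine hcomap _ _ ?_
        rw [hpow, map_sub, map_mul, hι, ← uN_mul_vN,
          show ι x * ι y - uN d * vN d = (ι x - uN d) * ι y + uN d * (ι y - vN d) by ring]
        exact Ideal.add_mem _ (Ideal.mul_mem_right _ _ hx) (Ideal.mul_mem_left _ _ hy)
      have hxa : x - a ∈ maximalIdeal C ^ (1 + 1) := by
        refine hcomap _ _ ?_
        rw [hpow, map_sub, show ι x - ι a = (ι x - uN d) - (ι a - uN d) by ring]
        exact Ideal.sub_mem _ (Ideal.pow_le_pow_right hn2 hx) ha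
      have hyb : y - b ∈ maximalIdeal C ^ (1 + 1) := by
        refine hcomap _ _ ?_
        rw [hpow, map_sub, show ι y - ι b = (ι y - vN d) - (ι b - vN d) by ring]
        exact Ideal.sub_mem _ (Ideal.pow_le_pow_right hn2 hy) hb
      have h11 : D₁ x - 1 ∈ mF := by
        rw [← hD₁a, ← map_sub]; simpa using hderiv D₁ 1 _ hxa
      have h12 : D₁ y ∈ mF := by
        rw [← sub_zero (D₁ y), ← hD₁b, ← map_sub]; simpa using hderiv D₁ 1 _ hyb
      have h21 : D₂ x ∈ mF := by
        rw [← sub_zero (D₂ x), ← hD₂a, ← map_sub]; simpa using hderiv D₂ 1 _ hxa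
      have h22 : D₂ y - 1 ∈ mF := by
        rw [← hD₂b, ← map_sub]; simpa using hderiv D₂ 1 _ hyb
      have heq : ∀ DD : Derivation R C F, mk x * DD y + mk y * DD x ∈ mF ^ n := fun DD => by
        have := hderiv DD n _ hxy
        rw [map_sub, DD.map_algebraMap, sub_zero, DD.leibniz] at this
        exact this
      have hdet : IsUnit (D₁ y * D₂ x - D₁ x * D₂ y) := by
        by_contra hnu
        have h1 : D₁ y * D₂ x - D₁ x * D₂ y ∈ maximalIdeal F := hnu
        have h2 : D₁ y * D₂ x - D₁ x * D₂ y + 1 ∈ maximalIdeal F := by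
          rw [show D₁ y * D₂ x - D₁ x * D₂ y + 1 = D₁ y * D₂ x - (D₁ x - 1) * D₂ y - (D₂ y - 1) by ring]
          exact Ideal.sub_mem _ (Ideal.sub_mem _ (Ideal.mul_mem_left _ _ (hmF h21))
            (Ideal.mul_mem_right _ _ (hmF h11))) (hmF h22)
        have h3 := Ideal.sub_mem _ h2 h1
        rw [add_sub_cancel_left] at h3
        exact (mem_maximalIdeal _).1 h3 isUnit_one
      have hx' : mk x ∈ mF ^ n := by
        rw [← (mF ^ n).mul_unit_mem_iff_mem hdet,
          show mk x * (D₁ y * D₂ x - D₁ x * D₂ y) =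
            D₂ x * (mk x * D₁ y + mk y * D₁ x) - D₁ x * (mk x * D₂ y + mk y * D₂ x) by ring]
        exact Ideal.sub_mem _ (Ideal.mul_mem_left _ _ (heq D₁)) (Ideal.mul_mem_left _ _ (heq D₂))
      have hy' : mk y ∈ mF ^ n := by
        rw [← (mF ^ n).mul_unit_mem_iff_mem hdet,
          show mk y * (D₁ y * D₂ x - D₁ x * D₂ y) =
            D₁ y * (mk x * D₂ y + mk y * D₂ x) - D₂ y * (mk x * D₁ y + mk y * D₁ x) by ring]
        exact Ideal.sub_mem _ (Ideal.mul_mem_left _ _ (heq D₂)) (Ideal.mul_mem_left _ _ (heq D₁))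
      have hlift : ∀ z : C, mk z ∈ mF ^ n → ι z ∈ 𝔣.map ι ⊔ mP ^ n := by
        intro z hz
        rw [← Ideal.map_pow, Ideal.mem_quotient_iff_mem_sup] at hz
        have := Ideal.mem_map_of_mem ι hz
        rw [Ideal.map_sup, hpow, sup_comm] at this
        exact this
      constructor
      · rw [show uN d = ι x - (ι x - uN d) by ring]
        exact Ideal.sub_mem _ (hlift x hx')
          (Ideal.mem_sup_right (Ideal.pow_le_pow_right (Nat.le_succ n) hx))
      · rw [show vN d = ι y - (ι y - vN d) by ring]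
        exact Ideal.sub_mem _ (hlift y hy')
          (Ideal.mem_sup_right (Ideal.pow_le_pow_right (Nat.le_succ n) hy))
    have hne : 𝔣.map ι ≤ mP := (Ideal.map_mono hfmax).trans hmap.le
    haveI : Nontrivial (P d ⧸ 𝔣.map ι) := Ideal.Quotient.nontrivial_iff.2
      (ne_top_of_le_ne_top (maximalIdeal.isMaximal (P d)).ne_top hne)
    haveI : IsLocalRing (P d ⧸ 𝔣.map ι) :=
      IsLocalRing.of_surjective' (Ideal.Quotient.mk _) Ideal.Quotient.mk_surjective
    have key : ∀ z : P d, (∀ n, z ∈ 𝔣.map ι ⊔ mP ^ n) → z ∈ 𝔣.map ι := by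
      intro z hz
      refine Ideal.Quotient.eq_zero_iff_mem.1 ((Submodule.mem_bot (R := P d ⧸ 𝔣.map ι)).1 ?_)
      rw [← Ideal.iInf_pow_eq_bot_of_isLocalRing (mP.map (Ideal.Quotient.mk (𝔣.map ι))) (by
          intro h
          have h1 : (1 : P d ⧸ 𝔣.map ι) ∈ mP.map (Ideal.Quotient.mk (𝔣.map ι)) := h ▸ trivial
          rw [← map_one (Ideal.Quotient.mk (𝔣.map ι)), Ideal.mem_quotient_iff_mem hne] at h1
          exact (mem_maximalIdeal _).1 h1 isUnit_one), Ideal.mem_iInf]
      intro n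
      rw [← Ideal.map_pow, Ideal.mem_quotient_iff_mem_sup, sup_comm]
      exact hz n
    exact ⟨key _ fun n => (hclose n).1, key _ fun n => (hclose n).2⟩
  -- the critical section
  have hmfC : maximalIdeal C ≤ 𝔣 ⊔ (maximalIdeal R).map (algebraMap R C) := fun x hx => by
    refine hcomap _ _ ((max_le hmK hd).trans (sup_le ?_ (Ideal.span_le.2 ?_)) (hmap ▸ Ideal.mem_map_of_mem ι hx))
    · rw [Ideal.map_sup, show (cN d).comp (algebraMap R K) = ι.comp (algebraMap R C) from
        RingHom.ext fun r => (hι r).symm, ← Ideal.map_map]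
      exact le_sup_right
    · rintro y (rfl | rfl)
      · exact Ideal.map_mono le_sup_left huv.1
      · exact Ideal.map_mono le_sup_left huv.2
  haveI : Algebra.EssFiniteType R F := Algebra.EssFiniteType.comp R C F
  have hsurjF : Function.Surjective (algebraMap R F) := by
    have hmax : maximalIdeal F ≤ mF := fun z hz => by
      obtain ⟨z, rfl⟩ := Ideal.Quotient.mk_surjective z
      exact Ideal.mem_map_of_mem mk ((mem_maximalIdeal _).2 fun h => (mem_maximalIdeal _).1 hz (h.map mk))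
    refine surjective_of_unramified ?_ fun q => ?_
    · refine le_antisymm ?_ (hmax.trans ?_)
      · rw [IsScalarTower.algebraMap_eq R C F, ← Ideal.map_map]
        exact (Ideal.map_mono (le_sup_left.trans hJle)).trans hmF
      · refine (Ideal.map_mono hmfC).trans ?_
        rw [Ideal.map_sup, Ideal.map_quotient_self, bot_sup_eq, Ideal.map_map,
          IsScalarTower.algebraMap_eq R C F]
        rfl
    · obtain ⟨x, rfl⟩ := Ideal.Quotient.mk_surjective q
      obtain ⟨r, hr⟩ := hresC x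
      refine ⟨r, ?_⟩
      rw [IsScalarTower.algebraMap_apply R C F]
      show mk x - mk (algebraMap R C r) ∈ _
      rw [← map_sub]
      exact hmF (Ideal.mem_map_of_mem mk hr)
  obtain ⟨a₀, ha₀⟩ := hsurjF (mk a)
  obtain ⟨b₀, hb₀⟩ := hsurjF (mk b)
  rw [IsScalarTower.algebraMap_apply R C F] at ha₀ hb₀
  let A := a - algebraMap R C a₀
  let B := b - algebraMap R C b₀
  have hA : A ∈ 𝔣 := Ideal.Quotient.eq.1 ha₀.symm
  have hB : B ∈ 𝔣 := Ideal.Quotient.eq.1 hb₀.symm
  have ha₀m : a₀ ∈ maximalIdeal R := by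
    refine (mem_maximalIdeal _).2 fun h => ?_
    have h1 := Ideal.sub_mem _ haC (hfmax hA)
    rw [sub_sub_cancel] at h1
    exact (mem_maximalIdeal _).1 h1 (h.map _)
  have hb₀m : b₀ ∈ maximalIdeal R := by
    refine (mem_maximalIdeal _).2 fun h => ?_
    have h1 := Ideal.sub_mem _ hbC (hfmax hB)
    rw [sub_sub_cancel] at h1
    exact (mem_maximalIdeal _).1 h1 (h.map _)
  obtain ⟨pA, qA, hpqA⟩ := Ideal.mem_span_pair.1 (hfuv (Ideal.mem_map_of_mem ι hA))
  obtain ⟨pB, qB, hpqB⟩ := Ideal.mem_span_pair.1 (hfuv (Ideal.mem_map_of_mem ι hB))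
  have hlinA : ∀ i, lin d i (ι A) = E i a := fun i => by
    rw [← hEapp]; show E i (a - _) = _; rw [map_sub, (E i).map_algebraMap, sub_zero]
  have hlinB : ∀ i, lin d i (ι B) = E i b := fun i => by
    rw [← hEapp]; show E i (b - _) = _; rw [map_sub, (E i).map_algebraMap, sub_zero]
  have hlinuv : ∀ (i : Fin 2) (p q : P d), lin d i (p * uN d + q * vN d) =
      eps d p * (if i = 0 then 1 else 0) + eps d q * (if i = 1 then 1 else 0) := fun i p q => by
    rw [map_add, lin_mul, lin_mul, eps_uN, eps_vN, lin_uN, lin_vN]; ring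
  have hpA : pA - 1 ∈ mP := by
    rw [mem_max_iff hd, map_sub, map_one]
    have := hEa 0
    rw [← hlinA, ← hpqA, hlinuv] at this
    simpa using this
  have hqA : qA ∈ mP := by
    rw [mem_max_iff hd]
    have := hEa 1
    rw [← hlinA, ← hpqA, hlinuv] at this
    simpa using this
  have hpB : pB ∈ mP := by
    rw [mem_max_iff hd]
    have := hEb 0
    rw [← hlinB, ← hpqB, hlinuv] at this
    simpa using this
  have hqB : qB - 1 ∈ mP := by
    rw [mem_max_iff hd, map_sub, map_one]
    have := hEb 1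
    rw [← hlinB, ← hpqB, hlinuv] at this
    simpa using this
  have hunit : ∀ {x : P d}, x - 1 ∈ mP → IsUnit x := fun {x} hx => by
    by_contra h
    have h1 := Ideal.sub_mem _ ((mem_maximalIdeal _).2 h) hx
    rw [sub_sub_cancel] at h1
    exact (mem_maximalIdeal _).1 h1 isUnit_one
  have hdet1 : (pA * qB - qA * pB) - 1 ∈ mP := by
    rw [show pA * qB - qA * pB - 1 = (pA - 1) * qB + (qB - 1) - qA * pB by ring]
    exact Ideal.sub_mem _ (Ideal.add_mem _ (Ideal.mul_mem_right _ _ hpA) hqB) (Ideal.mul_mem_left _ _ hpB)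
  obtain ⟨δ, hδ⟩ := (hunit hdet1).exists_left_inv
  have hδ1 : δ - 1 ∈ mP := by
    rw [show δ - 1 = -(δ * ((pA * qB - qA * pB) - 1)) by linear_combination hδ]
    exact Ideal.neg_mem_iff _ |>.2 (Ideal.mul_mem_left _ _ hdet1)
  have hu' : uN d = δ * qB * ι A + -(δ * qA) * ι B := by
    linear_combination (δ * qB) * hpqA - (δ * qA) * hpqB - uN d * hδ
  have hv' : vN d = -(δ * pB) * ι A + δ * pA * ι B := by
    linear_combination -(δ * pB) * hpqA + (δ * pA) * hpqB - vN d * hδ
  -- the quadratic form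
  obtain ⟨α, β, γ, habc, hα, hβ, hγ⟩ : ∃ α β γ : C,
      α * (A * A) + β * (A * B) + γ * (B * B) = algebraMap R C Δ ∧
      ι α ∈ mP ∧ ι β - 1 ∈ mP ∧ ι γ ∈ mP := by
    let z₀ := δ * qB * -(δ * pB)
    let z₁ := δ * qB * (δ * pA) + -(δ * qA) * -(δ * pB)
    let z₂ := -(δ * qA) * (δ * pA)
    have hz : z₀ * ι (A * A) + z₁ * ι (A * B) + z₂ * ι (B * B) = ι (algebraMap R C Δ) := by
      rw [hι, ← uN_mul_vN, map_mul, map_mul, map_mul]
      conv_rhs => rw [hu', hv']
      ring
    have hmem : algebraMap R C Δ ∈ Ideal.span {A * A, A * B, B * B} := by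
      refine hcomap _ _ ?_
      rw [← hz]
      refine Ideal.add_mem _ (Ideal.add_mem _ ?_ ?_) ?_ <;>
        exact Ideal.mul_mem_left _ _ (Ideal.mem_map_of_mem ι (Ideal.subset_span (by simp)))
    obtain ⟨c₀, r, hr, hc₀⟩ := Ideal.mem_span_insert.1 hmem
    obtain ⟨c₁, c₂, hc⟩ := Ideal.mem_span_pair.1 hr
    have hrel : ∑ i, (![A * A, A * B, B * B] : Fin 3 → C) i •
        (![z₀ - ι c₀, z₁ - ι c₁, z₂ - ι c₂] : Fin 3 → P d) i = 0 := by
      simp only [Fin.sum_univ_three, Algebra.smul_def]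
      show ι (A * A) * (z₀ - ι c₀) + ι (A * B) * (z₁ - ι c₁) + ι (B * B) * (z₂ - ι c₂) = 0
      have h2 := congrArg ι (hc₀.trans (congrArg (c₀ * (A * A) + ·) hc.symm))
      simp only [map_add, map_mul] at h2 hz ⊢
      linear_combination hz + h2
    obtain ⟨l, M, y, hM, hM0⟩ := Module.Flat.isTrivialRelation_of_sum_smul_eq_zero (R := C) (M := P d) hrel
    choose cy hcy using fun j => hdense (y j) 1
    let w : Fin 3 → C := fun i => ∑ j, M i j * cy j
    have hw0 : (A * A) * w 0 + (A * B) * w 1 + (B * B) * w 2 = 0 := by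
      simp only [w, Finset.mul_sum, ← Finset.sum_add_distrib]
      refine Finset.sum_eq_zero fun j _ => ?_
      have := hM0 j
      simp only [Fin.sum_univ_three, Matrix.cons_val_zero, Matrix.cons_val_one, Matrix.cons_val_two,
        Matrix.head_cons, Matrix.tail_cons] at this
      linear_combination cy j * this
    have hwz : ∀ i, ι (w i) - (![z₀ - ι c₀, z₁ - ι c₁, z₂ - ι c₂] : Fin 3 → P d) i ∈ mP := by
      intro i
      rw [hM i, map_sum, ← Finset.sum_sub_distrib]
      refine Ideal.sum_mem _ fun j _ => ?_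
      rw [map_mul, Algebra.smul_def, ← mul_sub]
      refine Ideal.mul_mem_left _ _ ?_
      have := hcy j
      rwa [pow_one] at this
    refine ⟨c₀ + w 0, c₁ + w 1, c₂ + w 2, ?_, ?_, ?_, ?_⟩
    · linear_combination hw0 - hc₀ + hc
    · have h0 := hwz 0
      simp only [Matrix.cons_val_zero] at h0
      have hz0 : z₀ ∈ mP := Ideal.mul_mem_left _ _ (Ideal.neg_mem_iff _ |>.2 (Ideal.mul_mem_left _ _ hpB))
      rw [map_add, show ι c₀ + ι (w 0) = (ι (w 0) - (z₀ - ι c₀)) + z₀ by ring]
      exact Ideal.add_mem _ h0 hz0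
    · have h1 := hwz 1
      simp only [Matrix.cons_val_one, Matrix.cons_val_zero] at h1
      have hz1 : z₁ - 1 ∈ mP := by
        rw [show z₁ - 1 = (δ - 1) * (qB * (δ * pA)) + (qB - 1) * (δ * pA) + (δ - 1) * pA + (pA - 1) +
          δ * qA * (δ * pB) by ring]
        exact Ideal.add_mem _ (Ideal.add_mem _ (Ideal.add_mem _ (Ideal.add_mem _ (Ideal.mul_mem_right _ _ hδ1)
          (Ideal.mul_mem_right _ _ hqB)) (Ideal.mul_mem_right _ _ hδ1)) hpA)
          (Ideal.mul_mem_left _ _ (Ideal.mul_mem_left _ _ hpB))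
      rw [map_add, show ι c₁ + ι (w 1) - 1 = (ι (w 1) - (z₁ - ι c₁)) + (z₁ - 1) by ring]
      exact Ideal.add_mem _ h1 hz1
    · have h2 := hwz 2
      simp only [Matrix.cons_val_two, Matrix.tail_cons, Matrix.head_cons] at h2
      have hz2 : z₂ ∈ mP := Ideal.mul_mem_right _ _ (Ideal.neg_mem_iff _ |>.2 (Ideal.mul_mem_left _ _ hqA))
      rw [map_add, show ι c₂ + ι (w 2) = (ι (w 2) - (z₂ - ι c₂)) + z₂ by ring]
      exact Ideal.add_mem _ h2 hz2
  -- splitting it after an étale extension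
  let f : C[X] := X ^ 2 - Polynomial.C β * X + Polynomial.C (α * γ)
  have hfm : f.Monic := by
    show (X ^ 2 - Polynomial.C β * X + Polynomial.C (α * γ)).Monic
    monicity!
  obtain ⟨μ, hμ, hμβ⟩ := HenselianRing.is_henselian (I := mP) (f.map ι) (hfm.map ι) (ι β) (by
    simp only [f, Polynomial.map_add, Polynomial.map_sub, Polynomial.map_pow, Polynomial.map_mul,
      Polynomial.map_C, Polynomial.map_X, eval_add, eval_sub, eval_pow, eval_mul, eval_C, eval_X, map_mul]
    rw [show ι β ^ 2 - ι β * ι β + ι α * ι γ = ι α * ι γ by ring]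
    exact Ideal.mul_mem_right _ _ hα) (by
    have : (f.map ι).derivative.eval (ι β) = ι β := by
      simp [f]
      ring
    rw [this]
    exact (hunit hβ).map _)
  let φ : AdjoinRoot f →+* P d := AdjoinRoot.lift ι μ (by rw [← eval_map]; exact hμ)
  let 𝔮 : Ideal (AdjoinRoot f) := mP.comap φ
  haveI : 𝔮.IsPrime := (maximalIdeal.isMaximal (P d)).isPrime.comap φ
  let C₁ := Localization.AtPrime 𝔮
  have hφu : ∀ y : 𝔮.primeCompl, IsUnit (φ y) := fun y => by
    by_contra h
    exact y.2 ((mem_maximalIdeal _).2 h)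
  let ι₁ : C₁ →+* P d := IsLocalization.lift (M := 𝔮.primeCompl) hφu
  have hι₁E : ∀ x, ι₁ (algebraMap (AdjoinRoot f) C₁ x) = φ x := fun x => IsLocalization.lift_eq _ x
  have hι₁C : ∀ x, ι₁ (algebraMap C C₁ x) = ι x := fun x => by
    rw [IsScalarTower.algebraMap_apply C (AdjoinRoot f) C₁, hι₁E]
    exact AdjoinRoot.lift_of _
  have hι₁m : ∀ x : C₁, ι₁ x ∈ mP → x ∈ maximalIdeal C₁ := fun x hx =>
    (mem_maximalIdeal _).2 fun h => (mem_maximalIdeal _).1 hx (h.map ι₁)
  let μ₁ : C₁ := algebraMap (AdjoinRoot f) C₁ (AdjoinRoot.root f)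
  have hμ₁ : ι₁ μ₁ = μ := by rw [hι₁E]; exact AdjoinRoot.lift_root _
  have hμu : IsUnit μ := hunit (by
    rw [show μ - 1 = (μ - ι β) + (ι β - 1) by ring]; exact Ideal.add_mem _ hμβ hβ)
  have hμ₁u : IsUnit μ₁ := by
    refine IsLocalization.map_units C₁ (⟨AdjoinRoot.root f, fun h => ?_⟩ : 𝔮.primeCompl)
    have h' : φ (AdjoinRoot.root f) ∈ mP := h
    rw [AdjoinRoot.lift_root] at h'
    exact (mem_maximalIdeal _).1 h' hμu
  obtain ⟨ν, hν⟩ := hμ₁u.exists_right_inv
  let c₁ : C →+* C₁ := algebraMap C C₁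
  have hroot : μ₁ * μ₁ - c₁ β * μ₁ + c₁ α * c₁ γ = 0 := by
    have := congrArg (algebraMap (AdjoinRoot f) C₁) (AdjoinRoot.eval₂_root f)
    rw [hom_eval₂, map_zero, ← AdjoinRoot.algebraMap_eq, ← IsScalarTower.algebraMap_eq] at this
    simp only [f, eval₂_add, eval₂_sub, eval₂_pow, eval₂_mul, eval₂_C, eval₂_X, map_mul] at this
    linear_combination this
  let lam := c₁ γ * ν
  let U := c₁ A + lam * c₁ B
  let V := c₁ α * c₁ A + μ₁ * c₁ B
  have hUV : U * V = algebraMap R C₁ Δ := by
    rw [IsScalarTower.algebraMap_apply R C C₁, ← habc, map_add, map_add, map_mul, map_mul, map_mul,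
      map_mul, map_mul, map_mul]
    show (c₁ A + c₁ γ * ν * c₁ B) * (c₁ α * c₁ A + μ₁ * c₁ B) = _
    linear_combination (c₁ γ * c₁ B * c₁ B - μ₁ * c₁ A * c₁ B + c₁ β * c₁ A * c₁ B) * hν +
      c₁ A * c₁ B * ν * hroot
  -- the branch
  have hιU : ι₁ U = ι A + ι γ * ι₁ ν * ι B := by
    simp only [U, lam, c₁, map_add, map_mul, hι₁C]
  have hιV : ι₁ V = ι α * ι A + μ * ι B := by
    simp only [V, c₁, map_add, map_mul, hι₁C, hμ₁]
  have hρU : rho d (ι₁ U) = 0 := by
    have h1 : rho d (ι₁ V) = rho d (ι α * qA + μ * qB) * PowerSeries.X := by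
      rw [hιV, ← hpqA, ← hpqB]
      simp only [map_add, map_mul, rho_uN, rho_vN]
      ring
    have h2 : IsUnit (rho d (ι α * qA + μ * qB)) := by
      refine (hunit ?_).map (rho d)
      rw [show ι α * qA + μ * qB - 1 = ι α * qA + (μ * (qB - 1) + ((μ - ι β) + (ι β - 1))) by ring]
      exact Ideal.add_mem _ (Ideal.mul_mem_left _ _ hqA)
        (Ideal.add_mem _ (Ideal.mul_mem_left _ _ hqB) (Ideal.add_mem _ hμβ hβ))
    have h3 : rho d (ι₁ U) * rho d (ι₁ V) = 0 := by
      rw [← map_mul, ← map_mul, hUV, IsScalarTower.algebraMap_apply R C C₁, hι₁C, hι, rho_cN,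
        Ideal.Quotient.eq_zero_iff_mem.2 (Ideal.mem_span_singleton_self _), map_zero]
    rw [h1, ← mul_assoc] at h3
    have h4 : rho d (ι₁ U) * rho d (ι α * qA + μ * qB) = 0 := by
      ext n
      have := congrArg (PowerSeries.coeff (n + 1)) h3
      rwa [PowerSeries.coeff_succ_mul_X, map_zero] at this
    exact h2.mul_left_eq_zero.1 h4
  obtain ⟨e₁, he₁⟩ := Ideal.mem_span_singleton'.1 (rho_eq_zero d hρU)
  have he₁u : IsUnit e₁ := by
    refine (isUnit_iff_eps d hd e₁).2 ?_
    have h1 : lin d 0 (e₁ * uN d) = eps d e₁ := by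
      rw [lin_mul, eps_uN, lin_uN]; simp
    have h2 : lin d 0 (ι₁ U) = eps d (pA + ι γ * ι₁ ν * pB) := by
      rw [hιU, ← hpqA, ← hpqB, show pA * uN d + qA * vN d + ι γ * ι₁ ν * (pB * uN d + qB * vN d) =
        (pA + ι γ * ι₁ ν * pB) * uN d + (qA + ι γ * ι₁ ν * qB) * vN d by ring, hlinuv]
      simp
    rw [← h1, he₁, h2]
    refine (hunit ?_).map (eps d)
    rw [show pA + ι γ * ι₁ ν * pB - 1 = (pA - 1) + ι γ * ι₁ ν * pB by ring]
    exact Ideal.add_mem _ hpA (Ideal.mul_mem_left _ _ hpB)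
  obtain ⟨χ, w, hχc, hχu, hχv, hχe⟩ := exists_point d (algebraMap R K t₁) (algebraMap R K t₂) hT₁
    (hTm _ ht₂) (by rw [← map_mul, ht]) e₁ he₁u
  have hχU : χ (ι₁ U) = algebraMap R K t₁ := by rw [← he₁, mul_comm]; exact hχe
  have hχV : χ (ι₁ V) = algebraMap R K t₂ := by
    have h0 : algebraMap R K t₁ ≠ 0 := fun h => hΔ (by
      rw [← ht, hinj (h.trans (map_zero _).symm), zero_mul])
    refine mul_left_cancel₀ h0 ?_
    conv_lhs => rw [← hχU]
    rw [← map_mul, ← map_mul ι₁, hUV, IsScalarTower.algebraMap_apply R C C₁, hι₁C, hι, hχc, ← map_mul, ht]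
  -- the section
  let Qi : Ideal C₁ := Ideal.span {U - algebraMap R C₁ t₁, V - algebraMap R C₁ t₂}
  have hχR : ∀ r : R, χ (ι₁ (algebraMap R C₁ r)) = algebraMap R K r := fun r => by
    rw [IsScalarTower.algebraMap_apply R C C₁, hι₁C, hι, hχc]
  have hQker : Qi ≤ RingHom.ker (χ.comp ι₁) := by
    refine Ideal.span_le.2 ?_
    rintro x (rfl | rfl)
    · show χ (ι₁ (U - _)) = 0
      rw [map_sub, map_sub, hχU, hχR, sub_self]
    · show χ (ι₁ (V - _)) = 0
      rw [map_sub, map_sub, hχV, hχR, sub_self]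
  let m₁ := maximalIdeal C₁
  let N : Ideal C₁ := (maximalIdeal R).map (algebraMap R C₁) ⊔ Ideal.span {U, V}
  let G : Ideal C₁ := Ideal.span {c₁ A, c₁ B}
  have hlam : lam ∈ m₁ := Ideal.mul_mem_right _ _ (hι₁m _ (by rw [hι₁C]; exact hγ))
  have hα₁ : c₁ α ∈ m₁ := hι₁m _ (by rw [hι₁C]; exact hα)
  have hGN : G ≤ N := by
    refine Submodule.le_of_le_smul_of_le_jacobson_bot (I := m₁) (Submodule.fg_span (Set.toFinite _))
      (maximalIdeal_le_jacobson _) (Ideal.span_le.2 ?_)
    have hUN : U ∈ N := Ideal.mem_sup_right (Ideal.subset_span (by simp))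
    have hVN : V ∈ N := Ideal.mem_sup_right (Ideal.subset_span (by simp))
    have hAG : c₁ A ∈ G := Ideal.subset_span (by simp)
    have hBG : c₁ B ∈ G := Ideal.subset_span (by simp)
    rintro x (rfl | rfl)
    · rw [show c₁ A = U - lam * c₁ B by simp [U]]
      exact Ideal.sub_mem _ (Submodule.mem_sup_left hUN)
        (Submodule.mem_sup_right (Submodule.smul_mem_smul hlam hBG))
    · have e1 : c₁ B = ν * V - ν * (c₁ α * c₁ A) := by
        simp only [V]
        linear_combination -(c₁ B) * hν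
      rw [e1]
      exact Ideal.sub_mem _ (Submodule.mem_sup_left (Ideal.mul_mem_left _ _ hVN))
        (Ideal.mul_mem_left _ _ (Submodule.mem_sup_right (Submodule.smul_mem_smul hα₁ hAG)))
  have hmC₁ : (maximalIdeal C).map c₁ ≤ N := by
    refine (Ideal.map_mono hmC).trans ?_
    rw [Ideal.map_sup, Ideal.map_map, ← IsScalarTower.algebraMap_eq]
    refine sup_le le_sup_left ?_
    rw [Ideal.map_span, Ideal.span_le]
    have hA0 : ∀ r ∈ maximalIdeal R, c₁ (algebraMap R C r) ∈ N := fun r hr => by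
      rw [← IsScalarTower.algebraMap_apply]
      exact Ideal.mem_sup_left (Ideal.mem_map_of_mem _ hr)
    rintro _ ⟨x, (hx | hx), rfl⟩
    · subst x
      rw [show a = A + algebraMap R C a₀ by simp [A], map_add]
      exact Ideal.add_mem _ (hGN (Ideal.subset_span (by simp))) (hA0 _ ha₀m)
    · rw [Set.mem_singleton_iff] at hx
      subst x
      rw [show b = B + algebraMap R C b₀ by simp [B], map_add]
      exact Ideal.add_mem _ (hGN (Ideal.subset_span (by simp))) (hA0 _ hb₀m)
  have hrootβ : μ₁ - c₁ β ∈ (maximalIdeal C).map c₁ := by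
    rw [show μ₁ - c₁ β = -(ν * c₁ α) * c₁ γ by linear_combination ν * hroot - (μ₁ - c₁ β) * hν]
    exact Ideal.mul_mem_left _ _ (Ideal.mem_map_of_mem c₁ (hcomap _ _ (hmap.symm ▸ hγ)))
  have hdecomp : ∀ y : AdjoinRoot f, ∃ c : C, algebraMap (AdjoinRoot f) C₁ y - c₁ c ∈ (maximalIdeal C).map c₁ := by
    intro y
    obtain ⟨p, rfl⟩ := AdjoinRoot.mk_surjective y
    refine ⟨p.eval β, ?_⟩
    have e1 : algebraMap (AdjoinRoot f) C₁ (AdjoinRoot.mk f p) = p.eval₂ c₁ μ₁ := by
      rw [← AdjoinRoot.aeval_eq, aeval_def, hom_eval₂, ← IsScalarTower.algebraMap_eq]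
    have e2 : c₁ (p.eval β) = p.eval₂ c₁ (c₁ β) := (eval₂_at_apply c₁ β).symm
    rw [e1, e2, eval₂_eq_eval_map, eval₂_eq_eval_map]
    obtain ⟨k, hk⟩ := sub_dvd_eval_sub μ₁ (c₁ β) (p.map c₁)
    rw [hk]
    exact Ideal.mul_mem_right _ _ hrootβ
  have hm₁N : m₁ ≤ N := by
    refine le_trans ?_ hmC₁
    show maximalIdeal C₁ ≤ _
    rw [← Localization.AtPrime.map_eq_maximalIdeal, Ideal.map_le_iff_le_comap]
    intro y hy
    obtain ⟨c, hc⟩ := hdecomp y
    have hcm : c ∈ maximalIdeal C := by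
      refine hcomap _ _ ?_
      rw [hmap, ← hι₁C]
      have h1 : ι₁ (algebraMap (AdjoinRoot f) C₁ y - c₁ c) ∈ mP := by
        have := Ideal.mem_map_of_mem ι₁ hc
        rw [Ideal.map_map, show ι₁.comp c₁ = ι from RingHom.ext hι₁C, hmap] at this
        exact this
      have h2 : φ y ∈ mP := hy
      rw [map_sub, hι₁E] at h1
      have h3 := Ideal.sub_mem _ h2 h1
      rwa [sub_sub_cancel] at h3
    have := Ideal.add_mem _ hc (Ideal.mem_map_of_mem c₁ hcm)
    rw [sub_add_cancel] at this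
    exact this
  let Q₁ := C₁ ⧸ Qi
  have hQne : Qi ≠ ⊤ := fun h => by
    have h1 : (1 : C₁) ∈ RingHom.ker (χ.comp ι₁) := hQker (h ▸ trivial)
    rw [RingHom.mem_ker, map_one] at h1
    exact one_ne_zero h1
  haveI : Nontrivial Q₁ := Ideal.Quotient.nontrivial_iff.2 hQne
  haveI : IsLocalRing Q₁ := IsLocalRing.of_surjective' (Ideal.Quotient.mk Qi) Ideal.Quotient.mk_surjective
  haveI : Algebra.EssFiniteType R (AdjoinRoot f) := Algebra.EssFiniteType.comp R C (AdjoinRoot f)
  haveI : Algebra.EssFiniteType R C₁ := Algebra.EssFiniteType.comp R (AdjoinRoot f) C₁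
  haveI : Algebra.EssFiniteType R Q₁ := Algebra.EssFiniteType.comp R C₁ Q₁
  haveI : IsLocalHom (Ideal.Quotient.mk Qi) := IsLocalHom.of_surjective _ Ideal.Quotient.mk_surjective
  have hmQ : ∀ x : C₁, x ∈ m₁ → Ideal.Quotient.mk Qi x ∈ maximalIdeal Q₁ := fun x hx =>
    map_nonunit (Ideal.Quotient.mk Qi) x hx
  have hQsurj : Function.Surjective (algebraMap R Q₁) := by
    refine surjective_of_unramified (le_antisymm ?_ ?_) ?_
    · refine Ideal.map_le_iff_le_comap.2 fun r hr => ?_
      show algebraMap R Q₁ r ∈ maximalIdeal Q₁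
      refine (mem_maximalIdeal _).2 fun h => ?_
      have h1 := h.map (Ideal.Quotient.lift Qi (χ.comp ι₁) hQker)
      rw [IsScalarTower.algebraMap_apply R C₁ Q₁] at h1
      rw [show Ideal.Quotient.lift Qi (χ.comp ι₁) hQker (algebraMap C₁ Q₁ (algebraMap R C₁ r)) =
        χ (ι₁ (algebraMap R C₁ r)) from rfl, hχR] at h1
      exact (mem_maximalIdeal _).1 (hTm r hr) h1
    · intro z hz
      obtain ⟨z, rfl⟩ := Ideal.Quotient.mk_surjective z
      have hz' : z ∈ m₁ := (mem_maximalIdeal _).2 fun h => (mem_maximalIdeal _).1 hz (h.map _)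
      have h1 := Ideal.mem_map_of_mem (Ideal.Quotient.mk Qi) (hm₁N hz')
      rw [Ideal.map_sup, Ideal.map_map] at h1
      have hle : (Ideal.span {U, V}).map (Ideal.Quotient.mk Qi) ≤ (maximalIdeal R).map (algebraMap R Q₁) := ?_
      · exact (sup_le (le_refl _) hle) h1
      rw [Ideal.map_span, Ideal.span_le]
      rintro _ ⟨x, (rfl | rfl), rfl⟩
      · rw [show Ideal.Quotient.mk Qi U = algebraMap R Q₁ t₁ from
          Ideal.Quotient.eq.2 (Ideal.subset_span (by simp))]
        exact Ideal.mem_map_of_mem _ ht₁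
      · rw [show Ideal.Quotient.mk Qi V = algebraMap R Q₁ t₂ from
          Ideal.Quotient.eq.2 (Ideal.subset_span (by simp))]
        exact Ideal.mem_map_of_mem _ ht₂
    · intro q
      obtain ⟨x, rfl⟩ := Ideal.Quotient.mk_surjective q
      obtain ⟨r, hr⟩ := exists_residue (R := R) hresK hd (ι₁ x)
      refine ⟨r, ?_⟩
      rw [IsScalarTower.algebraMap_apply R C₁ Q₁]
      show Ideal.Quotient.mk Qi x - Ideal.Quotient.mk Qi (algebraMap R C₁ r) ∈ _
      rw [← map_sub]
      refine hmQ _ (hι₁m _ ?_)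
      rw [map_sub, IsScalarTower.algebraMap_apply R C C₁, hι₁C, hι]
      exact hr
  have hQinj : Function.Injective (algebraMap R Q₁) := fun r r' h => by
    have := congrArg (Ideal.Quotient.lift Qi (χ.comp ι₁) hQker) h
    rw [IsScalarTower.algebraMap_apply R C₁ Q₁, IsScalarTower.algebraMap_apply R C₁ Q₁] at this
    refine hinj ?_
    rw [← hχR r, ← hχR r']
    exact this
  let eQ := AlgEquiv.ofBijective (Algebra.ofId R Q₁) ⟨hQinj, hQsurj⟩
  let g : C →ₐ[R] R := eQ.symm.toAlgHom.comp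
    ((Ideal.Quotient.mkₐ R Qi).comp (IsScalarTower.toAlgHom R C C₁))
  refine ⟨g, χ, w, fun x => ?_, hχu, hχv⟩
  have h1 : algebraMap R Q₁ (g x) = Ideal.Quotient.mk Qi (c₁ x) := eQ.apply_symm_apply _
  have h2 := congrArg (Ideal.Quotient.lift Qi (χ.comp ι₁) hQker) h1
  rw [IsScalarTower.algebraMap_apply R C₁ Q₁] at h2
  have h3 : χ (ι₁ (algebraMap R C₁ (g x))) = χ (ι₁ (c₁ x)) := h2
  rw [hχR, hι₁C] at h3
  exact h3.symm

end Groth.Agent.Hens22.Node
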