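import Mathlib

/-!
Elementary facts about the ring `K[[u,v]]/(uv - d)`.
-/

set_option autoImplicit false
universe u

noncomputable section

open IsLocalRing

namespace Groth.Agent.Hens22.Node

variable {K : Type u} [CommRing K] (d : K)

/-- The power series ring in two variables. -/
abbrev S (K : Type u) [CommRing K] := MvPowerSeries (Fin 2) K

/-- The equation of the node. -/
abbrev rel : S K := MvPowerSeries.X 0 * MvPowerSeries.X 1 - MvPowerSeries.C d

/-- The completed local ring of the node. -/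
abbrev P : Type u := S K ⧸ Ideal.span {rel d}

abbrev Kd : Type u := K ⧸ Ideal.span {d}

abbrev uN : P d := Ideal.Quotient.mk _ (MvPowerSeries.X 0)

abbrev vN : P d := Ideal.Quotient.mk _ (MvPowerSeries.X 1)

abbrev cN : K →+* P d := (Ideal.Quotient.mk _).comp MvPowerSeries.C

theorem uN_mul_vN : uN d * vN d = cN d d := by
  rw [← map_mul]
  exact Ideal.Quotient.eq.2 (Ideal.mem_span_singleton_self _)

theorem coeff_single_mul (i : Fin 2) (n : ℕ) (f g : S K) :
    MvPowerSeries.coeff (Finsupp.single i n) (f * g) =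
      ∑ p ∈ Finset.HasAntidiagonal.antidiagonal n, MvPowerSeries.coeff (Finsupp.single i p.1) f *
        MvPowerSeries.coeff (Finsupp.single i p.2) g := by
  classical
  rw [MvPowerSeries.coeff_mul, Finsupp.antidiagonal_single, Finset.sum_map]
  rfl

theorem coeff_single_X_ne {i j : Fin 2} (h : i ≠ j) (n : ℕ) :
    MvPowerSeries.coeff (Finsupp.single i n) (MvPowerSeries.X j : S K) = 0 := by
  classical
  rw [MvPowerSeries.coeff_X, if_neg]
  intro h'
  have := DFunLike.congr_fun h' j
  rw [Finsupp.single_eq_of_ne h.symm, Finsupp.single_eq_same] at this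
  exact zero_ne_one this

/-- Restriction to the branch `u = 0`. -/
def rhoS : S K →+* PowerSeries (Kd d) where
  toFun f := PowerSeries.mk fun n => Ideal.Quotient.mk _ (MvPowerSeries.coeff (Finsupp.single 1 n) f)
  map_one' := by
    classical
    ext n
    rw [PowerSeries.coeff_mk, MvPowerSeries.coeff_one, PowerSeries.coeff_one]
    simp only [Finsupp.single_eq_zero]
    split_ifs <;> simp
  map_mul' f g := by
    ext n
    rw [PowerSeries.coeff_mk, PowerSeries.coeff_mul, coeff_single_mul, map_sum]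
    exact Finset.sum_congr rfl fun p _ => by rw [map_mul, PowerSeries.coeff_mk, PowerSeries.coeff_mk]
  map_zero' := by ext n; simp
  map_add' f g := by ext n; simp

theorem coeff_rhoS (f : S K) (n : ℕ) :
    PowerSeries.coeff n (rhoS d f) = Ideal.Quotient.mk _ (MvPowerSeries.coeff (Finsupp.single 1 n) f) :=
  PowerSeries.coeff_mk n fun k => Ideal.Quotient.mk _ (MvPowerSeries.coeff (Finsupp.single 1 k) f)

theorem rhoS_X0 : rhoS d (MvPowerSeries.X 0) = 0 := by
  ext n
  rw [coeff_rhoS, coeff_single_X_ne (by decide), map_zero, map_zero]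

theorem rhoS_X1 : rhoS d (MvPowerSeries.X 1) = PowerSeries.X := by
  classical
  ext n
  rw [coeff_rhoS, MvPowerSeries.coeff_X, PowerSeries.coeff_X]
  simp only [Finsupp.single_left_inj (one_ne_zero : (1 : ℕ) ≠ 0), Finsupp.single_eq_single_iff]
  split_ifs <;> simp_all

theorem rhoS_rel : rhoS d (rel d) = 0 := by
  classical
  rw [map_sub, map_mul, rhoS_X0, zero_mul, zero_sub, neg_eq_zero]
  ext n
  rw [coeff_rhoS, MvPowerSeries.coeff_C, map_zero]
  split_ifs
  · exact Ideal.Quotient.eq_zero_iff_mem.2 (Ideal.mem_span_singleton_self d)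
  · exact map_zero _

/-- Restriction to the branch `u = 0` on the node. -/
def rho : P d →+* PowerSeries (Kd d) :=
  Ideal.Quotient.lift _ (rhoS d) fun f hf => by
    obtain ⟨g, rfl⟩ := Ideal.mem_span_singleton'.1 hf
    rw [map_mul, rhoS_rel, mul_zero]

theorem rho_uN : rho d (uN d) = 0 := rhoS_X0 d

theorem rho_vN : rho d (vN d) = PowerSeries.X := rhoS_X1 d

theorem rho_cN (a : K) : rho d (cN d a) = PowerSeries.C (Ideal.Quotient.mk _ a) := by
  classical
  ext n
  show PowerSeries.coeff n (rhoS d (MvPowerSeries.C a)) = _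
  rw [coeff_rhoS, MvPowerSeries.coeff_C, PowerSeries.coeff_C]
  simp only [Finsupp.single_eq_zero]
  split_ifs <;> simp

theorem rho_surjective : Function.Surjective (rho d) := by
  classical
  intro g
  choose l hl using fun n => Ideal.Quotient.mk_surjective (PowerSeries.coeff n g)
  refine ⟨Ideal.Quotient.mk _ (fun m => l (m 1) : S K), ?_⟩
  ext n
  show PowerSeries.coeff n (rhoS d _) = _
  rw [coeff_rhoS, ← hl n]
  congr 1
  show l ((Finsupp.single (1 : Fin 2) n) 1) = _
  rw [Finsupp.single_eq_same]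

theorem rho_eq_zero {x : P d} (hx : rho d x = 0) : x ∈ Ideal.span {uN d} := by
  classical
  obtain ⟨f, rfl⟩ := Ideal.Quotient.mk_surjective x
  have hc : ∀ n, ∃ h, h * d = MvPowerSeries.coeff (Finsupp.single 1 n) f := by
    intro n
    have := congrArg (PowerSeries.coeff n) hx
    rw [map_zero] at this
    exact Ideal.mem_span_singleton'.1 (Ideal.Quotient.eq_zero_iff_mem.1 ((coeff_rhoS d f n).symm.trans this))
  choose h hh using hc
  let g : S K := fun m => MvPowerSeries.coeff (m + Finsupp.single 0 1) f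
  let b : S K := fun m => if m 0 = 0 then h (m 1) else 0
  have hf : f = g * MvPowerSeries.X 0 + b * MvPowerSeries.C d := by
    ext m
    rw [map_add, MvPowerSeries.coeff_mul_C, MvPowerSeries.X, MvPowerSeries.coeff_mul_monomial]
    by_cases hm : m 0 = 0
    · have hle : ¬ Finsupp.single (0 : Fin 2) 1 ≤ m := fun h' => by
        have := h' 0
        rw [Finsupp.single_eq_same, hm] at this
        omega
      have hm1 : m = Finsupp.single 1 (m 1) := by
        ext j; fin_cases j <;> simp [hm]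
      rw [if_neg hle, zero_add]
      show _ = (if m 0 = 0 then h (m 1) else 0) * d
      rw [if_pos hm, hh, ← hm1]
    · have hle : Finsupp.single (0 : Fin 2) 1 ≤ m := Finsupp.single_le_iff.2 (Nat.one_le_iff_ne_zero.2 hm)
      rw [if_pos hle, mul_one]
      show _ = g (m - Finsupp.single 0 1) + (if m 0 = 0 then h (m 1) else 0) * d
      rw [if_neg hm, zero_mul, add_zero]
      show _ = MvPowerSeries.coeff (m - Finsupp.single 0 1 + Finsupp.single 0 1) f
      rw [tsub_add_cancel_of_le hle]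
  rw [hf, map_add, map_mul, map_mul, show Ideal.Quotient.mk _ (MvPowerSeries.C d) = cN d d from rfl,
    ← uN_mul_vN, Ideal.mem_span_singleton']
  exact ⟨Ideal.Quotient.mk _ g + Ideal.Quotient.mk _ b * vN d, by ring⟩

/-- The critical section. -/
def eps : P d →+* Kd d := PowerSeries.constantCoeff.comp (rho d)

theorem eps_eq (f : S K) :
    eps d (Ideal.Quotient.mk _ f) = Ideal.Quotient.mk _ (MvPowerSeries.constantCoeff f) := by
  show PowerSeries.constantCoeff (rhoS d f) = _
  rw [← PowerSeries.coeff_zero_eq_constantCoeff_apply, coeff_rhoS, Finsupp.single_zero]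
  rfl

theorem eps_uN : eps d (uN d) = 0 := by rw [eps, RingHom.comp_apply, rho_uN, map_zero]

theorem eps_vN : eps d (vN d) = 0 := by rw [eps, RingHom.comp_apply, rho_vN, PowerSeries.constantCoeff_X]

theorem eps_cN (a : K) : eps d (cN d a) = Ideal.Quotient.mk _ a := by
  rw [eps, RingHom.comp_apply, rho_cN, PowerSeries.constantCoeff_C]

theorem eps_eq_zero {x : P d} (hx : eps d x = 0) : x ∈ Ideal.span {uN d, vN d} := by
  obtain ⟨g, hg⟩ := PowerSeries.X_dvd_iff.2 hx
  obtain ⟨y, rfl⟩ := rho_surjective d g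
  have h0 : rho d (x - vN d * y) = 0 := by
    rw [map_sub, map_mul, rho_vN, sub_eq_zero]
    exact hg
  obtain ⟨c, hc⟩ := Ideal.mem_span_singleton'.1 (rho_eq_zero d h0)
  exact Ideal.mem_span_pair.2 ⟨c, y, by linear_combination hc⟩

/-- The linear coefficients at the critical section. -/
def lin (i : Fin 2) : P d →+ Kd d :=
  QuotientAddGroup.lift _
    ((Ideal.Quotient.mk (Ideal.span {d})).toAddMonoidHom.comp
      (MvPowerSeries.coeff (Finsupp.single i 1) : S K →ₗ[K] K).toAddMonoidHom) fun f hf => by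
    classical
    obtain ⟨g, rfl⟩ := Ideal.mem_span_singleton'.1 hf
    show Ideal.Quotient.mk _ (MvPowerSeries.coeff (Finsupp.single i 1) (g * rel d)) = 0
    rw [Ideal.Quotient.eq_zero_iff_mem, coeff_single_mul]
    refine Ideal.sum_mem _ fun p hp => Ideal.mul_mem_left _ _ ?_
    have hp2 : p.2 ≤ 1 := by rw [← Finset.HasAntidiagonal.mem_antidiagonal.1 hp]; omega
    have hX : MvPowerSeries.coeff (Finsupp.single i p.2) (MvPowerSeries.X 0 * MvPowerSeries.X 1 : S K) = 0 := by
      rw [coeff_single_mul]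
      refine Finset.sum_eq_zero fun q hq => ?_
      fin_cases i
      · exact mul_eq_zero_of_right _ (coeff_single_X_ne (by decide) _)
      · exact mul_eq_zero_of_left (coeff_single_X_ne (by decide) _) _
    rw [map_sub, hX, zero_sub, neg_mem_iff, MvPowerSeries.coeff_C]
    split_ifs
    · exact Ideal.mem_span_singleton_self d
    · exact Ideal.zero_mem _

theorem lin_mk (i : Fin 2) (f : S K) :
    lin d i (Ideal.Quotient.mk _ f) = Ideal.Quotient.mk _ (MvPowerSeries.coeff (Finsupp.single i 1) f) := rfl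

theorem lin_mul (i : Fin 2) (x y : P d) : lin d i (x * y) = eps d x * lin d i y + eps d y * lin d i x := by
  obtain ⟨f, rfl⟩ := Ideal.Quotient.mk_surjective x
  obtain ⟨g, rfl⟩ := Ideal.Quotient.mk_surjective y
  rw [← map_mul, lin_mk, lin_mk, lin_mk, eps_eq, eps_eq, coeff_single_mul,
    Finset.Nat.sum_antidiagonal_succ, Finset.Nat.antidiagonal_zero, Finset.sum_singleton]
  simp only [Finsupp.single_zero, map_add, map_mul, zero_add, MvPowerSeries.coeff_zero_eq_constantCoeff_apply]
  ring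

theorem lin_cN (i : Fin 2) (a : K) : lin d i (cN d a) = 0 := by
  classical
  show Ideal.Quotient.mk _ (MvPowerSeries.coeff (Finsupp.single i 1) (MvPowerSeries.C a)) = 0
  rw [MvPowerSeries.coeff_C, if_neg (by simp), map_zero]

theorem lin_uN (i : Fin 2) : lin d i (uN d) = if i = 0 then 1 else 0 := by
  classical
  show Ideal.Quotient.mk _ (MvPowerSeries.coeff (Finsupp.single i 1) (MvPowerSeries.X 0)) = _
  rw [MvPowerSeries.coeff_X]
  fin_cases i <;> simp [Finsupp.single_left_inj]

theorem lin_vN (i : Fin 2) : lin d i (vN d) = if i = 1 then 1 else 0 := by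
  classical
  show Ideal.Quotient.mk _ (MvPowerSeries.coeff (Finsupp.single i 1) (MvPowerSeries.X 1)) = _
  rw [MvPowerSeries.coeff_X]
  fin_cases i <;> simp [Finsupp.single_left_inj]

variable [IsLocalRing K]

theorem nontrivial_Kd (hd : d ∈ maximalIdeal K) : Nontrivial (Kd d) :=
  Ideal.Quotient.nontrivial_iff.2 fun h => by
    have := h ▸ (Ideal.span_singleton_le_iff_mem (I := maximalIdeal K)).2 hd
    exact (maximalIdeal.isMaximal K).ne_top (top_le_iff.1 this)

theorem isUnit_iff_eps (hd : d ∈ maximalIdeal K) (x : P d) : IsUnit x ↔ IsUnit (eps d x) := by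
  refine ⟨fun h => h.map _, fun h => ?_⟩
  obtain ⟨f, rfl⟩ := Ideal.Quotient.mk_surjective x
  rw [eps_eq] at h
  obtain ⟨y, hy⟩ := h.exists_right_inv
  obtain ⟨b, rfl⟩ := Ideal.Quotient.mk_surjective y
  rw [← map_mul, ← map_one (Ideal.Quotient.mk (Ideal.span {d})), Ideal.Quotient.eq] at hy
  have hm : MvPowerSeries.constantCoeff f * b - 1 ∈ maximalIdeal K :=
    (Ideal.span_singleton_le_iff_mem _).2 hd hy
  have hu : IsUnit (MvPowerSeries.constantCoeff f) := by
    by_contra hn
    have h1 : MvPowerSeries.constantCoeff f * b ∈ maximalIdeal K :=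
      Ideal.mul_mem_right _ _ ((mem_maximalIdeal _).2 hn)
    have h2 := Ideal.sub_mem _ h1 hm
    rw [sub_sub_cancel] at h2
    exact (mem_maximalIdeal _).1 h2 isUnit_one
  exact (MvPowerSeries.isUnit_iff_constantCoeff.2 hu).map _

/-- Evaluation of power series on a complete local ring. -/
theorem exists_evalS [IsAdicComplete (maximalIdeal K) K] (s : Fin 2 → K) (hs : ∀ i, s i ∈ maximalIdeal K) :
    ∃ φ : S K →+* K, (∀ a, φ (MvPowerSeries.C a) = a) ∧ (∀ i, φ (MvPowerSeries.X i) = s i) ∧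
      ∀ n f, φ f - MvPolynomial.eval s (MvPowerSeries.truncTotal n f) ∈ maximalIdeal K ^ n := by
  let I := maximalIdeal K
  let Pv := MvPolynomial.idealOfVars (Fin 2) K
  let ev : MvPolynomial (Fin 2) K →+* K := MvPolynomial.eval s
  have hP : Pv ≤ I.comap ev := by
    refine Ideal.span_le.2 ?_
    rintro _ ⟨i, rfl⟩
    show ev _ ∈ I
    rw [MvPolynomial.eval_X]
    exact hs i
  have hPn : ∀ n, Pv ^ n ≤ (I ^ n).comap ev := fun n =>
    (Ideal.pow_right_mono hP n).trans (Ideal.le_comap_pow ev n)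
  let f : (n : ℕ) → S K →+* K ⧸ I ^ n := fun n =>
    (Ideal.quotientMap (I ^ n) ev (hPn n)).comp
      (MvPowerSeries.truncTotalAlgHom (Fin 2) K n).toRingHom
  have hf : ∀ {m n : ℕ} (h : m ≤ n), (Ideal.Quotient.factorPow I h).comp (f n) = f m := by
    intro m n h
    refine RingHom.ext fun g => ?_
    show Ideal.Quotient.factor (Ideal.pow_le_pow_right h) (Ideal.quotientMap (I ^ n) ev (hPn n)
        (Ideal.Quotient.mk _ (MvPowerSeries.truncTotal n g))) =
      Ideal.quotientMap (I ^ m) ev (hPn m) (Ideal.Quotient.mk _ (MvPowerSeries.truncTotal m g))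
    rw [Ideal.quotientMap_mk, Ideal.quotientMap_mk, Ideal.Quotient.factor_mk, Ideal.Quotient.eq,
      ← map_sub]
    exact hPn m (MvPowerSeries.truncTotal_sub_truncTotal_mem_pow_idealOfVars h le_rfl g)
  let φ := IsAdicComplete.liftRingHom I f hf
  have hn : ∀ n g, φ g - ev (MvPowerSeries.truncTotal n g) ∈ I ^ n := fun n g => by
    rw [← Ideal.Quotient.eq, IsAdicComplete.mk_liftRingHom]
    show Ideal.quotientMap (I ^ n) ev (hPn n) (Ideal.Quotient.mk _ (MvPowerSeries.truncTotal n g)) = _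
    exact Ideal.quotientMap_mk
  have hcoe : ∀ q : MvPolynomial (Fin 2) K, φ (q : S K) = ev q := by
    intro q
    refine eq_of_sub_eq_zero (IsHausdorff.haus (I := I) inferInstance _ fun n => ?_)
    rw [SModEq.zero, smul_eq_mul, Ideal.mul_top, ← Ideal.Quotient.eq,
      IsAdicComplete.mk_liftRingHom]
    show Ideal.quotientMap (I ^ n) ev (hPn n)
      (MvPowerSeries.truncTotalAlgHom (Fin 2) K n (q : S K)) = _
    rw [show (q : S K) = algebraMap (MvPolynomial (Fin 2) K) _ q from rfl, AlgHom.commutes]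
    exact Ideal.quotientMap_mk
  refine ⟨φ, fun a => ?_, fun i => ?_, hn⟩
  · rw [← MvPolynomial.coe_C, hcoe]; simp [ev]
  · rw [← MvPolynomial.coe_X, hcoe]; simp [ev]

theorem evalS_congr [IsAdicComplete (maximalIdeal K) K] {s s' : Fin 2 → K} {φ φ' : S K →+* K}
    (h : ∀ n f, φ f - MvPolynomial.eval s (MvPowerSeries.truncTotal n f) ∈ maximalIdeal K ^ n)
    (h' : ∀ n f, φ' f - MvPolynomial.eval s' (MvPowerSeries.truncTotal n f) ∈ maximalIdeal K ^ n)
    (n : ℕ) (hs : ∀ i, s i - s' i ∈ maximalIdeal K ^ n) (f : S K) :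
    φ f - φ' f ∈ maximalIdeal K ^ n := by
  have heq : (Ideal.Quotient.mk (maximalIdeal K ^ n)).comp (MvPolynomial.eval s) =
      (Ideal.Quotient.mk (maximalIdeal K ^ n)).comp (MvPolynomial.eval s') :=
    MvPolynomial.ringHom_ext (fun r => by simp) fun i => by
      simp only [RingHom.comp_apply, MvPolynomial.eval_X]
      exact Ideal.Quotient.eq.2 (hs i)
  have h3 := Ideal.Quotient.eq.1 (RingHom.congr_fun heq (MvPowerSeries.truncTotal n f))
  have := Ideal.sub_mem _ (Ideal.add_mem _ (h n f) h3) (h' n f)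
  convert this using 1
  ring

/-- A point of the node with prescribed image of `u * e`. -/
theorem exists_point [IsAdicComplete (maximalIdeal K) K] (t₁ t₂ : K) (ht₁ : t₁ ∈ maximalIdeal K)
    (ht₂ : t₂ ∈ maximalIdeal K) (ht : t₁ * t₂ = d) (e : P d) (he : IsUnit e) :
    ∃ (χ : P d →+* K) (w : Kˣ), (∀ a, χ (cN d a) = a) ∧ χ (uN d) = t₁ * w ∧
      χ (vN d) = t₂ * (w⁻¹ : Kˣ) ∧ χ (uN d * e) = t₁ := by
  classical
  have hd : d ∈ maximalIdeal K := ht ▸ Ideal.mul_mem_right _ _ ht₁
  obtain ⟨f, rfl⟩ := Ideal.Quotient.mk_surjective e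
  have hmem : ∀ w : Kˣ, ∀ i, (![t₁ * w, t₂ * (w⁻¹ : Kˣ)] : Fin 2 → K) i ∈ maximalIdeal K := by
    intro w i
    fin_cases i
    · exact Ideal.mul_mem_right _ _ ht₁
    · exact Ideal.mul_mem_right _ _ ht₂
  choose φ hφC hφX hφn using fun w : Kˣ => exists_evalS _ (hmem w)
  have hrel : ∀ w, φ w (rel d) = 0 := fun w => by
    rw [map_sub, map_mul, hφX, hφX, hφC]
    show t₁ * w * (t₂ * (w⁻¹ : Kˣ)) - d = 0
    rw [mul_mul_mul_comm, Units.mul_inv, mul_one, ht, sub_self]
  let χ : Kˣ → (P d →+* K) := fun w => Ideal.Quotient.lift _ (φ w) fun g hg => by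
    obtain ⟨k, rfl⟩ := Ideal.mem_span_singleton'.1 hg
    rw [map_mul, hrel, mul_zero]
  have hcon : ∀ (n : ℕ) (w w' : Kˣ), ((w : K) - w') ∈ maximalIdeal K ^ n →
      φ w f - φ w' f ∈ maximalIdeal K ^ (n + 1) := by
    intro n w w' h
    have hinv : ((w⁻¹ : Kˣ) : K) - (w'⁻¹ : Kˣ) ∈ maximalIdeal K ^ n := by
      have h2 : ((w⁻¹ : Kˣ) : K) - (w'⁻¹ : Kˣ) = -((w⁻¹ : Kˣ) * (w'⁻¹ : Kˣ)) * ((w : K) - w') := by
        have h3 := Units.inv_mul w
        have h4 := Units.inv_mul w'
        linear_combination (↑w'⁻¹ : K) * h3 - (↑w⁻¹ : K) * h4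
      rw [h2]
      exact Ideal.mul_mem_left _ _ h
    refine evalS_congr (hφn w) (hφn w') _ (fun i => ?_) f
    fin_cases i
    · show t₁ * w - t₁ * w' ∈ _
      rw [← mul_sub, pow_succ']
      exact Ideal.mul_mem_mul ht₁ h
    · show t₂ * (w⁻¹ : Kˣ) - t₂ * (w'⁻¹ : Kˣ) ∈ _
      rw [← mul_sub, pow_succ']
      exact Ideal.mul_mem_mul ht₂ hinv
  have hu : ∀ w, IsUnit (φ w f) := fun w => (he.map (χ w) : IsUnit (χ w (Ideal.Quotient.mk _ f)))
  let F : Kˣ → Kˣ := fun w => (hu w).unit⁻¹
  let W : ℕ → Kˣ := fun n => F^[n] 1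
  have hstep : ∀ n, ((W (n + 1) : K) - W n) ∈ maximalIdeal K ^ n := by
    intro n
    induction n with
    | zero => simp
    | succ n ih =>
      have e1 : W (n + 1 + 1) = F (W (n + 1)) := Function.iterate_succ_apply' F _ _
      have e2 : W (n + 1) = F (W n) := Function.iterate_succ_apply' F _ _
      have h2 := hcon n _ _ ih
      have h5 : ((W (n + 1 + 1) : Kˣ) : K) - W (n + 1) =
          -((W (n + 1 + 1) : Kˣ) : K) * (W (n + 1)) * (φ (W (n + 1)) f - φ (W n) f) := by
        have h3 : ((W (n + 1 + 1) : Kˣ) : K) * φ (W (n + 1)) f = 1 := by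
          rw [e1]; exact IsUnit.val_inv_mul (hu (W (n + 1)))
        have h4 : ((W (n + 1) : Kˣ) : K) * φ (W n) f = 1 := by
          rw [e2]; exact IsUnit.val_inv_mul (hu (W n))
        linear_combination ((W (n + 1) : Kˣ) : K) * h3 - ((W (n + 1 + 1) : Kˣ) : K) * h4
      rw [h5]
      exact Ideal.mul_mem_left _ _ h2
  have hcauchy : ∀ {m n : ℕ}, m ≤ n → ((W m : K) - W n) ∈ maximalIdeal K ^ m := by
    intro m n h
    induction n, h using Nat.le_induction with
    | base => simp
    | succ n hmn ih =>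
      rw [show (W m : K) - W (n + 1) = ((W m : K) - W n) - ((W (n + 1) : K) - W n) by ring]
      exact Ideal.sub_mem _ ih (Ideal.pow_le_pow_right hmn (hstep n))
  obtain ⟨L, hL⟩ := IsPrecomplete.prec (I := maximalIdeal K) (M := K) inferInstance (f := fun n => (W n : K)) (by
    intro m n h
    rw [SModEq.sub_mem, smul_eq_mul, Ideal.mul_top]
    exact hcauchy h)
  have hL' : ∀ n, (W n : K) - L ∈ maximalIdeal K ^ n := fun n => by
    have := hL n
    rwa [SModEq.sub_mem, smul_eq_mul, Ideal.mul_top] at this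
  have hLu : IsUnit L := by
    by_contra hn
    have h1 := hL' 1
    rw [pow_one] at h1
    have h2 := Ideal.add_mem _ h1 ((mem_maximalIdeal L).2 hn)
    rw [sub_add_cancel] at h2
    exact (mem_maximalIdeal _).1 h2 (W 1).isUnit
  obtain ⟨w, rfl⟩ := hLu
  have hfix : (w : K) * φ w f = 1 := by
    refine eq_of_sub_eq_zero (IsHausdorff.haus (I := maximalIdeal K) inferInstance _ fun n => ?_)
    rw [SModEq.zero, smul_eq_mul, Ideal.mul_top]
    have h4 : ((W (n + 1) : Kˣ) : K) * φ (W n) f = 1 := by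
      rw [show W (n + 1) = F (W n) from Function.iterate_succ_apply' F _ _]
      exact IsUnit.val_inv_mul (hu (W n))
    have h6 : φ w f - φ (W n) f ∈ maximalIdeal K ^ n :=
      Ideal.pow_le_pow_right (Nat.le_succ n) (hcon n _ _ (by
        rw [← neg_sub]; exact Ideal.neg_mem_iff _ |>.2 (hL' n)))
    have h7 : (W (n + 1) : K) - (w : K) ∈ maximalIdeal K ^ n :=
      Ideal.pow_le_pow_right (Nat.le_succ n) (hL' (n + 1))
    rw [show (w : K) * φ w f - 1 = (w : K) * (φ w f - φ (W n) f) - φ (W n) f * ((W (n + 1) : K) - (w : K)) by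
      linear_combination h4]
    exact Ideal.sub_mem _ (Ideal.mul_mem_left _ _ h6) (Ideal.mul_mem_left _ _ h7)
  refine ⟨χ w, w, fun a => hφC w a, hφX w 0, hφX w 1, ?_⟩
  rw [map_mul]
  show φ w (MvPowerSeries.X 0) * φ w f = _
  rw [hφX]
  show t₁ * w * φ w f = t₁
  rw [mul_assoc, hfix, mul_one]

end Groth.Agent.Hens22.Node
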