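import Groth.Agent.Hens22.PairOps
import Groth.Agent.FlatMor67.WENormal

/-!
Henselizations of pairs of normal domains which are domains are normal.
-/

set_option autoImplicit false
universe u

noncomputable section

namespace Groth.Agent.Hens22

theorem isIntegrallyClosed_pairHens {P : Type u} [CommRing P] [IsDomain P] [IsIntegrallyClosed P]
    {I : Ideal P} {B : Type u} [CommRing B] [IsDomain B] [Algebra P B]
    (hB : Hens2.IsPairHenselization P I B) : IsIntegrallyClosed B := by
  classical
  refine (isIntegrallyClosed_iff (FractionRing B)).2 fun {z} hz => ?_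
  obtain ⟨a, ⟨b, hb0⟩, hab⟩ := IsLocalization.exists_mk'_eq (nonZeroDivisors B) z
  have hbne : b ≠ 0 := nonZeroDivisors.ne_zero hb0
  obtain ⟨p, hpm, hp⟩ := hz
  let K := FractionRing B
  let n := p.natDegree
  -- the homogenised relation
  have hrel : ∑ i ∈ Finset.range (n + 1), p.coeff i * a ^ i * b ^ (n - i) = 0 := by
    apply IsFractionRing.injective B K
    rw [map_sum, map_zero]
    have h1 : algebraMap B K a = z * algebraMap B K b := by
      rw [← hab]
      exact (IsLocalization.mk'_spec K a ⟨b, hb0⟩).symm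
    rw [Polynomial.eval₂_eq_sum_range] at hp
    calc ∑ i ∈ Finset.range (n + 1), algebraMap B K (p.coeff i * a ^ i * b ^ (n - i))
        = (∑ i ∈ Finset.range (n + 1), algebraMap B K (p.coeff i) * z ^ i) * algebraMap B K b ^ n := by
          rw [Finset.sum_mul]
          refine Finset.sum_congr rfl fun i hi => ?_
          rw [map_mul, map_mul, map_pow, map_pow, h1, mul_pow]
          have : i + (n - i) = n := by
            have := Finset.mem_range.1 hi
            omega
          rw [← this, pow_add, this]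
          ring
      _ = 0 := by rw [hp, zero_mul]
  obtain ⟨S, _, _, _, hbij, φ, s, hs⟩ :=
    exists_stage hB (Fin.cons a (Fin.cons b fun i : Fin (n + 1) => p.coeff i.1))
  let a₀ := s 0
  let b₀ := s 1
  let c₀ : Fin (n + 1) → S := fun i => s i.succ.succ
  have hs0 : φ a₀ = a := by rw [hs]; rfl
  have hs1 : φ b₀ = b := by rw [hs]; rfl
  have hsc : ∀ i, φ (c₀ i) = p.coeff i.1 := fun i => by rw [hs]; rfl
  obtain ⟨T, _, _, _, -, ψ, φ', hφ', hzero⟩ := exists_stage_zero hB S hbij φ
    (![∑ i : Fin (n + 1), c₀ i * a₀ ^ i.1 * b₀ ^ (n - i.1), c₀ (Fin.last n) - 1] : Fin 2 → S)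
    (fun i => by
      fin_cases i
      · show φ (∑ i : Fin (n + 1), c₀ i * a₀ ^ i.1 * b₀ ^ (n - i.1)) = 0
        rw [map_sum, ← hrel,
          ← Fin.sum_univ_eq_sum_range (fun i => p.coeff i * a ^ i * b ^ (n - i)) (n + 1)]
        refine Finset.sum_congr rfl fun i _ => ?_
        rw [map_mul, map_mul, map_pow, map_pow, hsc, hs0, hs1]
      · show φ (c₀ (Fin.last n) - 1) = 0
        rw [map_sub, hsc, map_one, Fin.val_last, show p.coeff n = 1 from hpm, sub_self])
  let a₁ := ψ a₀
  let b₁ := ψ b₀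
  have ha₁ : φ' a₁ = a := (AlgHom.congr_fun hφ' a₀).trans hs0
  have hb₁ : φ' b₁ = b := (AlgHom.congr_fun hφ' b₀).trans hs1
  have h0 : ∑ i : Fin (n + 1), ψ (c₀ i) * a₁ ^ i.1 * b₁ ^ (n - i.1) = 0 := by
    have := hzero 0
    simpa [map_sum, map_mul, map_pow] using this
  have htop : ψ (c₀ (Fin.last n)) = 1 := by
    have := hzero 1
    simpa [map_sub, sub_eq_zero] using this
  let k : Ideal T := RingHom.ker φ'.toRingHom
  have : k.IsPrime := RingHom.ker_isPrime _
  let J : Ideal T :=
    { carrier := {t | ∃ r, t * a₁ = b₁ * r}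
      zero_mem' := ⟨0, by ring⟩
      add_mem' := by rintro x y ⟨r, hr⟩ ⟨r', hr'⟩; exact ⟨r + r', by rw [add_mul, mul_add, hr, hr']⟩
      smul_mem' := by
        rintro c x ⟨r, hr⟩
        exact ⟨c * r, by rw [smul_eq_mul, mul_assoc, hr]; ring⟩ }
  have hJk : J ⊔ k = ⊤ := by
    by_contra hne
    obtain ⟨Q, hQ, hle⟩ := Ideal.exists_le_maximal _ hne
    have := hQ.isPrime
    let TQ := Localization.AtPrime Q
    have := isIntegrallyClosed_of_isLocalization
      (Localization.AtPrime (Q.comap (algebraMap P T))) (Q.comap (algebraMap P T)).primeCompl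
      (Ideal.primeCompl_le_nonZeroDivisors _)
    obtain ⟨hdom, hic⟩ := FlatMor67.normal_localization_of_weaklyEtale P T Q
      (Localization.AtPrime (Q.comap (algebraMap P T))) TQ
    let g := algebraMap T TQ
    have hbQ : g b₁ ≠ 0 := by
      intro h
      obtain ⟨⟨t, ht⟩, htb⟩ := (IsLocalization.map_eq_zero_iff Q.primeCompl TQ b₁).1 h
      have h2 : φ' t * b = 0 := by rw [← hb₁, ← map_mul, htb, map_zero]
      exact ht ((le_sup_right.trans hle) ((mul_eq_zero.1 h2).resolve_right hbne))
    let F := FractionRing TQ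
    let w : F := algebraMap TQ F (g a₁) / algebraMap TQ F (g b₁)
    have hbF : algebraMap TQ F (g b₁) ≠ 0 :=
      (map_ne_zero_iff _ (IsFractionRing.injective TQ F)).2 hbQ
    have hw : IsIntegral TQ w := by
      refine ⟨∑ i : Fin (n + 1), Polynomial.C (g (ψ (c₀ i))) * Polynomial.X ^ i.1, ?_, ?_⟩
      · rw [Fin.sum_univ_castSucc, htop, map_one, Polynomial.C_1, one_mul, Fin.val_last, add_comm]
        refine Polynomial.monic_X_pow_add ((Polynomial.degree_sum_le _ _).trans_lt ?_)
        refine (Finset.sup_lt_iff (WithBot.bot_lt_coe n)).2 fun i _ => ?_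
        exact (Polynomial.degree_C_mul_X_pow_le _ _).trans_lt (WithBot.coe_lt_coe.2 i.2)
      · rw [Polynomial.eval₂_finset_sum]
        have h3 := congrArg (fun t => algebraMap TQ F (g t)) h0
        simp only [map_sum, map_mul, map_pow, map_zero] at h3
        refine (mul_eq_zero.1 ?_).resolve_right (pow_ne_zero n hbF)
        refine (Finset.sum_mul ..).trans (Eq.trans ?_ h3)
        refine Finset.sum_congr rfl fun i _ => ?_
        rw [Polynomial.eval₂_mul, Polynomial.eval₂_C, Polynomial.eval₂_X_pow, div_pow]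
        rw [mul_assoc, mul_assoc]
        congr 1
        rw [div_mul_eq_mul_div, div_eq_iff (pow_ne_zero _ hbF), mul_assoc, ← pow_add]
        congr 2
        omega
    obtain ⟨v, hv⟩ := IsIntegrallyClosed.isIntegral_iff.1 hw
    have hv' : v * g b₁ = g a₁ := IsFractionRing.injective TQ F (by
      rw [map_mul, hv, div_mul_cancel₀ _ hbF])
    obtain ⟨r, ⟨t, ht⟩, rfl⟩ := IsLocalization.exists_mk'_eq Q.primeCompl v
    rw [mul_comm, IsLocalization.mul_mk'_eq_mk'_of_mul, IsLocalization.mk'_eq_iff_eq_mul, ← map_mul,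
      IsLocalization.eq_iff_exists Q.primeCompl] at hv'
    obtain ⟨⟨t', ht'⟩, he⟩ := hv'
    have hmem : t' * t ∈ J := ⟨t' * r, by linear_combination -he⟩
    exact (hQ.isPrime.mem_or_mem ((le_sup_left.trans hle) hmem)).elim ht' ht
  obtain ⟨j, ⟨r, hr⟩, m, hm, hjm⟩ := Submodule.mem_sup.1 ((Ideal.eq_top_iff_one _).1 hJk)
  refine ⟨φ' r, ?_⟩
  have h1 : φ' j = 1 := by
    have := congrArg φ' hjm
    rwa [map_add, map_one, show φ' m = 0 from hm, add_zero] at this
  have h2 : a = b * φ' r := by
    rw [← ha₁, ← hb₁, ← map_mul, ← hr, map_mul, h1, one_mul]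
  rw [← hab, IsLocalization.eq_mk'_iff_mul_eq, ← map_mul]
  exact congrArg _ ((mul_comm _ _).trans h2.symm)

end Groth.Agent.Hens22
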