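import Groth.Agent.Hens22.PullFlat

/-!
The stalks of an inverse image of modules along a morphism to a scheme.
-/

set_option autoImplicit false
set_option backward.isDefEq.respectTransparency.types false
universe u

noncomputable section

open AlgebraicGeometry CategoryTheory TopologicalSpace Opposite TensorProduct HensSch
open Groth.Agent.QC70 (germM germM_res germM_exist germM_smul stalkMapM stalkMapM_germ stalkLinear)

namespace Groth.Agent.Hens22.PullFlat

variable {X : Scheme.{u}} {Z : LocallyRingedSpace.{u}}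

/-- The germ of a section of a module on the source. -/
abbrev germP (P : ModSite.Mod Z.sheaf) (U : Opens Z) (z : Z) (hz : z ∈ U) (s : P.val.obj (op U)) :
    (anPsh P).stalk z :=
  (anPsh P).germ U z hz s

variable {P P' : ModSite.Mod Z.sheaf} {z : Z}

theorem germP_exist (e : (anPsh P).stalk z) :
    ∃ (U : Opens Z) (hz : z ∈ U) (s : P.val.obj (op U)), germP P U z hz s = e :=
  TopCat.Presheaf.exists_germ_eq (anPsh P) e

theorem germP_res {U V : Opens Z} (h : V ≤ U) (hz : z ∈ V) (s : P.val.obj (op U)) :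
    germP P V z hz (P.val.map (homOfLE h).op s) = germP P U z (h hz) s :=
  (anPsh P).germ_res_apply (homOfLE h) z hz s

theorem germP_add {U : Opens Z} (hz : z ∈ U) (s t : P.val.obj (op U)) :
    germP P U z hz (s + t) = germP P U z hz s + germP P U z hz t :=
  map_add ((anPsh P).germ U z hz).hom _ _

theorem germP_zero {U : Opens Z} (hz : z ∈ U) : germP P U z hz 0 = 0 :=
  map_zero ((anPsh P).germ U z hz).hom

theorem germP_smul {U : Opens Z} (hz : z ∈ U) (r : Z.presheaf.obj (op U)) (s : P.val.obj (op U)) :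
    germP P U z hz (HSMul.hSMul (α := (ModSite.ringSh Z.sheaf).obj.obj (op U)) r s) =
      anGerm z U hz r • germP P U z hz s :=
  PresheafOfModules.germ_smul (R := Z.presheaf) (anPom P) z U hz r s

theorem germP_eq {U V : Opens Z} {hU : z ∈ U} {hV : z ∈ V} {s : P.val.obj (op U)}
    {t : P.val.obj (op V)} (h : germP P U z hU s = germP P V z hV t) :
    ∃ (W : Opens Z) (h₁ : W ≤ U) (h₂ : W ≤ V), z ∈ W ∧
      ∀ (z' : Z) (hz' : z' ∈ W), germP P U z' (h₁ hz') s = germP P V z' (h₂ hz') t := by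
  obtain ⟨W, hW, i₁, i₂, e⟩ := TopCat.Presheaf.germ_eq (anPsh P) z hU hV s t h
  refine ⟨W, i₁.le, i₂.le, hW, fun z' hz' => ?_⟩
  exact (((anPsh P).germ_res_apply i₁ z' hz' s).symm.trans (congrArg _ e)).trans
    ((anPsh P).germ_res_apply i₂ z' hz' t)

theorem germP_section_ext {U : Opens Z} (s t : P.val.obj (op U))
    (h : ∀ (z' : Z) (hz : z' ∈ U), germP P U z' hz s = germP P U z' hz t) : s = t :=
  TopCat.Presheaf.section_ext (⟨anPsh P, P.isSheaf⟩ : TopCat.Sheaf AddCommGrpCat.{u} Z.toTopCat)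
    U _ _ h

/-- A linear map out of a stalk given by its values on germs. -/
theorem exists_ofGermP {N : Type u} [AddCommGroup N] [Module (anStalk z) N]
    (v : ∀ U : Opens Z, z ∈ U → P.val.obj (op U) → N)
    (hres : ∀ (U V : Opens Z) (h : V ≤ U) (hz : z ∈ V) (s : P.val.obj (op U)),
      v V hz (P.val.map (homOfLE h).op s) = v U (h hz) s)
    (hadd : ∀ (U : Opens Z) (hz : z ∈ U) (s t : P.val.obj (op U)),
      v U hz (s + t) = v U hz s + v U hz t)
    (hsmul : ∀ (U : Opens Z) (hz : z ∈ U) (r : Z.presheaf.obj (op U)) (s : P.val.obj (op U)),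
      v U hz (HSMul.hSMul (α := (ModSite.ringSh Z.sheaf).obj.obj (op U)) r s) =
        anGerm z U hz r • v U hz s) :
    ∃ ψ : (anPsh P).stalk z →ₗ[anStalk z] N,
      ∀ (U : Opens Z) (hz : z ∈ U) (s : P.val.obj (op U)), ψ (germP P U z hz s) = v U hz s := by
  classical
  choose W hW s hs using fun e : (anPsh P).stalk z => germP_exist e
  let f : ↥((anPsh P).stalk z) → N := fun e => v (W e) (hW e) (s e)
  have hf : ∀ (U : Opens Z) (hz : z ∈ U) (t : P.val.obj (op U)),
      f (germP P U z hz t) = v U hz t := by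
    intro U hz t
    obtain ⟨W', hW', i₁, i₂, e⟩ := TopCat.Presheaf.germ_eq (anPsh P) z (hW _) hz _ _
      (hs (germP P U z hz t))
    show v (W (germP P U z hz t)) (hW _) (s (germP P U z hz t)) = v U hz t
    rw [← hres _ _ i₁.le hW' (s (germP P U z hz t)), ← hres _ _ i₂.le hW' t]
    exact congrArg (v W' hW') e
  refine ⟨{ toFun := f, map_add' := fun e e' => ?_, map_smul' := fun r e => ?_ }, hf⟩
  · obtain ⟨V, hV, a, rfl⟩ := germP_exist e
    obtain ⟨V', hV', b, rfl⟩ := germP_exist e'
    have h : z ∈ V ⊓ V' := ⟨hV, hV'⟩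
    rw [← germP_res (inf_le_left : V ⊓ V' ≤ V) h a, ← germP_res (inf_le_right : V ⊓ V' ≤ V') h b,
      ← germP_add, hf, hf, hf, hadd]
  · obtain ⟨V, hV, a, rfl⟩ := germP_exist e
    obtain ⟨V', hV', c, rfl⟩ := TopCat.Presheaf.exists_germ_eq Z.presheaf r
    have h : z ∈ V ⊓ V' := ⟨hV, hV'⟩
    rw [RingHom.id_apply, ← germP_res (inf_le_left : V ⊓ V' ≤ V) h a,
      ← Z.presheaf.germ_res_apply (homOfLE (inf_le_right : V ⊓ V' ≤ V')) z h c]
    show f (anGerm z _ h _ • _) = anGerm z _ h _ • f _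
    rw [← germP_smul, hf, hf, hsmul]

/-- A linear map out of the stalk of a module on the scheme given by its values on germs. -/
theorem exists_ofGermM {M : X.Modules} {x : X} {N : Type u} [AddCommGroup N]
    [Module (X.presheaf.stalk x) N]
    (v : ∀ U : X.Opens, x ∈ U → Γ(M, U) → N)
    (hres : ∀ (U V : X.Opens) (h : V ≤ U) (hx : x ∈ V) (s : Γ(M, U)),
      v V hx (QC70.res M h s) = v U (h hx) s)
    (hadd : ∀ (U : X.Opens) (hx : x ∈ U) (s t : Γ(M, U)), v U hx (s + t) = v U hx s + v U hx t)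
    (hsmul : ∀ (U : X.Opens) (hx : x ∈ U) (r : Γ(X, U)) (s : Γ(M, U)),
      v U hx (r • s) = X.presheaf.germ U x hx r • v U hx s) :
    ∃ ψ : M.presheaf.stalk x →ₗ[X.presheaf.stalk x] N,
      ∀ (U : X.Opens) (hx : x ∈ U) (s : Γ(M, U)), ψ (germM M U x hx s) = v U hx s := by
  classical
  choose W hxW s hs using fun e : M.presheaf.stalk x => germM_exist e
  let f : ↥(M.presheaf.stalk x) → N := fun e => v (W e) (hxW e) (s e)
  have hf : ∀ (V : X.Opens) (hx : x ∈ V) (t : Γ(M, V)), f (germM M V x hx t) = v V hx t := by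
    intro V hx t
    obtain ⟨W', hW', i₁, i₂, e⟩ := TopCat.Presheaf.germ_eq M.presheaf x (hxW _) hx _ _
      (hs (germM M V x hx t))
    show v (W (germM M V x hx t)) (hxW _) (s (germM M V x hx t)) = v V hx t
    rw [← hres _ _ i₁.le hW' (s (germM M V x hx t)), ← hres _ _ i₂.le hW' t]
    exact congrArg (v W' hW') e
  refine ⟨{ toFun := f, map_add' := fun e e' => ?_, map_smul' := fun r e => ?_ }, hf⟩
  · obtain ⟨V, hV, a, rfl⟩ := germM_exist e
    obtain ⟨V', hV', b, rfl⟩ := germM_exist e'
    have h : x ∈ V ⊓ V' := ⟨hV, hV'⟩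
    rw [← germM_res (inf_le_left : V ⊓ V' ≤ V) h a, ← germM_res (inf_le_right : V ⊓ V' ≤ V') h b,
      ← QC70.germM_add, hf, hf, hf, hadd]
  · obtain ⟨V, hV, a, rfl⟩ := germM_exist e
    obtain ⟨V', hV', c, rfl⟩ := TopCat.Presheaf.exists_germ_eq X.presheaf r
    have h : x ∈ V ⊓ V' := ⟨hV, hV'⟩
    rw [← germM_res (inf_le_left : V ⊓ V' ≤ V) h a, ← QC70.germ_resO (inf_le_right : V ⊓ V' ≤ V') h c,
      RingHom.id_apply, ← germM_smul, hf, hf, hsmul]

/-- A morphism on stalks. -/
theorem exists_stalkLinP (f : P ⟶ P') :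
    ∃ fz : (anPsh P).stalk z →ₗ[anStalk z] (anPsh P').stalk z,
      ∀ (U : Opens Z) (hz : z ∈ U) (s : P.val.obj (op U)),
        fz (germP P U z hz s) = germP P' U z hz (f.val.app (op U) s) := by
  refine exists_ofGermP (fun U hz s => germP P' U z hz (f.val.app (op U) s)) (fun U V h hz s => ?_)
    (fun U hz s t => ?_) (fun U hz r s => ?_)
  · rw [← germP_res h hz (f.val.app (op U) s)]
    exact congrArg (germP P' V z hz) (PresheafOfModules.naturality_apply f.val (homOfLE h).op s)
  · exact (congrArg (germP P' U z hz) (map_add (f.val.app (op U)).hom s t)).trans (germP_add hz _ _)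
  · exact (congrArg (germP P' U z hz) (map_smul (f.val.app (op U)).hom r s)).trans (germP_smul hz r _)

/-- The map on stalks of a morphism of modules on the source. -/
def stalkLinP (f : P ⟶ P') (z : Z) : (anPsh P).stalk z →ₗ[anStalk z] (anPsh P').stalk z :=
  (exists_stalkLinP f).choose

theorem stalkLinP_germ (f : P ⟶ P') {U : Opens Z} (hz : z ∈ U) (s : P.val.obj (op U)) :
    stalkLinP f z (germP P U z hz s) = germP P' U z hz (f.val.app (op U) s) :=
  (exists_stalkLinP f).choose_spec U hz s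

variable {γ : Z ⟶ X.toLocallyRingedSpace}

/-- The stalks on the source as modules over the local rings of the target. -/
instance stalkModR (P : ModSite.Mod Z.sheaf) (z : Z) :
    Module (X.presheaf.stalk (pt γ z)) ((anPsh P).stalk z) :=
  Module.compHom _ (γ.stalkMap z).hom

instance stalkTowerR (P : ModSite.Mod Z.sheaf) (z : Z) :
    IsScalarTower (X.presheaf.stalk (pt γ z)) (anStalk z) ((anPsh P).stalk z) :=
  ⟨fun r b m => mul_smul (γ.stalkMap z r : anStalk z) b m⟩

variable (γ)

/-- The preimage. -/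
abbrev pre (W : X.Opens) : Opens Z := (Opens.map γ.base).obj W

/-- The unit on sections. -/
abbrev eta (F : X.Modules) (W : X.Opens) (s : Γ(F, W)) :
    ((pullMod γ).obj F).val.obj (op (pre γ W)) :=
  ((pullPushAdj γ).unit.app F).val.app (op W) s

theorem eta_res (F : X.Modules) {W V : X.Opens} (h : V ≤ W) (s : Γ(F, W)) :
    eta γ F V (QC70.res F h s) =
      ((pullMod γ).obj F).val.map (homOfLE (show pre γ V ≤ pre γ W from fun _ hz => h hz)).op
        (eta γ F W s) :=
  PresheafOfModules.naturality_apply ((pullPushAdj γ).unit.app F).val (homOfLE h).op s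

theorem eta_add (F : X.Modules) {W : X.Opens} (s t : Γ(F, W)) :
    eta γ F W (s + t) = eta γ F W s + eta γ F W t :=
  map_add (((pullPushAdj γ).unit.app F).val.app (op W)).hom s t

theorem eta_smul (F : X.Modules) {W : X.Opens} (r : Γ(X, W)) (s : Γ(F, W)) :
    eta γ F W (r • s) = HSMul.hSMul (α := (ModSite.ringSh Z.sheaf).obj.obj (op (pre γ W)))
      (γ.c.app (op W) r) (eta γ F W s) :=
  map_smul (((pullPushAdj γ).unit.app F).val.app (op W)).hom r s

theorem eta_naturality {F G : X.Modules} (f : F ⟶ G) (W : X.Opens) (s : Γ(F, W)) :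
    eta γ G W (f.app W s) = ((pullMod γ).map f).val.app (op (pre γ W)) (eta γ F W s) := by
  have h := (pullPushAdj γ).unit.naturality f
  exact congrArg (fun k => k.val.app (op W) s) h

theorem exists_psi (F : X.Modules) (z : Z) :
    ∃ ψ : F.presheaf.stalk (pt γ z) →ₗ[X.presheaf.stalk (pt γ z)]
        (anPsh ((pullMod γ).obj F)).stalk z,
      ∀ (W : X.Opens) (hz : pt γ z ∈ W) (s : Γ(F, W)),
        ψ (germM F W (pt γ z) hz s) = germP ((pullMod γ).obj F) (pre γ W) z hz (eta γ F W s) := by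
  refine exists_ofGermM (fun W hz s => germP ((pullMod γ).obj F) (pre γ W) z hz (eta γ F W s))
    (fun U V h hz s => ?_) (fun U hz s t => ?_) (fun U hz r s => ?_)
  · rw [eta_res, germP_res]
  · rw [eta_add, germP_add]
  · rw [eta_smul, germP_smul, anGerm_toHolApp z U hz r]
    rfl

/-- The map from a stalk to the stalk of the inverse image. -/
def psi (F : X.Modules) (z : Z) :
    F.presheaf.stalk (pt γ z) →ₗ[X.presheaf.stalk (pt γ z)] (anPsh ((pullMod γ).obj F)).stalk z :=
  (exists_psi γ F z).choose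

theorem psi_germ (F : X.Modules) {W : X.Opens} {z : Z} (hz : pt γ z ∈ W) (s : Γ(F, W)) :
    psi γ F z (germM F W (pt γ z) hz s) =
      germP ((pullMod γ).obj F) (pre γ W) z hz (eta γ F W s) :=
  (exists_psi γ F z).choose_spec W hz s

/-- The comparison from the extended stalk to the stalk of the inverse image. -/
def theta (F : X.Modules) (z : Z) :
    anStalk z ⊗[X.presheaf.stalk (pt γ z)] F.presheaf.stalk (pt γ z) →ₗ[anStalk z]
      (anPsh ((pullMod γ).obj F)).stalk z :=
  (psi γ F z).liftBaseChange (anStalk z)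

theorem theta_tmul (F : X.Modules) (z : Z) (b : anStalk z) (e : F.presheaf.stalk (pt γ z)) :
    theta γ F z (b ⊗ₜ e) = b • psi γ F z e :=
  LinearMap.liftBaseChange_tmul _ _ _ _

theorem theta_one_germ (F : X.Modules) {W : X.Opens} {z : Z} (hz : pt γ z ∈ W) (s : Γ(F, W)) :
    theta γ F z (1 ⊗ₜ germM F W (pt γ z) hz s) =
      germP ((pullMod γ).obj F) (pre γ W) z hz (eta γ F W s) := by
  rw [theta_tmul, psi_germ, one_smul]

theorem theta_injective (F : X.Modules) (z : Z) : Function.Injective (theta γ F z) := by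
  refine (injective_iff_map_eq_zero _).2 fun t ht => ?_
  refine CharacterModule.eq_zero_of_character_apply fun c => ?_
  let e := TensorProduct.comm (X.presheaf.stalk (pt γ z)) (F.presheaf.stalk (pt γ z)) (anStalk z)
  let c' : CharacterModule (F.presheaf.stalk (pt γ z) ⊗[X.presheaf.stalk (pt γ z)] anStalk z) :=
    c.comp e.toLinearMap.toAddMonoidHom
  let N := CharacterModule (anStalk z)
  obtain ⟨g, hg⟩ := exists_toPush z (N := N) (CharacterModule.curry c' :
    F.presheaf.stalk (pt γ z) →ₗ[X.presheaf.stalk (pt γ z)] N)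
  let h := ((pullPushAdj γ).homEquiv _ _).symm g
  let v : ∀ U : Opens Z, z ∈ U → ((pullMod γ).obj F).val.obj (op U) → N := fun U hz s =>
    (show SkySec z N U from h.val.app (op U) s) ⟨z, hz⟩ ⟨rfl⟩
  obtain ⟨hz', hh⟩ := exists_ofGermP v
    (fun U V i hz s => congrArg (fun w : SkySec z N V => w ⟨z, hz⟩ ⟨rfl⟩)
      (PresheafOfModules.naturality_apply h.val (homOfLE i).op s))
    (fun U hz s t => congrArg (fun w : SkySec z N U => w ⟨z, hz⟩ ⟨rfl⟩)
      (map_add (h.val.app (op U)).hom s t))
    (fun U hz r s => (congrArg (fun w : SkySec z N U => w ⟨z, hz⟩ ⟨rfl⟩)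
      (map_smul (h.val.app (op U)).hom r s)).trans (sky_smul z N U r _ ⟨z, hz⟩ ⟨rfl⟩))
  have hgh : (pullPushAdj γ).unit.app F ≫ (pushMod γ).map h = g :=
    ((pullPushAdj γ).homEquiv_unit _ _ _).symm.trans (Equiv.apply_symm_apply _ _)
  have key : ∀ (b : anStalk z) (m : F.presheaf.stalk (pt γ z)),
      hz' (theta γ F z (b ⊗ₜ m)) (1 : anStalk z) = c (b ⊗ₜ m) := by
    intro b m
    obtain ⟨W, hW, s, rfl⟩ := germM_exist m
    rw [theta_tmul, map_smul, psi_germ, hh]
    have h1 : v (pre γ W) hW (eta γ F W s) = skyVal z g W hW s := by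
      rw [← hgh]
      rfl
    rw [h1, hg]
    show c' (germM F W (pt γ z) hW s ⊗ₜ (b * 1)) = _
    rw [mul_one]
    rfl
  have hall : ∀ w, hz' (theta γ F z w) (1 : anStalk z) = c w := by
    intro w
    induction w using TensorProduct.induction_on with
    | zero =>
      rw [map_zero, map_zero, map_zero]
      rfl
    | tmul b m => exact key b m
    | add a b ha hb =>
      rw [map_add, map_add, map_add, ← ha, ← hb]
      rfl
  rw [← hall t, ht, map_zero]
  rfl

theorem theta_surjective (F : X.Modules) (z : Z) : Function.Surjective (theta γ F z) := by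
  intro m
  by_contra hm
  let S := LinearMap.range (theta γ F z)
  have hne : (Submodule.Quotient.mk m : (anPsh ((pullMod γ).obj F)).stalk z ⧸ S) ≠ 0 :=
    fun h => hm ((Submodule.Quotient.mk_eq_zero S).1 h)
  obtain ⟨χ₀, hχ₀⟩ := CharacterModule.exists_character_apply_ne_zero_of_ne_zero hne
  let χ : CharacterModule ((anPsh ((pullMod γ).obj F)).stalk z) :=
    χ₀.comp S.mkQ.toAddMonoidHom
  obtain ⟨g, hg⟩ := exists_toSky z χ
  have h0 : (pullPushAdj γ).homEquiv _ _ g = (pullPushAdj γ).homEquiv _ _ 0 := by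
    refine ((pullPushAdj γ).homEquiv_unit _ _ _).trans (Eq.trans ?_ ((pullPushAdj γ).homEquiv_unit _ _ _).symm)
    refine Scheme.Modules.hom_ext _ _ fun W => AddCommGrpCat.hom_ext (AddMonoidHom.ext fun s => ?_)
    refine funext fun y => funext fun hy => ?_
    obtain ⟨y, hyW⟩ := y
    obtain ⟨rfl : y = z⟩ := hy
    show (show SkySec y _ (pre γ W) from g.val.app (op (pre γ W)) (eta γ F W s)) ⟨y, hyW⟩ ⟨rfl⟩ = 0
    rw [hg]
    refine DFunLike.ext _ _ fun b => ?_
    show χ₀ (Submodule.Quotient.mk (b • germP ((pullMod γ).obj F) (pre γ W) y hyW (eta γ F W s))) = 0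
    rw [(Submodule.Quotient.mk_eq_zero S).2 ?_, map_zero]
    exact ⟨b ⊗ₜ germM F W (pt γ y) hyW s, by rw [theta_tmul, psi_germ]⟩
  have hg0 := ((pullPushAdj γ).homEquiv _ _).injective h0
  obtain ⟨U, hU, u, rfl⟩ := germP_exist m
  have h1 := hg U hU u
  rw [hg0] at h1
  have h2 := DFunLike.congr_fun h1.symm (1 : anStalk z)
  refine hχ₀ ?_
  have h3 : χ ((1 : anStalk z) • germP ((pullMod γ).obj F) U z hU u) = 0 := h2
  rwa [one_smul] at h3

theorem theta_bijective (F : X.Modules) (z : Z) : Function.Bijective (theta γ F z) :=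
  ⟨theta_injective γ F z, theta_surjective γ F z⟩

theorem theta_natural {F G : X.Modules} (f : F ⟶ G) (z : Z)
    (t : anStalk z ⊗[X.presheaf.stalk (pt γ z)] F.presheaf.stalk (pt γ z)) :
    stalkLinP ((pullMod γ).map f) z (theta γ F z t) =
      theta γ G z ((stalkLinear f (pt γ z)).lTensor (anStalk z) t) := by
  induction t using TensorProduct.induction_on with
  | zero => simp
  | add a b ha hb => simp only [map_add, ha, hb]
  | tmul b m =>
    obtain ⟨W, hW, s, rfl⟩ := germM_exist m
    rw [theta_tmul, psi_germ, map_smul, stalkLinP_germ, LinearMap.lTensor_tmul, theta_tmul]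
    show _ = b • psi γ G z (stalkMapM f (pt γ z) (germM F W (pt γ z) hW s))
    rw [stalkMapM_germ, psi_germ, eta_naturality]

end Groth.Agent.Hens22.PullFlat
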