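import Groth.Agent.RG29.DevFibre

/-!
Completion along a section of a smooth algebra with integral fibres is universally injective.
-/

set_option autoImplicit false
universe u

open TensorProduct

noncomputable section

namespace Groth.Agent.Hens22

/-- A linear map stays injective after tensoring if it does so for finite modules. -/
theorem lTensor_injective_of_finite {A N P : Type u} [CommRing A] [AddCommGroup N] [Module A N]
    [AddCommGroup P] [Module A P] (f : N →ₗ[A] P)
    (h : ∀ (M : Type u) [AddCommGroup M] [Module A M], Module.Finite A M → Function.Injective (f.lTensor M))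
    (Q : Type u) [AddCommGroup Q] [Module A Q] : Function.Injective (f.lTensor Q) := by
  classical
  let q : (Q →₀ A) →ₗ[A] Q := Finsupp.linearCombination A id
  have hq : Function.Surjective q := fun x => ⟨Finsupp.single x 1, by simp [q]⟩
  rw [injective_iff_map_eq_zero]
  intro x hx
  obtain ⟨y, rfl⟩ := LinearMap.rTensor_surjective N hq x
  rw [← LinearMap.comp_apply, LinearMap.lTensor_comp_rTensor, ← LinearMap.rTensor_comp_lTensor,
    LinearMap.comp_apply] at hx
  let fk : LinearMap.ker q →ₗ[A] (Q →₀ A) := (LinearMap.ker q).subtype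
  have hfk : Function.Exact fk q := LinearMap.exact_subtype_ker_map q
  obtain ⟨z, hz⟩ := ((_root_.rTensor_exact (M := LinearMap.ker q) (f := fk) P hfk hq) _).1 hx
  obtain ⟨F₀, hF₀, hy⟩ := TensorProduct.exists_finite_submodule_left_of_setFinite {y} (Set.finite_singleton y)
  obtain ⟨y₀, hy₀⟩ := hy rfl
  obtain ⟨K₀, hK₀, hz'⟩ := TensorProduct.exists_finite_submodule_left_of_setFinite {z} (Set.finite_singleton z)
  obtain ⟨z₀, hz₀⟩ := hz' rfl
  obtain ⟨s, hs⟩ := Module.Finite.iff_fg.1 hF₀
  obtain ⟨s', hs'⟩ := Module.Finite.iff_fg.1 hK₀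
  let t : Finset Q := s.biUnion Finsupp.support ∪ s'.biUnion (fun k => (k : Q →₀ A).support)
  have hF : ∀ v ∈ F₀, v ∈ Finsupp.supported A A (t : Set Q) := by
    rw [← hs]
    refine fun v hv => (Submodule.span_le.2 fun w hw => ?_ : _ ≤ Finsupp.supported A A (t : Set Q)) hv
    exact (Finsupp.mem_supported A w).2 fun a ha =>
      Finset.mem_union_left _ (Finset.mem_biUnion.2 ⟨w, hw, ha⟩)
  have hK : ∀ v ∈ K₀, (v : Q →₀ A) ∈ Finsupp.supported A A (t : Set Q) := by
    intro v hv
    rw [← hs'] at hv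
    refine (Submodule.span_le.2 (fun w hw => ?_) : _ ≤
      (Finsupp.supported A A (t : Set Q)).comap (LinearMap.ker q).subtype) hv
    exact (Finsupp.mem_supported A _).2 fun a ha =>
      Finset.mem_union_right _ (Finset.mem_biUnion.2 ⟨w, hw, ha⟩)
  let π : (Q →₀ A) →ₗ[A] ((t : Set Q) →₀ A) := Finsupp.lsubtypeDomain (t : Set Q)
  let ι : ((t : Set Q) →₀ A) →ₗ[A] (Q →₀ A) := Finsupp.lmapDomain A A Subtype.val
  have hπ : ∀ v ∈ Finsupp.supported A A (t : Set Q), ι (π v) = v := fun v hv => by
    refine Finsupp.ext fun a => ?_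
    show Finsupp.mapDomain Subtype.val (π v) a = v a
    by_cases ha : a ∈ (t : Set Q)
    · exact Finsupp.mapDomain_apply Subtype.val_injective (π v) (⟨a, ha⟩ : (t : Set Q))
    · rw [Finsupp.mapDomain_notin_range _ _ (by simpa using ha)]
      exact (Finsupp.notMem_support_iff.1 fun h => ha (hv h)).symm
  let D : Submodule A ((t : Set Q) →₀ A) := (K₀.map (LinearMap.ker q).subtype).map π
  let φ : (Q →₀ A) →ₗ[A] ((t : Set Q) →₀ A) ⧸ D := D.mkQ ∘ₗ π
  let ψ : (((t : Set Q) →₀ A) ⧸ D) →ₗ[A] Q := D.liftQ (q ∘ₗ ι) (by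
    rintro _ ⟨_, ⟨v, hv, rfl⟩, rfl⟩
    show q (ι (π (v : Q →₀ A))) = 0
    rw [hπ _ (hK v hv)]
    exact v.2)
  have h1 : φ.rTensor N y = 0 := by
    apply h _ inferInstance
    rw [map_zero, ← LinearMap.comp_apply, LinearMap.lTensor_comp_rTensor, ← LinearMap.rTensor_comp_lTensor,
      LinearMap.comp_apply, ← hz, ← hz₀, ← LinearMap.rTensor_comp_apply, ← LinearMap.rTensor_comp_apply]
    have h2 : (φ ∘ₗ fk) ∘ₗ K₀.subtype = 0 := LinearMap.ext fun v =>
      (Submodule.Quotient.mk_eq_zero D).2 ⟨_, ⟨v, v.2, rfl⟩, rfl⟩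
    rw [h2, LinearMap.rTensor_zero, LinearMap.zero_apply]
  have h3 : (ψ ∘ₗ φ) ∘ₗ F₀.subtype = q ∘ₗ F₀.subtype := LinearMap.ext fun v => by
    show q (ι (π (v : Q →₀ A))) = q v
    rw [hπ _ (hF v v.2)]
  rw [← hy₀, ← LinearMap.rTensor_comp_apply, ← h3, LinearMap.rTensor_comp_apply, hy₀,
    LinearMap.rTensor_comp_apply, h1, map_zero]

variable {A B : Type u} [CommRing A] [CommRing B] [Algebra A B] [IsNoetherianRing A] [Algebra.Smooth A B]

/-- An element that is one on a section is regular on every base change. -/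
theorem injective_mul_rTensor (hirr : FlatCA.GeomIrredFibres A B) (u : B →ₐ[A] A) {b : B} (hb : u b = 1)
    (M : Type u) [AddCommGroup M] [Module A M] (hM : Module.Finite A M) :
    Function.Injective ((LinearMap.mulLeft A b).rTensor M) := by
  let μ := LinearMap.mulLeft A b
  induction hM using
    IsNoetherianRing.induction_on_isQuotientEquivQuotientPrime (A := A) with
  | subsingleton N => exact Function.injective_of_subsingleton _
  | quotient N p e =>
    have hp := RG29.isPrime_map (D := B) p.1 hirr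
    have hbp : b ∉ p.1.map (algebraMap A B) := fun hmem => by
      have := Ideal.mem_map_of_mem u.toRingHom hmem
      rw [Ideal.map_map, AlgHom.toRingHom_eq_coe, u.comp_algebraMap,
        show algebraMap A A = RingHom.id A from rfl, Ideal.map_id] at this
      exact p.2.ne_top ((Ideal.eq_top_iff_one _).2 (hb ▸ this))
    rw [injective_iff_map_eq_zero]
    intro z hz
    obtain ⟨z, rfl⟩ := (LinearEquiv.lTensor B e.symm).surjective z
    have hz' : LinearMap.rTensor (A ⧸ p.1) (LinearMap.mulLeft A b) z = 0 := by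
      apply (LinearEquiv.lTensor B e.symm).injective
      rw [map_zero, ← hz]
      show (e.symm.toLinearMap.lTensor B) ((LinearMap.mulLeft A b).rTensor _ z) = (LinearMap.mulLeft A b).rTensor _ (e.symm.toLinearMap.lTensor B z)
      rw [← LinearMap.comp_apply, ← LinearMap.comp_apply, LinearMap.lTensor_comp_rTensor, LinearMap.rTensor_comp_lTensor]
    obtain ⟨c, rfl⟩ := (TensorProduct.tensorQuotEquivQuotSMul B p.1).symm.surjective z
    obtain ⟨c, rfl⟩ := Submodule.Quotient.mk_surjective _ c
    rw [TensorProduct.tensorQuotEquivQuotSMul_symm_mk, LinearMap.rTensor_tmul] at hz'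
    have h1 := congrArg (TensorProduct.tensorQuotEquivQuotSMul B p.1) hz'
    rw [map_zero, show (1 : A ⧸ p.1) = Ideal.Quotient.mk p.1 1 from rfl, TensorProduct.tensorQuotEquivQuotSMul_tmul_mk, one_smul, Submodule.Quotient.mk_eq_zero,
      Ideal.smul_top_eq_map] at h1
    have h2 : c ∈ p.1.map (algebraMap A B) := (hp.mem_or_mem h1).resolve_left hbp
    have h3 : (Submodule.Quotient.mk c : B ⧸ (p.1 • (⊤ : Submodule A B))) = 0 := by
      rw [Submodule.Quotient.mk_eq_zero, Ideal.smul_top_eq_map]
      exact h2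
    rw [h3, map_zero, map_zero]
  | exact N₁ N₂ N₃ f g hf hg hex h₁ h₃ =>
    rw [injective_iff_map_eq_zero]
    intro z hz
    have hcomm : ∀ (X Y : Type u) [AddCommGroup X] [Module A X] [AddCommGroup Y] [Module A Y] (l : X →ₗ[A] Y) (w : B ⊗[A] X),
        (LinearMap.mulLeft A b).rTensor Y (l.lTensor B w) = l.lTensor B ((LinearMap.mulLeft A b).rTensor X w) := by
      intro X Y _ _ _ _ l w
      rw [← LinearMap.comp_apply, ← LinearMap.comp_apply, LinearMap.lTensor_comp_rTensor, LinearMap.rTensor_comp_lTensor]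
    have hgz : g.lTensor B z = 0 := h₃ (by rw [map_zero, hcomm, hz, map_zero])
    obtain ⟨w, rfl⟩ := (lTensor_exact B hex hg z).1 hgz
    rw [hcomm] at hz
    have hinj : Function.Injective (f.lTensor B) := Module.Flat.lTensor_preserves_injective_linearMap f hf
    rw [h₁ (a₁ := (w)) (a₂ := 0) (by rw [map_zero]; exact hinj (hz.trans (map_zero _).symm)), map_zero]

theorem univInj_of_truncations (hirr : FlatCA.GeomIrredFibres A B) (u : B →ₐ[A] A)
    {Bh : Type u} [CommRing Bh] [Algebra B Bh] [Algebra A Bh] [IsScalarTower A B Bh]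
    (hq : ∀ n : ℕ, Function.Bijective (Ideal.quotientMap ((RingHom.ker u ^ n).map (algebraMap B Bh))
      (algebraMap B Bh) Ideal.le_comap_map)) :
    FlatCA.UnivInj A (IsScalarTower.toAlgHom A B Bh).toLinearMap := by
  haveI : IsNoetherianRing B := Algebra.FiniteType.isNoetherianRing A B
  intro Q _ _
  refine lTensor_injective_of_finite _ (fun M _ _ hM => ?_) Q
  let I := RingHom.ker u
  let j := (IsScalarTower.toAlgHom A B Bh).toLinearMap
  rw [injective_iff_map_eq_zero]
  intro x hx
  obtain ⟨w, rfl⟩ := (TensorProduct.comm A B M).surjective x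
  have hw : j.rTensor M w = 0 := (TensorProduct.comm A Bh M).injective (by
    rw [map_zero, ← hx]
    show (TensorProduct.comm A Bh M).toLinearMap (j.rTensor M w) = j.lTensor M ((TensorProduct.comm A B M).toLinearMap w)
    rw [← LinearMap.comp_apply, ← LinearMap.comp_apply]
    congr 1
    exact TensorProduct.ext' fun _ _ => rfl)
  have hmem : ∀ n : ℕ, w ∈ I ^ n • (⊤ : Submodule B (B ⊗[A] M)) := by
    intro n
    let τ : Bh →ₗ[A] Bh ⧸ (I ^ n).map (algebraMap B Bh) := (Ideal.Quotient.mkₐ A _).toLinearMap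
    let ρ : B ⧸ I ^ n →ₐ[A] Bh ⧸ (I ^ n).map (algebraMap B Bh) :=
      Ideal.quotientMapₐ _ (IsScalarTower.toAlgHom A B Bh) Ideal.le_comap_map
    let σ := LinearEquiv.ofBijective ρ.toLinearMap (hq n)
    have hfac : (Ideal.Quotient.mkₐ A (I ^ n)).toLinearMap = σ.symm.toLinearMap ∘ₗ τ ∘ₗ j := by
      refine LinearMap.ext fun c => ?_
      show _ = σ.symm (τ (j c))
      rw [LinearEquiv.eq_symm_apply]
      rfl
    have h0 : (Ideal.Quotient.mkₐ A (I ^ n)).toLinearMap.rTensor M w = 0 := by
      rw [hfac, LinearMap.rTensor_comp_apply, LinearMap.rTensor_comp_apply, hw, map_zero, map_zero]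
    have hex : Function.Exact ((I ^ n).subtype.restrictScalars A) (Ideal.Quotient.mkₐ A (I ^ n)).toLinearMap :=
      LinearMap.exact_iff.2 (Submodule.ext fun c => by
        simp [Ideal.Quotient.eq_zero_iff_mem])
    obtain ⟨v, rfl⟩ := (rTensor_exact M hex Ideal.Quotient.mk_surjective w).1 h0
    clear hw hx h0
    induction v using TensorProduct.induction_on with
    | zero => rw [map_zero]; exact zero_mem _
    | add v v' h h' => rw [map_add]; exact add_mem h h'
    | tmul c m =>
      rw [LinearMap.rTensor_tmul, show (((I ^ n).subtype.restrictScalars A) c) ⊗ₜ[A] m =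
        (c : B) • ((1 : B) ⊗ₜ[A] m) by rw [smul_tmul', smul_eq_mul, mul_one]; rfl]
      exact Submodule.smul_mem_smul c.2 Submodule.mem_top
  obtain ⟨r, hr⟩ := (Ideal.mem_iInf_smul_pow_eq_bot_iff I w).1 ((Submodule.mem_iInf _).2 hmem)
  have hb : u (1 - (r : B)) = 1 := by rw [map_sub, map_one, RingHom.mem_ker.1 r.2, sub_zero]
  have hsmul : ∀ v : B ⊗[A] M, (LinearMap.mulLeft A (1 - (r : B))).rTensor M v = (1 - (r : B)) • v := by
    intro v
    induction v using TensorProduct.induction_on with
    | zero => rw [map_zero, smul_zero]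
    | add v v' h h' => rw [map_add, smul_add, h, h']
    | tmul c m => rfl
  have : w = 0 := injective_mul_rTensor hirr u hb M hM (by
    rw [map_zero, hsmul]
    exact (sub_smul (1 : B) (r : B) w).trans (by rw [one_smul, hr, sub_self]))
  rw [this, map_zero]

end Groth.Agent.Hens22
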