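import Groth.Agent.Brnch26.Stages
import Groth.Agent.Hensel20.HenzBranch

/-!
Quotients of strict henselizations of rings with geometrically unibranch quotient are domains.
-/

set_option autoImplicit false
set_option linter.style.haveILetI false

universe u

open IsLocalRing

noncomputable section

namespace Groth.Agent.Hens22

open Groth.Agent Groth.Agent.Brnch26

variable {A B : Type u} [CommRing A] [IsLocalRing A] [CommRing B] [IsLocalRing B] (π : A →+* B)
  (hπ : Function.Surjective π)
variable {S : Type u} [CommRing S] [IsLocalRing S] [Algebra A S] [IsLocalHom (algebraMap A S)]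

include hπ in
theorem isPrime_map_ker_of_geomUnibranch [hS : Hensel.IsStrictHenselization A S]
    (h : IsReduced B ∧ CAlg2.IsGeomUnibranch B) :
    ((RingHom.ker π).map (algebraMap A S)).IsPrime := by
  haveI := hS.henselian
  haveI := isLocalRing_quot (S := S) π hπ
  haveI := isLocalHom_surj π hπ
  obtain ⟨hhens, hloc⟩ := exists_quot_henselian (S := S) π hπ
  haveI := hhens
  letI := (quotMap (S := S) π hπ).toAlgebra
  let Q := S ⧸ (RingHom.ker π).map (algebraMap A S)
  let mk : S →+* Q := Ideal.Quotient.mk _
  haveI : IsLocalHom mk := isLocalHom_surj mk Ideal.Quotient.mk_surjective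
  haveI : IsLocalHom (algebraMap B Q) := hloc
  let eA : ResidueField A ≃+* ResidueField B := RingEquiv.ofBijective (ResidueField.map π)
    ⟨(ResidueField.map π).injective, fun y => by
      obtain ⟨y, rfl⟩ := residue_surjective y
      obtain ⟨a, rfl⟩ := hπ y
      exact ⟨residue A a, ResidueField.map_residue π a⟩⟩
  let eS : ResidueField S ≃+* ResidueField Q := RingEquiv.ofBijective (ResidueField.map mk)
    ⟨(ResidueField.map mk).injective, fun y => by
      obtain ⟨y, rfl⟩ := residue_surjective y
      obtain ⟨a, rfl⟩ := Ideal.Quotient.mk_surjective y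
      exact ⟨residue S a, ResidueField.map_residue mk a⟩⟩
  have hsq : (algebraMap (ResidueField B) (ResidueField Q)).comp eA.toRingHom =
      eS.toRingHom.comp (algebraMap (ResidueField A) (ResidueField S)) := by
    refine RingHom.ext fun x => ?_
    obtain ⟨a, rfl⟩ := residue_surjective x
    show residue Q (quotMap π hπ (π a)) = residue Q (mk (algebraMap A S a))
    rw [quotMap_apply]
  haveI : IsSepClosure (ResidueField A) (ResidueField S) := hS.isSepClosure
  haveI : IsSepClosed (ResidueField S) := hS.isSepClosure.sep_closed
  haveI : Algebra.IsSeparable (ResidueField A) (ResidueField S) := hS.isSepClosure.separable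
  have hsep : IsSepClosure (ResidueField B) (ResidueField Q) := by
    refine ⟨?_, Algebra.IsSeparable.of_equiv_equiv eA eS hsq⟩
    refine IsSepClosed.of_exists_root _ fun q hq hirr hsep => ?_
    obtain ⟨x, hx⟩ := IsSepClosed.exists_root (q.map eS.symm.toRingHom)
      (by rw [Polynomial.degree_map]; exact (Polynomial.degree_pos_of_irreducible hirr).ne') hsep.map
    refine ⟨eS x, eS.symm.injective ?_⟩
    rw [map_zero]
    refine Eq.trans ?_ hx
    show eS.symm.toRingHom (q.eval (eS x)) = _
    rw [← Polynomial.eval_map_apply]
    exact congrArg (fun y => Polynomial.eval y (q.map eS.symm.toRingHom)) (eS.symm_apply_apply x)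
  haveI : Hensel.IsStrictHenselization B Q :=
    { henselian := hhens
      isSepClosure := hsep
      universal := fun T _ _ f hf τ hτ => by
        obtain ⟨g, ⟨hg, hgr⟩, hgu⟩ := hS.universal T (f.comp π) (τ.comp eS.toRingHom)
          (RingHom.ext fun x => by
            obtain ⟨a, rfl⟩ := residue_surjective x
            have := RingHom.congr_fun hτ (residue B (π a))
            simp only [RingHom.comp_apply, ResidueField.map_residue] at this ⊢
            show τ (residue Q (mk (algebraMap A S a))) = residue T (f (π a))
            rw [← this]
            exact congrArg (fun z => τ (residue Q z)) (quotMap_apply π hπ a).symm)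
        have hker : (RingHom.ker π).map (algebraMap A S) ≤ RingHom.ker g :=
          Ideal.map_le_iff_le_comap.2 fun a ha => by
            rw [Ideal.mem_comap, RingHom.mem_ker,
              show g (algebraMap A S a) = f (π a) from RingHom.congr_fun hg a,
              RingHom.mem_ker.1 ha, map_zero]
        refine ⟨Ideal.Quotient.lift _ g fun x hx => RingHom.mem_ker.1 (hker hx), ⟨?_, fun y => ?_⟩, fun g' hg' => ?_⟩
        · refine RingHom.ext fun b => ?_
          obtain ⟨a, rfl⟩ := hπ b
          rw [RingHom.comp_apply, RingHom.algebraMap_toAlgebra, quotMap_apply]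
          exact RingHom.congr_fun hg a
        · obtain ⟨y, rfl⟩ := Ideal.Quotient.mk_surjective y
          exact hgr y
        · refine Ideal.Quotient.ringHom_ext ?_
          refine (hgu _ ⟨RingHom.ext fun a => ?_, fun x => hg'.2 (mk x)⟩).trans (RingHom.ext fun x => rfl)
          have := RingHom.congr_fun hg'.1 (π a)
          simp only [RingHom.comp_apply] at this ⊢
          rw [← this]
          exact congrArg g' (quotMap_apply π hπ a).symm }
  exact (Ideal.Quotient.isDomain_iff_prime _).1 (Hensel20.isDomain_strictHenselization_iff.1 h)

end Groth.Agent.Hens22
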