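import Groth.Agent.Hens22.SheetsRing
import Groth.Agent.Unr55.Chart
import Mathlib.AlgebraicGeometry.Morphisms.Separated

/-!
Sheets of a morphism unramified at finitely many points, after an etale base change.
-/

set_option autoImplicit false
universe u

open CategoryTheory Limits AlgebraicGeometry TensorProduct

noncomputable section

namespace Groth.Agent.Hens22

theorem appLE_of_le {X Y : Scheme.{u}} (P : MorphismProperty Scheme.{u})
    {Q : ∀ {R S : Type u} [CommRing R] [CommRing S], (R →+* S) → Prop} [HasRingHomProperty P Q]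
    [P.HasOfPostcompProperty @IsOpenImmersion] (f : X ⟶ Y) {V : Y.Opens} (hV : IsAffineOpen V)
    {W D : X.Opens} (hD : IsAffineOpen D) (hDW : D ≤ W) (e : D ≤ f ⁻¹ᵁ V) (h : P (W.ι ≫ f)) :
    Q (f.appLE V D e).hom := by
  have h1 : P (D.ι ≫ f) := by
    rw [← X.homOfLE_ι hDW, Category.assoc]
    exact HasRingHomProperty.comp_of_isOpenImmersion P _ _ h
  rw [← Scheme.Hom.resLE_comp_ι f e] at h1
  have h' := MorphismProperty.of_postcomp P (W' := @IsOpenImmersion) _ V.ι inferInstance h1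
  have : IsAffine D.toScheme := hD
  have : IsAffine V.toScheme := hV
  rw [HasRingHomProperty.iff_of_isAffine (P := P)] at h'
  have : (RingHom.toMorphismProperty Q).RespectsIso :=
    RingHom.toMorphismProperty_respectsIso_iff.mp
      (HasRingHomProperty.isLocal_ringHomProperty P).respectsIso
  exact (MorphismProperty.arrow_mk_iso_iff (RingHom.toMorphismProperty Q)
    (arrowResLEAppIso f V D e)).mp h'

/-- A basic open on which the structure map is surjective. -/
theorem surjective_away {R T : Type u} [CommRing R] [CommRing T] [Algebra R T] {ε : T}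
    (hε : IsIdempotentElem ε) (h1 : ∀ t, ∃ r : R, t * ε = algebraMap R T r * ε) :
    Function.Surjective (algebraMap R (Localization.Away ε)) := fun z => by
  obtain ⟨t, ⟨_, m, rfl⟩, rfl⟩ := IsLocalization.exists_mk'_eq (Submonoid.powers ε) z
  obtain ⟨r, hr⟩ := h1 t
  refine ⟨r, ?_⟩
  have hu : algebraMap T (Localization.Away ε) ε = 1 :=
    (IsLocalization.Away.algebraMap_isUnit ε).mul_left_cancel
      (by rw [← map_mul, hε.eq, mul_one])
  rw [IsLocalization.eq_mk'_iff_mul_eq, IsScalarTower.algebraMap_apply R T (Localization.Away ε)]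
  have := congrArg (algebraMap T (Localization.Away ε)) hr
  rw [map_mul, map_mul, hu, mul_one, mul_one] at this
  refine Eq.trans ?_ this.symm
  have hm : algebraMap T (Localization.Away ε) (ε ^ m) = 1 := by rw [map_pow, hu, one_pow]
  exact (congrArg _ hm).trans (mul_one _)

variable {X S : Scheme.{u}}

/-- The sheets at the given points. -/
structure Sheets (f : X ⟶ S) {U : Scheme.{u}} (g : U ⟶ S) (u : U) {ι : Type} (x : ι → X)
    (W : ι → X.Opens) (K : Type) (lab : K → ι) (V : K → (pullback f g).Opens) : Prop where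
  le : ∀ k, V k ≤ pullback.fst f g ⁻¹ᵁ W (lab k)
  closed : ∀ k, IsClosedImmersion ((V k).ι ≫ pullback.snd f g)
  nonempty : ∀ k, ∃ w : ↥(pullback f g), w ∈ V k ∧ pullback.snd f g w = u
  unique : ∀ (k k' : K) (w : ↥(pullback f g)), w ∈ V k → w ∈ V k' → pullback.snd f g w = u → k = k'
  cover : ∀ (w : ↥(pullback f g)) (i : ι), pullback.snd f g w = u → pullback.fst f g w = x i →
    ∃ k, lab k = i ∧ w ∈ V k

theorem eq_of_closedImmersion {P U : Scheme.{u}} (h : P ⟶ U) {V : P.Opens}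
    (hV : IsClosedImmersion (V.ι ≫ h)) {w w' : P} (hw : w ∈ V) (hw' : w' ∈ V) (e : h w = h w') :
    w = w' := by
  have := hV.base_closed.injective (a₁ := ⟨w, hw⟩) (a₂ := ⟨w', hw'⟩) e
  exact congrArg Subtype.val this

theorem exists_sheets (f : X ⟶ S) (s : S) {ι : Type} [Finite ι] (x : ι → X)
    (hinj : Function.Injective x) (hs : ∀ i, f (x i) = s)
    (W : ι → X.Opens) (hxW : ∀ i, x i ∈ W i) (hlft : ∀ i, LocallyOfFiniteType ((W i).ι ≫ f))
    (hunr : ∀ i, FormallyUnramified ((W i).ι ≫ f)) :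
    ∃ (U : Scheme.{u}) (g : U ⟶ S) (u : U), Etale g ∧ g u = s ∧
      ∃ (K : Type) (_ : Finite K) (lab : K → ι) (V : K → (pullback f g).Opens),
        Sheets f g u x W K lab V := by
  classical
  obtain ⟨_, ⟨V, hV, rfl⟩, hsV, -⟩ := S.isBasis_affineOpens.exists_subset_of_mem_open
    (Set.mem_univ s) isOpen_univ
  have haff : ∀ i, ∃ D : X.Opens, IsAffineOpen D ∧ x i ∈ D ∧ D ≤ W i ⊓ f ⁻¹ᵁ V := fun i => by
    obtain ⟨_, ⟨D, hD, rfl⟩, hxD, hle⟩ := X.isBasis_affineOpens.exists_subset_of_mem_open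
      (show x i ∈ W i ⊓ f ⁻¹ᵁ V from ⟨hxW i, by show f (x i) ∈ V; rw [hs i]; exact hsV⟩)
      (W i ⊓ f ⁻¹ᵁ V).2
    exact ⟨D, hD, hxD, hle⟩
  choose D hD hxD hDle using haff
  have eD : ∀ i, D i ≤ f ⁻¹ᵁ V := fun i => (hDle i).trans inf_le_right
  let _ : ∀ i, Algebra Γ(S, V) Γ(X, D i) := fun i => (f.appLE V (D i) (eD i)).hom.toAlgebra
  have : ∀ i, Algebra.Unramified Γ(S, V) Γ(X, D i) := fun i =>
    { formallyUnramified := appLE_of_le @FormallyUnramified f hV (hD i) ((hDle i).trans inf_le_left)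
        (eD i) (hunr i)
      finiteType := appLE_of_le @LocallyOfFiniteType f hV (hD i) ((hDle i).trans inf_le_left)
        (eD i) (hlft i) }
  obtain ⟨R', _, _, hR', p', _, _, n, e, he, h1, h3⟩ :=
    exists_common_splitting (fun i => (Γ(X, D i) : Type u)) (hV.primeIdealOf ⟨s, hsV⟩).asIdeal
  let g : Spec (CommRingCat.of R') ⟶ S :=
    Spec.map (CommRingCat.ofHom (algebraMap Γ(S, V) R')) ≫ hV.fromSpec
  let u : Spec (CommRingCat.of R') := ⟨p', ‹_›⟩
  have hge : Etale g := by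
    have : Etale (Spec.map (CommRingCat.ofHom (algebraMap Γ(S, V) R'))) :=
      (HasRingHomProperty.Spec_iff (P := @Etale)).mpr (RingHom.etale_algebraMap.mpr hR')
    exact inferInstanceAs (Etale (_ ≫ _))
  have hgu : g u = s := by
    show hV.fromSpec (PrimeSpectrum.comap (algebraMap Γ(S, V) R') u) = s
    rw [show PrimeSpectrum.comap (algebraMap Γ(S, V) R') u = hV.primeIdealOf ⟨s, hsV⟩ from
      PrimeSpectrum.ext (Ideal.over_def p' (hV.primeIdealOf ⟨s, hsV⟩).asIdeal).symm]
    exact hV.fromSpec_primeIdealOf ⟨s, hsV⟩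
  choose j hjo hj1 hj2 hjr using fun i => Unr55.exists_chart f g hV (hD i) (eD i) R' rfl (𝟙 _)
    (Category.id_comp _)
  let m : ∀ (i : ι) (a : Fin n), Spec (CommRingCat.of (Localization.Away (e i a))) ⟶ pullback f g :=
    fun i a => Spec.map (CommRingCat.ofHom (algebraMap _ _)) ≫ j i
  have hmo : ∀ i a, IsOpenImmersion (m i a) := fun i a => by
    have := hjo i
    have : IsOpenImmersion (Spec.map (CommRingCat.ofHom (algebraMap (R' ⊗[Γ(S, V)] Γ(X, D i))
      (Localization.Away (e i a))))) := IsOpenImmersion.of_isLocalization (e i a)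
    exact inferInstanceAs (IsOpenImmersion (_ ≫ _))
  let V' : ∀ (i : ι) (a : Fin n), (pullback f g).Opens := fun i a => (m i a).opensRange
  have hV'mem : ∀ i a (w : ↥(pullback f g)), w ∈ V' i a ↔ ∃ Q : PrimeSpectrum (R' ⊗[Γ(S, V)] Γ(X, D i)),
      e i a ∉ Q.asIdeal ∧ j i Q = w := fun i a w => by
    constructor
    · rintro ⟨z, rfl⟩
      refine ⟨Spec.map (CommRingCat.ofHom (algebraMap (R' ⊗[Γ(S, V)] Γ(X, D i))
        (Localization.Away (e i a)))) z, ?_, rfl⟩
      exact (PrimeSpectrum.localization_away_comap_range (Localization.Away (e i a)) (e i a)).subset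
        ⟨z, rfl⟩
    · rintro ⟨Q, hQ, rfl⟩
      obtain ⟨z, rfl⟩ := (PrimeSpectrum.localization_away_comap_range
        (Localization.Away (e i a)) (e i a)).symm.subset hQ
      exact ⟨z, rfl⟩
  have hcl : ∀ i a, IsClosedImmersion ((V' i a).ι ≫ pullback.snd f g) := fun i a => by
    have := hmo i a
    have hcomp : m i a ≫ pullback.snd f g =
        Spec.map (CommRingCat.ofHom (algebraMap R' (Localization.Away (e i a)))) := by
      show (_ ≫ j i) ≫ _ = _
      rw [Category.assoc, hj2 i, Category.comp_id, ← Spec.map_comp]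
      rfl
    have : IsClosedImmersion (Spec.map (CommRingCat.ofHom (algebraMap R' (Localization.Away (e i a))))) :=
      IsClosedImmersion.spec_of_surjective _ (surjective_away ((he i).idem a) (h1 i a))
    have key : (V' i a).ι ≫ pullback.snd f g = (m i a).isoOpensRange.inv ≫
        Spec.map (CommRingCat.ofHom (algebraMap R' (Localization.Away (e i a)))) := by
      rw [Iso.eq_inv_comp, Scheme.Hom.isoOpensRange_hom_ι_assoc, hcomp]
    rw [key]
    infer_instance
  have hV'le : ∀ i a, V' i a ≤ pullback.fst f g ⁻¹ᵁ D i := fun i a w hw => by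
    obtain ⟨Q, -, rfl⟩ := (hV'mem i a w).1 hw
    exact ((hjr i).subset ⟨Q, rfl⟩).1
  let K := {k : ι × Fin n // ∃ w : ↥(pullback f g), w ∈ V' k.1 k.2 ∧ pullback.snd f g w = u ∧
    pullback.fst f g w = x k.1}
  refine ⟨Spec (CommRingCat.of R'), g, u, hge, hgu, K, inferInstance, fun k => k.1.1,
    fun k => V' k.1.1 k.1.2, fun k => (hV'le _ _).trans ?_, fun k => hcl _ _, fun k => ?_,
    fun k k' w hw hw' hwu => ?_, fun w i hwu hwx => ?_⟩
  · exact Scheme.Hom.preimage_mono _ ((hDle _).trans inf_le_left)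
  · obtain ⟨w, hw, hwu, -⟩ := k.2
    exact ⟨w, hw, hwu⟩
  · obtain ⟨⟨i, a⟩, w₁, hw₁, hw₁u, hw₁x⟩ := k
    obtain ⟨⟨i', a'⟩, w₂, hw₂, hw₂u, hw₂x⟩ := k'
    have e₁ := eq_of_closedImmersion _ (hcl i a) hw₁ hw (hw₁u.trans hwu.symm)
    have e₂ := eq_of_closedImmersion _ (hcl i' a') hw₂ hw' (hw₂u.trans hwu.symm)
    obtain rfl : i = i' := by
      by_contra h
      exact absurd (by rw [← hw₁x, ← hw₂x, e₁, e₂]) (fun hh : x i = x i' => h (hinj hh))
    obtain ⟨Q, hQ, hQw⟩ := (hV'mem i a w).1 hw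
    obtain ⟨Q', hQ', hQw'⟩ := (hV'mem i a' w).1 hw'
    obtain rfl : Q = Q' := (hjo i).base_open.injective (hQw.trans hQw'.symm)
    refine Subtype.ext (Prod.ext rfl ?_)
    by_contra ha
    exact (Q.isPrime.mem_or_mem (((he i).ortho ha).symm ▸ Q.asIdeal.zero_mem)).elim hQ hQ'
  · have : w ∈ Set.range (j i) := (hjr i).symm.subset
      ⟨by show _ ∈ D i; rw [hwx]; exact hxD i, ⟨u, hwu.symm⟩⟩
    obtain ⟨Q, rfl⟩ := this
    have hQu : Q.asIdeal.comap (algebraMap R' (R' ⊗[Γ(S, V)] Γ(X, D i))) = p' := by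
      rw [← Scheme.Hom.comp_apply, hj2 i, Category.comp_id] at hwu
      exact congrArg PrimeSpectrum.asIdeal hwu
    obtain ⟨a, ha⟩ := h3 i Q.asIdeal Q.isPrime hQu
    exact ⟨⟨(i, a), _, (hV'mem i a _).2 ⟨Q, ha, rfl⟩, hwu, hwx⟩, rfl, (hV'mem i a _).2 ⟨Q, ha, rfl⟩⟩

end Groth.Agent.Hens22
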