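import Groth.Agent.Hens22.Sheets
import Mathlib.AlgebraicGeometry.Morphisms.FlatMono

/-!
Shrinking the etale neighbourhood carrying sheets.
-/

set_option autoImplicit false
universe u

open CategoryTheory Limits AlgebraicGeometry

noncomputable section

namespace Groth.Agent.Hens22

variable {X S U : Scheme.{u}} (f : X ⟶ S) (g : U ⟶ S) (U' : U.Opens)

/-- Map of fibre products for an open of the base. -/
def resBase : pullback f (U'.ι ≫ g) ⟶ pullback f g :=
  pullback.lift (pullback.fst _ _) (pullback.snd _ _ ≫ U'.ι) (by rw [pullback.condition, Category.assoc])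

theorem resBase_fst : resBase f g U' ≫ pullback.fst f g = pullback.fst f (U'.ι ≫ g) :=
  pullback.lift_fst _ _ _

theorem resBase_snd : resBase f g U' ≫ pullback.snd f g = pullback.snd f (U'.ι ≫ g) ≫ U'.ι :=
  pullback.lift_snd _ _ _

theorem isPullback_resBase :
    IsPullback (resBase f g U') (pullback.snd f (U'.ι ≫ g)) (pullback.snd f g) U'.ι :=
  .of_right (by rw [resBase_fst]; exact IsPullback.of_hasPullback f (U'.ι ≫ g)) (resBase_snd f g U')
    (IsPullback.of_hasPullback f g)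

theorem isPullback_sheet (V : (pullback f g).Opens) :
    IsPullback (resBase f g U' ∣_ V) ((resBase f g U' ⁻¹ᵁ V).ι ≫ pullback.snd f (U'.ι ≫ g))
      (V.ι ≫ pullback.snd f g) U'.ι :=
  (isPullback_morphismRestrict _ V).paste_vert (isPullback_resBase f g U')

theorem Sheets.restrict {u : U} {ι : Type} {x : ι → X} {W : ι → X.Opens} {K : Type} {lab : K → ι}
    {V : K → (pullback f g).Opens} (h : Sheets f g u x W K lab V) (hu : u ∈ U') :
    Sheets f (U'.ι ≫ g) ⟨u, hu⟩ x W K lab fun k => resBase f g U' ⁻¹ᵁ V k := by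
  have hfst : ∀ z, pullback.fst f g (resBase f g U' z) = pullback.fst f (U'.ι ≫ g) z := fun z => by
    rw [← Scheme.Hom.comp_apply, resBase_fst]
  have hsnd : ∀ z, pullback.snd f g (resBase f g U' z) = U'.ι (pullback.snd f (U'.ι ≫ g) z) := fun z => by
    rw [← Scheme.Hom.comp_apply, resBase_snd]; rfl
  have : Mono (resBase f g U') := (isPullback_resBase f g U').flip.mono_snd_of_mono inferInstance
  have hopen : IsOpenImmersion (resBase f g U') :=
    MorphismProperty.of_isPullback (isPullback_resBase f g U').flip inferInstance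
  refine ⟨fun k z hz => ?_, fun k => ?_, fun k => ?_, fun k k' z hz hz' hzu => ?_, fun z i hzu hzx => ?_⟩
  · show pullback.fst f (U'.ι ≫ g) z ∈ W (lab k)
    rw [← hfst]
    exact h.le k hz
  · exact MorphismProperty.of_isPullback (isPullback_sheet f g U' (V k)) (h.closed k)
  · obtain ⟨w, hw, hwu⟩ := h.nonempty k
    obtain ⟨z, hz, hzu⟩ := Scheme.exists_preimage_of_isPullback (isPullback_resBase f g U') w
      (⟨u, hu⟩ : U'.toScheme) hwu
    exact ⟨z, by show resBase f g U' z ∈ V k; rw [hz]; exact hw, hzu⟩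
  · exact h.unique k k' _ hz hz' (by rw [hsnd, hzu]; rfl)
  · obtain ⟨k, hk, hm⟩ := h.cover (resBase f g U' z) i (by rw [hsnd, hzu]; rfl) (by rw [hfst, hzx])
    exact ⟨k, hk, hm⟩

theorem etale_sheet {Z : X.Opens} (hZ : Etale (Z.ι ≫ f)) {V : (pullback f g).Opens}
    (hle : V ≤ pullback.fst f g ⁻¹ᵁ Z) : Etale (V.ι ≫ pullback.snd f g) := by
  have h1 : IsPullback (pullback.fst f g ∣_ Z) ((pullback.fst f g ⁻¹ᵁ Z).ι ≫ pullback.snd f g)
      (Z.ι ≫ f) g :=
    (isPullback_morphismRestrict _ Z).paste_vert (IsPullback.of_hasPullback f g)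
  have := MorphismProperty.of_isPullback h1 hZ
  rw [← (pullback f g).homOfLE_ι hle, Category.assoc]
  infer_instance

/-- The sheets are isomorphisms once the base is inside their images. -/
theorem isIso_sheet (V : (pullback f g).Opens) (hV : IsOpenImmersion (V.ι ≫ pullback.snd f g))
    (hU : ∀ y ∈ U', ∃ w ∈ V, pullback.snd f g w = y) :
    IsIso ((resBase f g U' ⁻¹ᵁ V).ι ≫ pullback.snd f (U'.ι ≫ g)) := by
  have hp := isPullback_sheet f g U' V
  have : IsOpenImmersion ((resBase f g U' ⁻¹ᵁ V).ι ≫ pullback.snd f (U'.ι ≫ g)) :=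
    MorphismProperty.of_isPullback hp hV
  have : Surjective ((resBase f g U' ⁻¹ᵁ V).ι ≫ pullback.snd f (U'.ι ≫ g)) := ⟨fun y => by
    obtain ⟨w, hw, hwy⟩ := hU (U'.ι y) y.2
    obtain ⟨z, -, hz⟩ := Scheme.exists_preimage_of_isPullback hp ⟨w, hw⟩ y hwy
    exact ⟨z, hz⟩⟩
  exact (isIso_iff_isOpenImmersion_and_surjective _).2 ⟨inferInstance, inferInstance⟩

variable {f g}

theorem Sheets.isClosed_carrier [IsSeparated f] {u : U} {ι : Type} {x : ι → X} {W : ι → X.Opens}
    {K : Type} {lab : K → ι} {V : K → (pullback f g).Opens} (h : Sheets f g u x W K lab V) (k : K) :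
    IsClosed (V k : Set ↥(pullback f g)) := by
  have := h.closed k
  have : IsClosedImmersion (V k).ι := IsClosedImmersion.of_comp _ (pullback.snd f g)
  have := (V k).ι.isClosedEmbedding.isClosed_range
  rwa [Scheme.Opens.range_ι] at this

/-- An open around `u` over which the sheets are disjoint. -/
theorem Sheets.exists_disjoint [IsSeparated f] {u : U} {ι : Type} {x : ι → X} {W : ι → X.Opens}
    {K : Type} [Finite K] {lab : K → ι} {V : K → (pullback f g).Opens}
    (h : Sheets f g u x W K lab V) :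
    ∃ O : U.Opens, u ∈ O ∧ ∀ k k', k ≠ k' → ∀ w : ↥(pullback f g),
      w ∈ V k → w ∈ V k' → pullback.snd f g w ∉ O := by
  let C : Set U := ⋃ (k : K) (k' : K) (_ : k ≠ k'),
    ((V k).ι ≫ pullback.snd f g) '' ((V k).ι ⁻¹' (V k' : Set ↥(pullback f g)))
  have hC : IsClosed C := by
    refine isClosed_iUnion_of_finite fun k => isClosed_iUnion_of_finite fun k' =>
      isClosed_iUnion_of_finite fun _ => ?_
    exact (h.closed k).base_closed.isClosedMap _ ((h.isClosed_carrier k').preimage (Scheme.Hom.continuous _))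
  refine ⟨⟨Cᶜ, hC.isOpen_compl⟩, fun hu => ?_, fun k k' hkk w hw hw' hwO => ?_⟩
  · simp only [C, Set.mem_iUnion] at hu
    obtain ⟨k, k', hkk, z, hz, hzu⟩ := hu
    exact hkk (h.unique k k' _ z.2 hz hzu)
  · exact hwO (Set.mem_iUnion.2 ⟨k, Set.mem_iUnion.2 ⟨k', Set.mem_iUnion.2 ⟨hkk, ⟨w, hw⟩, hw', rfl⟩⟩⟩)

/-- An open around `u` inside the images of open sheets. -/
theorem Sheets.exists_surjOn {u : U} {ι : Type} {x : ι → X} {W : ι → X.Opens}
    {K : Type} [Finite K] {lab : K → ι} {V : K → (pullback f g).Opens}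
    (h : Sheets f g u x W K lab V) (ho : ∀ k, IsOpenImmersion ((V k).ι ≫ pullback.snd f g)) :
    ∃ O : U.Opens, u ∈ O ∧ ∀ k, ∀ y ∈ O, ∃ w ∈ V k, pullback.snd f g w = y := by
  refine ⟨⟨⋂ k, Set.range ((V k).ι ≫ pullback.snd f g),
    isOpen_iInter_of_finite fun k => (ho k).base_open.isOpen_range⟩, ?_, fun k y hy => ?_⟩
  · exact Set.mem_iInter.2 fun k => by
      obtain ⟨w, hw, hwu⟩ := h.nonempty k
      exact ⟨⟨w, hw⟩, hwu⟩
  · obtain ⟨z, rfl⟩ := Set.mem_iInter.1 hy k
    exact ⟨_, z.2, rfl⟩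

/-- The complement of the disjoint sheets. -/
theorem Sheets.exists_decomposition [IsSeparated f] {u : U} {ι : Type} {x : ι → X} {W : ι → X.Opens}
    {K : Type} [Finite K] {lab : K → ι} {V : K → (pullback f g).Opens}
    (h : Sheets f g u x W K lab V)
    (hdisj : ∀ k k', k ≠ k' → ∀ w : ↥(pullback f g), w ∈ V k → w ∉ V k') :
    ∃ R : (pullback f g).Opens, R ⊔ (⨆ k, V k) = ⊤ ∧ (∀ k, Disjoint R (V k)) ∧
      (∀ k k', k ≠ k' → Disjoint (V k) (V k')) ∧
      ∀ (w : ↥(pullback f g)) (i : ι), w ∈ R → pullback.snd f g w = u → pullback.fst f g w ≠ x i := by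
  refine ⟨⟨(⋃ k, (V k : Set ↥(pullback f g)))ᶜ,
    (isClosed_iUnion_of_finite fun k => h.isClosed_carrier k).isOpen_compl⟩, ?_, fun k => ?_,
    fun k k' hk => ?_, fun w i hw hwu hwx => ?_⟩
  · refine top_le_iff.1 fun w _ => ?_
    by_cases hw : w ∈ ⋃ k, (V k : Set ↥(pullback f g))
    · obtain ⟨k, hk⟩ := Set.mem_iUnion.1 hw
      exact TopologicalSpace.Opens.mem_sup.2 (Or.inr (TopologicalSpace.Opens.mem_iSup.2 ⟨k, hk⟩))
    · exact TopologicalSpace.Opens.mem_sup.2 (Or.inl hw)
  · rw [disjoint_iff]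
    exact TopologicalSpace.Opens.ext (Set.eq_empty_iff_forall_notMem.2 fun w hw =>
      hw.1 (Set.mem_iUnion.2 ⟨k, hw.2⟩))
  · rw [disjoint_iff]
    exact TopologicalSpace.Opens.ext (Set.eq_empty_iff_forall_notMem.2 fun w hw =>
      hdisj k k' hk w hw.1 hw.2)
  · obtain ⟨k, -, hk⟩ := h.cover w i hwu hwx
    exact hw (Set.mem_iUnion.2 ⟨k, hk⟩)

end Groth.Agent.Hens22
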