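import Groth.Agent.Unr55.EtLocal
import Mathlib.RingTheory.Unramified.Pi
import Mathlib.RingTheory.Finiteness.FinitePresentationLocal

/-!
Simultaneous etale local splitting of finitely many unramified algebras.
-/

set_option autoImplicit false
universe u

open TensorProduct

noncomputable section

namespace Groth.Agent.Hens22

theorem finiteType_pi {R : Type u} [CommRing R] {ι : Type} [Finite ι] (S : ι → Type u)
    [∀ i, CommRing (S i)] [∀ i, Algebra R (S i)] [∀ i, Algebra.FiniteType R (S i)] :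
    Algebra.FiniteType R (∀ i, S i) := by
  choose n φ hφ using fun i => Algebra.FiniteType.iff_quotient_mvPolynomial''.1 (‹∀ i, Algebra.FiniteType R (S i)› i)
  refine Algebra.FiniteType.of_surjective
    (Pi.algHom R S fun i => (φ i).comp (Pi.evalAlgHom R (fun i => MvPolynomial (Fin (n i)) R) i)) ?_
  intro z
  choose y hy using fun i => hφ i (z i)
  exact ⟨y, funext hy⟩

/-- Common splitting. -/
theorem exists_common_splitting {R : Type u} [CommRing R] {ι : Type} [Finite ι] (S : ι → Type u)
    [∀ i, CommRing (S i)] [∀ i, Algebra R (S i)] [∀ i, Algebra.Unramified R (S i)]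
    (p : Ideal R) [p.IsPrime] :
    ∃ (R' : Type u) (_ : CommRing R') (_ : Algebra R R') (_ : Algebra.Etale R R') (p' : Ideal R')
      (_ : p'.IsPrime) (_ : p'.LiesOver p) (n : ℕ) (e : ∀ i, Fin n → R' ⊗[R] S i),
      (∀ i, OrthogonalIdempotents (e i)) ∧
      (∀ i a t, ∃ r : R', t * e i a = algebraMap R' (R' ⊗[R] S i) r * e i a) ∧
      ∀ i (Q : Ideal (R' ⊗[R] S i)), Q.IsPrime → Q.comap (algebraMap R' (R' ⊗[R] S i)) = p' →
        ∃ a, e i a ∉ Q := by
  have := finiteType_pi (R := R) S
  have : Algebra.Unramified R (∀ i, S i) := ⟨inferInstance, inferInstance⟩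
  obtain ⟨R', _, _, _, p', _, _, n, e, he, h1, -, h3⟩ :=
    Unr55.exists_etale_hasSplitting (R := R) (S := ∀ i, S i) p
  let π : ∀ i, R' ⊗[R] (∀ i, S i) →ₐ[R'] R' ⊗[R] S i := fun i =>
    Algebra.TensorProduct.map (AlgHom.id R' R') (Pi.evalAlgHom R S i)
  have hπ : ∀ i, Function.Surjective (π i) := fun i =>
    LinearMap.lTensor_surjective R' (g := (Pi.evalAlgHom R S i).toLinearMap)
      (Function.surjective_eval i)
  refine ⟨R', inferInstance, inferInstance, inferInstance, p', inferInstance, inferInstance, n,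
    fun i a => π i (e a), fun i => he.map (π i).toRingHom, fun i a t => ?_, fun i Q _ hQ => ?_⟩
  · obtain ⟨t, rfl⟩ := hπ i t
    obtain ⟨r, hr⟩ := h1 a t
    refine ⟨r, ?_⟩
    rw [← map_mul, hr, map_mul, AlgHom.commutes]
  · obtain ⟨a, ha⟩ := h3 (Q.comap (π i).toRingHom) inferInstance
      (by rw [Ideal.comap_comap, AlgHom.toRingHom_eq_coe, AlgHom.comp_algebraMap, hQ])
    exact ⟨a, ha⟩

end Groth.Agent.Hens22
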