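import Groth.Agent.Hens22.PairOps

/-!
Henselian finitely presented maps that are surjective modulo the henselian ideal are surjective.
-/

set_option autoImplicit false
universe u

open TensorProduct

namespace Groth.Agent.Hens22

variable {A : Type u} [CommRing A]

/-- A finite type algebra generated modulo `I` by the base is quasi-finite at the primes over `I`. -/
theorem weaklyQuasiFiniteAt_of_surjective (I : Ideal A) {A' : Type u} [CommRing A'] [Algebra A A']
    (hsurj : Function.Surjective
      (Ideal.quotientMap (I.map (algebraMap A A')) (algebraMap A A') Ideal.le_comap_map))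
    (P : Ideal A') [P.IsPrime] (hP : I.map (algebraMap A A') ≤ P) :
    Algebra.WeaklyQuasiFiniteAt A P := by
  rw [Algebra.weaklyQuasiFiniteAt_iff]
  let S₀ := A' ⧸ I.map (algebraMap A A')
  let T := Localization.AtPrime P ⧸ (P.under A).map (algebraMap A (Localization.AtPrime P))
  have : Module.Finite A S₀ := Module.Finite.of_surjective (Algebra.linearMap A S₀) fun z => by
    obtain ⟨x, hx⟩ := hsurj z
    obtain ⟨a, rfl⟩ := Ideal.Quotient.mk_surjective x
    exact ⟨a, hx⟩
  have : Algebra.QuasiFinite A' T :=
    have : Algebra.QuasiFinite A' (Localization.AtPrime P) :=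
      Algebra.QuasiFinite.of_isLocalization (R := A') (S := A') P.primeCompl
    inferInstance
  have hle : I.map (algebraMap A A') ≤ RingHom.ker (algebraMap A' T) := by
    rw [Ideal.map_le_iff_le_comap]
    intro a ha
    show algebraMap A' T (algebraMap A A' a) = 0
    rw [← IsScalarTower.algebraMap_apply A A' T,
      IsScalarTower.algebraMap_apply A (Localization.AtPrime P) T, Ideal.Quotient.algebraMap_eq,
      Ideal.Quotient.eq_zero_iff_mem]
    exact Ideal.mem_map_of_mem _ (hP (Ideal.mem_map_of_mem _ ha))
  let _ : Algebra S₀ T := (Ideal.Quotient.lift _ (algebraMap A' T) hle).toAlgebra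
  have : IsScalarTower A' S₀ T := IsScalarTower.of_algebraMap_eq fun _ => rfl
  have : IsScalarTower A S₀ T := IsScalarTower.of_algebraMap_eq fun a => by
    rw [IsScalarTower.algebraMap_apply A A' T a, IsScalarTower.algebraMap_apply A A' S₀ a,
      ← IsScalarTower.algebraMap_apply A' S₀ T]
  have : Algebra.QuasiFinite S₀ T := Algebra.QuasiFinite.of_restrictScalars A' S₀ T
  exact Algebra.QuasiFinite.trans A S₀ T

/-- Along the zero locus of `I` a finite type quasi-finite algebra, trivial modulo `I`, splits off
a factor on which it is finite. -/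
theorem exists_finite_away_of_surjective (I : Ideal A) [HenselianRing A I] (A' : Type u) [CommRing A']
    [Algebra A A'] [Algebra.FiniteType A A']
    (hsurj : Function.Surjective
      (Ideal.quotientMap (I.map (algebraMap A A')) (algebraMap A A') Ideal.le_comap_map)) :
    ∃ ε : A', ε - 1 ∈ I.map (algebraMap A A') ∧ IsIntegral A ε ∧
      ∀ y, IsIntegral A (ε * y) ∧ IsIdempotentElem ε := by
  classical
  let B := integralClosure A A'
  have hint : Algebra.IsIntegral A B := integralClosure.AlgebraIsIntegral
  set I' := I.map (algebraMap A A')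
  set K : Ideal B := I'.comap B.val.toRingHom
  have hres : ∀ y : A', ∃ a : A, y - algebraMap A A' a ∈ I' := by
    intro y
    obtain ⟨z, hz⟩ := hsurj (Ideal.Quotient.mk I' y)
    obtain ⟨a, rfl⟩ := Ideal.Quotient.mk_surjective z
    exact ⟨a, by rw [← Ideal.Quotient.eq]; exact hz.symm⟩
  -- denominators
  set D : Ideal A' := Ideal.span
    {r : A' | IsIntegral A r ∧ ∀ x, ∃ m, IsIntegral A (r ^ m * x)}
  have hD : D ⊔ I' = ⊤ := by
    by_contra h
    obtain ⟨P, hP, hle⟩ := Ideal.exists_le_maximal _ h
    have := weaklyQuasiFiniteAt_of_surjective I hsurj P (le_sup_right.trans hle)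
    obtain ⟨r, hr, hr1, hr2⟩ := Algebra.zariskisMainProperty_iff.1
      (Algebra.ZariskisMainProperty.of_finiteType_of_weaklyQuasiFiniteAt (R := A) P)
    exact hr (hle (Ideal.mem_sup_left (Ideal.subset_span ⟨hr1, hr2⟩)))
  let DB : Ideal B := Ideal.span {r : B | ∀ x, ∃ m, IsIntegral A ((r : A') ^ m * x)}
  have hDB : DB ⊔ K = ⊤ := by
    rw [Ideal.eq_top_iff_one]
    have h1 : (1 : A') ∈ D ⊔ I' := hD ▸ Submodule.mem_top
    have h2 : ∀ d ∈ D, ∃ b ∈ DB, d - (b : A') ∈ I' := by
      intro d hd
      induction hd using Submodule.span_induction with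
      | mem x hx => exact ⟨⟨x, hx.1⟩, Ideal.subset_span hx.2, by simp⟩
      | zero => exact ⟨0, zero_mem _, by simp⟩
      | add x y _ _ hx hy =>
        obtain ⟨b, hb, hb'⟩ := hx
        obtain ⟨c, hc, hc'⟩ := hy
        refine ⟨b + c, add_mem hb hc, ?_⟩
        have := add_mem hb' hc'
        convert this using 1
        push_cast; ring
      | smul r x _ hx =>
        obtain ⟨b, hb, hb'⟩ := hx
        obtain ⟨a, ha⟩ := hres r
        refine ⟨algebraMap A B a * b, Ideal.mul_mem_left _ _ hb, ?_⟩
        have := add_mem (Ideal.mul_mem_right x _ ha) (Ideal.mul_mem_left _ (algebraMap A A' a) hb')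
        convert this using 1
        push_cast
        rw [smul_eq_mul]; ring
    obtain ⟨d, hd, i, hi, hdi⟩ := Submodule.mem_sup.1 h1
    obtain ⟨b, hb, hb'⟩ := h2 d hd
    refine Submodule.mem_sup.2 ⟨b, hb, 1 - b, ?_, by ring⟩
    show ((1 - b : B) : A') ∈ I'
    have := add_mem hb' hi
    convert this using 1
    push_cast
    linear_combination -hdi
  -- elements of K are killed modulo IB by powers of the denominators
  have hK : ∀ r : B, (∀ x, ∃ m, IsIntegral A ((r : A') ^ m * x)) → ∀ x ∈ K,
      ∃ m, r ^ m * x ∈ I.map (algebraMap A B) := by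
    intro r hr x hx
    suffices ∀ y ∈ I', ∃ m, ∃ h : IsIntegral A ((r : A') ^ m * y),
        (⟨_, h⟩ : B) ∈ I.map (algebraMap A B) by
      obtain ⟨m, h, hm⟩ := this _ hx
      refine ⟨m, ?_⟩
      have hx' : r ^ m * x = (⟨_, h⟩ : B) := Subtype.ext (by simp)
      rw [hx']; exact hm
    intro y hy
    induction hy using Submodule.span_induction with
    | mem z hz =>
      obtain ⟨a, ha, rfl⟩ := hz
      refine ⟨0, by simpa using isIntegral_algebraMap, ?_⟩
      convert Ideal.mem_map_of_mem (algebraMap A B) ha using 1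
      apply Subtype.ext
      simp
    | zero =>
      refine ⟨0, by simp [isIntegral_zero], ?_⟩
      have h0 : (⟨(r : A') ^ 0 * 0, by simp⟩ : B) = 0 := Subtype.ext (by simp)
      rw [h0]; exact zero_mem _
    | add z w _ _ hz hw =>
      obtain ⟨m, h, hm⟩ := hz
      obtain ⟨n, h', hn⟩ := hw
      have := add_mem (Ideal.mul_mem_left _ (r ^ n) hm) (Ideal.mul_mem_left _ (r ^ m) hn)
      have heq : ((r ^ n * ⟨_, h⟩ + r ^ m * ⟨_, h'⟩ : B) : A') = (r : A') ^ (m + n) * (z + w) := by
        push_cast; ring
      refine ⟨m + n, by rw [← heq]; exact (mem_integralClosure_iff A A').1 (SetLike.coe_mem _), ?_⟩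
      convert this using 1
      exact Subtype.ext heq.symm
    | smul c z _ hz =>
      obtain ⟨m, h, hm⟩ := hz
      obtain ⟨n, hn⟩ := hr c
      have := Ideal.mul_mem_left _ (⟨_, hn⟩ : B) hm
      have heq : ((⟨_, hn⟩ * ⟨_, h⟩ : B) : A') = (r : A') ^ (m + n) * (c • z) := by
        push_cast; rw [smul_eq_mul]; ring
      refine ⟨m + n, by rw [← heq]; exact (mem_integralClosure_iff A A').1 (SetLike.coe_mem _), ?_⟩
      convert this using 1
      exact Subtype.ext heq.symm
  let ann : B → Ideal B := fun x =>
    { carrier := {b | b * x ∈ I.map (algebraMap A B)}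
      zero_mem' := by simp
      add_mem' := fun {a b} ha hb => by
        simp only [Set.mem_ofPred_eq] at ha hb ⊢
        rw [add_mul]; exact add_mem ha hb
      smul_mem' := fun c {b} hb => by
        simp only [Set.mem_ofPred_eq] at hb ⊢
        rw [smul_eq_mul, mul_assoc]; exact Ideal.mul_mem_left _ c hb }
  have hann : ∀ x ∈ K, DB ≤ (ann x).radical := fun x hx =>
    Ideal.span_le.2 fun r hr => hK r hr x hx
  obtain ⟨b, hb, k, hk, hbk⟩ := Submodule.mem_sup.1 (hDB ▸ Submodule.mem_top (x := (1 : B)))
  obtain ⟨M, hM⟩ := hann k hk hb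
  set e := b ^ M
  have hek : ∃ w, e = 1 + k * w := by
    have hbk' : b = 1 - k := eq_sub_of_add_eq hbk
    obtain ⟨w, hw⟩ := sub_one_dvd_pow_sub_one b M
    exact ⟨-w, by linear_combination hw + w * hbk⟩
  obtain ⟨w, hw⟩ := hek
  have he : e * e - e ∈ I.map (algebraMap A B) := by
    have : e * e - e = w * (e * k) := by linear_combination e * hw
    rw [this]
    exact Ideal.mul_mem_left _ _ hM
  obtain ⟨ε, hε, hεe⟩ := exists_idempotent_lift I he
  have hεK : ∀ x ∈ K, ε * x ∈ I.map (algebraMap A B) := by
    intro x hx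
    obtain ⟨m, hm⟩ := hann x hx hb
    have hm' : b ^ m * x ∈ I.map (algebraMap A B) := hm
    have h1 : ∀ j, (e ^ (j + 1) - e) * x ∈ I.map (algebraMap A B) := by
      intro j
      induction j with
      | zero => simp
      | succ j ih =>
        have : (e ^ (j + 1 + 1) - e) * x = e * ((e ^ (j + 1) - e) * x) + (e * e - e) * x := by ring
        rw [this]
        exact add_mem (Ideal.mul_mem_left _ _ ih) (Ideal.mul_mem_right _ _ he)
    have h2 : b ^ (M * (m + 1)) * x ∈ I.map (algebraMap A B) := by
      rcases Nat.eq_zero_or_pos M with hM0 | hM0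
      · have hek0 : k ∈ I.map (algebraMap A B) := by simpa [hM0] using (hM : b ^ M * k ∈ _)
        have hb1 : 1 - b ^ m ∈ I.map (algebraMap A B) := by
          obtain ⟨c, hc⟩ := sub_one_dvd_pow_sub_one b m
          have : 1 - b ^ m = k * c := by linear_combination -hc - c * hbk
          rw [this]
          exact Ideal.mul_mem_right _ _ hek0
        rw [hM0, zero_mul, pow_zero, one_mul]
        have : x = b ^ m * x + (1 - b ^ m) * x := by ring
        rw [this]
        exact add_mem hm' (Ideal.mul_mem_right _ _ hb1)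
      · have hle : m ≤ M * (m + 1) := le_trans (Nat.le_succ m) (Nat.le_mul_of_pos_left _ hM0)
        obtain ⟨j, hj⟩ := Nat.exists_eq_add_of_le hle
        rw [hj, pow_add, mul_comm (b ^ m), mul_assoc]
        exact Ideal.mul_mem_left _ _ hm'
    have h3 : ε * x = (ε - e) * x + (e ^ (m + 1) * x - (e ^ (m + 1) - e) * x) := by ring
    rw [h3]
    refine add_mem (Ideal.mul_mem_right _ _ hεe) (sub_mem ?_ (h1 m))
    rw [← pow_mul]; exact h2
  have hεI : ((ε : B) : A') - 1 ∈ I' := by
    have h1 : ((ε - e : B) : A') ∈ I' := by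
      have := Ideal.mem_map_of_mem B.val.toRingHom hεe
      rw [Ideal.map_map, show B.val.toRingHom.comp (algebraMap A B) = algebraMap A A' from
        RingHom.ext fun _ => rfl] at this
      exact this
    have hk' : (k : A') ∈ I' := hk
    have h2 := add_mem h1 (I'.mul_mem_right (w : A') hk')
    convert h2 using 1
    have := congrArg (Subtype.val : B → A') hw
    push_cast at this ⊢
    linear_combination this
  refine ⟨ε, hεI, ε.2, fun y => ⟨?_, by exact congrArg Subtype.val hε⟩⟩
  let N : Ideal B :=
    { carrier := {c | IsIntegral A ((c : A') * (ε : A') * y)}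
      zero_mem' := by simpa using isIntegral_zero
      add_mem' := fun {c d} hc hd => by
        simp only [Set.mem_ofPred_eq] at hc hd ⊢
        have := hc.add hd
        convert this using 1
        push_cast; ring
      smul_mem' := fun c {d} hd => by
        simp only [Set.mem_ofPred_eq] at hd ⊢
        have := IsIntegral.mul c.2 hd
        convert this using 1
        push_cast [smul_eq_mul]; ring }
  suffices hN : N = ⊤ by
    have : (1 : B) ∈ N := hN ▸ Submodule.mem_top
    simpa [N] using this
  by_contra hN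
  obtain ⟨Q, hQ, hNQ⟩ := Ideal.exists_le_maximal _ hN
  have h1ε : 1 - ε ∈ Q := hNQ (by
    show IsIntegral A (((1 - ε : B) : A') * (ε : A') * y)
    have := congrArg (Subtype.val : B → A') hε.eq
    push_cast at this ⊢
    rw [show (1 - (ε : A')) * ε * y = 0 by linear_combination (-y) * this]
    exact isIntegral_zero)
  have hεQ : ε ∉ Q := fun h => hQ.ne_top (Q.eq_top_iff_one.2 (by simpa using add_mem h1ε h))
  have hIQ : I.map (algebraMap A B) ≤ Q :=
    (map_le_jacobson_of_isIntegral HenselianRing.jac B).trans (sInf_le ⟨bot_le, hQ⟩)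
  have hKQ : K ≤ Q := fun x hx => (hQ.isPrime.mem_or_mem (hIQ (hεK x hx))).resolve_left hεQ
  have hDQ : DB ≤ Q := Ideal.span_le.2 fun r hr => by
    obtain ⟨m, hm⟩ := hr ((ε : A') * y)
    have : r ^ m ∈ N := by
      show IsIntegral A (((r ^ m : B) : A') * (ε : A') * y)
      push_cast; rw [mul_assoc]; exact hm
    exact hQ.isPrime.mem_of_pow_mem m (hNQ this)
  exact hQ.ne_top (top_le_iff.1 (hDB ▸ sup_le hDQ hKQ))

/-- A henselian finitely presented map, surjective modulo `I`, is surjective. -/
theorem surjective_of_pairHens (I : Ideal A) [HenselianRing A I] {R : Type u} [CommRing R]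
    [Algebra A R] [Algebra.FiniteType A R] {B : Type u} [CommRing B] [Algebra R B] [Algebra A B]
    [IsScalarTower A R B] (hB : Hens2.IsPairHenselization R (I.map (algebraMap A R)) B)
    (hsurj : Function.Surjective
      (Ideal.quotientMap (I.map (algebraMap A B)) (algebraMap A B) Ideal.le_comap_map)) :
    Function.Surjective (algebraMap A B) := by
  set I' := I.map (algebraMap A R)
  have hIB : I'.map (algebraMap R B) = I.map (algebraMap A B) := by
    rw [Ideal.map_map, ← IsScalarTower.algebraMap_eq]
  have hres : ∀ x : R, ∃ a : A, x - algebraMap A R a ∈ I' := by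
    intro x
    obtain ⟨z, hz⟩ := hsurj (Ideal.Quotient.mk _ (algebraMap R B x))
    obtain ⟨a, rfl⟩ := Ideal.Quotient.mk_surjective z
    refine ⟨a, ?_⟩
    rw [Ideal.quotientMap_mk, eq_comm, Ideal.Quotient.eq] at hz
    have h1 := (quotientMap_bijective hB).1 (a₁ := Ideal.Quotient.mk I' (x - algebraMap A R a))
      (a₂ := 0) (by
        rw [map_zero, Ideal.quotientMap_mk, Ideal.Quotient.eq_zero_iff_mem, hIB, map_sub,
          ← IsScalarTower.algebraMap_apply]
        exact hz)
    rwa [Ideal.Quotient.eq_zero_iff_mem] at h1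
  have hsurjR : Function.Surjective (Ideal.quotientMap I' (algebraMap A R) Ideal.le_comap_map) := by
    intro z
    obtain ⟨x, rfl⟩ := Ideal.Quotient.mk_surjective z
    obtain ⟨a, ha⟩ := hres x
    exact ⟨Ideal.Quotient.mk I a, by rw [Ideal.quotientMap_mk]; exact (Ideal.Quotient.eq.2 ha).symm⟩
  obtain ⟨ε, hεI, -, hε⟩ := exists_finite_away_of_surjective I R hsurjR
  have hid : IsIdempotentElem ε := (hε 0).2
  let C := R ⧸ Ideal.span {1 - ε}
  let q : R →ₐ[A] C := Ideal.Quotient.mkₐ A _
  have hq : Function.Surjective q := Ideal.Quotient.mk_surjective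
  have hqε : q ε = 1 := by
    have h1 : q (1 - ε) = 0 :=
      Ideal.Quotient.eq_zero_iff_mem.2 (Ideal.mem_span_singleton_self _)
    rw [map_sub, map_one, sub_eq_zero] at h1
    exact h1.symm
  have : Algebra.IsIntegral A C := ⟨fun z => by
    obtain ⟨x, rfl⟩ := hq z
    have := (hε x).1.map q
    rwa [map_mul, hqε, one_mul] at this⟩
  have : Algebra.FiniteType A C := Algebra.FiniteType.of_surjective q hq
  have : Module.Finite A C := Algebra.IsIntegral.finite
  have hsurjC : Function.Surjective (algebraMap A C) := by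
    have htop : (⊤ : Submodule A C) ≤ LinearMap.range (Algebra.linearMap A C) ⊔ I • ⊤ := by
      rintro z -
      obtain ⟨x, rfl⟩ := hq z
      obtain ⟨a, ha⟩ := hres x
      refine Submodule.mem_sup.2 ⟨algebraMap A C a, ⟨a, rfl⟩, q (x - algebraMap A R a), ?_, ?_⟩
      · rw [Ideal.smul_top_eq_map, Submodule.restrictScalars_mem]
        have := Ideal.mem_map_of_mem q.toRingHom ha
        rwa [Ideal.map_map, show q.toRingHom.comp (algebraMap A R) = algebraMap A C from
          q.comp_algebraMap] at this
      · rw [map_sub, AlgHom.commutes]; ring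
    intro z
    obtain ⟨a, ha⟩ := Submodule.le_of_le_smul_of_le_jacobson_bot Module.Finite.fg_top
      (HenselianRing.jac (I := I)) htop (Submodule.mem_top (x := z))
    exact ⟨a, ha⟩
  -- the henselization of `R` is `C`
  have hHC : HenselianRing C (I.map (algebraMap A C)) := henselianRing_of_isIntegral I C
  have := hB.1
  have hεB : algebraMap R B ε = 1 := by
    have hu : IsUnit (algebraMap R B ε) := by
      refine isUnit_of_map_isUnit (I := I'.map (algebraMap R B)) HenselianRing.jac ?_
      have := Ideal.mem_map_of_mem (algebraMap R B) hεI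
      rw [map_sub, map_one, ← Ideal.Quotient.eq, map_one] at this
      rw [this]; exact isUnit_one
    exact (IsIdempotentElem.iff_eq_one_of_isUnit hu).1 (hid.map _)
  let j : C →+* B := Ideal.Quotient.lift _ (algebraMap R B) (fun x hx => by
    obtain ⟨t, rfl⟩ := Ideal.mem_span_singleton'.1 hx
    rw [map_mul, map_sub, map_one, hεB, sub_self, mul_zero])
  obtain ⟨g, hg, -⟩ := hB.2 C (I.map (algebraMap A C)) q.toRingHom hHC (by
    rw [Ideal.map_map, show q.toRingHom.comp (algebraMap A R) = algebraMap A C from q.comp_algebraMap])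
  have hjg : j.comp g = RingHom.id B := by
    refine pairHens_ringHom_ext hB (I'.map (algebraMap R B)) _ _ ?_ ?_
    · rw [RingHom.comp_assoc, hg, RingHom.id_comp]; rfl
    · rw [RingHom.comp_assoc, hg]; exact le_rfl
  intro b
  obtain ⟨a, ha⟩ := hsurjC (g b)
  refine ⟨a, ?_⟩
  have := congrArg j ha
  rw [show j (g b) = b from RingHom.congr_fun hjg b] at this
  rw [← this, IsScalarTower.algebraMap_apply A R B]
  rfl

end Groth.Agent.Hens22
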