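import Groth.Agent.Hens22.SmoothModel
import Groth.Agent.Hens22.SurjOfMod
import Groth.Agent.Hens22.HfpComp
import Mathlib.RingTheory.Nakayama

/-!
Henselian finitely presented algebras which are smooth modulo all powers of `I` are covered by
henselizations of smooth algebras.
-/

set_option autoImplicit false
universe u

open KaehlerDifferential TensorProduct

noncomputable section

namespace Groth.Agent.Hens22

variable {A : Type u} [CommRing A]

/-- The kernel of a surjection between henselian finitely presented algebras is finitely generated. -/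
theorem ker_fg_of_pairHens {H T B : Type u} [CommRing H] [CommRing T] [CommRing B] [Algebra H T]
    [Algebra T B] [Algebra H B] [IsScalarTower H T B] [Algebra.FinitePresentation H T] (J : Ideal H)
    [HenselianRing H J] (hB : Hens2.IsPairHenselization T (J.map (algebraMap H T)) B)
    (hsurj : Function.Surjective (algebraMap H B)) : (RingHom.ker (algebraMap H B)).FG := by
  obtain ⟨n, p, hp, hfg⟩ := Algebra.FinitePresentation.out (R := H) (A := T)
  choose x hx using fun i => hsurj (algebraMap T B (p (MvPolynomial.X i)))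
  let σ : MvPolynomial (Fin n) H →ₐ[H] H := MvPolynomial.aeval x
  let K : Ideal H := (RingHom.ker p.toRingHom).map σ.toRingHom
  have hσ : (Algebra.ofId H B).comp σ = (IsScalarTower.toAlgHom H T B).comp p := by
    refine MvPolynomial.algHom_ext fun i => ?_
    show algebraMap H B (σ (MvPolynomial.X i)) = algebraMap T B (p (MvPolynomial.X i))
    rw [MvPolynomial.aeval_X, hx]
  suffices RingHom.ker (algebraMap H B) = K by rw [this]; exact hfg.map _
  refine le_antisymm (fun h hh => ?_) (Ideal.map_le_iff_le_comap.2 fun q hq => ?_)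
  · let t : T →ₐ[H] H ⧸ K := AlgHom.liftOfSurjective p hp ((Ideal.Quotient.mkₐ H K).comp σ)
      (fun q hq => Ideal.Quotient.eq_zero_iff_mem.2 (Ideal.mem_map_of_mem σ.toRingHom hq))
    have hQ : HenselianRing (H ⧸ K) (J.map (algebraMap H (H ⧸ K))) := henselianRing_quotient J K
    obtain ⟨g, hg, -⟩ := hB.2 (H ⧸ K) _ t.toRingHom hQ (by
      rw [Ideal.map_map, show t.toRingHom.comp (algebraMap H T) = algebraMap H (H ⧸ K) from
        t.comp_algebraMap])
    have h1 : g (algebraMap H B h) = Ideal.Quotient.mk K h := by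
      rw [IsScalarTower.algebraMap_apply H T B, ← RingHom.comp_apply, hg]
      exact t.commutes h
    rw [RingHom.mem_ker.1 hh, map_zero, eq_comm] at h1
    exact Ideal.Quotient.eq_zero_iff_mem.1 h1
  · show algebraMap H B (σ q) = 0
    refine (DFunLike.congr_fun hσ q).trans ?_
    show algebraMap T B (p q) = 0
    rw [show p q = 0 from RingHom.mem_ker.1 hq, map_zero]

/-- A retraction argument: a surjection which is bijective modulo a nilpotent ideal, onto an algebra
with the lifting property, is bijective. -/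
theorem injective_of_lift {S Q : Type u} [CommRing S] [CommRing Q] [Algebra A S] [Algebra A Q]
    (J : Ideal A) (hJ : IsNilpotent J) (π : S →ₐ[A] Q) (hπ : Function.Surjective π)
    (hker : RingHom.ker π ≤ J.map (algebraMap A S)) (s : Q →ₐ[A] S) (hs : π.comp s = AlgHom.id A Q) :
    Function.Injective π := by
  have htop : LinearMap.range (s.comp π).toLinearMap = ⊤ := by
    obtain ⟨N, hN⟩ := hJ
    have h1 : ∀ x : S, x ∈ LinearMap.range (s.comp π).toLinearMap ⊔ (J • ⊤ : Submodule A S) := fun x => by
      refine Submodule.mem_sup.2 ⟨_, ⟨x, rfl⟩, x - s (π x), ?_, add_sub_cancel _ _⟩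
      rw [Ideal.smul_top_eq_map]
      refine hker (RingHom.mem_ker.2 ?_)
      rw [map_sub, show π (s (π x)) = π x from DFunLike.congr_fun hs (π x), sub_self]
    have h2 : ∀ k : ℕ, ⊤ ≤ LinearMap.range (s.comp π).toLinearMap ⊔ (J ^ k • ⊤ : Submodule A S) := by
      intro k
      induction k with
      | zero => rw [pow_zero, Ideal.one_eq_top, Submodule.top_smul]; exact le_sup_right
      | succ k ih =>
        refine ih.trans (sup_le le_sup_left ?_)
        refine (Submodule.smul_mono le_rfl (fun x _ => h1 x)).trans ?_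
        rw [Submodule.smul_sup, pow_succ, Submodule.mul_smul]
        exact sup_le (Submodule.smul_le_right.trans le_sup_left) le_sup_right
    have h3 := h2 N
    rw [hN, Ideal.zero_eq_bot, Submodule.bot_smul, sup_bot_eq] at h3
    exact top_unique h3
  intro x y hxy
  obtain ⟨x, rfl⟩ : ∃ a, s (π a) = x := (htop ▸ Submodule.mem_top : x ∈ LinearMap.range (s.comp π).toLinearMap)
  obtain ⟨y, rfl⟩ : ∃ a, s (π a) = y := (htop ▸ Submodule.mem_top : y ∈ LinearMap.range (s.comp π).toLinearMap)
  have hs' : ∀ q, π (s q) = q := fun q => DFunLike.congr_fun hs q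
  rw [hs', hs'] at hxy
  rw [hxy]

/-- Reduction modulo `I` of a henselian finitely presented algebra inherits smoothness. -/
theorem formallySmooth_mod_of_truncations (I : Ideal A) {R₀ B : Type u} [CommRing R₀] [CommRing B]
    [Algebra A R₀] [Algebra R₀ B] [Algebra A B] [IsScalarTower A R₀ B]
    (hB : Hens2.IsPairHenselization R₀ (I.map (algebraMap A R₀)) B)
    (h : Algebra.Smooth (A ⧸ I ^ 1) (B ⧸ (I ^ 1).map (algebraMap A B))) :
    Algebra.FormallySmooth (A ⧸ I) (R₀ ⧸ I.map (algebraMap A R₀)) := by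
  have key : ∀ J : Ideal A, J = I → Algebra.Smooth (A ⧸ J) (B ⧸ J.map (algebraMap A B)) →
      Algebra.FormallySmooth (A ⧸ I) (R₀ ⧸ I.map (algebraMap A R₀)) := by
    rintro J rfl hJ
    obtain ⟨e⟩ := exists_quotient_algEquiv J (R := R₀) (B := B) (quotientMap_bijective hB)
    exact Algebra.FormallySmooth.of_equiv e.symm
  exact key _ (pow_one I) h

/-- The reduction of a henselian finitely presented algebra is etale if the first truncation is. -/
theorem etale_mod_of_truncations (I : Ideal A) {R₀ B : Type u} [CommRing R₀] [CommRing B]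
    [Algebra A R₀] [Algebra R₀ B] [Algebra A B] [IsScalarTower A R₀ B]
    (hB : Hens2.IsPairHenselization R₀ (I.map (algebraMap A R₀)) B)
    (h : Algebra.Etale (A ⧸ I ^ 1) (B ⧸ (I ^ 1).map (algebraMap A B))) :
    Algebra.Etale (A ⧸ I) (R₀ ⧸ I.map (algebraMap A R₀)) := by
  have key : ∀ J : Ideal A, J = I → Algebra.Etale (A ⧸ J) (B ⧸ J.map (algebraMap A B)) →
      Algebra.Etale (A ⧸ I) (R₀ ⧸ I.map (algebraMap A R₀)) := by
    rintro J rfl hJ
    obtain ⟨e⟩ := exists_quotient_algEquiv J (R := R₀) (B := B) (quotientMap_bijective hB)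
    exact Algebra.Etale.of_equiv e.symm
  exact key _ (pow_one I) h

/-- From a model to a covering by the henselization of the model. -/
theorem exists_cover_of_model (I : Ideal A) [HenselianRing A I] {R₀ B : Type u} [CommRing R₀]
    [CommRing B] [Algebra A R₀] [Algebra.FinitePresentation A R₀] [Algebra R₀ B] [Algebra A B]
    [IsScalarTower A R₀ B] (hB : Hens2.IsPairHenselization R₀ (I.map (algebraMap A R₀)) B)
    (hsm : ∀ r : ℕ, 1 ≤ r → Algebra.Smooth (A ⧸ I ^ r) (B ⧸ (I ^ r).map (algebraMap A B)))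
    (R : Type u) [CommRing R] [Algebra A R] [Algebra.Smooth A R] (R' : Type u) [CommRing R']
    [Algebra A R'] [Algebra R₀ R'] [IsScalarTower A R₀ R'] [Algebra.Etale R₀ R']
    (hR' : Function.Bijective (Ideal.quotientMap ((I.map (algebraMap A R₀)).map (algebraMap R₀ R'))
      (algebraMap R₀ R') Ideal.le_comap_map))
    (φ : R →ₐ[A] R') (hφ : Function.Surjective φ) (hker : RingHom.ker φ ≤ I.map (algebraMap A R)) :
    ∃ (H : Type u) (_ : CommRing H) (_ : Algebra R H) (_ : Algebra A H) (_ : IsScalarTower A R H),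
      Hens2.IsPairHenselization R (I.map (algebraMap A R)) H ∧
      ∃ Φ : H →ₐ[A] B, Function.Surjective Φ ∧ (RingHom.ker Φ).FG ∧
        ∀ n : ℕ, RingHom.ker Φ ≤ (I ^ n).map (algebraMap A H) := by
  obtain ⟨ψ, -, -⟩ := existsUnique_algHom_of_bijective hB R' hR'
  have hψA : ∀ a, ψ (algebraMap A R' a) = algebraMap A B a := fun a => by
    rw [IsScalarTower.algebraMap_apply A R₀ R', ψ.commutes, ← IsScalarTower.algebraMap_apply]
  let χ : R →ₐ[A] B := { ψ.toRingHom.comp φ.toRingHom with
    commutes' := fun a => (congrArg ψ (φ.commutes a)).trans (hψA a) }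
  let H := Henz21.H R (R ⧸ I.map (algebraMap A R))
  have hH : Hens2.IsPairHenselization R (I.map (algebraMap A R)) H := isPairHenselization_H _
  let _ : Algebra A H := ((algebraMap R H).comp (algebraMap A R)).toAlgebra
  have : IsScalarTower A R H := IsScalarTower.of_algebraMap_eq fun _ => rfl
  have hBh : HenselianRing B (I.map (algebraMap A B)) := by
    have := hB.1; rwa [Ideal.map_map, ← IsScalarTower.algebraMap_eq] at this
  obtain ⟨g, hg, -⟩ := hH.2 B _ χ.toRingHom hBh (by
    rw [Ideal.map_map, show χ.toRingHom.comp (algebraMap A R) = algebraMap A B from χ.comp_algebraMap])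
  have hgc : ∀ a, g (algebraMap A H a) = algebraMap A B a := fun a =>
    (RingHom.congr_fun hg (algebraMap A R a)).trans (χ.commutes a)
  let Φ : H →ₐ[A] B := { g with commutes' := hgc }
  -- bijectivity modulo `I`
  have hIB : (I.map (algebraMap A R₀)).map (algebraMap R₀ B) = I.map (algebraMap A B) := by
    rw [Ideal.map_map, ← IsScalarTower.algebraMap_eq]
  have hIR' : (I.map (algebraMap A R₀)).map (algebraMap R₀ R') = I.map (algebraMap A R') := by
    rw [Ideal.map_map, ← IsScalarTower.algebraMap_eq]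
  have hψI : ∀ x, ψ x ∈ I.map (algebraMap A B) → x ∈ I.map (algebraMap A R') := fun x hx => by
    rw [← hIR']
    exact mem_map_iff_of_stage hR' (quotientMap_bijective hB) ψ (hIB.symm ▸ hx)
  have hχinj : ∀ x, χ x ∈ I.map (algebraMap A B) → x ∈ I.map (algebraMap A R) := fun x hx => by
    have h1 := hψI _ hx
    rw [← φ.comp_algebraMap, ← Ideal.map_map] at h1
    obtain ⟨y, hy, hyx⟩ := (Ideal.mem_map_iff_of_surjective _ hφ).1 h1
    have h2 : x - y ∈ I.map (algebraMap A R) := hker (RingHom.mem_ker.2 (by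
      rw [map_sub, sub_eq_zero]; exact hyx.symm))
    simpa using add_mem h2 hy
  have hχsurj : ∀ b : B, ∃ x : R, b - χ x ∈ I.map (algebraMap A B) := fun b => by
    obtain ⟨z, hz⟩ := (quotientMap_bijective hB).2 (Ideal.Quotient.mk _ b)
    obtain ⟨r, rfl⟩ := Ideal.Quotient.mk_surjective z
    rw [Ideal.quotientMap_mk, eq_comm, Ideal.Quotient.eq, hIB] at hz
    obtain ⟨x, hx⟩ := hφ (algebraMap R₀ R' r)
    refine ⟨x, ?_⟩
    show b - ψ (φ x) ∈ _
    rw [hx, ψ.commutes]
    exact hz
  -- surjectivity
  let _ : Algebra H B := g.toAlgebra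
  have : IsScalarTower A H B := IsScalarTower.of_algebraMap_eq fun a => (hgc a).symm
  obtain ⟨T, _, _, _, _, _, hT⟩ := exists_fp_of_algHom (R := R) (B := H) (S := R₀) (C := B) hH hB
  have hHh : HenselianRing H (I.map (algebraMap A H)) := by
    have := hH.1; rwa [Ideal.map_map, ← IsScalarTower.algebraMap_eq] at this
  have hΦ : Function.Surjective Φ := by
    refine surjective_of_pairHens (I.map (algebraMap A H)) hT fun z => ?_
    obtain ⟨b, rfl⟩ := Ideal.Quotient.mk_surjective z
    obtain ⟨x, hx⟩ := hχsurj b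
    refine ⟨Ideal.Quotient.mk _ (algebraMap R H x), ?_⟩
    rw [Ideal.quotientMap_mk, eq_comm, Ideal.Quotient.eq, Ideal.map_map, ← IsScalarTower.algebraMap_eq]
    show b - g (algebraMap R H x) ∈ _
    rw [← RingHom.comp_apply, hg]
    exact hx
  refine ⟨H, inferInstance, inferInstance, inferInstance, inferInstance, hH, Φ, hΦ,
    ker_fg_of_pairHens (I.map (algebraMap A H)) hT hΦ, fun n => ?_⟩
  -- the kernel is infinitely divisible
  rcases Nat.eq_zero_or_pos n with rfl | hn
  · rw [pow_zero, Ideal.one_eq_top, Ideal.map_top]; exact le_top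
  let J := I ^ n
  let S := H ⧸ J.map (algebraMap A H)
  let Q := B ⧸ J.map (algebraMap A B)
  let π : S →ₐ[A] Q := Ideal.Quotient.liftₐ (J.map (algebraMap A H)) ((Ideal.Quotient.mkₐ A _).comp Φ)
    (fun x hx => by
      refine RingHom.mem_ker.1 ((Ideal.map_le_iff_le_comap.2 fun a ha => ?_ : J.map (algebraMap A H) ≤
        RingHom.ker ((Ideal.Quotient.mkₐ A (J.map (algebraMap A B))).comp Φ)) hx)
      show Ideal.Quotient.mk _ (Φ (algebraMap A H a)) = 0
      rw [Φ.commutes]
      exact Ideal.Quotient.eq_zero_iff_mem.2 (Ideal.mem_map_of_mem _ ha))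
  have hπs : Function.Surjective π := fun z => by
    obtain ⟨b, rfl⟩ := Ideal.Quotient.mk_surjective z
    obtain ⟨x, rfl⟩ := hΦ b
    exact ⟨Ideal.Quotient.mk _ x, rfl⟩
  have hpos : n ≠ 0 := Nat.pos_iff_ne_zero.1 hn
  have hπker : RingHom.ker π ≤ I.map (algebraMap A S) := fun z hz => by
    obtain ⟨h, rfl⟩ := Ideal.Quotient.mk_surjective z
    obtain ⟨x, hx⟩ := (quotientMap_bijective hH).2 (Ideal.Quotient.mk _ h)
    obtain ⟨x, rfl⟩ := Ideal.Quotient.mk_surjective x
    rw [Ideal.quotientMap_mk, eq_comm, Ideal.Quotient.eq, Ideal.map_map,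
      ← IsScalarTower.algebraMap_eq] at hx
    have h1 : Φ h ∈ I.map (algebraMap A B) :=
      Ideal.map_mono (Ideal.pow_le_self hpos) (Ideal.Quotient.eq_zero_iff_mem.1 hz)
    have h2 : Φ (h - algebraMap R H x) ∈ I.map (algebraMap A B) := by
      have := Ideal.mem_map_of_mem Φ.toRingHom hx
      rwa [Ideal.map_map, show Φ.toRingHom.comp (algebraMap A H) = algebraMap A B from Φ.comp_algebraMap] at this
    rw [map_sub, show Φ (algebraMap R H x) = χ x from RingHom.congr_fun hg x] at h2
    have h3 := hχinj x (by simpa using sub_mem h1 h2)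
    have h4 : h ∈ I.map (algebraMap A H) := by
      have h5 := Ideal.mem_map_of_mem (algebraMap R H) h3
      rw [Ideal.map_map, ← IsScalarTower.algebraMap_eq] at h5
      simpa using add_mem hx h5
    have h6 := Ideal.mem_map_of_mem (Ideal.Quotient.mk (J.map (algebraMap A H))) h4
    rw [Ideal.map_map] at h6
    exact h6
  have : Algebra.FormallySmooth (A ⧸ J) (B ⧸ J.map (algebraMap A B)) := (hsm n hn).formallySmooth
  have hnilI : IsNilpotent (I.map (algebraMap A S)) := ⟨n, by
    rw [← Ideal.map_pow]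
    refine le_bot_iff.1 (Ideal.map_le_iff_le_comap.2 fun a ha => ?_)
    show Ideal.Quotient.mk _ (algebraMap A H a) = 0
    exact Ideal.Quotient.eq_zero_iff_mem.2 (Ideal.mem_map_of_mem _ ha)⟩
  have hkillS : J.map (algebraMap A S) = ⊥ := le_bot_iff.1 (Ideal.map_le_iff_le_comap.2 fun a ha => by
    show Ideal.Quotient.mk _ (algebraMap A H a) = 0
    exact Ideal.Quotient.eq_zero_iff_mem.2 (Ideal.mem_map_of_mem _ ha))
  have hkillQ : J.map (algebraMap A Q) = ⊥ := le_bot_iff.1 (Ideal.map_le_iff_le_comap.2 fun a ha => by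
    show Ideal.Quotient.mk _ (algebraMap A B a) = 0
    exact Ideal.Quotient.eq_zero_iff_mem.2 (Ideal.mem_map_of_mem _ ha))
  obtain ⟨w, hw⟩ := exists_lift_of_formallySmooth J hkillS hkillQ π hπs
    (hnilI.imp fun k hk => le_bot_iff.1 ((Ideal.pow_right_mono hπker k).trans (le_of_eq hk))) (Ideal.Quotient.mkₐ A (J.map (algebraMap A B)))
  let s : Q →ₐ[A] S := Ideal.Quotient.liftₐ (J.map (algebraMap A B)) w (fun b hb => by
    refine RingHom.mem_ker.1 ((Ideal.map_le_iff_le_comap.2 fun a ha => ?_ :
      J.map (algebraMap A B) ≤ RingHom.ker w) hb)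
    show w (algebraMap A B a) = 0
    rw [w.commutes]
    exact (Ideal.mem_bot).1 (hkillS ▸ Ideal.mem_map_of_mem _ ha))
  have hsπ : π.comp s = AlgHom.id A Q := AlgHom.ext fun z => by
    obtain ⟨b, rfl⟩ := Ideal.Quotient.mk_surjective z
    exact DFunLike.congr_fun hw b
  have hinj : Function.Injective π := by
    -- view everything over the Artinian-type base `A ⧸ J`
    let _ : Algebra (A ⧸ J) S :=
      (Ideal.Quotient.lift J (algebraMap A S) (eq_zero_of_map_eq_bot J hkillS)).toAlgebra
    let _ : Algebra (A ⧸ J) Q :=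
      (Ideal.Quotient.lift J (algebraMap A Q) (eq_zero_of_map_eq_bot J hkillQ)).toAlgebra
    have : IsScalarTower A (A ⧸ J) S := IsScalarTower.of_algebraMap_eq fun _ => rfl
    have : IsScalarTower A (A ⧸ J) Q := IsScalarTower.of_algebraMap_eq fun _ => rfl
    refine injective_of_lift (A := A ⧸ J) (I.map (Ideal.Quotient.mk J)) ⟨n, ?_⟩
      (π.extendScalarsOfSurjective Ideal.Quotient.mk_surjective) hπs ?_
      (s.extendScalarsOfSurjective Ideal.Quotient.mk_surjective)
      (AlgHom.ext fun z => DFunLike.congr_fun hsπ z)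
    · rw [← Ideal.map_pow]; exact Ideal.map_quotient_self J
    · rw [Ideal.map_map]
      exact hπker
  intro h hh
  refine Ideal.Quotient.eq_zero_iff_mem.1 (hinj ?_)
  show Ideal.Quotient.mk _ (Φ h) = π 0
  rw [RingHom.mem_ker.1 hh, map_zero, map_zero]

/-- An algebra which is smooth and unramified modulo `I` becomes etale near `V(I)`. -/
theorem exists_away_etale (I : Ideal A) (R : Type u) [CommRing R] [Algebra A R] [Algebra.Smooth A R]
    [Algebra.FormallyUnramified A (R ⧸ I.map (algebraMap A R))] :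
    ∃ g : R, 1 - g ∈ I.map (algebraMap A R) ∧ Algebra.Etale A (Localization.Away g) := by
  set IR := I.map (algebraMap A R)
  let M := Ω[R⁄A] ⧸ IR • (⊤ : Submodule R Ω[R⁄A])
  have hM : Subsingleton M := by
    let δ : Derivation A R M := (Submodule.mkQ _).compDer (D A R)
    have hδ : ∀ x ∈ IR, δ x = 0 := by
      intro x hx
      induction hx using Submodule.span_induction with
      | mem w hw => obtain ⟨a, -, rfl⟩ := hw; exact δ.map_algebraMap a
      | zero => exact map_zero δ
      | add a b _ _ ha hb => rw [map_add, ha, hb, add_zero]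
      | smul a b hb' hb =>
        rw [smul_eq_mul, Derivation.leibniz, hb, smul_zero, zero_add]
        obtain ⟨z, hz⟩ := Submodule.mkQ_surjective (IR • (⊤ : Submodule R Ω[R⁄A])) (δ a)
        rw [← hz, ← map_smul]
        exact (Submodule.Quotient.mk_eq_zero _).2 (Submodule.smul_mem_smul hb' Submodule.mem_top)
    let _ : Module A M := inferInstance
    let _ : Module (R ⧸ IR) M := Module.IsTorsionBySet.module (fun z a => by
      obtain ⟨z, rfl⟩ := Submodule.mkQ_surjective (IR • (⊤ : Submodule R Ω[R⁄A])) z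
      rw [← map_smul]
      exact (Submodule.Quotient.mk_eq_zero _).2 (Submodule.smul_mem_smul a.2 Submodule.mem_top))
    have hsm : ∀ (r : R) (z : M), Ideal.Quotient.mk IR r • z = r • z := fun _ _ => rfl
    let δbar : (R ⧸ IR) →ₗ[A] M := Submodule.liftQ (IR.restrictScalars A) δ.toLinearMap hδ
    let δ' : Derivation A (R ⧸ IR) M := Derivation.mk' δbar fun x y => by
      obtain ⟨x, rfl⟩ := Ideal.Quotient.mk_surjective x
      obtain ⟨y, rfl⟩ := Ideal.Quotient.mk_surjective y
      exact δ.leibniz x y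
    have hδ'0 : ∀ x, δ' x = 0 := fun x => by
      rw [← δ'.liftKaehlerDifferential_comp_D, Subsingleton.elim (D A (R ⧸ IR) x) 0, map_zero]
    refine ⟨fun a b => ?_⟩
    have h0 : ∀ z : M, z = 0 := fun z => by
      obtain ⟨ω, rfl⟩ := Submodule.mkQ_surjective (IR • (⊤ : Submodule R Ω[R⁄A])) z
      have : ω ∈ Submodule.span R (Set.range (D A R)) := by rw [span_range_derivation]; trivial
      induction this using Submodule.span_induction with
      | mem w hw => obtain ⟨x, rfl⟩ := hw; exact hδ'0 (Ideal.Quotient.mk IR x)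
      | zero => exact map_zero _
      | add a b _ _ ha hb => rw [map_add, ha, hb, add_zero]
      | smul a b _ hb => rw [map_smul, hb, smul_zero]
    rw [h0 a, h0 b]
  have hfg : (⊤ : Submodule R Ω[R⁄A]).FG := Module.Finite.fg_top
  obtain ⟨g, hg1, hg0⟩ := Submodule.exists_sub_one_mem_and_smul_eq_zero_of_fg_of_le_smul IR ⊤ hfg
    (fun ω _ => (Submodule.Quotient.mk_eq_zero _).1 (Subsingleton.elim (α := M) _ _))
  refine ⟨g, by simpa using neg_mem hg1, ?_⟩
  let Rg := Localization.Away g
  have : Algebra.Smooth A Rg := Algebra.Smooth.comp A R Rg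
  have hsub : Subsingleton Ω[Rg⁄A] := by
    have hu : IsUnit (algebraMap R Rg g) := IsLocalization.Away.algebraMap_isUnit g
    refine (tensorKaehlerEquivOfFormallyEtale A R Rg).symm.toEquiv.subsingleton_congr.2 ⟨fun a b => ?_⟩
    have h0 : ∀ z : Rg ⊗[R] Ω[R⁄A], z = 0 := fun z => by
      induction z using TensorProduct.induction_on with
      | zero => rfl
      | tmul t ω =>
        obtain ⟨t, rfl⟩ : ∃ t', t' * algebraMap R Rg g = t :=
          ⟨t * ↑hu.unit⁻¹, by rw [mul_assoc, IsUnit.val_inv_mul, mul_one]⟩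
        rw [mul_comm, ← Algebra.smul_def, TensorProduct.smul_tmul, hg0 ω trivial, TensorProduct.tmul_zero]
      | add x y hx hy => rw [hx, hy, add_zero]
    rw [h0 a, h0 b]
  have : Algebra.FormallyUnramified A Rg := ⟨hsub⟩
  exact Algebra.Etale.iff_formallyUnramified_and_smooth.2 ⟨inferInstance, inferInstance⟩

end Groth.Agent.Hens22

namespace Groth.Agent.Hens22

open Module in
/-- A surjection onto a flat algebra with kernel inside `I` and finitely generated kernel is
bijective. -/
theorem injective_of_flat {A H B : Type u} [CommRing A] [CommRing H] [CommRing B] [Algebra A H]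
    [Algebra A B] [Module.Flat A B] (I : Ideal A) (hjac : I.map (algebraMap A H) ≤ Ideal.jacobson ⊥)
    (Φ : H →ₐ[A] B) (hΦ : Function.Surjective Φ) (hfg : (RingHom.ker Φ).FG)
    (hle : RingHom.ker Φ ≤ I.map (algebraMap A H)) : Function.Injective Φ := by
  classical
  have hK : RingHom.ker Φ ≤ I.map (algebraMap A H) • RingHom.ker Φ := by
    intro x hx
    have hxI : x ∈ (I • ⊤ : Submodule A H) := by rw [Ideal.smul_top_eq_map]; exact hle hx
    obtain ⟨c, hc⟩ : ∃ c : I →₀ H, (c.sum fun i h => (i : A) • h) = x := by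
      clear hx
      induction hxI using Submodule.smul_induction_on' with
      | smul r hr h _ => exact ⟨Finsupp.single ⟨r, hr⟩ h, by simp [Finsupp.sum_single_index]⟩
      | add a _ b _ ha hb =>
        obtain ⟨c, rfl⟩ := ha
        obtain ⟨d, rfl⟩ := hb
        exact ⟨c + d, Finsupp.sum_add_index' (fun _ => smul_zero _) (fun _ _ _ => smul_add _ _ _)⟩
    have hrel : ∑ i : c.support, ((i : I) : A) • Φ (c i) = 0 := by
      rw [Finset.sum_coe_sort c.support fun i => (i : A) • Φ (c i), ← RingHom.mem_ker.1 hx, ← hc,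
        Finsupp.sum, map_sum]
      exact Finset.sum_congr rfl fun i _ => (map_smul Φ _ _).symm
    obtain ⟨k, a, y, hy, ha⟩ := Module.Flat.isTrivialRelation_of_sum_smul_eq_zero hrel
    choose z hz using fun l => hΦ (y l)
    have hx' : x = ∑ i : c.support, ((i : I) : A) • (c i - ∑ l, a i l • z l) := by
      simp only [smul_sub, Finset.sum_sub_distrib, Finset.smul_sum]
      rw [Finset.sum_comm (s := (Finset.univ : Finset c.support))]
      have : ∑ l, ∑ i : c.support, ((i : I) : A) • a i l • z l = 0 := Finset.sum_eq_zero fun l _ => by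
        simp only [← mul_smul, ← Finset.sum_smul, ha l, zero_smul]
      rw [this, sub_zero, Finset.sum_coe_sort c.support fun i => (i : A) • c i]
      exact hc.symm
    rw [hx']
    refine Submodule.sum_mem _ fun i _ => ?_
    rw [Algebra.smul_def ((i : I) : A), smul_eq_mul]
    refine Ideal.mul_mem_mul (Ideal.mem_map_of_mem (algebraMap A H) (i : I).2) ?_
    show Φ _ = 0
    rw [map_sub, map_sum, show Φ (c i) = _ from hy i]
    simp [map_smul, hz]
  have := Submodule.eq_bot_of_le_smul_of_le_jacobson_bot _ _ hfg hK hjac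
  rwa [← RingHom.injective_iff_ker_eq_bot] at this

/-- Henselizations transport along isomorphisms. -/
theorem isPairHenselization_of_algEquiv {R H B : Type u} [CommRing R] [CommRing H] [CommRing B]
    [Algebra R H] [Algebra R B] {J : Ideal R} (hH : Hens2.IsPairHenselization R J H) (e : H ≃ₐ[R] B) :
    Hens2.IsPairHenselization R J B := by
  have := hH.1
  have hmap : (J.map (algebraMap R H)).map e.toRingEquiv.toRingHom = J.map (algebraMap R B) := by
    rw [Ideal.map_map]
    congr 1
    exact RingHom.ext fun x => e.commutes x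
  refine ⟨hmap ▸ henselianRing_of_surjective (J.map (algebraMap R H)) e.toRingEquiv.toRingHom e.surjective,
    fun C _ L f hC hJ => ?_⟩
  obtain ⟨g, hg, hgu⟩ := hH.2 C L f hC hJ
  refine ⟨g.comp e.symm.toRingEquiv.toRingHom, RingHom.ext fun x => ?_, fun h hh => RingHom.ext fun b => ?_⟩
  · show g (e.symm (algebraMap R B x)) = f x
    rw [e.symm.commutes]
    exact RingHom.congr_fun hg x
  · have := RingHom.congr_fun (hgu (h.comp e.toRingEquiv.toRingHom) (RingHom.ext fun x => by
      show h (e (algebraMap R H x)) = f x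
      rw [e.commutes]
      exact RingHom.congr_fun hh x)) (e.symm b)
    simpa using this

variable {A : Type u} [CommRing A]

/-- The covering theorem in the smooth case. -/
theorem exists_smooth_cover (I : Ideal A) [HenselianRing A I] {R₀ B : Type u} [CommRing R₀]
    [CommRing B] [Algebra A R₀] [Algebra.FinitePresentation A R₀] [Algebra R₀ B] [Algebra A B]
    [IsScalarTower A R₀ B] (hB : Hens2.IsPairHenselization R₀ (I.map (algebraMap A R₀)) B)
    (hsm : ∀ r : ℕ, 1 ≤ r → Algebra.Smooth (A ⧸ I ^ r) (B ⧸ (I ^ r).map (algebraMap A B))) :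
    ∃ (R : Type u) (_ : CommRing R) (_ : Algebra A R) (H : Type u) (_ : CommRing H) (_ : Algebra R H)
      (_ : Algebra A H) (_ : IsScalarTower A R H),
      Algebra.Smooth A R ∧ Hens2.IsPairHenselization R (I.map (algebraMap A R)) H ∧
      ∃ Φ : H →ₐ[A] B, Function.Surjective Φ ∧ (RingHom.ker Φ).FG ∧
        ∀ n : ℕ, RingHom.ker Φ ≤ (I ^ n).map (algebraMap A H) := by
  have := formallySmooth_mod_of_truncations I hB (hsm 1 le_rfl)
  obtain ⟨R, _, _, R', _, _, _, _, hR, hR', hbij, φ, hφ, hker⟩ := exists_smooth_model I R₀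
  obtain ⟨H, _, _, _, _, hH, hΦ⟩ := exists_cover_of_model I hB hsm R R' hbij φ hφ hker
  exact ⟨R, inferInstance, inferInstance, H, inferInstance, inferInstance, inferInstance, inferInstance,
    hR, hH, hΦ⟩

/-- The covering theorem in the etale case. -/
theorem exists_etale_cover (I : Ideal A) [HenselianRing A I] {R₀ B : Type u} [CommRing R₀]
    [CommRing B] [Algebra A R₀] [Algebra.FinitePresentation A R₀] [Algebra R₀ B] [Algebra A B]
    [IsScalarTower A R₀ B] (hB : Hens2.IsPairHenselization R₀ (I.map (algebraMap A R₀)) B)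
    (het : ∀ r : ℕ, 1 ≤ r → Algebra.Etale (A ⧸ I ^ r) (B ⧸ (I ^ r).map (algebraMap A B))) :
    ∃ (R : Type u) (_ : CommRing R) (_ : Algebra A R) (H : Type u) (_ : CommRing H) (_ : Algebra R H)
      (_ : Algebra A H) (_ : IsScalarTower A R H),
      Algebra.Etale A R ∧ Hens2.IsPairHenselization R (I.map (algebraMap A R)) H ∧
      ∃ Φ : H →ₐ[A] B, Function.Surjective Φ ∧ (RingHom.ker Φ).FG ∧
        ∀ n : ℕ, RingHom.ker Φ ≤ (I ^ n).map (algebraMap A H) := by
  have hsm : ∀ r : ℕ, 1 ≤ r → Algebra.Smooth (A ⧸ I ^ r) (B ⧸ (I ^ r).map (algebraMap A B)) :=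
    fun r hr => by have := het r hr; infer_instance
  have hmod := etale_mod_of_truncations I hB (het 1 le_rfl)
  obtain ⟨R, _, _, R', _, _, _, _, hR, hR', hbij, φ, hφ, hker⟩ := exists_smooth_model I R₀
  obtain ⟨H, _, _, _, _, hH, Φ, hΦ, hΦfg, hΦker⟩ := exists_cover_of_model I hB hsm R R' hbij φ hφ hker
  -- `R ⧸ IR` is `R₀ ⧸ IR₀`
  have hIR' : (I.map (algebraMap A R₀)).map (algebraMap R₀ R') = I.map (algebraMap A R') := by
    rw [Ideal.map_map, ← IsScalarTower.algebraMap_eq]
  let f₁ : (R ⧸ I.map (algebraMap A R)) →ₐ[A] R' ⧸ I.map (algebraMap A R') :=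
    Ideal.quotientMapₐ _ φ (Ideal.map_le_iff_le_comap.1 (le_of_eq (by
      rw [show Ideal.map φ (I.map (algebraMap A R)) = (I.map (algebraMap A R)).map φ.toRingHom from rfl,
        Ideal.map_map, show φ.toRingHom.comp (algebraMap A R) = algebraMap A R' from φ.comp_algebraMap])))
  have hf₁ : Function.Bijective f₁ := by
    refine ⟨?_, fun z => ?_⟩
    · rw [injective_iff_map_eq_zero]
      intro z hz
      obtain ⟨x, rfl⟩ := Ideal.Quotient.mk_surjective z
      have h1 : φ x ∈ I.map (algebraMap A R') := Ideal.Quotient.eq_zero_iff_mem.1 hz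
      rw [← φ.comp_algebraMap, ← Ideal.map_map] at h1
      obtain ⟨y, hy, hyx⟩ := (Ideal.mem_map_iff_of_surjective _ hφ).1 h1
      refine Ideal.Quotient.eq_zero_iff_mem.2 ?_
      simpa using add_mem (hker (RingHom.mem_ker.2 (by rw [map_sub, sub_eq_zero]; exact hyx.symm) :
        x - y ∈ RingHom.ker φ)) hy
    · obtain ⟨x, rfl⟩ := Ideal.Quotient.mk_surjective z
      obtain ⟨x, rfl⟩ := hφ x
      exact ⟨Ideal.Quotient.mk _ x, rfl⟩
  let f₂ : (R₀ ⧸ I.map (algebraMap A R₀)) →ₐ[A] R' ⧸ I.map (algebraMap A R') :=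
    Ideal.quotientMapₐ _ (IsScalarTower.toAlgHom A R₀ R') (Ideal.map_le_iff_le_comap.1 (le_of_eq hIR'))
  have hf₂ : Function.Bijective f₂ := by
    have h := (Ideal.quotEquivOfEq hIR').bijective.comp hbij
    convert h using 1
    ext z
    obtain ⟨x, rfl⟩ := Ideal.Quotient.mk_surjective z
    rfl
  have : Algebra.FormallyUnramified A (A ⧸ I) :=
    Algebra.FormallyUnramified.of_surjective (Algebra.ofId A (A ⧸ I)) Ideal.Quotient.mk_surjective
  have : Algebra.FormallyUnramified A (R₀ ⧸ I.map (algebraMap A R₀)) :=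
    Algebra.FormallyUnramified.comp A (A ⧸ I) _
  have : Algebra.FormallyUnramified A (R ⧸ I.map (algebraMap A R)) :=
    Algebra.FormallyUnramified.of_equiv ((AlgEquiv.ofBijective f₂ hf₂).trans (AlgEquiv.ofBijective f₁ hf₁).symm)
  obtain ⟨g, hg, hget⟩ := exists_away_etale I R
  let Rg := Localization.Away g
  have hgb := quotientMap_away_bijective (I.map (algebraMap A R)) g hg (R' := Rg)
  have : Algebra.Etale R Rg := Algebra.Etale.of_isLocalizationAway g
  obtain ⟨ψ, -, -⟩ := existsUnique_algHom_of_bijective hH Rg hgb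
  let _ : Algebra Rg H := ψ.toRingHom.toAlgebra
  have : IsScalarTower R Rg H := IsScalarTower.of_algebraMap_eq fun x => (ψ.commutes x).symm
  have hH' := isPairHenselization_of_bijective hH Rg hgb
  rw [Ideal.map_map, ← IsScalarTower.algebraMap_eq] at hH'
  have : IsScalarTower A Rg H := IsScalarTower.of_algebraMap_eq fun a => by
    rw [IsScalarTower.algebraMap_apply A R H, IsScalarTower.algebraMap_apply A R Rg,
      ← IsScalarTower.algebraMap_apply R Rg H]
  exact ⟨Rg, inferInstance, inferInstance, H, inferInstance, inferInstance, inferInstance, inferInstance,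
    hget, hH', Φ, hΦ, hΦfg, hΦker⟩

/-- In the flat case the covering is an isomorphism. -/
theorem exists_isPairHenselization_of_flat (I : Ideal A) {R H B : Type u} [CommRing R] [CommRing H]
    [CommRing B] [Algebra A R] [Algebra R H] [Algebra A H] [IsScalarTower A R H] [Algebra A B]
    [Module.Flat A B] (hH : Hens2.IsPairHenselization R (I.map (algebraMap A R)) H) (Φ : H →ₐ[A] B)
    (hΦ : Function.Surjective Φ) (hfg : (RingHom.ker Φ).FG)
    (hle : RingHom.ker Φ ≤ I.map (algebraMap A H)) :
    ∃ (_ : Algebra R B) (_ : IsScalarTower A R B),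
      Hens2.IsPairHenselization R (I.map (algebraMap A R)) B := by
  have hHh : HenselianRing H (I.map (algebraMap A H)) := by
    have := hH.1; rwa [Ideal.map_map, ← IsScalarTower.algebraMap_eq] at this
  have hinj := injective_of_flat I hHh.jac Φ hΦ hfg hle
  let e : H ≃ₐ[A] B := AlgEquiv.ofBijective Φ ⟨hinj, hΦ⟩
  let _ : Algebra R B := (e.toRingEquiv.toRingHom.comp (algebraMap R H)).toAlgebra
  have : IsScalarTower A R B := IsScalarTower.of_algebraMap_eq fun a => by
    show algebraMap A B a = e (algebraMap R H (algebraMap A R a))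
    rw [← IsScalarTower.algebraMap_apply, e.commutes]
  exact ⟨inferInstance, inferInstance,
    isPairHenselization_of_algEquiv hH (AlgEquiv.ofRingEquiv (f := e.toRingEquiv) fun _ => rfl)⟩

end Groth.Agent.Hens22
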