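import Groth.Agent.Hens22.SmoothCut
import Groth.Agent.Hens22.PairOps
import Groth.Agent.Hens22.AwayNbhd
import Groth.Agent.Hens22.FormallyLift
import Groth.Agent.Hensel20.Projective

/-!
An algebra which is smooth modulo `I` has, up to a trivial etale neighbourhood, a smooth model with
the same reduction.
-/

set_option autoImplicit false
universe u

open Matrix KaehlerDifferential TensorProduct

noncomputable section

namespace Groth.Agent.Hens22

variable {A P : Type u} [CommRing A] [CommRing P] [Algebra A P]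

/-- A trivial etale neighbourhood detects membership in the ideal. -/
theorem mem_map_iff_of_stage {𝔞 : Ideal P} {P₁ H : Type u} [CommRing P₁] [Algebra P P₁] [CommRing H]
    [Algebra P H]
    (h₁ : Function.Bijective
      (Ideal.quotientMap (𝔞.map (algebraMap P P₁)) (algebraMap P P₁) Ideal.le_comap_map))
    (h : Function.Bijective (Ideal.quotientMap (𝔞.map (algebraMap P H)) (algebraMap P H) Ideal.le_comap_map))
    (φ : P₁ →ₐ[P] H) {x : P₁} (hx : φ x ∈ 𝔞.map (algebraMap P H)) :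
    x ∈ 𝔞.map (algebraMap P P₁) := by
  obtain ⟨a, ha⟩ := h₁.2 (Ideal.Quotient.mk _ x)
  obtain ⟨a, rfl⟩ := Ideal.Quotient.mk_surjective a
  rw [Ideal.quotientMap_mk, Ideal.Quotient.eq] at ha
  have hle : (𝔞.map (algebraMap P P₁)).map φ.toRingHom = 𝔞.map (algebraMap P H) := by
    rw [Ideal.map_map, show φ.toRingHom.comp (algebraMap P P₁) = algebraMap P H from φ.comp_algebraMap]
  have h2 : φ (algebraMap P P₁ a - x) ∈ 𝔞.map (algebraMap P H) := hle ▸ Ideal.mem_map_of_mem _ ha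
  rw [map_sub, AlgHom.commutes] at h2
  have h3 : algebraMap P H a ∈ 𝔞.map (algebraMap P H) := by simpa using add_mem h2 hx
  have h4 : a ∈ 𝔞 := by
    refine Ideal.Quotient.eq_zero_iff_mem.1 (h.1 ?_)
    rw [Ideal.quotientMap_mk, map_zero]
    exact Ideal.Quotient.eq_zero_iff_mem.2 h3
  simpa using sub_mem (Ideal.mem_map_of_mem (algebraMap P P₁) h4) ha

/-- Quotients of etale algebras. -/
theorem etale_quotient (J : Ideal P) (Q : Type u) [CommRing Q] [Algebra P Q] [Algebra.Etale P Q] :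
    Algebra.Etale (P ⧸ J) (Q ⧸ J.map (algebraMap P Q)) :=
  Algebra.Etale.of_equiv (Algebra.TensorProduct.quotIdealMapEquivQuotTensor Q J).symm

/-- Idempotent matrices modulo an ideal lift to trivial etale neighbourhoods. -/
theorem exists_idempotent_stage (𝔞 : Ideal P) {m : ℕ} (M : Matrix (Fin m) (Fin m) P)
    (hM : ∀ j k, (M * M) j k - M j k ∈ 𝔞) :
    ∃ (P₂ : Type u) (_ : CommRing P₂) (_ : Algebra P P₂) (_ : Algebra.Etale P P₂),
      Function.Bijective
        (Ideal.quotientMap (𝔞.map (algebraMap P P₂)) (algebraMap P P₂) Ideal.le_comap_map) ∧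
      ∃ E : Matrix (Fin m) (Fin m) P₂, IsIdempotentElem E ∧
        ∀ j k, E j k - algebraMap P P₂ (M j k) ∈ 𝔞.map (algebraMap P P₂) := by
  classical
  let Ph := Henz21.H P (P ⧸ 𝔞)
  have hPh : Hens2.IsPairHenselization P 𝔞 Ph := isPairHenselization_H 𝔞
  have : HenselianRing Ph (𝔞.map (algebraMap P Ph)) := hPh.1
  let M₀ := M.map ((Ideal.Quotient.mk (𝔞.map (algebraMap P Ph))).comp (algebraMap P Ph))
  have hM₀ : IsIdempotentElem M₀ := by
    show M₀ * M₀ = M₀
    rw [← Matrix.map_mul]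
    ext j k
    exact Ideal.Quotient.eq.2 (by rw [← map_sub]; exact Ideal.mem_map_of_mem _ (hM j k))
  obtain ⟨E, hE, hEM⟩ := Hensel20.exists_idempotent_matrix_lift (I := 𝔞.map (algebraMap P Ph)) M₀ hM₀
  obtain ⟨P₁, _, _, _, hP₁, φ₁, s, hs⟩ :=
    exists_stage hPh (fun l => E (finProdFinEquiv.symm l).1 (finProdFinEquiv.symm l).2)
  let E₁ : Matrix (Fin m) (Fin m) P₁ := Matrix.of fun j k => s (finProdFinEquiv (j, k))
  have hφE : ∀ j k, φ₁ (E₁ j k) = E j k := fun j k => by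
    show φ₁ (s _) = _
    rw [hs]; simp
  have hE₁cong : ∀ j k, E₁ j k - algebraMap P P₁ (M j k) ∈ 𝔞.map (algebraMap P P₁) := fun j k => by
    refine mem_map_iff_of_stage hP₁ (quotientMap_bijective hPh) φ₁ ?_
    rw [map_sub, AlgHom.commutes, hφE, ← Ideal.Quotient.eq]
    exact congrFun (congrFun hEM j) k
  obtain ⟨P₂, _, _, _, hP₂, ψ, φ₂, -, hψ⟩ := exists_stage_zero hPh P₁ hP₁ φ₁
    (fun l => (E₁ * E₁ - E₁) (finProdFinEquiv.symm l).1 (finProdFinEquiv.symm l).2) (fun l => by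
      simp only [Matrix.sub_apply, Matrix.mul_apply, map_sub, map_sum, map_mul, hφE]
      rw [← Matrix.mul_apply, hE.eq, sub_self])
  refine ⟨P₂, inferInstance, inferInstance, inferInstance, hP₂, E₁.map ψ, ?_, fun j k => ?_⟩
  · show E₁.map ψ * E₁.map ψ = E₁.map ψ
    rw [← Matrix.map_mul]
    ext j k
    have := hψ (finProdFinEquiv (j, k))
    rw [Equiv.symm_apply_apply, Matrix.sub_apply, map_sub, sub_eq_zero] at this
    exact this
  · have h1 := Ideal.mem_map_of_mem ψ.toRingHom (hE₁cong j k)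
    rw [Ideal.map_map, show ψ.toRingHom.comp (algebraMap P P₁) = algebraMap P P₂ from
      ψ.comp_algebraMap] at h1
    show ψ (E₁ j k) - algebraMap P P₂ (M j k) ∈ _
    rw [← ψ.commutes, ← map_sub]
    exact h1

/-- Nakayama for the ideals `(E f) + T ⊆ (f) + T`. -/
theorem exists_mul_mem {P₂ : Type u} [CommRing P₂] (T : Ideal P₂) {m : ℕ} (f : Fin m → P₂)
    (H E : Matrix (Fin m) (Fin m) P₂)
    (hfix : ∀ j, f j - (H *ᵥ f) j ∈ (Ideal.span (Set.range f) ⊔ T) ^ 2 ⊔ T)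
    (hcong : ∀ j k, E j k - H j k ∈ Ideal.span (Set.range f) ⊔ T) :
    ∃ g : P₂, g - 1 ∈ Ideal.span (Set.range f) ⊔ T ∧
      ∀ x ∈ Ideal.span (Set.range f), g * x ∈ Ideal.span (Set.range (E *ᵥ f)) ⊔ T := by
  classical
  have hvJ : Ideal.span (Set.range (E *ᵥ f)) ≤ Ideal.span (Set.range f) := Ideal.span_le.2 (by
    rintro _ ⟨j, rfl⟩
    show ∑ k, E j k * f k ∈ _
    exact Ideal.sum_mem _ fun k _ => Ideal.mul_mem_left _ _ (Ideal.subset_span ⟨k, rfl⟩))
  set J := Ideal.span (Set.range f)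
  set K := Ideal.span (Set.range (E *ᵥ f))
  have hdiff : ∀ j, f j - (E *ᵥ f) j ∈ J * J ⊔ T := fun j => by
    have h2 : (J ⊔ T) ^ 2 ⊔ T ≤ J * J ⊔ T := by
      refine sup_le ?_ le_sup_right
      rw [pow_two]
      refine Ideal.mul_le.2 fun x hx y hy => ?_
      obtain ⟨x₁, hx₁, x₂, hx₂, rfl⟩ := Submodule.mem_sup.1 hx
      obtain ⟨y₁, hy₁, y₂, hy₂, rfl⟩ := Submodule.mem_sup.1 hy
      rw [show (x₁ + x₂) * (y₁ + y₂) = x₁ * y₁ + (x₁ * y₂ + x₂ * (y₁ + y₂)) by ring]
      exact add_mem (Ideal.mem_sup_left (Ideal.mul_mem_mul hx₁ hy₁))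
        (Ideal.mem_sup_right (add_mem (T.mul_mem_left _ hy₂) (T.mul_mem_right _ hx₂)))
    have h3 : ∑ k, (H j k - E j k) * f k ∈ J * J ⊔ T :=
      Ideal.sum_mem _ fun k _ => by
        have hk : f k ∈ J := Ideal.subset_span (Set.mem_range_self k)
        have h4 : H j k - E j k ∈ J ⊔ T := by simpa using neg_mem (hcong j k)
        obtain ⟨a, ha, b, hb, hab⟩ := Submodule.mem_sup.1 h4
        rw [← hab, add_mul]
        exact add_mem (Ideal.mem_sup_left (Ideal.mul_mem_mul ha hk))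
          (Ideal.mem_sup_right (Ideal.mul_mem_right _ _ hb))
    convert add_mem (h2 (hfix j)) h3 using 1
    simp only [Matrix.mulVec, dotProduct, sub_mul, Finset.sum_sub_distrib]
    ring
  let mkN := Ideal.Quotient.mk (K ⊔ T)
  let Jb : Ideal (P₂ ⧸ (K ⊔ T)) := J.map mkN
  have hJbfg : Jb.FG := Ideal.FG.map (Submodule.fg_span (Set.finite_range f)) mkN
  have hJb : Jb ≤ Jb * Jb := by
    refine Ideal.map_le_iff_le_comap.2 (Ideal.span_le.2 ?_)
    rintro _ ⟨j, rfl⟩
    show mkN (f j) ∈ Jb * Jb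
    rw [← sub_add_cancel (f j) ((E *ᵥ f) j), map_add,
      show mkN ((E *ᵥ f) j) = 0 from Ideal.Quotient.eq_zero_iff_mem.2
        (Ideal.mem_sup_left (Ideal.subset_span (Set.mem_range_self j))),
      add_zero]
    obtain ⟨a, ha, b, hb, hab⟩ := Submodule.mem_sup.1 (hdiff j)
    rw [← hab, map_add,
      show mkN b = 0 from Ideal.Quotient.eq_zero_iff_mem.2 (Ideal.mem_sup_right hb), add_zero,
      ← Ideal.map_mul]
    exact Ideal.mem_map_of_mem _ ha
  obtain ⟨r, hr1, hr0⟩ :=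
    Submodule.exists_sub_one_mem_and_smul_eq_zero_of_fg_of_le_smul Jb Jb hJbfg hJb
  obtain ⟨g, rfl⟩ := Ideal.Quotient.mk_surjective r
  refine ⟨g, ?_, fun x hx =>
    Ideal.Quotient.eq_zero_iff_mem.1 (by rw [map_mul]; exact hr0 _ (Ideal.mem_map_of_mem _ hx))⟩
  have : mkN (g - 1) ∈ Jb := by rwa [map_sub, map_one]
  obtain ⟨y, hy, hyx⟩ := (Ideal.mem_map_iff_of_surjective _ Ideal.Quotient.mk_surjective).1 this
  rw [Ideal.Quotient.eq] at hyx
  have h1 : y - (g - 1) ∈ J ⊔ T := sup_le_sup_right hvJ _ hyx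
  simpa using sub_mem (Ideal.mem_sup_left hy : y ∈ J ⊔ T) h1

/-- Smoothness of the cut near the closed subset. -/
theorem exists_smooth_away {Q₀ P₂ : Type u} [CommRing Q₀] [Algebra A Q₀] [Algebra.Smooth A Q₀]
    [CommRing P₂] [Algebra Q₀ P₂] [Algebra A P₂] [IsScalarTower A Q₀ P₂] [Algebra.Etale Q₀ P₂]
    {m : ℕ} (f : Fin m → Q₀) (ρ : Ω[Q₀⁄A] →ₗ[Q₀] (Fin m → Q₀)) (𝔞 : Ideal P₂)
    (hf : ∀ k, algebraMap Q₀ P₂ (f k) ∈ 𝔞) (E : Matrix (Fin m) (Fin m) P₂) (hE : IsIdempotentElem E)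
    (hEc : ∀ j k, E j k - algebraMap Q₀ P₂ (dMat ρ f j k) ∈ 𝔞) :
    ∃ g : P₂, 1 - g ∈ 𝔞 ∧ ∀ h : P₂, Algebra.Smooth A (Localization.Away
      (Ideal.Quotient.mk (Ideal.span (Set.range (E *ᵥ (algebraMap Q₀ P₂ ∘ f)))) (g * h))) := by
  classical
  have hvJ : Ideal.span (Set.range (E *ᵥ (algebraMap Q₀ P₂ ∘ f))) ≤ 𝔞 := Ideal.span_le.2 (by
    rintro _ ⟨j, rfl⟩
    show ∑ k, E j k * algebraMap Q₀ P₂ (f k) ∈ 𝔞
    exact Ideal.sum_mem _ fun k _ => Ideal.mul_mem_left _ _ (hf k))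
  set K := Ideal.span (Set.range (E *ᵥ (algebraMap Q₀ P₂ ∘ f))) with hK
  let mk₁ := Ideal.Quotient.mk K
  have : Algebra.FinitePresentation A P₂ := Algebra.FinitePresentation.trans A Q₀ P₂
  have : Algebra.FinitePresentation A (P₂ ⧸ K) :=
    Algebra.FinitePresentation.quotient (Submodule.fg_span (Set.finite_range _))
  have hsm : ∀ P' : Ideal (P₂ ⧸ K), P'.IsMaximal → 𝔞.map mk₁ ≤ P' →
      ∃ h ∈ {h : P₂ ⧸ K | Algebra.Smooth A (Localization.Away h)}, h ∉ P' := by
    intro P' hP' hle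
    let q := P'.comap mk₁
    have : q.IsPrime := Ideal.IsPrime.comap mk₁
    have hq : 𝔞 ≤ q := Ideal.map_le_iff_le_comap.1 hle
    let Q := Localization.AtPrime q
    have : Algebra.FormallyEtale P₂ Q := Algebra.FormallyEtale.of_isLocalization q.primeCompl
    have : Algebra.FormallyEtale Q₀ Q := Algebra.FormallyEtale.comp Q₀ P₂ Q
    have : IsScalarTower A Q₀ Q := IsScalarTower.of_algebraMap_eq fun a => by
      rw [IsScalarTower.algebraMap_apply A P₂ Q, IsScalarTower.algebraMap_apply A Q₀ P₂,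
        ← IsScalarTower.algebraMap_apply Q₀ P₂ Q]
    have : Algebra.FormallySmooth A Q := Algebra.FormallySmooth.comp A Q₀ Q
    have hb : 𝔞.map (algebraMap P₂ Q) ≤ Ideal.jacobson ⊥ := by
      refine le_trans ?_ (IsLocalRing.maximalIdeal_le_jacobson ⊥)
      rw [← Localization.AtPrime.map_eq_maximalIdeal]
      exact Ideal.map_mono hq
    have hcut := formallySmooth_cut (Q := Q) f ρ (𝔞.map (algebraMap P₂ Q)) hb
      (fun k => by
        rw [IsScalarTower.algebraMap_apply Q₀ P₂ Q]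
        exact Ideal.mem_map_of_mem _ (hf k))
      (E.map (algebraMap P₂ Q)) (by
        show _ * _ = _
        rw [← Matrix.map_mul, hE.eq]) (by
        ext j k
        simp only [Matrix.map_apply]
        rw [IsScalarTower.algebraMap_apply Q₀ P₂ Q, Ideal.Quotient.eq, ← map_sub]
        exact Ideal.mem_map_of_mem _ (hEc j k))
    have hspan : Ideal.span (Set.range (E.map (algebraMap P₂ Q) *ᵥ (algebraMap Q₀ Q ∘ f))) =
        K.map (algebraMap P₂ Q) := by
      rw [hK, Ideal.map_span, ← Set.range_comp]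
      congr 2
      ext j
      rw [Function.comp_apply, RingHom.map_mulVec]
      rfl
    rw [hspan] at hcut
    have hsub : Algebra.algebraMapSubmonoid (P₂ ⧸ K) q.primeCompl = P'.primeCompl := by
      ext x
      obtain ⟨y, rfl⟩ := Ideal.Quotient.mk_surjective x
      refine ⟨fun ⟨z, hz, hzy⟩ => ?_, fun hy => ⟨y, hy, rfl⟩⟩
      show mk₁ y ∉ P'
      rw [← show mk₁ z = mk₁ y from hzy]
      exact hz
    have : IsLocalization.AtPrime (Q ⧸ K.map (algebraMap P₂ Q)) P' := by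
      show IsLocalization P'.primeCompl _
      rw [← hsub]
      infer_instance
    have : IsScalarTower A (P₂ ⧸ K) (Q ⧸ K.map (algebraMap P₂ Q)) :=
      IsScalarTower.of_algebraMap_eq fun _ => rfl
    have : Algebra.IsSmoothAt A P' := (Algebra.FormallySmooth.iff_of_equiv
      ((IsLocalization.algEquiv P'.primeCompl (Q ⧸ K.map (algebraMap P₂ Q))
        (Localization.AtPrime P')).restrictScalars A)).1 hcut
    obtain ⟨h, hh, hh'⟩ := Algebra.IsSmoothAt.exists_notMem_smooth A P'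
    exact ⟨h, hh', hh⟩
  obtain ⟨g₂, hg₂, hcov⟩ := exists_away_of_cover (𝔞.map mk₁) _ hsm
  obtain ⟨g₂, rfl⟩ := Ideal.Quotient.mk_surjective g₂
  refine ⟨g₂, ?_, fun h => ?_⟩
  · rw [← map_one mk₁, ← map_sub] at hg₂
    obtain ⟨y, hy, hyx⟩ := (Ideal.mem_map_iff_of_surjective _ Ideal.Quotient.mk_surjective).1 hg₂
    rw [Ideal.Quotient.eq] at hyx
    simpa using sub_mem hy (hvJ hyx)
  · refine Algebra.basicOpen_subset_smoothLocus_iff_smooth.1 fun x hx => ?_
    have hx₂ : mk₁ g₂ ∉ x.asIdeal := fun hmem => hx (by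
      show mk₁ (g₂ * h) ∈ x.asIdeal
      rw [map_mul]; exact Ideal.mul_mem_right _ _ hmem)
    obtain ⟨h', hh', hhx⟩ := hcov x.asIdeal x.isPrime hx₂
    exact Algebra.basicOpen_subset_smoothLocus_iff_smooth.2 hh' hhx

set_option maxHeartbeats 800000 in
/-- A smooth model for an algebra which is smooth modulo `I`. -/
theorem exists_smooth_model (I : Ideal A) (R₀ : Type u) [CommRing R₀] [Algebra A R₀]
    [Algebra.FinitePresentation A R₀]
    [Algebra.FormallySmooth (A ⧸ I) (R₀ ⧸ I.map (algebraMap A R₀))] :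
    ∃ (R : Type u) (_ : CommRing R) (_ : Algebra A R) (R' : Type u) (_ : CommRing R') (_ : Algebra A R')
      (_ : Algebra R₀ R') (_ : IsScalarTower A R₀ R'),
      Algebra.Smooth A R ∧ Algebra.Etale R₀ R' ∧
      Function.Bijective (Ideal.quotientMap ((I.map (algebraMap A R₀)).map (algebraMap R₀ R'))
        (algebraMap R₀ R') Ideal.le_comap_map) ∧
      ∃ φ : R →ₐ[A] R', Function.Surjective φ ∧ RingHom.ker φ ≤ I.map (algebraMap A R) := by
  classical
  obtain ⟨n, p, hp, G, hG⟩ := Algebra.FinitePresentation.out (R := A) (A := R₀)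
  let Pol := MvPolynomial (Fin n) A
  let f : Fin G.card → Pol := fun i => (G.equivFin.symm i : Pol)
  have hfs : Set.range f = (G : Set Pol) := by
    ext x
    exact ⟨fun ⟨i, hi⟩ => hi ▸ (G.equivFin.symm i).2, fun hx => ⟨G.equivFin ⟨x, hx⟩, by simp [f]⟩⟩
  have hpf : RingHom.ker p = Ideal.span (Set.range f) := by rw [hfs]; exact hG.symm
  let IP := I.map (algebraMap A Pol)
  let 𝔞 : Ideal Pol := Ideal.span (Set.range f) ⊔ IP
  have hpIP : IP.map p.toRingHom = I.map (algebraMap A R₀) := by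
    rw [Ideal.map_map, show p.toRingHom.comp (algebraMap A Pol) = algebraMap A R₀ from p.comp_algebraMap]
  have hcomap : (I.map (algebraMap A R₀)).comap p.toRingHom = 𝔞 := by
    rw [← hpIP, Ideal.comap_map_of_surjective p.toRingHom hp, ← RingHom.ker_eq_comap_bot]
    show IP ⊔ RingHom.ker p = _
    rw [hpf, sup_comm]
  let L : Ideal Pol := 𝔞 ^ 2 ⊔ IP
  have hL𝔞 : L ≤ 𝔞 := sup_le (Ideal.pow_le_self two_ne_zero) le_sup_right
  let pf : (Pol ⧸ L) →ₐ[A] (Pol ⧸ 𝔞) := Ideal.Quotient.factorₐ A hL𝔞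
  let u : R₀ →ₐ[A] Pol ⧸ 𝔞 := AlgHom.liftOfSurjective p hp (Ideal.Quotient.mkₐ A 𝔞) (fun x hx => by
    show Ideal.Quotient.mk 𝔞 x = 0
    exact Ideal.Quotient.eq_zero_iff_mem.2 (Ideal.mem_sup_left (hpf ▸ hx)))
  have hu : ∀ x, u (p x) = Ideal.Quotient.mk 𝔞 x := fun x =>
    AlgHom.liftOfSurjective_apply p hp _ _ x
  obtain ⟨v, hv⟩ := exists_lift_of_formallySmooth I (B := R₀) (E := Pol ⧸ L) (C := Pol ⧸ 𝔞)
    (le_bot_iff.1 (Ideal.map_le_iff_le_comap.2 fun a ha => by
      show Ideal.Quotient.mk L (algebraMap A Pol a) = 0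
      exact Ideal.Quotient.eq_zero_iff_mem.2
        (Ideal.mem_sup_right (Ideal.mem_map_of_mem (algebraMap A Pol) ha))))
    (le_bot_iff.1 (Ideal.map_le_iff_le_comap.2 fun a ha => by
      show Ideal.Quotient.mk 𝔞 (algebraMap A Pol a) = 0
      exact Ideal.Quotient.eq_zero_iff_mem.2
        (Ideal.mem_sup_right (Ideal.mem_map_of_mem (algebraMap A Pol) ha))))
    pf (Ideal.Quotient.factor_surjective hL𝔞) (by
      refine ⟨2, le_bot_iff.1 ?_⟩
      rw [show RingHom.ker pf = 𝔞.map (Ideal.Quotient.mk L) from Ideal.Quotient.factor_ker hL𝔞,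
        ← Ideal.map_pow, le_bot_iff, Ideal.map_eq_bot_iff_le_ker, Ideal.mk_ker]
      exact le_sup_left) u
  obtain ⟨ρ, hfix, hidem⟩ := exists_dMat_idempotent I p f hpf 𝔞 L rfl rfl v fun x y hy => by
    have h1 := DFunLike.congr_fun hv (p x)
    rw [AlgHom.comp_apply, ← hy, hu] at h1
    exact Ideal.Quotient.eq.1 h1.symm
  let H₀ := dMat ρ f
  obtain ⟨P₂, _, _, _, hP₂, E₂, hE₂, hE₂cong⟩ := exists_idempotent_stage 𝔞 H₀ hidem
  let 𝔞₂ := 𝔞.map (algebraMap Pol P₂)
  let _ : Algebra A P₂ := ((algebraMap Pol P₂).comp (algebraMap A Pol)).toAlgebra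
  have : IsScalarTower A Pol P₂ := IsScalarTower.of_algebraMap_eq fun _ => rfl
  let f₂ : Fin G.card → P₂ := algebraMap Pol P₂ ∘ f
  let v₂ := E₂ *ᵥ f₂
  let K := Ideal.span (Set.range v₂)
  let J₂ := Ideal.span (Set.range f₂)
  let IP₂ := I.map (algebraMap A P₂)
  have hJmap : (Ideal.span (Set.range f)).map (algebraMap Pol P₂) = J₂ := by
    rw [Ideal.map_span, ← Set.range_comp]
  have hIPmap : IP.map (algebraMap Pol P₂) = IP₂ := Ideal.map_map _ _
  have h𝔞₂ : 𝔞₂ = J₂ ⊔ IP₂ := by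
    show 𝔞.map _ = _
    rw [Ideal.map_sup, hJmap, hIPmap]
  have hvJ : K ≤ J₂ := Ideal.span_le.2 (by
    rintro _ ⟨j, rfl⟩
    show ∑ k, E₂ j k * f₂ k ∈ J₂
    exact Ideal.sum_mem _ fun k _ => Ideal.mul_mem_left _ _ (Ideal.subset_span ⟨k, rfl⟩))
  obtain ⟨g₁, hg₁, hg₁J⟩ := exists_mul_mem IP₂ f₂ (H₀.map (algebraMap Pol P₂)) E₂ (fun j => by
      have h1 := Ideal.mem_map_of_mem (algebraMap Pol P₂) (hfix j)
      rw [Ideal.map_sup, Ideal.map_pow, hIPmap, map_sub, RingHom.map_mulVec,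
        show 𝔞.map (algebraMap Pol P₂) = _ from h𝔞₂] at h1
      exact h1)
    (fun j k => by
      have h1 : E₂ j k - algebraMap Pol P₂ (H₀ j k) ∈ 𝔞₂ := hE₂cong j k
      rw [h𝔞₂] at h1
      exact h1)
  replace hg₁ : g₁ - 1 ∈ 𝔞₂ := by rw [h𝔞₂]; exact hg₁
  have : Algebra.Smooth A Pol := ⟨inferInstance, inferInstance⟩
  obtain ⟨g₂, hg₂', hsmooth⟩ := exists_smooth_away f ρ 𝔞₂
    (fun k => by rw [h𝔞₂]; exact Ideal.mem_sup_left (Ideal.subset_span (Set.mem_range_self k)))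
    E₂ hE₂ hE₂cong
  let g := g₁ * g₂
  have hg : 1 - g ∈ 𝔞₂ := by
    have : 1 - g = (1 - g₂) - (g₁ - 1) * g₂ := by simp only [g]; ring
    rw [this]
    exact sub_mem hg₂' (Ideal.mul_mem_right _ _ hg₁)
  let Pg := Localization.Away g
  have : Algebra.Etale P₂ Pg := Algebra.Etale.of_isLocalizationAway g
  have : Algebra.Etale Pol Pg := Algebra.Etale.comp Pol P₂ Pg
  have : IsScalarTower A Pol Pg := IsScalarTower.of_algebraMap_eq fun a => by
    rw [IsScalarTower.algebraMap_apply A P₂ Pg, IsScalarTower.algebraMap_apply A Pol P₂,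
      ← IsScalarTower.algebraMap_apply Pol P₂ Pg]
  have hPg : Function.Bijective
      (Ideal.quotientMap (𝔞.map (algebraMap Pol Pg)) (algebraMap Pol Pg) Ideal.le_comap_map) := by
    have h1 := quotientMap_away_bijective 𝔞₂ g hg (R' := Pg)
    have h2 := h1.comp hP₂
    have heq : 𝔞.map (algebraMap Pol Pg) = 𝔞₂.map (algebraMap P₂ Pg) := by
      rw [Ideal.map_map, ← IsScalarTower.algebraMap_eq]
    have h3 := (Ideal.quotEquivOfEq heq.symm).bijective.comp h2
    convert h3 using 1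
    ext x
    obtain ⟨x, rfl⟩ := Ideal.Quotient.mk_surjective x
    show Ideal.Quotient.mk _ (algebraMap Pol Pg x) = Ideal.Quotient.mk _ (algebraMap P₂ Pg (algebraMap Pol P₂ x))
    rw [← IsScalarTower.algebraMap_apply]
  have hu₁ : IsUnit (algebraMap P₂ Pg g₁) :=
    isUnit_of_mul_isUnit_left (by
      rw [← map_mul]; exact IsLocalization.Away.algebraMap_isUnit g : IsUnit (algebraMap P₂ Pg g₁ * algebraMap P₂ Pg g₂))
  -- the smooth model
  let R₁ := P₂ ⧸ K
  let mk₁ := Ideal.Quotient.mk K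
  let Kg := K.map (algebraMap P₂ Pg)
  let R := Pg ⧸ Kg
  have : IsLocalization.Away (mk₁ g) R := by
    show IsLocalization (Submonoid.powers (algebraMap P₂ R₁ g)) R
    rw [← Algebra.algebraMapSubmonoid_powers]
    infer_instance
  have : IsScalarTower A R₁ R := IsScalarTower.of_algebraMap_eq fun a => rfl
  have hR : Algebra.Smooth A R := by
    have h1 : Algebra.Smooth A (Localization.Away (mk₁ g)) := by
      have h2 := hsmooth g₁
      rw [mul_comm g₂ g₁] at h2
      exact h2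
    exact Algebra.Smooth.of_equiv
      ((IsLocalization.algEquiv (Submonoid.powers (mk₁ g)) (Localization.Away (mk₁ g)) R).restrictScalars A)
  -- the etale neighbourhood of `R₀`
  let J := Ideal.span (Set.range f)
  let Jg := J.map (algebraMap Pol Pg)
  let R' := Pg ⧸ Jg
  let e : (Pol ⧸ J) ≃ₐ[A] R₀ := (Ideal.quotientEquivAlgOfEq A hpf.symm).trans
    (Ideal.quotientKerAlgEquivOfSurjective hp)
  have he : ∀ x, e (Ideal.Quotient.mk J x) = p x := fun x => rfl
  let _ : Algebra R₀ (Pol ⧸ J) := e.symm.toRingEquiv.toRingHom.toAlgebra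
  have : Algebra.Etale R₀ (Pol ⧸ J) :=
    Algebra.Etale.of_equiv (AlgEquiv.ofRingEquiv (f := e.symm.toRingEquiv) fun _ => rfl)
  have : Algebra.Etale (Pol ⧸ J) R' := etale_quotient J Pg
  let _ : Algebra R₀ R' := ((algebraMap (Pol ⧸ J) R').comp (algebraMap R₀ (Pol ⧸ J))).toAlgebra
  have : IsScalarTower R₀ (Pol ⧸ J) R' := IsScalarTower.of_algebraMap_eq fun _ => rfl
  have hR' : Algebra.Etale R₀ R' := Algebra.Etale.comp R₀ (Pol ⧸ J) R'
  have halg : ∀ x : Pol, algebraMap R₀ R' (p x) = Ideal.Quotient.mk Jg (algebraMap Pol Pg x) := fun x => by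
    show algebraMap (Pol ⧸ J) R' (e.symm (p x)) = _
    rw [← he, AlgEquiv.symm_apply_apply]
    rfl
  have : IsScalarTower A R₀ R' := IsScalarTower.of_algebraMap_eq fun a => by
    rw [← p.commutes, halg, ← IsScalarTower.algebraMap_apply]
    rfl
  have hIR' : (I.map (algebraMap A R₀)).map (algebraMap R₀ R') =
      (𝔞.map (algebraMap Pol Pg)).map (Ideal.Quotient.mk Jg) := by
    rw [Ideal.map_sup, Ideal.map_sup, Ideal.map_quotient_self, bot_sup_eq, Ideal.map_map,
      Ideal.map_map, Ideal.map_map, ← IsScalarTower.algebraMap_eq]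
    congr 1
  have hJg𝔞 : Jg ≤ 𝔞.map (algebraMap Pol Pg) := Ideal.map_mono le_sup_left
  have hbij : Function.Bijective (Ideal.quotientMap ((I.map (algebraMap A R₀)).map (algebraMap R₀ R'))
      (algebraMap R₀ R') Ideal.le_comap_map) := by
    refine ⟨?_, fun z => ?_⟩
    · rw [injective_iff_map_eq_zero]
      intro x hx
      obtain ⟨x, rfl⟩ := Ideal.Quotient.mk_surjective x
      obtain ⟨x, rfl⟩ := hp x
      rw [Ideal.quotientMap_mk, Ideal.Quotient.eq_zero_iff_mem, halg, hIR',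
        Ideal.mem_quotient_iff_mem hJg𝔞] at hx
      have : x ∈ 𝔞 := by
        refine Ideal.Quotient.eq_zero_iff_mem.1 (hPg.1 ?_)
        rw [Ideal.quotientMap_mk, map_zero]
        exact Ideal.Quotient.eq_zero_iff_mem.2 hx
      rw [Ideal.Quotient.eq_zero_iff_mem]
      rw [← hcomap] at this
      exact this
    · obtain ⟨z, rfl⟩ := Ideal.Quotient.mk_surjective z
      obtain ⟨z, rfl⟩ := Ideal.Quotient.mk_surjective z
      obtain ⟨y, hy⟩ := hPg.2 (Ideal.Quotient.mk _ z)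
      obtain ⟨y, rfl⟩ := Ideal.Quotient.mk_surjective y
      rw [Ideal.quotientMap_mk, Ideal.Quotient.eq] at hy
      refine ⟨Ideal.Quotient.mk _ (p y), ?_⟩
      rw [Ideal.quotientMap_mk, Ideal.Quotient.eq, halg, ← map_sub, hIR']
      exact Ideal.mem_map_of_mem _ hy
  -- the comparison
  have hKJ : Kg ≤ Jg := (Ideal.map_mono hvJ).trans_eq (by
    rw [← hJmap, Ideal.map_map, ← IsScalarTower.algebraMap_eq])
  refine ⟨R, inferInstance, inferInstance, R', inferInstance, inferInstance, inferInstance, inferInstance,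
    hR, hR', hbij, Ideal.Quotient.factorₐ A hKJ, Ideal.Quotient.factor_surjective hKJ, ?_⟩
  rw [show RingHom.ker (Ideal.Quotient.factorₐ A hKJ) = Jg.map (Ideal.Quotient.mk Kg) from
    Ideal.Quotient.factor_ker hKJ, Ideal.map_le_iff_le_comap]
  rw [show Jg = J₂.map (algebraMap P₂ Pg) by rw [← hJmap, Ideal.map_map, ← IsScalarTower.algebraMap_eq],
    Ideal.map_le_iff_le_comap]
  intro x hx
  show Ideal.Quotient.mk Kg (algebraMap P₂ Pg x) ∈ I.map (algebraMap A R)
  have h1 := Ideal.mem_map_of_mem ((Ideal.Quotient.mk Kg).comp (algebraMap P₂ Pg)) (hg₁J x hx)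
  rw [Ideal.map_sup, ← Ideal.map_map, Ideal.map_quotient_self, bot_sup_eq, Ideal.map_map,
    show ((Ideal.Quotient.mk Kg).comp (algebraMap P₂ Pg)).comp (algebraMap A P₂) = algebraMap A R from
      RingHom.ext fun a => by
        rw [RingHom.comp_apply, RingHom.comp_apply, ← IsScalarTower.algebraMap_apply A P₂ Pg]; rfl,
    RingHom.comp_apply, map_mul, map_mul] at h1
  exact (Ideal.unit_mul_mem_iff_mem _ (hu₁.map (Ideal.Quotient.mk Kg))).1 h1

end Groth.Agent.Hens22
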