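import Groth.Agent.Hens22.TorDim

/-!
Flat dimension relative to a smooth algebra.
-/

set_option autoImplicit false
universe u

open TensorProduct
open Groth.Agent.Hens22.TorDim

noncomputable section

namespace Groth.Agent.Hens22.SmoothTorDim

/-- Modules flat over the base have flat dimension at most `c` over the algebra. -/
def Rel (A B : Type u) [CommRing A] [CommRing B] [Algebra A B] (c : ℕ) : Prop :=
  ∀ (X : Type u) [AddCommGroup X] [Module A X] [Module B X] [IsScalarTower A B X],
    Module.Flat A X → FDle B X c

theorem rel_bound {A B : Type u} [CommRing A] [CommRing B] [Algebra A B] [Module.Flat A B] {c : ℕ}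
    (h : Rel A B c) : ∀ (m : ℕ) (X : Type u) [AddCommGroup X] [Module A X] [Module B X] [IsScalarTower A B X],
      FDle A X m → FDle B X (m + c) := by
  classical
  intro m
  induction m with
  | zero =>
    intro X _ _ _ _ hX
    rw [Nat.zero_add]
    exact h X (fdle_zero_iff.1 hX)
  | succ m ih =>
    intro X _ _ _ _ hX
    let π : (X →₀ B) →ₗ[B] X := Finsupp.linearCombination B id
    have hπ : Function.Surjective π := fun x => ⟨Finsupp.single x 1, by simp [π]⟩
    haveI : Module.Flat A (X →₀ B) :=
      Module.Flat.of_linearEquiv (TensorProduct.finsuppScalarRight A A B X).symm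
    let ι := (LinearMap.ker π).subtype
    have hex : Function.Exact ι π := LinearMap.exact_subtype_ker_map π
    have hinj : Function.Injective ι := Submodule.injective_subtype _
    have hK : FDle A (LinearMap.ker π) m :=
      (fdle_succ_iff (f := ι.restrictScalars A) (g := π.restrictScalars A) hinj hex hπ m).1 hX
    rw [Nat.add_right_comm]
    exact (fdle_succ_iff hinj hex hπ _).2 (ih (LinearMap.ker π) hK)

theorem rel_trans {A B C : Type u} [CommRing A] [CommRing B] [CommRing C] [Algebra A B] [Algebra B C]
    [Algebra A C] [IsScalarTower A B C] [Module.Flat B C] {c c' : ℕ} (h : Rel A B c) (h' : Rel B C c') :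
    Rel A C (c + c') := by
  intro X _ _ _ _ hX
  letI : Module B X := Module.compHom X (algebraMap B C)
  haveI : IsScalarTower B C X := .of_algebraMap_smul fun b x => rfl
  haveI : IsScalarTower A B X := .of_algebraMap_smul fun a x => by
    show algebraMap B C (algebraMap A B a) • x = _
    rw [← IsScalarTower.algebraMap_apply, algebraMap_smul]
  exact rel_bound h' c X (h X hX)

theorem rel_unramified {A B : Type u} [CommRing A] [CommRing B] [Algebra A B]
    [Algebra.FormallyUnramified A B] [Algebra.EssFiniteType A B] : Rel A B 0 := by
  intro X _ _ _ _ hX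
  haveI := hX
  haveI : Module.Flat B X := Algebra.FormallyUnramified.flat_of_restrictScalars A B X
  exact fdle_of_flat 0

section Polynomial

variable {A : Type u} [CommRing A] (X : Type u) [AddCommGroup X] [Module A X] [Module (Polynomial A) X]
  [IsScalarTower A (Polynomial A) X]

open Polynomial

/-- The two-term resolution over a polynomial ring. -/
def delta : (Polynomial A) ⊗[A] X →ₗ[Polynomial A] (Polynomial A) ⊗[A] X :=
  (Polynomial.X : Polynomial A) • LinearMap.id -
    LinearMap.baseChange (Polynomial A) ((LinearMap.lsmul (Polynomial A) X Polynomial.X).restrictScalars A)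

theorem delta_tmul (p : Polynomial A) (x : X) :
    delta X (p ⊗ₜ x) = (Polynomial.X * p) ⊗ₜ x - p ⊗ₜ ((Polynomial.X : Polynomial A) • x) := by
  simp [delta, TensorProduct.smul_tmul']

def counit : (Polynomial A) ⊗[A] X →ₗ[Polynomial A] X :=
  LinearMap.liftBaseChange (Polynomial A) LinearMap.id

theorem counit_tmul (p : Polynomial A) (x : X) : counit X (p ⊗ₜ x) = p • x := by simp [counit]

theorem sub_one_tmul_mem (y : (Polynomial A) ⊗[A] X) :
    y - (1 : Polynomial A) ⊗ₜ counit X y ∈ LinearMap.range (delta X) := by
  induction y using TensorProduct.induction_on with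
  | zero => simp
  | add y z hy hz =>
    rw [map_add, tmul_add, add_sub_add_comm]
    exact Submodule.add_mem _ hy hz
  | tmul p x =>
    rw [counit_tmul]
    induction p using Polynomial.induction_on' generalizing x with
    | add p q hp hq =>
      rw [add_tmul, add_smul, tmul_add, add_sub_add_comm]
      exact Submodule.add_mem _ (hp x) (hq x)
    | monomial k a =>
      rw [← Polynomial.smul_X_eq_monomial, TensorProduct.smul_tmul, smul_assoc, ← smul_comm ((Polynomial.X : Polynomial A) ^ k) a x]
      generalize a • x = x
      induction k generalizing x with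
      | zero => simp
      | succ k ih =>
        have e : ((Polynomial.X : Polynomial A) ^ (k + 1)) ⊗ₜ[A] x -
            (1 : Polynomial A) ⊗ₜ (((Polynomial.X : Polynomial A) ^ (k + 1)) • x) =
            delta X ((Polynomial.X ^ k) ⊗ₜ x) + (((Polynomial.X : Polynomial A) ^ k) ⊗ₜ[A] ((Polynomial.X : Polynomial A) • x) -
              (1 : Polynomial A) ⊗ₜ (((Polynomial.X : Polynomial A) ^ k) • (Polynomial.X : Polynomial A) • x)) := by
          rw [delta_tmul, smul_smul, ← pow_succ, ← pow_succ']
          abel
        rw [e]
        exact Submodule.add_mem _ ⟨_, rfl⟩ (ih _)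

theorem exact_delta : Function.Exact (delta (A := A) X) (counit (A := A) X) := by
  intro y
  constructor
  · intro h
    have := sub_one_tmul_mem X y
    rwa [h, tmul_zero, sub_zero] at this
  · rintro ⟨z, rfl⟩
    induction z using TensorProduct.induction_on with
    | zero => simp
    | add u v hu hv => rw [map_add, map_add, hu, hv, add_zero]
    | tmul p x => rw [delta_tmul, map_sub, counit_tmul, counit_tmul, mul_comm, mul_smul, sub_self]

theorem delta_injective : Function.Injective (delta (A := A) X) := by
  classical
  let e : (Polynomial A) ⊗[A] X ≃ₗ[A] (ℕ →₀ X) :=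
    (TensorProduct.congr (Polynomial.basisMonomials A).repr (LinearEquiv.refl A X)).trans
      (TensorProduct.finsuppScalarLeft A X ℕ)
  have he : ∀ (p : Polynomial A) (x : X) (j : ℕ), e (p ⊗ₜ x) j = p.coeff j • x := by
    intro p x j
    simp only [e, LinearEquiv.trans_apply, TensorProduct.congr_tmul, LinearEquiv.refl_apply]
    rw [TensorProduct.finsuppScalarLeft_apply_tmul_apply]
    rfl
  have hd : ∀ (y : (Polynomial A) ⊗[A] X) (j : ℕ),
      e (delta X y) (j + 1) = e y j - (Polynomial.X : Polynomial A) • e y (j + 1) := by
    intro y j
    induction y using TensorProduct.induction_on with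
    | zero => simp
    | add u v hu hv => simp only [map_add, Finsupp.add_apply, hu, hv, smul_add]; abel
    | tmul p x =>
      rw [delta_tmul, map_sub, Finsupp.sub_apply, he, he, he, he, Polynomial.coeff_X_mul,
        smul_comm ((Polynomial.X : Polynomial A)) (p.coeff (j + 1)) x]
  rw [injective_iff_map_eq_zero]
  intro y hy
  refine e.injective (Finsupp.ext fun j => ?_)
  rw [map_zero, Finsupp.zero_apply]
  by_contra hne
  have hne' : (e y).support.Nonempty := ⟨j, Finsupp.mem_support_iff.2 hne⟩
  let N := (e y).support.max' hne'
  have hN : e y N ≠ 0 := Finsupp.mem_support_iff.1 ((e y).support.max'_mem hne')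
  have hN1 : e y (N + 1) = 0 := Finsupp.notMem_support_iff.1 fun h =>
    absurd ((e y).support.le_max' _ h) (Nat.not_succ_le_self N)
  have := hd y N
  rw [hy, map_zero, Finsupp.zero_apply, hN1, smul_zero, sub_zero] at this
  exact hN this.symm

end Polynomial

theorem rel_polynomial (A : Type u) [CommRing A] : Rel A (Polynomial A) 1 := by
  intro X _ _ _ _ hX
  haveI := hX
  exact (fdle_succ_iff (R := Polynomial A) (delta_injective (A := A) X) (exact_delta (A := A) X)
    (fun x => ⟨(1 : Polynomial A) ⊗ₜ x, by rw [counit_tmul, one_smul]⟩) 0).2 (fdle_of_flat 0)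

theorem rel_mvPolynomial (A : Type u) [CommRing A] :
    ∀ n : ℕ, Rel A (MvPolynomial (Fin n) A) n := by
  intro n
  induction n with
  | zero =>
    haveI : Algebra.FormallyUnramified A (MvPolynomial (Fin 0) A) :=
      Algebra.FormallyUnramified.of_equiv (MvPolynomial.isEmptyAlgEquiv A (Fin 0)).symm
    exact rel_unramified
  | succ n ih =>
    let e := (MvPolynomial.finSuccEquiv A n).symm
    letI : Algebra (Polynomial (MvPolynomial (Fin n) A)) (MvPolynomial (Fin (n + 1)) A) :=
      e.toAlgHom.toRingHom.toAlgebra
    haveI : IsScalarTower A (Polynomial (MvPolynomial (Fin n) A)) (MvPolynomial (Fin (n + 1)) A) :=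
      .of_algebraMap_eq fun a => (e.commutes a).symm
    let e' : Polynomial (MvPolynomial (Fin n) A) ≃ₐ[Polynomial (MvPolynomial (Fin n) A)]
        MvPolynomial (Fin (n + 1)) A := AlgEquiv.ofRingEquiv (f := e.toRingEquiv) fun _ => rfl
    haveI : Algebra.FormallyUnramified (Polynomial (MvPolynomial (Fin n) A)) (MvPolynomial (Fin (n + 1)) A) :=
      Algebra.FormallyUnramified.of_equiv e'
    haveI : Module.Flat (Polynomial (MvPolynomial (Fin n) A)) (MvPolynomial (Fin (n + 1)) A) :=
      Module.Flat.of_linearEquiv e'.symm.toLinearEquiv
    haveI : Algebra.EssFiniteType (Polynomial (MvPolynomial (Fin n) A)) (MvPolynomial (Fin (n + 1)) A) :=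
      haveI : Algebra.FiniteType (Polynomial (MvPolynomial (Fin n) A)) (MvPolynomial (Fin (n + 1)) A) :=
        Algebra.FiniteType.equiv inferInstance e'
      inferInstance
    exact rel_trans (B := Polynomial (MvPolynomial (Fin n) A)) (c := n + 1) (c' := 0)
      (rel_trans (B := MvPolynomial (Fin n) A) ih (rel_polynomial _)) rel_unramified

theorem fdle_localized_ker {B : Type u} [CommRing B] (S : Submonoid B) {F Y : Type u}
    [AddCommGroup F] [Module B F] [Module.Flat B F] [AddCommGroup Y] [Module B Y] (π : F →ₗ[B] Y)
    (hπ : Function.Surjective π) (d : ℕ) (h : FDle (Localization S) (LocalizedModule S Y) (d + 1)) :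
    FDle (Localization S) (LocalizedModule S (LinearMap.ker π)) d := by
  haveI : Module.Flat (Localization S) (LocalizedModule S F) :=
    Module.Flat.of_isLocalizedModule (Localization S) S (LocalizedModule.mkLinearMap S F)
  exact (fdle_succ_iff (f := LocalizedModule.map S (LinearMap.ker π).subtype)
    (g := LocalizedModule.map S π)
    (LocalizedModule.map_injective S _ (Submodule.injective_subtype _))
    (LocalizedModule.map_exact S _ π (LinearMap.exact_subtype_ker_map π))
    (LocalizedModule.map_surjective S π hπ) d).1 h

/-- Flat dimension is local. -/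
theorem fdle_of_span {B : Type u} [CommRing B] (s : Set B) (hs : Ideal.span s = ⊤) :
    ∀ (d : ℕ) (X : Type u) [AddCommGroup X] [Module B X],
      (∀ x ∈ s, FDle (Localization.Away x) (LocalizedModule (Submonoid.powers x) X) d) → FDle B X d := by
  intro d
  induction d with
  | zero =>
    intro X _ _ h
    refine fdle_zero_iff.2 ?_
    refine Module.flat_of_isLocalized_span B X s hs (fun r => LocalizedModule (Submonoid.powers r.1) X)
      (fun r => LocalizedModule.mkLinearMap _ X) fun r => ?_
    haveI : Module.Flat (Localization.Away r.1) (LocalizedModule (Submonoid.powers r.1) X) :=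
      fdle_zero_iff.1 (h r.1 r.2)
    haveI : Module.Flat B (Localization.Away r.1) := IsLocalization.flat _ (Submonoid.powers r.1)
    exact Module.Flat.trans B (Localization.Away r.1) _
  | succ d ih =>
    intro X _ _ h
    let π : (X →₀ B) →ₗ[B] X := Finsupp.linearCombination B id
    have hπ : Function.Surjective π := fun x => ⟨Finsupp.single x 1, by simp [π]⟩
    let ι := (LinearMap.ker π).subtype
    have hex : Function.Exact ι π := LinearMap.exact_subtype_ker_map π
    have hinj : Function.Injective ι := Submodule.injective_subtype _
    refine (fdle_succ_iff (R := B) (K := LinearMap.ker π) (F := X →₀ B) (Y := X) (f := ι) (g := π) hinj hex hπ d).2 (ih _ fun x hx => ?_)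
    exact fdle_localized_ker (Submonoid.powers x) π hπ d (h x hx)

/-- Smooth algebras of relative dimension `n`. -/
theorem rel_smooth {A B : Type u} [CommRing A] [CommRing B] [Algebra A B] [Algebra.Smooth A B] (n : ℕ)
    (hn : ∀ p : PrimeSpectrum B, Module.rankAtStalk (KaehlerDifferential A B) p = n) : Rel A B n := by
  classical
  obtain ⟨s, hs, hstd⟩ := Algebra.Smooth.exists_span_eq_top_isStandardSmooth A B
  intro X _ _ _ _ hX
  haveI := hX
  refine fdle_of_span s hs n X fun x hx => ?_
  let L := Localization.Away x
  let XL := LocalizedModule (Submonoid.powers x) X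
  haveI : Module.Flat A XL := by
    let g := LocalizedModule.mkLinearMap (Submonoid.powers x) X
    rw [Module.Flat.iff_lTensor_injectiveₛ]
    simp_rw [← AlgebraTensorModule.coe_lTensor (A := B)]
    intro P _ _ N
    have hinj : Function.Injective (AlgebraTensorModule.lTensor B X N.subtype) := by
      rw [AlgebraTensorModule.coe_lTensor]
      exact (Module.Flat.iff_lTensor_injectiveₛ.1 hX) N
    have := IsLocalizedModule.map_injective (Submonoid.powers x)
      (AlgebraTensorModule.rTensor A N g) (AlgebraTensorModule.rTensor A P g) _ hinj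
    simpa [IsLocalizedModule.map_lTensor] using this
  rcases subsingleton_or_nontrivial L with hL | hL
  · haveI : Subsingleton XL := Module.subsingleton L XL
    haveI : Module.Flat L XL := inferInstance
    exact fdle_of_flat n
  haveI := hstd x hx
  have hrank : Module.rank L (KaehlerDifferential A L) = n := by
    obtain ⟨p⟩ : Nonempty (PrimeSpectrum L) := inferInstance
    haveI : Module.Free L (KaehlerDifferential A L) := inferInstance
    rw [← Module.finrank_eq_rank]
    congr 1
    have e := congrFun (Module.rankAtStalk_eq_finrank_of_free (R := L) (M := KaehlerDifferential A L)) p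
    simp only [Pi.natCast_apply, Nat.cast_id] at e
    rw [← e]
    rw [← Module.rankAtStalk_eq_of_equiv (KaehlerDifferential.tensorKaehlerEquivOfFormallyEtale A B L),
      Module.rankAtStalk_baseChange, hn]
  haveI : Algebra.IsStandardSmoothOfRelativeDimension n A L :=
    (Algebra.IsStandardSmoothOfRelativeDimension.iff_of_isStandardSmooth n).2 hrank
  obtain ⟨g, hg⟩ := Algebra.IsStandardSmoothOfRelativeDimension.exists_etale_mvPolynomial (n := n) A L
  letI : Algebra (MvPolynomial (Fin n) A) L := g.toRingHom.toAlgebra
  haveI : IsScalarTower A (MvPolynomial (Fin n) A) L := .of_algebraMap_eq fun a => (g.commutes a).symm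
  haveI : Algebra.Etale (MvPolynomial (Fin n) A) L := hg
  exact rel_trans (c' := 0) (rel_mvPolynomial A n) rel_unramified XL inferInstance

end Groth.Agent.Hens22.SmoothTorDim
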