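import Groth.Agent.Hens22.GlueHens
import Mathlib.AlgebraicGeometry.Scheme
import Mathlib.RingTheory.Flat.EquationalCriterion

/-!
Basic properties of affine Henselian spectra.
-/

set_option autoImplicit false
universe u

open CategoryTheory Opposite TopologicalSpace AlgebraicGeometry HensSch TopCat

noncomputable section

namespace Groth.Agent.Hens22.Sph

variable {A : Type u} [CommRing A] {I : Ideal A} {X : LocallyRingedSpace.{u}} (π : X ⟶ specLRS A)

/-- Sections over a distinguished open. -/
abbrev O (f : A) : Type u := X.presheaf.obj (op (dOpen π f))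

/-- Global sections from `A`. -/
def glob : A →+* (X.presheaf.obj (op ⊤) : Type u) :=
  (π.c.app (op ⊤)).hom.comp (Scheme.ΓSpecIso (CommRingCat.of A)).inv.hom

/-- The map to the stalk at `x`. -/
def stk (x : X) : A →+* (X.presheaf.stalk x : Type u) :=
  (X.presheaf.germ ⊤ x trivial).hom.comp (glob π)

theorem secMap_res {U V : Opens (PrimeSpectrum A)}
    (h : (Opens.map π.base).obj V ≤ (Opens.map π.base).obj U) (a : A) :
    X.presheaf.map (homOfLE h).op (secMap π U a) = secMap π V a := by
  show X.presheaf.map (homOfLE h).op (X.presheaf.map _ (glob π a)) = X.presheaf.map _ (glob π a)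
  rw [← CommRingCat.comp_apply]
  exact congrArg (fun k => (CommRingCat.Hom.hom k) (glob π a)) ((X.presheaf.map_comp _ _).symm)

theorem germ_secMap {U : Opens (PrimeSpectrum A)} {x : X} (hx : x ∈ (Opens.map π.base).obj U) (a : A) :
    X.presheaf.germ ((Opens.map π.base).obj U) x hx (secMap π U a) = stk π x a := by
  show X.presheaf.germ _ x hx (X.presheaf.map _ (glob π a)) = X.presheaf.germ ⊤ x trivial (glob π a)
  exact X.presheaf.germ_res_apply _ x hx _

theorem basicOpen_glob (a : A) : X.toRingedSpace.basicOpen (glob π a) = dOpen π a := by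
  have h := LocallyRingedSpace.preimage_basicOpen π
    ((Scheme.ΓSpecIso (CommRingCat.of A)).inv a : (specLRS A).presheaf.obj (op ⊤))
  have h2 : (specLRS A).toRingedSpace.basicOpen ((Scheme.ΓSpecIso (CommRingCat.of A)).inv a) =
      PrimeSpectrum.basicOpen a := basicOpen_eq_of_affine (R := CommRingCat.of A) a
  rw [h2] at h
  exact h.symm

theorem isUnit_stk_iff (x : X) (a : A) : IsUnit (stk π x a) ↔ x ∈ dOpen π a := by
  rw [← basicOpen_glob]
  exact ((X.toRingedSpace.mem_basicOpen (U := ⊤) (glob π a) x trivial)).symm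

variable {π} (hX : IsSph A I X π)
include hX

theorem not_isUnit_stk (x : X) {a : A} (ha : a ∈ I) : ¬ IsUnit (stk π x a) := fun h => by
  have h1 : π.base x ∈ PrimeSpectrum.zeroLocus (I : Set A) := hX.2.1 ▸ Set.mem_range_self x
  exact ((isUnit_stk_iff π x a).1 h : π.base x ∈ PrimeSpectrum.basicOpen a) (h1 ha)

/-- The distinguished opens form a basis. -/
theorem exists_dOpen {x : X} {U : Opens X} (hx : x ∈ U) : ∃ f, x ∈ dOpen π f ∧ dOpen π f ≤ U := by
  obtain ⟨W, hW, hWU⟩ := hX.1.isInducing.isOpen_iff.1 U.2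
  have hxW : π.base x ∈ W := by
    rw [← Set.mem_preimage, hWU]; exact hx
  obtain ⟨_, ⟨f, rfl⟩, hfx, hfW⟩ :=
    PrimeSpectrum.isTopologicalBasis_basic_opens.exists_subset_of_mem_open hxW hW
  exact ⟨f, hfx, fun y hy => by
    show y ∈ U.carrier
    rw [← hWU]
    exact hfW hy⟩

omit hX in
/-- Modulo `I`, the sections over a distinguished open come from the localisation. -/
theorem away_rep {f : A} {H : Type u} [CommRing H] {φ : A →+* H} (h : IsHensAway A I f H φ) (s : H) :
    ∃ (a : A) (n : ℕ), φ f ^ n * s - φ a ∈ I.map φ := by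
  let J := I.map φ
  let R := A ⧸ I
  let L := Localization.Away (Ideal.Quotient.mk I f)
  let g : A →+* L := (algebraMap R L).comp (Ideal.Quotient.mk I)
  obtain ⟨k, hk, -⟩ := h.2.2 L ⊥ g (Glue.henselianRing_bot L) (by
    rw [← Ideal.map_map, Ideal.map_quotient_self, Ideal.map_bot])
    (IsLocalization.Away.algebraMap_isUnit (S := L) (Ideal.Quotient.mk I f))
  let q : R →+* H ⧸ J := Ideal.quotientMap J φ Ideal.le_comap_map
  have hq : q.comp (Ideal.Quotient.mk I) = (Ideal.Quotient.mk J).comp φ := Ideal.quotientMap_comp_mk _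
  have hu : IsUnit (q (Ideal.Quotient.mk I f)) := by
    rw [← RingHom.comp_apply, hq, RingHom.comp_apply]
    exact h.1.map _
  let l : L →+* H ⧸ J := IsLocalization.Away.lift (Ideal.Quotient.mk I f) hu
  have hl : l.comp (algebraMap R L) = q := IsLocalization.Away.lift_comp ..
  have hcomp : l.comp k = Ideal.Quotient.mk J := by
    refine (h.2.2 (H ⧸ J) ⊥ ((Ideal.Quotient.mk J).comp φ) (Glue.henselianRing_bot _) (by
      rw [← Ideal.map_map, Ideal.map_quotient_self]) (by rw [RingHom.comp_apply]; exact h.1.map _)).unique ?_ rfl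
    rw [RingHom.comp_assoc, hk, ← RingHom.comp_assoc, hl, hq]
  obtain ⟨n, r, hr⟩ := IsLocalization.Away.surj (Ideal.Quotient.mk I f) (k s)
  obtain ⟨a, rfl⟩ := Ideal.Quotient.mk_surjective r
  refine ⟨a, n, ?_⟩
  rw [← Ideal.Quotient.eq, map_mul, map_pow]
  have := congrArg l hr
  rw [map_mul, ← RingHom.comp_apply, hcomp, map_pow] at this
  have hlq : ∀ b : A, l (algebraMap R L (Ideal.Quotient.mk I b)) = Ideal.Quotient.mk J (φ b) := fun b =>
    (RingHom.congr_fun hl _).trans (RingHom.congr_fun hq b)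
  rw [hlq, hlq] at this
  rw [mul_comm]
  exact this

/-- At a point, a section differs from a fraction by an element of the maximal ideal. -/
theorem germ_rep {f : A} (s : O π f) :
    ∃ (a : A) (n : ℕ), ∀ (x : X) (hx : x ∈ dOpen π f),
      ¬ IsUnit (stk π x f ^ n * X.presheaf.germ (dOpen π f) x hx s - stk π x a) := by
  obtain ⟨a, n, h⟩ := away_rep (hX.2.2 f) s
  refine ⟨a, n, fun x hx hu => ?_⟩
  let g : O π f →+* (X.presheaf.stalk x : Type u) := (X.presheaf.germ (dOpen π f) x hx).hom
  have hg : ∀ b, g (secMap π _ b) = stk π x b := fun b => germ_secMap π hx b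
  have h1 : (I.map (secMap π (PrimeSpectrum.basicOpen f))).map g ≤ IsLocalRing.maximalIdeal _ := by
    rw [Ideal.map_map, Ideal.map_le_iff_le_comap]
    intro b hb
    rw [Ideal.mem_comap, RingHom.comp_apply, hg, IsLocalRing.mem_maximalIdeal]
    exact not_isUnit_stk hX x hb
  have h2 : g (secMap π _ f ^ n * s - secMap π _ a) ∈ IsLocalRing.maximalIdeal _ :=
    h1 (Ideal.mem_map_of_mem g h)
  rw [map_sub, map_mul, map_pow, hg, hg] at h2
  exact (IsLocalRing.mem_maximalIdeal _).1 h2 hu

/-- The locus where a section is invertible is a distinguished open. -/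
theorem basicOpen_section {f : A} (s : O π f) :
    ∃ b : A, X.toRingedSpace.basicOpen s = dOpen π b := by
  obtain ⟨a, n, h⟩ := germ_rep hX s
  refine ⟨f * a, Opens.ext (Set.ext fun x => ?_)⟩
  have hmul : x ∈ dOpen π (f * a) ↔ x ∈ dOpen π f ∧ x ∈ dOpen π a := by
    rw [← isUnit_stk_iff, ← isUnit_stk_iff, ← isUnit_stk_iff, map_mul]
    exact IsUnit.mul_iff
  have key : ∀ hx : x ∈ dOpen π f, IsUnit (X.presheaf.germ (dOpen π f) x hx s) ↔ x ∈ dOpen π a := by
    intro hx
    have hf : IsUnit (stk π x f ^ n) := ((isUnit_stk_iff π x f).2 hx).pow n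
    have hm := h x hx
    replace hm := (IsLocalRing.mem_maximalIdeal _).2 hm
    rw [← isUnit_stk_iff, ← not_iff_not]
    show _ ∈ nonunits _ ↔ _ ∈ nonunits _
    rw [← IsLocalRing.mem_maximalIdeal, ← IsLocalRing.mem_maximalIdeal]
    constructor
    · intro hs
      simpa using sub_mem (Ideal.mul_mem_left _ (stk π x f ^ n) hs) hm
    · intro ha
      have h1 := add_mem hm ha
      rw [sub_add_cancel] at h1
      exact ((IsLocalRing.maximalIdeal.isMaximal _).isPrime.mem_or_mem h1).resolve_left
        (fun h2 => (IsLocalRing.mem_maximalIdeal _).1 h2 hf)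
  constructor
  · rintro ⟨hx, hu⟩
    exact hmul.2 ⟨hx, (key hx).1 hu⟩
  · intro hx
    exact ⟨(hmul.1 hx).1, (key (hmul.1 hx).1).2 (hmul.1 hx).2⟩

/-- Every germ comes from a distinguished open. -/
theorem exists_germ {x : X} (z : X.presheaf.stalk x) :
    ∃ (f : A) (hx : x ∈ dOpen π f) (s : O π f), X.presheaf.germ (dOpen π f) x hx s = z := by
  obtain ⟨U, hU, t, rfl⟩ := X.presheaf.exists_germ_eq z
  obtain ⟨f, hf, hle⟩ := exists_dOpen hX hU
  exact ⟨f, hf, X.presheaf.map (homOfLE hle).op t, X.presheaf.germ_res_apply _ _ _ _⟩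

/-- The stalks are flat. -/
theorem flat_stk (x : X) : (stk π x).Flat := by
  classical
  let _ : Algebra A (X.presheaf.stalk x : Type u) := (stk π x).toAlgebra
  show Module.Flat A (X.presheaf.stalk x : Type u)
  refine Module.Flat.of_forall_isTrivialRelation fun {l} {r} {z} h0 => ?_
  choose f hf s hs using fun i => exists_germ hX (z i)
  let U : Opens X := Finset.univ.inf fun i => dOpen π (f i)
  have hU : x ∈ U := by
    show x ∈ ((Finset.univ.inf fun i => dOpen π (f i) : Opens X) : Set X)
    rw [Opens.coe_finset_inf, Finset.inf_set_eq_iInter]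
    simpa using hf
  let s' : ∀ i, X.presheaf.obj (op U) := fun i =>
    X.presheaf.map (homOfLE (Finset.inf_le (Finset.mem_univ i))).op (s i)
  have hs' : ∀ i, X.presheaf.germ U x hU (s' i) = z i := fun i => by
    rw [X.presheaf.germ_res_apply]; exact hs i
  let e : X.presheaf.obj (op U) := ∑ i, (X.presheaf.map (homOfLE le_top).op) (glob π (r i)) * s' i
  have he : X.presheaf.germ U x hU e = X.presheaf.germ U x hU 0 := by
    rw [map_zero, map_sum, ← h0]
    refine Finset.sum_congr rfl fun i _ => ?_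
    rw [map_mul, hs', X.presheaf.germ_res_apply]
    rfl
  obtain ⟨W, hxW, i₁, i₂, hW⟩ := X.presheaf.germ_eq x hU hU _ _ he
  obtain ⟨g, hgx, hgW⟩ := exists_dOpen hX hxW
  let _ : Algebra A (O π g) := (secMap π (PrimeSpectrum.basicOpen g)).toAlgebra
  have : Module.Flat A (O π g) := Glue.away_flat (f := g) (H := O π g) (hX.2.2 g)
  let res : (X.presheaf.obj (op U) : Type u) →+* O π g :=
    (X.presheaf.map (homOfLE (hgW.trans i₁.le)).op).hom
  have hres : ∀ a, res (X.presheaf.map (homOfLE le_top).op (glob π a)) = algebraMap A (O π g) a := by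
    intro a
    show X.presheaf.map _ (X.presheaf.map _ (glob π a)) = X.presheaf.map _ (glob π a)
    rw [← CommRingCat.comp_apply]
    exact congrArg (fun k => (CommRingCat.Hom.hom k) (glob π a)) ((X.presheaf.map_comp _ _).symm)
  have h1 : ∑ i, r i • res (s' i) = 0 := by
    have h2 : res e = 0 := by
      have h3 := congrArg (X.presheaf.map (homOfLE hgW).op) hW
      rw [map_zero, map_zero] at h3
      refine Eq.trans ?_ h3
      show X.presheaf.map _ e = X.presheaf.map _ (X.presheaf.map _ e)
      rw [← CommRingCat.comp_apply]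
      exact congrArg (fun k => (CommRingCat.Hom.hom k) e) (X.presheaf.map_comp _ _)
    rw [← h2, map_sum]
    exact Finset.sum_congr rfl fun i _ => by rw [map_mul, hres, Algebra.smul_def]
  obtain ⟨k, a, y, hy, hay⟩ := Module.Flat.isTrivialRelation_of_sum_smul_eq_zero h1
  refine ⟨k, a, fun j => X.presheaf.germ (dOpen π g) x hgx (y j), fun i => ?_, hay⟩
  rw [← hs' i, ← X.presheaf.germ_res_apply (homOfLE (hgW.trans i₁.le)) x hgx]
  show X.presheaf.germ (dOpen π g) x hgx (res (s' i)) = _
  rw [show res (s' i) = _ from hy i, map_sum]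
  refine Finset.sum_congr rfl fun j _ => ?_
  rw [Algebra.smul_def, Algebra.smul_def, map_mul]
  congr 1
  exact germ_secMap π hgx _

end Groth.Agent.Hens22.Sph
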