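import Groth.Agent.Hens22.SphTilde

/-!
`M ↦ M~` on the spectrum of a Henselian pair is fully faithful.
-/

set_option autoImplicit false
set_option backward.isDefEq.respectTransparency.types false
set_option linter.style.haveILetI false
universe u

open CategoryTheory Opposite TopologicalSpace AlgebraicGeometry HensSch TopCat TensorProduct

noncomputable section

namespace Groth.Agent.Hens22.Sph

variable {A : Type u} [CommRing A] {I : Ideal A} {X : LocallyRingedSpace.{u}} {π : X ⟶ specLRS A}

theorem theta_natural {M N : ModuleCat.{u} A} (f : M ⟶ N) (m : M) :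
    (((sphTildeFunctor π).map f).val.app (op ⊤)).hom (theta π M m) = theta π N (f.hom m) := by
  have h1 := LinearMap.congr_fun (congrArg ModuleCat.Hom.hom
    ((tilde.adjunction (R := CommRingCat.of A)).unit.naturality f)) m
  have h2 := congrArg (fun k => (k.val.app (op ⊤)).hom
    (((tilde.adjunction (R := CommRingCat.of A)).unit.app M).hom m))
    ((HensSch.pullPushAdj π).unit.naturality ((tilde.functor (CommRingCat.of A)).map f))
  refine h2.symm.trans ?_
  show (((HensSch.pullPushAdj π).unit.app (tilde N)).val.app (op ⊤)).hom _ =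
    (((HensSch.pullPushAdj π).unit.app (tilde N)).val.app (op ⊤)).hom _
  exact congrArg _ h1.symm

variable (hX : IsSph A I X π) [HenselianRing A I]
include hX

/-- The canonical map to the global sections is bijective. -/
theorem theta_bijective (M : ModuleCat.{u} A) : Function.Bijective (theta π M) := by
  let φ := secMap π (PrimeSpectrum.basicOpen (1 : A))
  have hA : Function.Bijective φ := by
    obtain ⟨h, hh, -⟩ := (hX.2.2 1).2.2 A I (RingHom.id A) ‹_› (Ideal.map_id I).le isUnit_one
    refine ⟨fun a b hab => ?_, fun s => ⟨h s, ?_⟩⟩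
    · have := congrArg h hab
      rwa [← RingHom.comp_apply, ← RingHom.comp_apply, hh] at this
    · have h2 : φ.comp h = RingHom.id _ :=
        ((hX.2.2 1).2.2 (O π 1) (I.map φ) φ (hX.2.2 1).2.1 le_rfl (hX.2.2 1).1).unique
          (by rw [RingHom.comp_assoc, hh, RingHom.comp_id]) (RingHom.id_comp φ)
      exact RingHom.congr_fun h2 s
  letI := secAlg π (dOpen π (1 : A))
  have htop : dOpen π (1 : A) = ⊤ := top_le_iff.1 fun x _ => by
    show π.base x ∈ PrimeSpectrum.basicOpen (1 : A)
    rw [PrimeSpectrum.basicOpen_one]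
    trivial
  have hres : Function.Bijective (resS (sphTilde π M) (le_top : dOpen π (1 : A) ≤ ⊤)) := by
    refine Function.bijective_iff_has_inverse.2 ⟨resS (sphTilde π M) htop.ge, fun s => ?_, fun s => ?_⟩
    · exact (LinearMap.congr_fun (congrArg ModuleCat.Hom.hom
        ((sphTilde π M).val.map_comp (homOfLE (le_top : dOpen π (1 : A) ≤ ⊤)).op (homOfLE htop.ge).op)) s).symm.trans
        (LinearMap.congr_fun (congrArg ModuleCat.Hom.hom ((sphTilde π M).val.map_id (op ⊤))) s)
    · exact (LinearMap.congr_fun (congrArg ModuleCat.Hom.hom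
        ((sphTilde π M).val.map_comp (homOfLE htop.ge).op (homOfLE (le_top : dOpen π (1 : A) ≤ ⊤)).op)) s).symm.trans
        (LinearMap.congr_fun (congrArg ModuleCat.Hom.hom ((sphTilde π M).val.map_id (op (dOpen π (1 : A))))) s)
  have hmk : Function.Bijective fun m : M => (1 : O π (1 : A)) ⊗ₜ[A] m := by
    let e : O π (1 : A) ⊗[A] M ≃ₗ[A] M :=
      (TensorProduct.congr (LinearEquiv.ofBijective (Algebra.linearMap A (O π (1 : A))) hA).symm
        (LinearEquiv.refl A M)).trans (TensorProduct.lid A M)
    have : (fun m : M => (1 : O π (1 : A)) ⊗ₜ[A] m) = e.symm := funext fun m => e.injective (by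
      rw [LinearEquiv.apply_symm_apply]
      show ((LinearEquiv.ofBijective (Algebra.linearMap A (O π (1 : A))) hA).symm 1) • m = m
      rw [show (LinearEquiv.ofBijective (Algebra.linearMap A (O π (1 : A))) hA).symm 1 = 1 from
        (LinearEquiv.symm_apply_eq _).2 (map_one φ).symm, one_smul])
    rw [this]
    exact e.symm.bijective
  have hcomp : resS (sphTilde π M) (le_top : dOpen π (1 : A) ≤ ⊤) ∘ theta π M =
      (Lam π (dOpen π (1 : A))) ∘ fun m : M => (1 : O π (1 : A)) ⊗ₜ[A] m :=
    funext fun m => (one_smul (RU (X := X) (dOpen π (1 : A))) _).symm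
  refine (hres.of_comp_iff' (theta π M)).1 ?_
  rw [hcomp]
  exact (Function.Bijective.comp ⟨(injective_iff_map_eq_zero _).2 (Lam_injective hX 1),
    Lam_surjective hX 1⟩ hmk)

theorem full_faithful : (sphTildeFunctor π).Full ∧ (sphTildeFunctor π).Faithful := by
  refine ⟨⟨fun {M N} h => ?_⟩, ⟨fun {M N f g} hfg => ?_⟩⟩
  · choose ψ hψ using fun m : M => (theta_bijective hX N).2 ((h.val.app (op ⊤)).hom (theta π M m))
    let f : M →ₗ[A] N :=
      { toFun := ψ
        map_add' := fun p q => (theta_bijective hX N).1 (by
          rw [hψ, theta_add π M, map_add, theta_add π N, hψ, hψ])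
        map_smul' := fun a p => (theta_bijective hX N).1 (by
          rw [hψ, theta_smul π M, RingHom.id_apply, theta_smul π N, hψ]
          exact map_smul _ _ _) }
    refine ⟨ModuleCat.ofHom f, hom_ext_theta π M _ _ fun m => ?_⟩
    rw [theta_natural]
    exact hψ m
  · refine ModuleCat.hom_ext (LinearMap.ext fun m => (theta_bijective hX N).1 ?_)
    rw [← theta_natural, ← theta_natural, hfg]

end Groth.Agent.Hens22.Sph
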