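import Groth.Agent.Hens22.ModIso
import Groth.Agent.Hens22.Integral

/-!
Direct image of `M~` along a finite map of Henselian pairs.
-/

set_option autoImplicit false
set_option backward.isDefEq.respectTransparency.types false
set_option linter.style.haveILetI false
universe u

open CategoryTheory Opposite TopologicalSpace AlgebraicGeometry HensSch TopCat TensorProduct

noncomputable section

namespace Groth.Agent.Hens22.Sph

variable {A B : Type u} [CommRing A] [CommRing B] [Algebra A B] [Module.Finite A B] {I : Ideal A}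

/-- Henselizations of distinguished opens commute with finite base change. -/
theorem bijective_baseChange {H H' : Type u} [CommRing H] [CommRing H'] [Algebra A H] [Algebra B H']
    [Algebra A H'] [IsScalarTower A B H'] {f : A} (hH : IsHensAway A I f H (algebraMap A H))
    (hH' : IsHensAway B (I.map (algebraMap A B)) (algebraMap A B f) H' (algebraMap B H'))
    (ν : H →ₐ[A] H') :
    Function.Bijective (Algebra.TensorProduct.lift (Algebra.ofId B H') ν (fun _ _ => Commute.all _ _)) := by
  let L : B ⊗[A] H →ₐ[B] H' := Algebra.TensorProduct.lift (Algebra.ofId B H') ν (fun _ _ => Commute.all _ _)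
  let φB : B →+* B ⊗[A] H := algebraMap B (B ⊗[A] H)
  let inr : H →ₐ[A] B ⊗[A] H := Algebra.TensorProduct.includeRight
  have hmap : (I.map (algebraMap A B)).map φB = I.map (algebraMap A (B ⊗[A] H)) := by
    rw [Ideal.map_map, IsScalarTower.algebraMap_eq A B (B ⊗[A] H)]
  have := hH.2.1
  let _ : Algebra H (B ⊗[A] H) := Algebra.TensorProduct.rightAlgebra
  have : Module.Finite H (B ⊗[A] H) := Module.Finite.equiv (Algebra.TensorProduct.commRight A H B).toLinearEquiv
  have hJ : HenselianRing (B ⊗[A] H) ((I.map (algebraMap A B)).map φB) := by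
    have h1 := henselianRing_of_isIntegral (I.map (algebraMap A H)) (B ⊗[A] H)
    rw [Ideal.map_map] at h1
    rw [hmap, show algebraMap A (B ⊗[A] H) = (algebraMap H (B ⊗[A] H)).comp (algebraMap A H) from
      inr.comp_algebraMap.symm]
    exact h1
  have hu : IsUnit (φB (algebraMap A B f)) := by
    rw [← IsScalarTower.algebraMap_apply, ← inr.commutes]
    exact hH.1.map inr
  obtain ⟨k, hk, -⟩ := hH'.2.2 _ _ φB hJ le_rfl hu
  refine ⟨fun p q hpq => ?_, fun y => ⟨k y, ?_⟩⟩
  · let kA : H' →ₐ[B] B ⊗[A] H := { k with commutes' := RingHom.congr_fun hk }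
    have h1 : kA.comp L = AlgHom.id B _ := by
      refine Algebra.TensorProduct.ext (Subsingleton.elim _ _) ?_
      have : HenselianRing (B ⊗[A] H) (I.map (algebraMap A (B ⊗[A] H))) := hmap ▸ hJ
      exact Glue.away_hom_ext hH (I.map (algebraMap A (B ⊗[A] H))) le_rfl _ _
    have h2 := congrArg kA hpq
    exact (DFunLike.congr_fun h1 p).symm.trans (h2.trans (DFunLike.congr_fun h1 q))
  · refine RingHom.congr_fun (((hH'.2.2 H' ((I.map (algebraMap A B)).map (algebraMap B H'))
      (algebraMap B H') hH'.2.1 le_rfl hH'.1)).unique (y₁ := L.toRingHom.comp k) (y₂ := RingHom.id H') ?_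
      (RingHom.id_comp _)) y
    rw [RingHom.comp_assoc, hk]
    exact L.comp_algebraMap

variable [HenselianRing A I] [HenselianRing B (I.map (algebraMap A B))]
  {X Y : LocallyRingedSpace.{u}} {πA : X ⟶ specLRS A} {πB : Y ⟶ specLRS B}
  (hX : IsSph A I X πA) (hY : IsSph B (I.map (algebraMap A B)) Y πB)
  (φ : Y ⟶ X) (hφ : φ ≫ πA = πB ≫ (Spec.map (CommRingCat.ofHom (algebraMap A B))).toLRSHom)

include hφ in
theorem preimage_dOpen (f : A) : (Opens.map φ.base).obj (dOpen πA f) = dOpen πB (algebraMap A B f) := by
  refine Opens.ext (Set.ext fun y => ?_)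
  have h := congrArg (fun k : Y ⟶ specLRS A => k.base y) hφ
  show πA.base (φ.base y) ∈ PrimeSpectrum.basicOpen f ↔ πB.base y ∈ PrimeSpectrum.basicOpen (algebraMap A B f)
  rw [show πA.base (φ.base y) = PrimeSpectrum.comap (algebraMap A B) (πB.base y) from h]
  rfl

include hφ in
theorem glob_comp (a : A) : φ.c.app (op ⊤) (glob πA a) = glob πB (algebraMap A B a) := by
  have key : ∀ (g₁ g₂ : Y ⟶ specLRS A) (_ : g₁ = g₂) (t : (specLRS A).presheaf.obj (op ⊤)),
      (show Y.presheaf.obj (op ⊤) from g₁.c.app (op ⊤) t) = g₂.c.app (op ⊤) t := by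
    intro g₁ g₂ e t
    subst e
    rfl
  refine (key _ _ hφ ((Scheme.ΓSpecIso (CommRingCat.of A)).inv a)).trans ?_
  refine congrArg (πB.c.app (op ⊤)) ?_
  exact (congrArg (fun k => (CommRingCat.Hom.hom k) a)
    (Scheme.ΓSpecIso_inv_naturality (CommRingCat.ofHom (algebraMap A B)))).symm

include hX hY hφ in
theorem exists_iso_push (N : ModuleCat.{u} B) :
    ∃ e : sphTilde πA ((ModuleCat.restrictScalars (algebraMap A B)).obj N) ≅ (pushMod φ).obj (sphTilde πB N),
      ∀ n : N, (e.hom.val.app (op ⊤)).hom (theta πA ((ModuleCat.restrictScalars (algebraMap A B)).obj N) n) =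
        theta πB N n := by
  let NA : ModuleCat.{u} A := (ModuleCat.restrictScalars (algebraMap A B)).obj N
  let ψ : NA →+ Sec ((pushMod φ).obj (sphTilde πB N)) ⊤ :=
    { toFun := fun n => theta πB N n
      map_zero' := theta_zero πB N
      map_add' := theta_add πB N }
  obtain ⟨h, hh⟩ := exists_desc πA NA ψ (fun a n => by
    refine (theta_smul πB N (algebraMap A B a) n).trans ?_
    show _ = HSMul.hSMul (α := RU (X := Y) ⊤) (φ.c.app (op ⊤) (glob πA a)) (theta πB N n)
    rw [glob_comp φ hφ a])
  haveI : IsIso h := by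
    refine isIso_of_bijective_basis h fun x U hx => ?_
    obtain ⟨f, hf, hfU⟩ := exists_dOpen hX hx
    refine ⟨dOpen πA f, hfU, hf, ?_⟩
    let U' := (Opens.map φ.base).obj (dOpen πA f)
    have hU' : U' = dOpen πB (algebraMap A B f) := preimage_dOpen φ hφ f
    let f' := algebraMap A B f
    let _ : Algebra A (O πA f) := secAlg πA (dOpen πA f)
    let _ : Algebra B (O πB f') := secAlg πB (dOpen πB f')
    let _ : Algebra A (O πB f') := ((algebraMap B (O πB f')).comp (algebraMap A B)).toAlgebra
    have : IsScalarTower A B (O πB f') := IsScalarTower.of_algebraMap_eq' rfl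
    let res : (Y.presheaf.obj (op U') : Type u) →+* O πB f' := (Y.presheaf.map (eqToHom hU'.symm).op).hom
    let ν : O πA f →ₐ[A] O πB f' :=
      { res.comp (φ.c.app (op (dOpen πA f))).hom with
        commutes' := fun a => by
          show Y.presheaf.map _ (φ.c.app (op (dOpen πA f)) (X.presheaf.map _ (glob πA a))) =
            Y.presheaf.map _ (glob πB (algebraMap A B a))
          rw [← CommRingCat.comp_apply (X.presheaf.map _), φ.c.naturality, CommRingCat.comp_apply,
            glob_comp φ hφ a]
          show Y.presheaf.map _ (Y.presheaf.map _ _) = _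
          rw [← CommRingCat.comp_apply, ← Y.presheaf.map_comp]
          rfl }
    let E : B ⊗[A] O πA f ≃ₐ[B] O πB f' := AlgEquiv.ofBijective _
      (bijective_baseChange (H := O πA f) (H' := O πB f') (hX.2.2 f) (hY.2.2 f') ν)
    let _ : Module A N := Module.compHom N (algebraMap A B)
    have : IsScalarTower A B N := IsScalarTower.of_algebraMap_smul fun _ _ => rfl
    let κ : O πA f ⊗[A] NA ≃+ O πB f' ⊗[B] N :=
      (TensorProduct.comm A (O πA f) N).toAddEquiv.trans
        ((AlgebraTensorModule.cancelBaseChange A B B N (O πA f)).symm.toAddEquiv.trans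
          ((LinearEquiv.lTensor N E.toLinearEquiv).toAddEquiv.trans
            (TensorProduct.comm B N (O πB f')).toAddEquiv))
    have hκ : ∀ (s : O πA f) (n : NA), κ (s ⊗ₜ[A] n) = ν s ⊗ₜ[B] (show N from n) := by
      intro s n
      show TensorProduct.comm B N (O πB f') (LinearEquiv.lTensor N E.toLinearEquiv
        ((AlgebraTensorModule.cancelBaseChange A B B N (O πA f)).symm
          (TensorProduct.comm A (O πA f) N (s ⊗ₜ[A] (show N from n))))) = _
      rw [TensorProduct.comm_tmul, AlgebraTensorModule.cancelBaseChange_symm_tmul, LinearEquiv.lTensor_tmul,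
        TensorProduct.comm_tmul]
      refine congrArg (· ⊗ₜ[B] (show N from n)) ?_
      show Algebra.TensorProduct.lift (Algebra.ofId B (O πB f')) ν (fun _ _ => Commute.all _ _) (1 ⊗ₜ[A] s) = ν s
      rw [Algebra.TensorProduct.lift_tmul, map_one, one_mul]
    let R : Sec ((pushMod φ).obj (sphTilde πB N)) (dOpen πA f) → Sec (sphTilde πB N) (dOpen πB f') :=
      fun t => resS (sphTilde πB N) hU'.ge t
    have hRb : Function.Bijective R := by
      refine Function.bijective_iff_has_inverse.2 ⟨resS (sphTilde πB N) hU'.le, fun s => ?_, fun s => ?_⟩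
      · exact (LinearMap.congr_fun (congrArg ModuleCat.Hom.hom
          ((sphTilde πB N).val.map_comp (homOfLE hU'.ge).op (homOfLE hU'.le).op)) s).symm.trans
          (LinearMap.congr_fun (congrArg ModuleCat.Hom.hom ((sphTilde πB N).val.map_id (op U'))) s)
      · exact (LinearMap.congr_fun (congrArg ModuleCat.Hom.hom
          ((sphTilde πB N).val.map_comp (homOfLE hU'.le).op (homOfLE hU'.ge).op)) s).symm.trans
          (LinearMap.congr_fun (congrArg ModuleCat.Hom.hom ((sphTilde πB N).val.map_id (op (dOpen πB f')))) s)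
    have hkey : ∀ z, R ((h.val.app (op (dOpen πA f))).hom (Lam πA (dOpen πA f) z)) =
        Lam πB (dOpen πB f') (κ z) := by
      intro z
      induction z using TensorProduct.induction_on with
      | zero => simp only [map_zero, R, resS]; exact map_zero _
      | tmul s n =>
        rw [hκ, Lam_tmul, Lam_tmul, map_smul, show (h.val.app (op (dOpen πA f))).hom (thetaU πA NA (dOpen πA f) n) =
          resS ((pushMod φ).obj (sphTilde πB N)) le_top (ψ n) by
            rw [← hh]; exact PresheafOfModules.naturality_apply h.val _ _]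
        refine (resS_smul (sphTilde πB N) hU'.ge (φ.c.app (op (dOpen πA f)) s)
          (resS (sphTilde πB N) (le_top : U' ≤ ⊤) (theta πB N n))).trans ?_
        refine congrArg₂ (fun (r : RU (X := Y) (dOpen πB f')) (t : Sec (sphTilde πB N) (dOpen πB f')) => r • t) rfl ?_
        exact resS_thetaU πB N hU'.ge n
      | add p q hp hq =>
        have e1 : κ (p + q) = κ p + κ q := map_add κ p q
        rw [e1, map_add (Lam πA (dOpen πA f)), map_add (Lam πB (dOpen πB f')), ← hp, ← hq]
        exact (congrArg R (map_add (h.val.app (op (dOpen πA f))).hom _ _)).trans (map_add _ _ _)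
    have hLA : Function.Bijective (Lam (M := NA) πA (dOpen πA f)) :=
      ⟨(injective_iff_map_eq_zero _).2 (Lam_injective hX f), Lam_surjective hX f⟩
    have hLB : Function.Bijective (Lam (M := N) πB (dOpen πB f')) :=
      ⟨(injective_iff_map_eq_zero _).2 (Lam_injective hY f'), Lam_surjective hY f'⟩
    have hc : Function.Bijective (R ∘ (h.val.app (op (dOpen πA f))).hom ∘ Lam (M := NA) πA (dOpen πA f)) := by
      have : R ∘ (h.val.app (op (dOpen πA f))).hom ∘ Lam (M := NA) πA (dOpen πA f) =
          Lam (M := N) πB (dOpen πB f') ∘ κ := funext hkey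
      rw [this]
      exact hLB.comp κ.bijective
    exact (hLA.of_comp_iff _).1 ((hRb.of_comp_iff' _).1 hc)
  exact ⟨asIso h, hh⟩

end Groth.Agent.Hens22.Sph
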