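import Groth.Agent.Hens22.HensStalk
import Groth.Agent.Hens22.MorOfStalks
import Mathlib.AlgebraicGeometry.OpenImmersion

/-!
The universal property of the Henselization of a scheme along a closed subset.
-/

set_option autoImplicit false
universe u

open CategoryTheory Opposite TopologicalSpace AlgebraicGeometry HensSch TopCat

noncomputable section

namespace Groth.Agent.Hens22.Univ

variable {X : Scheme.{u}} {Xh Z : LocallyRingedSpace.{u}} (ι : Xh ⟶ X.toLocallyRingedSpace)
  (g : Z ⟶ X.toLocallyRingedSpace)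

/-- A stalk map over `X`. -/
def Good (z : Z) (y : Xh) (hy : ι.base y = g.base z)
    (σ : Xh.presheaf.stalk y ⟶ Z.presheaf.stalk z) : Prop :=
  ι.stalkMap y ≫ σ = X.presheaf.stalkSpecializes (specializes_of_eq hy.symm) ≫ g.stalkMap z

theorem stalkMap_congr_germ {V : LocallyRingedSpace.{u}} (h₁ h₂ : V ⟶ X.toLocallyRingedSpace)
    (e : h₁ = h₂) (w : V) (P : X.Opens) (h : h₁.base w ∈ P) (h' : h₂.base w ∈ P)
    (t : X.presheaf.obj (op P)) :
    h₁.stalkMap w (X.presheaf.germ P _ h t) = h₂.stalkMap w (X.presheaf.germ P _ h' t) := by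
  subst e
  rfl

variable {A : Type u} [CommRing A] (j : Spec (CommRingCat.of A) ⟶ X) [IsOpenImmersion j]

/-- The image of the chart. -/
abbrev P : X.Opens := (LocallyRingedSpace.IsOpenImmersion.opensFunctor j.toLRSHom).obj ⊤

/-- An element of `A` as a function on the chart. -/
def tA (a : A) : X.presheaf.obj (op (P j)) :=
  LocallyRingedSpace.IsOpenImmersion.invApp j.toLRSHom ⊤ ((Scheme.ΓSpecIso (CommRingCat.of A)).inv a)

theorem mem_P (p : specLRS A) : j.base p ∈ P j := ⟨p, trivial, rfl⟩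

theorem stalkMap_tA (p : specLRS A) (a : A) :
    j.toLRSHom.stalkMap p (X.presheaf.germ (P j) _ (mem_P j p) (tA j a)) =
      (specLRS A).presheaf.germ ⊤ p trivial ((Scheme.ΓSpecIso (CommRingCat.of A)).inv a) := by
  rw [LocallyRingedSpace.stalkMap_germ_apply]
  show (specLRS A).presheaf.germ _ p _ ((LocallyRingedSpace.IsOpenImmersion.invApp j.toLRSHom ⊤ ≫
    j.toLRSHom.c.app (op (P j))) _) = _
  rw [LocallyRingedSpace.IsOpenImmersion.invApp_app]
  exact (specLRS A).presheaf.germ_res_apply' _ _ _ _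

variable {g}

/-- `A` to the stalk of `Z`. -/
def alpha (z : Z) (hz : g.base z ∈ P j) : A →+* (Z.presheaf.stalk z : Type u) :=
  ((g.stalkMap z).hom.comp (X.presheaf.germ (P j) (g.base z) hz).hom).comp
    ((LocallyRingedSpace.IsOpenImmersion.invApp j.toLRSHom ⊤).hom.comp
      (Scheme.ΓSpecIso (CommRingCat.of A)).inv.hom)

theorem alpha_eq (z : Z) (hz : g.base z ∈ P j) (a : A) :
    alpha j z hz a = g.stalkMap z (X.presheaf.germ (P j) (g.base z) hz (tA j a)) := rfl

/-- Maps out of the stalk of `X` at a point of the chart are determined on `A`. -/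
theorem hom_ext_chart {C : CommRingCat.{u}} (x : X) (p : PrimeSpectrum A) (hx : j.base p = x)
    (hxP : x ∈ P j) (h₁ h₂ : X.presheaf.stalk x ⟶ C)
    (h : ∀ a, h₁ (X.presheaf.germ (P j) x hxP (tA j a)) = h₂ (X.presheaf.germ (P j) x hxP (tA j a))) :
    h₁ = h₂ := by
  subst hx
  haveI : IsIso (j.toLRSHom.stalkMap p) := LocallyRingedSpace.IsOpenImmersion.stalk_iso (f := j.toLRSHom) p
  rw [← cancel_epi (inv (j.toLRSHom.stalkMap p))]
  refine CommRingCat.hom_ext ?_
  let _ : Algebra A ((Spec.structureSheaf A).presheaf.stalk p) :=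
    (StructureSheaf.toStalk A p).hom.toAlgebra
  have : IsLocalization p.asIdeal.primeCompl ((Spec.structureSheaf A).presheaf.stalk p) :=
    StructureSheaf.IsLocalization.to_stalk A p
  refine IsLocalization.ringHom_ext (R := A) (S := (Spec.structureSheaf A).presheaf.stalk p)
    p.asIdeal.primeCompl (RingHom.ext fun a => ?_)
  have e : inv (j.toLRSHom.stalkMap p) (StructureSheaf.toStalk A p a) =
      X.presheaf.germ (P j) _ hxP (tA j a) := by
    have := congrArg (inv (j.toLRSHom.stalkMap p)) (stalkMap_tA j p a)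
    rw [← CommRingCat.comp_apply, IsIso.hom_inv_id, CommRingCat.id_apply] at this
    exact this.symm
  show h₁ (inv (j.toLRSHom.stalkMap p) (StructureSheaf.toStalk A p a)) =
    h₂ (inv (j.toLRSHom.stalkMap p) (StructureSheaf.toStalk A p a))
  rw [e]
  exact h a

variable {V : LocallyRingedSpace.{u}} {π : V ⟶ specLRS A} {v : V ⟶ Xh}
  (hcomm : v ≫ ι = π ≫ j.toLRSHom)
include hcomm

theorem base_comm (w : V) : ι.base (v.base w) = j.base (π.base w) :=
  congrArg (fun k => k.base w) hcomm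

theorem mem_P_of (w : V) : ι.base (v.base w) ∈ P j := by
  rw [base_comm ι j hcomm w]; exact mem_P j _

theorem stalkMap_comm (w : V) (a : A) :
    v.stalkMap w (ι.stalkMap (v.base w) (X.presheaf.germ (P j) _ (mem_P_of ι j hcomm w) (tA j a))) =
      Sph.stk π w a := by
  have h := stalkMap_congr_germ (v ≫ ι) (π ≫ j.toLRSHom) hcomm w (P j) (mem_P_of ι j hcomm w)
    (mem_P j _) (tA j a)
  rw [LocallyRingedSpace.stalkMap_comp, LocallyRingedSpace.stalkMap_comp] at h
  refine h.trans ?_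
  show π.stalkMap w (j.toLRSHom.stalkMap (π.base w) _) = _
  erw [stalkMap_tA j (π.base w) a]
  exact LocallyRingedSpace.stalkMap_germ_apply π ⊤ w trivial _

variable [LocallyRingedSpace.IsOpenImmersion v]

/-- Being over `X`, in terms of the chart. -/
theorem good_iff (w : V) (z : Z) (hy : ι.base (v.base w) = g.base z) (hz : g.base z ∈ P j)
    (τ : V.presheaf.stalk w ⟶ Z.presheaf.stalk z) :
    Good ι g z (v.base w) hy (v.stalkMap w ≫ τ) ↔ τ.hom.comp (Sph.stk π w) = alpha j z hz := by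
  have hcast : ∀ t : X.presheaf.obj (op (P j)),
      X.presheaf.stalkSpecializes (specializes_of_eq hy.symm)
        (X.presheaf.germ (P j) _ (mem_P_of ι j hcomm w) t) = X.presheaf.germ (P j) _ hz t :=
    fun t => X.presheaf.germ_stalkSpecializes_apply _ _ t
  constructor
  · intro h
    refine RingHom.ext fun a => ?_
    rw [RingHom.comp_apply, ← stalkMap_comm ι j hcomm w a, alpha_eq, ← hcast]
    exact congrArg (fun k => (CommRingCat.Hom.hom k)
      (X.presheaf.germ (P j) _ (mem_P_of ι j hcomm w) (tA j a))) h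
  · intro h
    refine hom_ext_chart j _ (π.base w) (base_comm ι j hcomm w).symm (mem_P_of ι j hcomm w) _ _
      fun a => ?_
    have h1 := RingHom.congr_fun h a
    rw [RingHom.comp_apply, ← stalkMap_comm ι j hcomm w a, alpha_eq, ← hcast] at h1
    exact h1

theorem alpha_mem_Nz {Y : Set X} (hg : Set.range g.base ⊆ Y) (z : Z) (hz : g.base z ∈ P j) {a : A}
    (ha : a ∈ PrimeSpectrum.vanishingIdeal (j.base ⁻¹' Y)) : alpha j z hz a ∈ HensN.Nz z := by
  rw [alpha_eq, LocallyRingedSpace.stalkMap_germ_apply]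
  refine HensN.germ_mem_Nz _ (HensN.mem_N.2 fun z' hz' hu => ?_)
  rw [← LocallyRingedSpace.stalkMap_germ_apply g (P j) z' hz'] at hu
  have hu' : IsUnit (X.presheaf.germ (P j) (g.base z') hz' (tA j a)) := isUnit_of_map_unit _ _ hu
  have hzP : g.base z' ∈ P j := hz'
  obtain ⟨q, -, hq⟩ := hzP
  have hq' : j.base q = g.base z' := hq
  have : X.presheaf.stalkSpecializes (specializes_of_eq hq') (X.presheaf.germ (P j) (g.base z') hz' (tA j a)) =
      X.presheaf.germ (P j) (j.base q) (mem_P j q) (tA j a) :=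
    X.presheaf.germ_stalkSpecializes_apply _ _ _
  have hu2 := hu'.map (X.presheaf.stalkSpecializes (specializes_of_eq hq')).hom
  rw [this] at hu2
  have hu3 := hu2.map (j.toLRSHom.stalkMap q).hom
  rw [stalkMap_tA] at hu3
  have hmem : q ∈ (specLRS A).toRingedSpace.basicOpen ((Scheme.ΓSpecIso (CommRingCat.of A)).inv a) :=
    ⟨trivial, hu3⟩
  rw [show (specLRS A).toRingedSpace.basicOpen ((Scheme.ΓSpecIso (CommRingCat.of A)).inv a) =
    PrimeSpectrum.basicOpen a from basicOpen_eq_of_affine (R := CommRingCat.of A) a] at hmem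
  exact hmem ((PrimeSpectrum.mem_vanishingIdeal _ _).1 ha q (by
    show j.base q ∈ Y
    rw [hq']
    exact hg ⟨z', rfl⟩))

theorem alpha_isUnit (w : V) (z : Z) (hy : ι.base (v.base w) = g.base z) (hz : g.base z ∈ P j) {f : A}
    (hf : w ∈ dOpen π f) : IsUnit (alpha j z hz f) := by
  rw [alpha_eq]
  refine IsUnit.map _ ?_
  have h := (Sph.isUnit_stk_iff π w f).2 hf
  rw [← stalkMap_comm ι j hcomm w f] at h
  have h2 := isUnit_of_map_unit _ _ (isUnit_of_map_unit (v.stalkMap w).hom _ h)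
  have h3 := h2.map (X.presheaf.stalkSpecializes (specializes_of_eq hy.symm)).hom
  rwa [show X.presheaf.stalkSpecializes (specializes_of_eq hy.symm)
    (X.presheaf.germ (P j) _ (mem_P_of ι j hcomm w) (tA j f)) = X.presheaf.germ (P j) _ hz (tA j f) from
      X.presheaf.germ_stalkSpecializes_apply _ _ _] at h3

variable {Y : Set X} (hsph : IsSph A (PrimeSpectrum.vanishingIdeal (j.base ⁻¹' Y)) V π)
  (hZ : IsHensScheme Z) (hg : Set.range g.base ⊆ Y)
include hsph hZ hg

theorem existsUnique_good_chart (w : V) (z : Z) (hy : ι.base (v.base w) = g.base z) :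
    (∃! σ, Good ι g z (v.base w) hy σ) ∧ ∀ σ, Good ι g z (v.base w) hy σ → IsLocalHom σ.hom := by
  have hz : g.base z ∈ P j := hy ▸ mem_P_of ι j hcomm w
  have := HensN.henselianRing_stalk hZ z
  obtain ⟨τ, hτ, hτu⟩ := HensN.existsUnique_fromStalk hsph w (HensN.Nz z) (alpha j z hz)
    (Ideal.map_le_iff_le_comap.2 fun a ha => alpha_mem_Nz ι j hcomm hg z hz ha)
    (fun f hf => alpha_isUnit ι j hcomm w z hy hz hf)
  have huniq : ∀ σ, Good ι g z (v.base w) hy σ → σ = v.stalkMap w ≫ CommRingCat.ofHom τ := fun σ hσ => by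
    have e : σ = v.stalkMap w ≫ (inv (v.stalkMap w) ≫ σ) := (IsIso.hom_inv_id_assoc _ _).symm
    rw [e] at hσ ⊢
    refine congrArg (v.stalkMap w ≫ ·) (CommRingCat.hom_ext ?_)
    exact hτu _ ((good_iff ι j hcomm w z hy hz _).1 hσ)
  refine ⟨⟨_, (good_iff ι j hcomm w z hy hz (CommRingCat.ofHom τ)).2 hτ, huniq⟩, fun σ hσ => ?_⟩
  rw [huniq σ hσ]
  suffices IsLocalHom τ by
    exact RingHom.isLocalHom_comp (g := τ) (f := (v.stalkMap w).hom)
  refine ⟨fun x hx => ?_⟩
  obtain ⟨f, hf, s, rfl⟩ := Sph.exists_germ hsph x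
  obtain ⟨a, n, h⟩ := Sph.away_rep (hsph.2.2 f) s
  let γ : Sph.O π f →+* (V.presheaf.stalk w : Type u) := (V.presheaf.germ _ w hf).hom
  have hγ : ∀ c, γ (secMap π _ c) = Sph.stk π w c := fun c => Sph.germ_secMap π hf c
  have h1 : γ (secMap π _ f ^ n * s - secMap π _ a) ∈ IsLocalRing.maximalIdeal _ := by
    refine (Ideal.map_le_iff_le_comap.2 (fun c hc => ?_) : Ideal.map _ _ ≤ _) (Ideal.mem_map_of_mem γ h)
    refine Ideal.map_le_iff_le_comap.2 (fun b hb => ?_) hc
    rw [Ideal.mem_comap, Ideal.mem_comap, hγ, IsLocalRing.mem_maximalIdeal]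
    exact Sph.not_isUnit_stk hsph w hb
  have h2 : τ (γ (secMap π _ f ^ n * s - secMap π _ a)) ∈ IsLocalRing.maximalIdeal _ := by
    refine HensN.Nz_le_maximalIdeal z ?_
    refine (Ideal.map_le_iff_le_comap.2 (fun c hc => ?_) : Ideal.map _ _ ≤ _)
      (Ideal.mem_map_of_mem (τ.comp γ) h)
    refine Ideal.map_le_iff_le_comap.2 (fun b hb => ?_) hc
    rw [Ideal.mem_comap, Ideal.mem_comap, RingHom.comp_apply, hγ, ← RingHom.comp_apply, hτ]
    exact alpha_mem_Nz ι j hcomm hg z hz hb
  rw [map_sub, map_mul, map_pow, hγ, hγ] at h1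
  rw [map_sub γ, map_mul γ, map_pow γ, hγ, hγ, map_sub, map_mul, map_pow, show τ (Sph.stk π w a) = alpha j z hz a from RingHom.congr_fun hτ a,
    show τ (Sph.stk π w f) = alpha j z hz f from RingHom.congr_fun hτ f] at h2
  have hunit : IsUnit (alpha j z hz a) := by
    by_contra hne
    have h3 := add_mem h2 ((IsLocalRing.mem_maximalIdeal _).2 hne)
    rw [sub_add_cancel] at h3
    exact (IsLocalRing.mem_maximalIdeal _).1 h3
      (((alpha_isUnit ι j hcomm w z hy hz hf).pow n).mul hx)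
  rw [alpha_eq] at hunit
  have hg' : IsUnit (X.presheaf.germ (P j) (g.base z) hz (tA j a)) := isUnit_of_map_unit _ _ hunit
  have h4 := hg'.map (X.presheaf.stalkSpecializes (specializes_of_eq hy)).hom
  rw [show X.presheaf.stalkSpecializes (specializes_of_eq hy) (X.presheaf.germ (P j) (g.base z) hz (tA j a)) =
    X.presheaf.germ (P j) _ (mem_P_of ι j hcomm w) (tA j a) from
      X.presheaf.germ_stalkSpecializes_apply _ _ _] at h4
  have h5 := ((h4.map (ι.stalkMap (v.base w)).hom).map (v.stalkMap w).hom)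
  rw [stalkMap_comm ι j hcomm w a] at h5
  by_contra hne
  have h6 := sub_mem (Ideal.mul_mem_left _ (Sph.stk π w f ^ n) ((IsLocalRing.mem_maximalIdeal _).2 hne)) h1
  rw [sub_sub_cancel] at h6
  exact (IsLocalRing.mem_maximalIdeal _).1 h6 h5

theorem good_germ (w : V) (z : Z) (y : Xh) (e : v.base w = y) (hy : ι.base y = g.base z)
    (hz : g.base z ∈ P j) (σ : Xh.presheaf.stalk y ⟶ Z.presheaf.stalk z) (hσ : Good ι g z y hy σ)
    {f : A} (hf : w ∈ dOpen π f) (W : Opens Z.toTopCat) (hzW : z ∈ W)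
    (φ : Sph.O π f →+* (Z.presheaf.obj (op W) : Type u))
    (hφ : ∀ a, Z.presheaf.germ W z hzW (φ (secMap π _ a)) = alpha j z hz a)
    (Q : Opens Xh.toTopCat) (hQ : dOpen π f ≤ (Opens.map v.base).obj Q) (hyQ : y ∈ Q)
    (s : Xh.presheaf.obj (op Q)) :
    σ (Xh.presheaf.germ Q y hyQ s) =
      Z.presheaf.germ W z hzW (φ (V.presheaf.map (homOfLE hQ).op (v.c.app (op Q) s))) := by
  subst e
  let τ : V.presheaf.stalk w ⟶ Z.presheaf.stalk z := inv (v.stalkMap w) ≫ σ
  have e : σ = v.stalkMap w ≫ τ := (IsIso.hom_inv_id_assoc _ _).symm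
  have hτ := (good_iff ι j hcomm w z hy hz τ).1 (e ▸ hσ)
  have := HensN.henselianRing_stalk hZ z
  have key : τ.hom.comp (V.presheaf.germ _ w hf).hom = (Z.presheaf.germ W z hzW).hom.comp φ := by
    refine ((hsph.2.2 f).2.2 _ (HensN.Nz z) (alpha j z hz) this
      (Ideal.map_le_iff_le_comap.2 fun a ha => alpha_mem_Nz ι j hcomm hg z hz ha)
      (alpha_isUnit ι j hcomm w z hy hz hf)).unique ?_ (RingHom.ext hφ)
    refine RingHom.ext fun a => ?_
    show τ (V.presheaf.germ _ w hf (secMap π _ a)) = _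
    rw [Sph.germ_secMap]
    exact RingHom.congr_fun hτ a
  rw [e, CommRingCat.comp_apply, LocallyRingedSpace.stalkMap_germ_apply,
    ← V.presheaf.germ_res_apply (homOfLE hQ) w hf]
  exact RingHom.congr_fun key _

section Assembly

omit hcomm hsph hZ hg

variable {ι}

theorem existsUnique_good {Y : Set X} (hh : IsHenselizationAlong X Y Xh ι) (hZ : IsHensScheme Z)
    (hg : Set.range g.base ⊆ Y) (z : Z) (y : Xh) (hy : ι.base y = g.base z) :
    (∃! σ, Good ι g z y hy σ) ∧ ∀ σ, Good ι g z y hy σ → IsLocalHom σ.hom := by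
  obtain ⟨B, _, j, _, hxj, V, v, _, π, hv, hcomm, hsph⟩ :=
    hh.2.2.2 (ι.base y) (hh.2.2.1 ▸ Set.mem_range_self y)
  obtain ⟨w, rfl⟩ : y ∈ Set.range v.base := hv ▸ hxj
  exact existsUnique_good_chart ι j hcomm hsph hZ hg w z hy

theorem existsUnique_lift {Y : Set X} (hh : IsHenselizationAlong X Y Xh ι) (hZ : IsHensScheme Z)
    (hg : Set.range g.base ⊆ Y) : ∃! g' : Z ⟶ Xh, g' ≫ ι = g := by
  have hemb := hh.2.1
  have hex : ∀ z : Z, ∃ y : Xh, ι.base y = g.base z := fun z => by
    show g.base z ∈ Set.range ι.base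
    rw [hh.2.2.1]
    exact hg ⟨z, rfl⟩
  choose b₀ hb₀ using hex
  have hcont : Continuous b₀ := hemb.isInducing.continuous_iff.2 (by
    have : (fun z => ι.base (b₀ z)) = g.base := funext hb₀
    show Continuous fun z => ι.base (b₀ z)
    rw [this]
    exact g.base.hom.continuous)
  let b : Z.toTopCat ⟶ Xh.toTopCat := TopCat.ofHom ⟨b₀, hcont⟩
  have hb : ∀ z : Z, ι.base (b z) = g.base z := hb₀
  choose σ hσ hσu using fun z => (existsUnique_good hh hZ hg z (b z) (hb z)).1
  have hloc : ∀ z, IsLocalHom (σ z).hom := fun z => (existsUnique_good hh hZ hg z (b z) (hb z)).2 _ (hσ z)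
  have hrep : MorOfStalks.LocRep b σ := by
    intro Q s z hzQ
    obtain ⟨B, _, j, _, hxj, V, v, _, π, hv, hcomm, hsph⟩ :=
      hh.2.2.2 (ι.base (b z)) (hh.2.2.1 ▸ Set.mem_range_self (b z))
    obtain ⟨w, hw⟩ : b z ∈ Set.range v.base := hv ▸ hxj
    obtain ⟨f, hf, hfQ⟩ := Sph.exists_dOpen hsph (U := (Opens.map v.base).obj Q) (x := w) (by
      show v.base w ∈ Q
      rw [hw]; exact hzQ)
    let D : Opens Xh.toTopCat := (LocallyRingedSpace.IsOpenImmersion.opensFunctor v).obj (dOpen π f)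
    let W : Opens Z.toTopCat := (Opens.map b).obj D
    have hDQ : D ≤ Q := fun y hy => by obtain ⟨x, hx, rfl⟩ := hy; exact hfQ hx
    have hWP : ∀ z' ∈ W, g.base z' ∈ P j := fun z' hz' => by
      have hz'' : b z' ∈ D := hz'
      obtain ⟨x, -, hx⟩ := hz''
      rw [← hb z', ← hx]
      exact mem_P_of ι j hcomm x
    let α : B →+* (Z.presheaf.obj (op W) : Type u) :=
      ((Z.presheaf.map (homOfLE (hWP : W ≤ (Opens.map g.base).obj (P j))).op).hom.comp
        (g.c.app (op (P j))).hom).comp ((LocallyRingedSpace.IsOpenImmersion.invApp j.toLRSHom ⊤).hom.comp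
          (Scheme.ΓSpecIso (CommRingCat.of B)).inv.hom)
    have hα : ∀ (z' : Z) (hz' : z' ∈ W) (a : B),
        Z.presheaf.germ W z' hz' (α a) = alpha j z' (hWP z' hz') a := fun z' hz' a => by
      rw [alpha_eq, LocallyRingedSpace.stalkMap_germ_apply]
      exact Z.presheaf.germ_res_apply _ z' hz' _
    have hN := HensN.henselianRing_of_hasRoots (HensN.hasRoots_of_isHensScheme hZ W)
    obtain ⟨φ, hφ, -⟩ := (hsph.2.2 f).2.2 _ (HensN.N Z W) α hN
      (Ideal.map_le_iff_le_comap.2 fun a ha => by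
        rw [Ideal.mem_comap, HensN.mem_N]
        intro z' hz'
        rw [hα]
        exact (IsLocalRing.mem_maximalIdeal _).1
          (HensN.Nz_le_maximalIdeal z' (alpha_mem_Nz ι j hcomm hg z' (hWP z' hz') ha)))
      (HensN.isUnit_iff_germ.2 fun z' hz' => by
        have hz'' : b z' ∈ D := hz'
        obtain ⟨x, hx, hxb⟩ := hz''
        rw [hα]
        exact alpha_isUnit ι j hcomm x z' (by rw [← hb z', ← hxb]; rfl) (hWP z' hz') hx)
    refine ⟨W, ⟨w, hf, hw⟩, fun z' hz' => hDQ hz',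
      φ (V.presheaf.map (homOfLE hfQ).op (v.c.app (op Q) s)), fun z' hz' => ?_⟩
    have hz'' : b z' ∈ D := hz'
    obtain ⟨x, hx, hxb⟩ := hz''
    exact (good_germ ι j hcomm hsph hZ hg x z' (b z') hxb (hb z') (hWP z' hz') (σ z') (hσ z') hx W hz' φ
      (fun a => (congrArg _ (RingHom.congr_fun hφ a)).trans (hα z' hz' a)) Q hfQ (hDQ hz') s).symm
  refine ⟨MorOfStalks.mor hrep hloc, ?_, fun g' hg' => ?_⟩
  · refine MorOfStalks.hom_ext _ _ (fun z => hb z) fun z => ?_
    rw [LocallyRingedSpace.stalkMap_comp, MorOfStalks.mor_stalkMap]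
    erw [hσ z]
    erw [TopCat.Presheaf.stalkSpecializes_comp_assoc, TopCat.Presheaf.stalkSpecializes_refl, Category.id_comp]
  · have hb' : ∀ z, g'.base z = b z := fun z => hemb.injective
      ((congrArg (fun k => k.base z) hg').trans (hb z).symm)
    refine MorOfStalks.hom_ext _ _ hb' fun z => ?_
    rw [MorOfStalks.mor_stalkMap]
    refine hσu z _ ?_
    have h := LocallyRingedSpace.stalkMap_congr_hom _ _ hg' z
    rw [LocallyRingedSpace.stalkMap_comp] at h
    show ι.stalkMap (b z) ≫ _ = _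
    erw [← LocallyRingedSpace.stalkSpecializes_stalkMap_assoc ι (g'.base z) (b z) (specializes_of_eq (hb' z))]
    erw [h]
    erw [TopCat.Presheaf.stalkSpecializes_comp_assoc]

end Assembly

end Groth.Agent.Hens22.Univ
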