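import Mathlib.RingTheory.TotallySplit
import Mathlib.RingTheory.Finiteness.ModuleFinitePresentation
import Mathlib.AlgebraicGeometry.Morphisms.Etale
import Mathlib.AlgebraicGeometry.Morphisms.Finite
import Mathlib.AlgebraicGeometry.Limits

/-!
Finite etale morphisms split etale locally.
-/

set_option autoImplicit false
universe u

open CategoryTheory Limits AlgebraicGeometry TensorProduct

noncomputable section

namespace Groth.Agent.Hens22

theorem exists_split (A B : Type u) [CommRing A] [CommRing B] [Algebra A B] [Module.Finite A B]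
    [Algebra.Etale A B] (p : PrimeSpectrum A) :
    ∃ (T : Type u) (_ : CommRing T) (_ : Algebra A T) (_ : Algebra.Etale A T) (P : PrimeSpectrum T)
      (n : ℕ), P.comap (algebraMap A T) = p ∧ Nonempty (T ⊗[A] B ≃ₐ[T] Fin n → T) := by
  have : Module.FinitePresentation A B := Module.FinitePresentation.of_finite_of_finitePresentation A B
  let n := Module.rankAtStalk (R := A) B p
  obtain ⟨_, ⟨_, ⟨a, rfl⟩, rfl⟩, hpa, hle⟩ := PrimeSpectrum.isBasis_basic_opens.exists_subset_of_mem_open
    (show p ∈ Module.rankAtStalk (R := A) B ⁻¹' {n} from rfl)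
    (Module.isLocallyConstant_rankAtStalk _)
  let A' := Localization.Away a
  have hn : Module.rankAtStalk (R := A') (A' ⊗[A] B) = n := by
    funext x
    rw [Module.rankAtStalk_baseChange]
    exact hle ((PrimeSpectrum.localization_away_comap_range A' a).subset ⟨x, rfl⟩)
  obtain ⟨T, _, _, _, _, _, hT⟩ := Algebra.IsFiniteSplit.exists_tensorProduct_of_etale hn
  obtain ⟨m, ⟨e⟩⟩ := hT.nonempty_algEquiv_fun
  let _ : Algebra A T := ((algebraMap A' T).comp (algebraMap A A')).toAlgebra
  have : IsScalarTower A A' T := IsScalarTower.of_algebraMap_eq fun _ => rfl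
  have : Algebra.Etale A A' := Algebra.Etale.of_isLocalizationAway a
  obtain ⟨x, hx⟩ := (PrimeSpectrum.localization_away_comap_range A' a).symm.subset
    (show p ∈ (PrimeSpectrum.basicOpen a : Set (PrimeSpectrum A)) from hpa)
  obtain ⟨P, hP⟩ := PrimeSpectrum.comap_surjective_of_faithfullyFlat (A := A') (B := T) x
  refine ⟨T, inferInstance, inferInstance, Algebra.Etale.comp A A' T, P, m, ?_,
    ⟨(Algebra.TensorProduct.cancelBaseChange A A' T T B).symm.trans e⟩⟩
  rw [IsScalarTower.algebraMap_eq A A' T, PrimeSpectrum.comap_comp_apply, hP, hx]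

theorem exists_split_scheme {X S : Scheme.{u}} (f : X ⟶ S) [IsFinite f] [Etale f] (s : S) :
    ∃ (U : Scheme.{u}) (g : U ⟶ S) (_ : AlgebraicGeometry.Etale g) (u : U) (_ : g.base u = s)
      (n : ℕ) (V : Fin n → Scheme.{u}) (c : ∀ j, V j ⟶ U) (_ : ∀ j, IsIso (c j))
      (e : (∐ V) ≅ pullback f g), ∀ j, Sigma.ι V j ≫ e.hom ≫ pullback.snd f g = c j := by
  obtain ⟨_, ⟨V, hV, rfl⟩, hsV, -⟩ := S.isBasis_affineOpens.exists_subset_of_mem_open
    (Set.mem_univ s) isOpen_univ
  let W := f ⁻¹ᵁ V
  have hW : IsAffineOpen W := hV.preimage f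
  let A := Γ(S, V)
  let B := Γ(X, W)
  let _ : Algebra A B := (f.appLE V W le_rfl).hom.toAlgebra
  have : Module.Finite A B := by
    have h := IsFinite.finite_app (f := f) V hV
    rw [← Scheme.Hom.appLE_eq_app] at h
    exact h
  have : Algebra.Etale A B :=
    (HasRingHomProperty.appLE @Etale f inferInstance ⟨V, hV⟩ ⟨W, hW⟩ le_rfl : _)
  obtain ⟨T, _, _, _, P, n, hP, ⟨e⟩⟩ := exists_split A B (hV.primeIdealOf ⟨s, hsV⟩)
  let g : Spec (CommRingCat.of T) ⟶ S := Spec.map (CommRingCat.ofHom (algebraMap A T)) ≫ hV.fromSpec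
  have : Etale (Spec.map (CommRingCat.ofHom (algebraMap A T))) := by
    rw [HasRingHomProperty.Spec_iff (P := @Etale)]
    exact RingHom.etale_algebraMap.2 ‹_›
  have hge : Etale g := inferInstanceAs (Etale (_ ≫ _))
  have hu : g.base P = s := by
    show hV.fromSpec.base (P.comap (algebraMap A T)) = s
    rw [hP]
    exact hV.fromSpec_primeIdealOf ⟨s, hsV⟩
  have H1 : IsPullback hW.fromSpec (Spec.map (CommRingCat.ofHom (algebraMap A B))) f hV.fromSpec := by
    refine (IsOpenImmersion.isPullback _ hW.fromSpec hV.fromSpec f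
      (IsAffineOpen.SpecMap_appLE_fromSpec f hV hW le_rfl).symm ?_).flip
    rw [hV.opensRange_fromSpec, hW.opensRange_fromSpec]
  have H2 : IsPullback (Spec.map (CommRingCat.ofHom (Algebra.TensorProduct.includeRight (R := A) (A := T) (B := B)).toRingHom))
      (Spec.map (CommRingCat.ofHom (Algebra.TensorProduct.includeLeftRingHom (R := A) (A := T) (B := B))))
      (Spec.map (CommRingCat.ofHom (algebraMap A B))) (Spec.map (CommRingCat.ofHom (algebraMap A T))) :=
    (isPullback_SpecMap_of_isPushout _ _ _ _ (CommRingCat.isPushout_tensorProduct A T B)).flip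
  have H := H2.paste_horiz H1
  let eT : CommRingCat.of (T ⊗[A] B) ≅ CommRingCat.of (ULift.{u} (Fin n) → T) :=
    (e.trans (AlgEquiv.piCongrLeft' T (fun _ => T) Equiv.ulift.symm)).toRingEquiv.toCommRingCatIso
  let σ : (∐ fun _ : Fin n => Spec (CommRingCat.of T)) ≅ ∐ fun _ : ULift.{u} (Fin n) => Spec (CommRingCat.of T) :=
    (Sigma.reindex Equiv.ulift fun _ : Fin n => Spec (CommRingCat.of T)).symm
  let e' : (∐ fun _ : Fin n => Spec (CommRingCat.of T)) ≅ pullback f g :=
    σ ≪≫ asIso (sigmaSpec fun _ : ULift.{u} (Fin n) => CommRingCat.of T) ≪≫ Scheme.Spec.mapIso eT.op ≪≫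
      (H.isoPullback : _ ≅ pullback f g)
  refine ⟨Spec (CommRingCat.of T), g, hge, P, hu, n, fun _ => Spec (CommRingCat.of T), fun _ => 𝟙 _,
    fun _ => inferInstance, e', fun j => ?_⟩
  have hσ : Sigma.ι (fun _ : Fin n => Spec (CommRingCat.of T)) j ≫ σ.hom = Sigma.ι (fun _ : ULift.{u} (Fin n) => Spec (CommRingCat.of T)) (ULift.up j) := by
    apply (cancel_mono σ.inv).1
    rw [Category.assoc, σ.hom_inv_id, Category.comp_id]
    exact (Sigma.ι_reindex_hom Equiv.ulift _ (ULift.up j)).symm
  simp only [e', Iso.trans_hom, asIso_hom, Functor.mapIso_hom, Iso.op_hom, Category.assoc]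
  erw [IsPullback.isoPullback_hom_snd]
  rw [reassoc_of% hσ, ι_sigmaSpec_assoc]
  erw [← Spec.map_comp, ← Spec.map_comp]
  convert Spec.map_id (CommRingCat.of T) using 2
  ext t
  show e (algebraMap T (T ⊗[A] B) t) j = t
  rw [AlgEquiv.commutes]
  rfl

end Groth.Agent.Hens22
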