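import Groth.Agent.Hens22.EtaleLift
import Mathlib.RingTheory.Etale.StandardEtale

/-!
Criterion for henselian pairs by etale retractions, nilpotent ideals, sub-ideals, quotients.
-/

set_option autoImplicit false
universe u

open Polynomial

namespace Groth.Agent.Hens22

variable {A : Type u} [CommRing A]

/-- Pairs in which etale algebras lift points are henselian. -/
theorem henselianRing_of_lift (I : Ideal A) (hjac : I ≤ Ideal.jacobson ⊥)
    (h : ∀ (S : Type u) [CommRing S] [Algebra A S] [Algebra.Etale A S] (σ : S →ₐ[A] A ⧸ I),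
      ∃ f : S →ₐ[A] A, (Ideal.Quotient.mkₐ A I).comp f = σ) : HenselianRing A I where
  jac := hjac
  is_henselian p hp a₀ h₁ h₂ := by
    let P : StandardEtalePair A := ⟨p, hp, p.derivative, 1, 0, 1, by simp⟩
    have hP : P.HasMap (Ideal.Quotient.mk I a₀) := by
      refine ⟨?_, ?_⟩
      · rw [aeval_def, Ideal.Quotient.algebraMap_eq, eval₂_at_apply, Ideal.Quotient.eq_zero_iff_mem]
        exact h₁
      · rw [aeval_def, Ideal.Quotient.algebraMap_eq, eval₂_at_apply]
        exact h₂
    obtain ⟨f, hf⟩ := h P.Ring (P.lift _ hP)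
    refine ⟨f P.X, ?_, ?_⟩
    · have h0 : aeval P.X p = 0 := (StandardEtalePair.hasMap_X (P := P)).1
      have h1 := Polynomial.aeval_algHom_apply f P.X p
      rw [h0, map_zero, coe_aeval_eq_eval] at h1
      exact h1
    · rw [← Ideal.Quotient.eq]
      exact (DFunLike.congr_fun hf P.X).trans (P.lift_X _ hP)

/-- A pair with locally nilpotent ideal is henselian. -/
theorem henselianRing_of_le_nilradical (I : Ideal A) (hI : I ≤ nilradical A) : HenselianRing A I where
  jac := hI.trans (Ideal.radical_le_jacobson)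
  is_henselian p _ a₀ h₁ h₂ := by
    have hjac : I ≤ Ideal.jacobson ⊥ := hI.trans (Ideal.radical_le_jacobson)
    have hn : IsNilpotent (aeval a₀ p) := by rw [coe_aeval_eq_eval]; exact hI h₁
    have hu : IsUnit (aeval a₀ (derivative p)) := by
      rw [coe_aeval_eq_eval]; exact isUnit_of_map_isUnit hjac h₂
    obtain ⟨r, ⟨hr, hr0⟩, -⟩ := existsUnique_nilpotent_sub_and_aeval_eq_zero hn hu
    refine ⟨r, by simpa [IsRoot, coe_aeval_eq_eval] using hr0, ?_⟩
    obtain ⟨c, hc⟩ := exists_mul_sq_add_linear_part_eq_eval_add p a₀ (r - a₀)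
    have h3 : (r - a₀) * (p.derivative.eval a₀ + c * (r - a₀)) ∈ I := by
      have h0 : p.eval r = 0 := by simpa [coe_aeval_eq_eval] using hr0
      have e : (r - a₀) * (p.derivative.eval a₀ + c * (r - a₀)) = - p.eval a₀ := by
        rw [add_sub_cancel] at hc
        rw [h0] at hc
        linear_combination hc
      rw [e]; exact neg_mem h₁
    have hu2 : IsUnit (p.derivative.eval a₀ + c * (r - a₀)) := by
      rw [coe_aeval_eq_eval] at hu
      have : IsNilpotent (c * (r - a₀)) := by
        refine (Commute.all _ _).isNilpotent_mul_left ?_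
        simpa using hr.neg
      exact this.isUnit_add_left_of_commute hu (Commute.all _ _)
    exact (Ideal.mul_unit_mem_iff_mem I hu2).1 h3

end Groth.Agent.Hens22
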