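import Groth.Agent.S6313
import Groth.Agent.CAlg26.TorRegular

/-!
Flat dimension by vanishing of `Tor`, and dimension shifting.
-/

set_option autoImplicit false
universe u

open CategoryTheory CategoryTheory.Limits MonoidalCategory TensorProduct
open Groth.Agent.TorBal94

noncomputable section

namespace Groth.Agent.Hens22.TorDim

variable {R : Type u} [CommRing R]

/-- The homology computing `Tor`. -/
abbrev H (X : Type u) [AddCommGroup X] [Module R X] (S : ModuleCat.{u} R) (i : ℕ) : ModuleCat.{u} R :=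
  (cx (ModuleCat.of R X) S).homology i

/-- The comparison with `Tor`. -/
def torIso (X : Type u) [AddCommGroup X] [Module R X] (S : ModuleCat.{u} R) (i : ℕ) :
    ((Tor (ModuleCat.{u} R) i).obj (ModuleCat.of R X)).obj S ≅ H (R := R) X S i :=
  (projectiveResolution S).isoLeftDerivedObj ((tensoringLeft (ModuleCat.{u} R)).obj (ModuleCat.of R X)) i

variable (R) in
/-- Flat dimension at most `d`. -/
def FDle (X : Type u) [AddCommGroup X] [Module R X] (d : ℕ) : Prop :=
  ∀ (S : ModuleCat.{u} R) (i : ℕ), d < i → IsZero (H (R := R) X S i)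

variable {X : Type u} [AddCommGroup X] [Module R X]

theorem FDle.mono {d d' : ℕ} (h : FDle R X d) (hd : d ≤ d') : FDle R X d' :=
  fun S i hi => h S i (hd.trans_lt hi)

theorem fdle_of_flat [Module.Flat R X] (d : ℕ) : FDle R X d := by
  intro S i hi
  obtain ⟨j, rfl⟩ : ∃ j, i = j + 1 := ⟨i - 1, by omega⟩
  exact (isZero_tor_iff _ S _).1 (isZero_tor_of_flat_left X S j)

theorem fdle_zero_iff : FDle R X 0 ↔ Module.Flat R X := by
  refine ⟨fun h => ?_, fun h => fdle_of_flat 0⟩
  rw [S6313.result R X]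
  exact fun I _ => (isZero_tor_iff _ _ _).2 (h _ 1 Nat.one_pos)

variable {K F Y : Type u} [AddCommGroup K] [Module R K] [AddCommGroup F] [Module R F]
  [AddCommGroup Y] [Module R Y] {f : K →ₗ[R] F} {g : F →ₗ[R] Y}

/-- The connecting isomorphism when the middle term has no homology in two degrees. -/
theorem nonempty_shift (hf : Function.Injective f) (hfg : Function.Exact f g) (hg : Function.Surjective g)
    (S : ModuleCat.{u} R) (i : ℕ) (h₁ : IsZero (H (R := R) F S (i + 1))) (h₀ : IsZero (H (R := R) F S i)) :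
    Nonempty (H (R := R) Y S (i + 1) ≅ H (R := R) K S i) := by
  have hS := shortExact_cx f g hf hfg hg S
  haveI : IsIso (hS.δ (i + 1) i rfl) := hS.isIso_δ (i + 1) i rfl h₁ h₀
  exact ⟨asIso (hS.δ (i + 1) i rfl)⟩

/-- Dimension shifting along a flat module. -/
theorem fdle_succ_iff [Module.Flat R F] (hf : Function.Injective f) (hfg : Function.Exact f g)
    (hg : Function.Surjective g) (d : ℕ) : FDle R Y (d + 1) ↔ FDle R K d := by
  have hF : ∀ (S : ModuleCat.{u} R) (i : ℕ), 0 < i → IsZero (H (R := R) F S i) := fdle_of_flat 0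
  constructor
  · intro h S i hi
    obtain ⟨e⟩ := nonempty_shift hf hfg hg S i (hF S _ (Nat.succ_pos i)) (hF S i (by omega))
    exact (h S (i + 1) (by omega)).of_iso e.symm
  · intro h S i hi
    obtain ⟨j, rfl⟩ : ∃ j, i = j + 1 := ⟨i - 1, by omega⟩
    obtain ⟨e⟩ := nonempty_shift hf hfg hg S j (hF S _ (Nat.succ_pos j)) (hF S j (by omega))
    exact (h S j (by omega)).of_iso e

theorem fdle_congr (e : X ≃ₗ[R] Y) (d : ℕ) (h : FDle R X d) : FDle R Y d := fun S i hi =>
  (isZero_tor_iff _ S i).1 (((Tor (ModuleCat.{u} R) i).mapIso e.toModuleIso).app S |>.isZero_iff.1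
    ((isZero_tor_iff _ S i).2 (h S i hi)))

/-- The induced map. -/
abbrev Hmap (φ : X →ₗ[R] Y) (S : ModuleCat.{u} R) (i : ℕ) : H (R := R) X S i ⟶ H (R := R) Y S i :=
  HomologicalComplex.homologyMap (cxMap (ModuleCat.ofHom φ) S) i

theorem cxMap_comp (φ : X →ₗ[R] F) (ψ : F →ₗ[R] Y) (S : ModuleCat.{u} R) :
    cxMap (ModuleCat.ofHom (ψ ∘ₗ φ)) S = cxMap (ModuleCat.ofHom φ) S ≫ cxMap (ModuleCat.ofHom ψ) S := by
  refine HomologicalComplex.hom_ext _ _ fun j => ?_
  apply ModuleCat.hom_ext
  exact TensorProduct.ext' fun x y => rfl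

/-- A map through a flat module kills `Tor`. -/
theorem Hmap_eq_zero_of_flat [Module.Flat R F] (φ : X →ₗ[R] F) (ψ : F →ₗ[R] Y) (S : ModuleCat.{u} R)
    (i : ℕ) (hi : 0 < i) : Hmap (ψ ∘ₗ φ) S i = 0 := by
  rw [Hmap, cxMap_comp, HomologicalComplex.homologyMap_comp]
  have h0 : HomologicalComplex.homologyMap (cxMap (ModuleCat.ofHom φ) S) i = 0 :=
    (fdle_of_flat (X := F) 0 S i hi).eq_of_tgt _ _
  rw [h0, zero_comp]

theorem smul_eq_zero_of_factor [Module.Flat R F] (y : R) (φ : X →ₗ[R] F) (ψ : F →ₗ[R] X)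
    (h : ψ ∘ₗ φ = y • LinearMap.id) (S : ModuleCat.{u} R) (i : ℕ) (hi : 0 < i)
    (t : H (R := R) X S i) : y • t = 0 := by
  rw [← CAlg26.homologyMap_smul_id y (ModuleCat.of R X) S i t]
  have := Hmap_eq_zero_of_flat φ ψ S i hi
  rw [Hmap, h] at this
  rw [this]
  rfl

/-- A flat module killed by a regular element is zero. -/
theorem subsingleton_of_flat_of_smul_eq_zero [Module.Flat R X] {r : R} (hr : IsSMulRegular R r)
    (h : ∀ x : X, r • x = 0) : Subsingleton X := by
  have hinj : IsSMulRegular X r := Module.Flat.isSMulRegular_of_isRegular ((Commute.isRegular_iff (Commute.all r)).2 hr)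
  exact ⟨fun a b => hinj ((h a).trans (h b).symm)⟩

end Groth.Agent.Hens22.TorDim
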