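import Groth.Agent.Hens22.AbsClosed

/-!
A loop of three curves in the spectrum of an absolute integral closure gives a class in `H¹(O)`.
-/

set_option autoImplicit false
universe u

open CategoryTheory Opposite TopologicalSpace AlgebraicGeometry HensSch TopCat

noncomputable section

namespace Groth.Agent.Hens22.AbsClosed

variable {R K : Type u} [CommRing R] [IsDomain R] [IsIntegrallyClosed R] [Field K] [CharZero K] [IsAlgClosed K]
  [Algebra R K] [Algebra.IsAlgebraic R K] [FaithfulSMul R K]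
  {I : Ideal (integralClosure R K)} {X : LocallyRingedSpace.{u}}
  {π : X ⟶ specLRS (integralClosure R K)}
  (hX : IsSph (integralClosure R K) I X π)
include hX

omit [IsDomain R] [IsIntegrallyClosed R] [CharZero K] [IsAlgClosed K] [Algebra.IsAlgebraic R K] [FaithfulSMul R K] in
theorem isCompact_dOpen (f : integralClosure R K) : IsCompact (dOpen π f : Set X) := by
  have hcl : Topology.IsClosedEmbedding π.base := ⟨hX.1, by rw [hX.2.1]; exact PrimeSpectrum.isClosed_zeroLocus _⟩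
  exact hcl.isCompact_preimage (PrimeSpectrum.isCompact_basicOpen f)

theorem nontrivial_H1 (x y l : R) (hone : x + y - l = 1)
    (hI : I = Ideal.span {algebraMap R (integralClosure R K) (x * y * l)})
    (p₁ p₂ p₃ P₀ P₁ P₂ : Ideal R) [p₁.IsPrime] [p₂.IsPrime] [p₃.IsPrime] [P₀.IsPrime] [P₁.IsPrime]
    [P₂.IsPrime] (hy₁ : y ∈ p₁) (hx₂ : x ∈ p₂) (hl₃ : l ∈ p₃)
    (hx₁ : x ∉ p₁) (hl₁ : l ∉ p₁) (hy₂ : y ∉ p₂) (hl₂ : l ∉ p₂) (hl₀ : l ∉ P₀) (hxP₁ : x ∉ P₁) (hyP₂ : y ∉ P₂)
    (l10 : p₁ ≤ P₀) (l20 : p₂ ≤ P₀) (l11 : p₁ ≤ P₁) (l31 : p₃ ≤ P₁) (l32 : p₃ ≤ P₂) (l22 : p₂ ≤ P₂) :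
    Nontrivial (ModSite.HC X.sheaf (ModSite.unit X.sheaf) 1) := by
  classical
  by_contra hnt
  have hsub : Subsingleton (CohTop.H (X := X.toTopCat) (ModSite.toAb (ModSite.unit X.sheaf)) 1) :=
    not_nontrivial_iff_subsingleton.1 hnt
  let a : R → integralClosure R K := algebraMap R _
  let U : Opens X := dOpen π (a x) ⊔ dOpen π (a y)
  let V : Opens X := dOpen π (a l) ⊔ (dOpen π (a (x * y)))
  let PU : Ideal R → Prop := fun p => x ∉ p ∨ y ∉ p
  let PV : Ideal R → Prop := fun p => l ∉ p ∨ x * y ∉ p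
  have hmem : ∀ (r : R) (z : X), z ∈ dOpen π (a r) ↔ r ∉ (π.base z).asIdeal.under R := fun r z => Iff.rfl
  have hUP : ∀ z : X, z ∈ U ↔ PU ((π.base z).asIdeal.under R) := fun z => Iff.rfl
  have hVP : ∀ z : X, z ∈ V ↔ PV ((π.base z).asIdeal.under R) := fun z => Iff.rfl
  have ht : ∀ z : X, x * y * l ∈ (π.base z).asIdeal.under R := fun z => by
    have h : π.base z ∈ PrimeSpectrum.zeroLocus (I : Set (integralClosure R K)) := hX.2.1 ▸ Set.mem_range_self z
    exact h (show algebraMap R _ (x * y * l) ∈ I by rw [hI]; exact Ideal.mem_span_singleton_self _)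
  have hcase : ∀ z : X, x ∈ (π.base z).asIdeal.under R ∨ y ∈ (π.base z).asIdeal.under R ∨
      l ∈ (π.base z).asIdeal.under R := fun z => by
    rcases (show ((π.base z).asIdeal.under R).IsPrime from inferInstance).mem_or_mem (ht z) with h | h
    · rcases (show ((π.base z).asIdeal.under R).IsPrime from inferInstance).mem_or_mem h with h | h
      · exact Or.inl h
      · exact Or.inr (Or.inl h)
    · exact Or.inr (Or.inr h)
  have notAll : ∀ z : X, x ∈ (π.base z).asIdeal.under R → y ∈ (π.base z).asIdeal.under R →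
      l ∈ (π.base z).asIdeal.under R → False := fun z h₁ h₂ h₃ =>
    (show ((π.base z).asIdeal.under R).IsPrime from inferInstance).ne_top
      ((Ideal.eq_top_iff_one _).2 (hone ▸ sub_mem (add_mem h₁ h₂) h₃))
  have hUV : U ⊔ V = ⊤ := top_le_iff.1 fun z _ => by
    show z ∈ U ∨ z ∈ V
    rw [hUP, hVP]
    rcases hcase z with h | h | h
    · by_cases hy : y ∈ (π.base z).asIdeal.under R
      · by_cases hl : l ∈ (π.base z).asIdeal.under R
        · exfalso
          exact notAll z h hy hl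
        · exact Or.inr (Or.inl hl)
      · exact Or.inl (Or.inr hy)
    · by_cases hx : x ∈ (π.base z).asIdeal.under R
      · by_cases hl : l ∈ (π.base z).asIdeal.under R
        · exfalso
          exact notAll z hx h hl
        · exact Or.inr (Or.inl hl)
      · exact Or.inl (Or.inl hx)
    · by_cases hx : x ∈ (π.base z).asIdeal.under R
      · by_cases hy : y ∈ (π.base z).asIdeal.under R
        · exfalso
          exact notAll z hx hy h
        · exact Or.inl (Or.inr hy)
      · exact Or.inl (Or.inl hx)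
  -- the cocycle
  let W₁ : Opens X := (U ⊓ V) ⊓ dOpen π (a (x * l))
  let W₂ : Opens X := (U ⊓ V) ⊓ dOpen π (a y)
  have hsup : U ⊓ V ≤ W₁ ⊔ W₂ := fun z hz => by
    by_cases hy : y ∈ (π.base z).asIdeal.under R
    · refine Or.inl ⟨hz, (hmem _ z).2 fun h => ?_⟩
      have hu := (hUP z).1 hz.1
      have hv := (hVP z).1 hz.2
      rcases (show ((π.base z).asIdeal.under R).IsPrime from inferInstance).mem_or_mem h with h | h
      · exact hu.elim (fun n => n h) (fun n => n hy)
      · exact hv.elim (fun n => n h) (fun n => n (Ideal.mul_mem_left _ x hy))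
    · exact Or.inr ⟨hz, (hmem _ z).2 hy⟩
  have hdisj : ∀ z : X, ¬ z ∈ W₁ ⊓ W₂ := fun z hz => by
    have h1 := (hmem _ z).1 hz.1.2
    have h2 := (hmem _ z).1 hz.2.2
    rcases hcase z with h | h | h
    · exact h1 (Ideal.mul_mem_right _ _ h)
    · exact h2 h
    · exact h1 (Ideal.mul_mem_left _ _ h)
  let F : CohTop.Ab X.toTopCat := ModSite.toAb (ModSite.unit X.sheaf)
  obtain ⟨c, hc₁, hc₂⟩ := TopCoh49.exists_glue₂ (X := X.toTopCat) F (U := W₁) (V := W₂)
    (show F.obj.obj (op W₁) from (1 : (X.presheaf.obj (op W₁) : Type u)))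
    (show F.obj.obj (op W₂) from (0 : (X.presheaf.obj (op W₂) : Type u))) (by
      show ((X.presheaf.map (homOfLE (inf_le_left : W₁ ⊓ W₂ ≤ W₁)).op) 1 : (X.presheaf.obj (op (W₁ ⊓ W₂)) : Type u)) =
        X.presheaf.map (homOfLE (inf_le_right : W₁ ⊓ W₂ ≤ W₂)).op 0
      exact TopCat.Presheaf.section_ext X.sheaf _ _ _ fun z hz => absurd hz (hdisj z))
  obtain ⟨α₀, β₀, hαβ₀⟩ := H1Split.exists_sub_eq F hsub hUV (TopCoh49.rs F.obj hsup c)
  let α : (X.presheaf.obj (op U) : Type u) := α₀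
  let β : (X.presheaf.obj (op V) : Type u) := β₀
  have hgerm : ∀ (z : X) (hU : z ∈ U) (hV : z ∈ V),
      (z ∈ W₁ → X.presheaf.germ U z hU α - X.presheaf.germ V z hV β = 1) ∧
      (z ∈ W₂ → X.presheaf.germ U z hU α - X.presheaf.germ V z hV β = 0) := by
    intro z hzU hzV
    have e : (X.presheaf.map (homOfLE (inf_le_left : U ⊓ V ≤ U)).op α -
        X.presheaf.map (homOfLE (inf_le_right : U ⊓ V ≤ V)).op β : (X.presheaf.obj (op (U ⊓ V)) : Type u)) =
        X.presheaf.map (homOfLE hsup).op (show (X.presheaf.obj (op (W₁ ⊔ W₂)) : Type u) from c) := hαβ₀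
    have e' := congrArg (X.presheaf.germ (U ⊓ V) z ⟨hzU, hzV⟩) e
    rw [map_sub, X.presheaf.germ_res_apply, X.presheaf.germ_res_apply, X.presheaf.germ_res_apply] at e'
    constructor
    · intro hz
      rw [e', ← X.presheaf.germ_res_apply (homOfLE (le_sup_left : W₁ ≤ W₁ ⊔ W₂)) z hz]
      exact (congrArg (X.presheaf.germ W₁ z hz) hc₁).trans (map_one _)
    · intro hz
      rw [e', ← X.presheaf.germ_res_apply (homOfLE (le_sup_right : W₂ ≤ W₁ ⊔ W₂)) z hz]
      exact (congrArg (X.presheaf.germ W₂ z hz) hc₂).trans (map_zero _)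
  obtain ⟨TU, hTU⟩ := exists_sys hX hI PU (U := U)
    ((isCompact_dOpen hX (a x)).union (isCompact_dOpen hX (a y))) hUP α
  obtain ⟨TV, hTV⟩ := exists_sys hX hI PV (U := V)
    ((isCompact_dOpen hX (a l)).union (isCompact_dOpen hX (a (x * y)))) hVP β
  have hrel : ∀ (q : Ideal (integralClosure R K)), q.IsPrime → x * y * l ∈ q.under R →
      PU (q.under R) → PV (q.under R) → ∀ i j, TU.f i ∉ q → TV.f j ∉ q →
      (x * l ∉ q.under R → TU.c i * TV.d j - TV.c j * TU.d i = TU.d i * TV.d j) ∧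
      (y ∉ q.under R → TU.c i * TV.d j - TV.c j * TU.d i = 0) := by
    intro q hq hqt hu hv i j hi hj
    have : (⟨q, hq⟩ : PrimeSpectrum (integralClosure R K)) ∈ Set.range π.base := by
      rw [hX.2.1]
      show (I : Set (integralClosure R K)) ⊆ q
      rw [hI]
      exact SetLike.coe_subset_coe.2 (Ideal.span_le.2 (Set.singleton_subset_iff.2 hqt))
    obtain ⟨z, hz⟩ := this
    obtain rfl : (π.base z).asIdeal = q := congrArg PrimeSpectrum.asIdeal hz
    have hzU : z ∈ U := (hUP z).2 hu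
    have hzV : z ∈ V := (hVP z).2 hv
    have h1 := hTU z hzU i hi
    have h2 := hTV z hzV j hj
    constructor
    · intro hw
      refine stk_injective hX z ?_
      rw [map_sub, map_mul, map_mul, map_mul, ← h1, ← h2]
      have h3 := (hgerm z hzU hzV).1 ⟨⟨hzU, hzV⟩, (hmem _ z).2 hw⟩
      linear_combination (Sph.stk π z (TU.d i) * Sph.stk π z (TV.d j)) * h3
    · intro hw
      refine stk_injective hX z ?_
      rw [map_sub, map_mul, map_mul, map_zero, ← h1, ← h2]
      have h3 := (hgerm z hzU hzV).2 ⟨⟨hzU, hzV⟩, (hmem _ z).2 hw⟩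
      linear_combination (Sph.stk π z (TU.d i) * Sph.stk π z (TV.d j)) * h3
  exact Avg.false_of_sys (FaithfulSMul.algebraMap_injective R K) (x * y * l) PU PV
    (fun p => x * l ∉ p) (fun p => y ∉ p) TU TV
    (fun q hq ht hu hv hw i j hi hj => (hrel q hq ht hu hv i j hi hj).1 hw)
    (fun q hq ht hu hv hw i j hi hj => (hrel q hq ht hu hv i j hi hj).2 hw)
    p₁ p₂ p₃ P₀ P₁ P₂ (Ideal.mul_mem_right _ _ (Ideal.mul_mem_left _ _ hy₁))
    (Ideal.mul_mem_right _ _ (Ideal.mul_mem_right _ _ hx₂)) (Ideal.mul_mem_left _ _ hl₃)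
    l10 l20 l11 l31 l32 l22
    (Or.inl hx₁) (Or.inr hy₂) (Or.inl fun h => hxP₁ (l31 h)) (Or.inl hxP₁) (Or.inr hyP₂)
    (Or.inl hl₁) (Or.inl hl₂) (Or.inl hl₀)
    (fun h => ((show p₁.IsPrime from inferInstance).mem_or_mem h).elim hx₁ hl₁) hy₂

end Groth.Agent.Hens22.AbsClosed
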