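import Groth.Agent.Hens22.PairOps
import Mathlib.RingTheory.Smooth.Basic
import Mathlib.RingTheory.TensorProduct.Quotient

/-!
Truncations `B ⧸ I^r B` of henselizations of pairs.
-/

set_option autoImplicit false
universe u

open TensorProduct

namespace Groth.Agent.Hens22

variable {A : Type u} [CommRing A] (J : Ideal A) {R B : Type u} [CommRing R] [CommRing B]
  [Algebra A R] [Algebra R B] [Algebra A B] [IsScalarTower A R B]

omit [Algebra A B] [IsScalarTower A R B] in
/-- Bijectivity modulo powers, stated with extended powers. -/
theorem quotientMap_map_pow_bijective (I : Ideal A)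
    (hB : Hens2.IsPairHenselization R (I.map (algebraMap A R)) B) (r : ℕ) :
    Function.Bijective (Ideal.quotientMap (((I ^ r).map (algebraMap A R)).map (algebraMap R B))
      (algebraMap R B) Ideal.le_comap_map) := by
  have key : ∀ K : Ideal R, K = I.map (algebraMap A R) ^ r →
      Function.Bijective
        (Ideal.quotientMap (K.map (algebraMap R B)) (algebraMap R B) Ideal.le_comap_map) := by
    rintro K rfl
    exact quotientMap_pow_bijective hB r
  exact key _ (Ideal.map_pow _ _ _)

/-- Quotient maps that are bijective as algebra equivalences over the base quotient. -/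
theorem exists_quotient_algEquiv
    (h : Function.Bijective (Ideal.quotientMap ((J.map (algebraMap A R)).map (algebraMap R B))
      (algebraMap R B) Ideal.le_comap_map)) :
    Nonempty ((R ⧸ J.map (algebraMap A R)) ≃ₐ[A ⧸ J] (B ⧸ J.map (algebraMap A B))) := by
  have hmap : (J.map (algebraMap A R)).map (algebraMap R B) = J.map (algebraMap A B) := by
    rw [Ideal.map_map, ← IsScalarTower.algebraMap_eq]
  let f : (R ⧸ J.map (algebraMap A R)) →+* (B ⧸ J.map (algebraMap A B)) :=
    (Ideal.quotEquivOfEq hmap).toRingHom.comp
      (Ideal.quotientMap _ (algebraMap R B) Ideal.le_comap_map)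
  have hf : Function.Bijective f := (Ideal.quotEquivOfEq hmap).bijective.comp h
  let g : (R ⧸ J.map (algebraMap A R)) →ₐ[A ⧸ J] (B ⧸ J.map (algebraMap A B)) :=
    { f with
      commutes' := fun x => by
        obtain ⟨a, rfl⟩ := Ideal.Quotient.mk_surjective x
        show Ideal.Quotient.mk (J.map (algebraMap A B)) (algebraMap R B (algebraMap A R a)) = _
        rw [← IsScalarTower.algebraMap_apply]; rfl }
  exact ⟨AlgEquiv.ofBijective g hf⟩

theorem etale_truncation [Algebra.Etale A R]
    (h : Function.Bijective (Ideal.quotientMap ((J.map (algebraMap A R)).map (algebraMap R B))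
      (algebraMap R B) Ideal.le_comap_map)) :
    Algebra.Etale (A ⧸ J) (B ⧸ J.map (algebraMap A B)) := by
  obtain ⟨e⟩ := exists_quotient_algEquiv J h
  have : Algebra.Etale (A ⧸ J) (R ⧸ J.map (algebraMap A R)) :=
    Algebra.Etale.of_equiv (Algebra.TensorProduct.quotIdealMapEquivQuotTensor R J).symm
  exact Algebra.Etale.of_equiv e

theorem smooth_truncation [Algebra.Smooth A R]
    (h : Function.Bijective (Ideal.quotientMap ((J.map (algebraMap A R)).map (algebraMap R B))
      (algebraMap R B) Ideal.le_comap_map)) :
    Algebra.Smooth (A ⧸ J) (B ⧸ J.map (algebraMap A B)) := by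
  obtain ⟨e⟩ := exists_quotient_algEquiv J h
  have : Algebra.Smooth (A ⧸ J) (R ⧸ J.map (algebraMap A R)) :=
    Algebra.Smooth.of_equiv (Algebra.TensorProduct.quotIdealMapEquivQuotTensor R J).symm
  exact Algebra.Smooth.of_equiv e

theorem finitePresentation_truncation [Algebra.FinitePresentation A R]
    (h : Function.Bijective (Ideal.quotientMap ((J.map (algebraMap A R)).map (algebraMap R B))
      (algebraMap R B) Ideal.le_comap_map)) :
    Algebra.FinitePresentation (A ⧸ J) (B ⧸ J.map (algebraMap A B)) := by
  obtain ⟨e⟩ := exists_quotient_algEquiv J h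
  have : Algebra.FinitePresentation (A ⧸ J) (R ⧸ J.map (algebraMap A R)) :=
    Algebra.FinitePresentation.equiv (Algebra.TensorProduct.quotIdealMapEquivQuotTensor R J).symm
  exact Algebra.FinitePresentation.equiv e

end Groth.Agent.Hens22
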